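import Mathlib

/-!
# K-G42 pack (S2553), leaf L8b: a primitive subgroup of `A_8` of order divisible by 5 is `A_8`.

Route: an element of order 5 is a 5-cycle `g`; Jordan's criterion gives 4-fold transitivity; after conjugating
`g` to `(0 1 2 3 4)`, a commutator `h g h⁻¹ g⁻¹` (with `h` fixing `0,1,2` and `3 ↦ 4`) is a 3-cycle or a double
transposition `(0 w)(3 4)`; in the second case one more conjugate gives the 3-cycle `(3 4)(3 1)`.
-/

set_option autoImplicit false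

namespace Cfsg.Agent.Lib.Helper25.G42

open Equiv Equiv.Perm MulAction

/-- the standard 5-cycle -/
def c5 : Perm (Fin 8) := swap 0 1 * swap 1 2 * swap 2 3 * swap 3 4

theorem c5_eq_formPerm : c5 = ([0, 1, 2, 3, 4] : List (Fin 8)).formPerm := by
  decide

theorem c5_cycleType : c5.cycleType = {5} := by
  have hc : c5.IsCycle := by
    rw [c5_eq_formPerm]
    exact List.isCycle_formPerm (by decide) (by decide)
  rw [hc.cycleType]
  have : c5.support = Finset.univ.filter (fun x : Fin 8 => x.val < 5) := by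
    decide
  rw [this]
  rfl

theorem conj_c5 (f : Perm (Fin 8)) :
    f * c5 * f⁻¹ = swap (f 0) (f 1) * swap (f 1) (f 2) * swap (f 2) (f 3) * swap (f 3) (f 4) := by
  simp only [swap_apply_apply, c5]
  group

theorem conj_two_swaps (f : Perm (Fin 8)) (a b c d : Fin 8) :
    f * (swap a b * swap c d) * f⁻¹ = swap (f a) (f b) * swap (f c) (f d) := by
  simp only [swap_apply_apply]
  group

theorem k3 : swap (0 : Fin 8) 1 * swap 1 2 * swap 2 4 * swap 4 3 * c5⁻¹ = swap 0 4 * swap 0 3 := by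
  decide

theorem kw (w : Fin 8) (hw : w = 5 ∨ w = 6 ∨ w = 7) :
    swap (0 : Fin 8) 1 * swap 1 2 * swap 2 4 * swap 4 w * c5⁻¹ = swap 0 w * swap 3 4 := by
  rcases hw with rfl | rfl | rfl <;> decide

theorem kt (w : Fin 8) (hw : w = 5 ∨ w = 6 ∨ w = 7) :
    swap (0 : Fin 8) w * swap 3 4 * (swap 0 w * swap 3 1) = swap 3 4 * swap 3 1 := by
  rcases hw with rfl | rfl | rfl <;> decide

theorem exists_map4 {G : Subgroup (Perm (Fin 8))} (h4 : IsMultiplyPretransitive ↥G (Fin 8) 4)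
    (σ : Perm (Fin 8)) (a b : Fin 4 → Fin 8) (ha : Function.Injective a) (hb : Function.Injective b) :
    ∃ h ∈ G, ∀ i, (σ * h * σ⁻¹) (a i) = b i := by
  let x : Fin 4 ↪ Fin 8 := ⟨fun i => σ⁻¹ (a i), fun i j hij => ha (σ⁻¹.injective hij)⟩
  let y : Fin 4 ↪ Fin 8 := ⟨fun i => σ⁻¹ (b i), fun i j hij => hb (σ⁻¹.injective hij)⟩
  have := h4
  obtain ⟨h, hh⟩ := MulAction.exists_smul_eq (↥G) x y
  refine ⟨h.1, h.2, fun i => ?_⟩
  have h1 := congrArg (fun e : Fin 4 ↪ Fin 8 => e i) hh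
  have h2 : (h : Perm (Fin 8)) (σ⁻¹ (a i)) = σ⁻¹ (b i) := h1
  rw [Perm.mul_apply, Perm.mul_apply, h2]
  simp

theorem threeCycle_of_conj {σ k : Perm (Fin 8)} {a b c : Fin 8} (hab : a ≠ b) (hac : a ≠ c) (hbc : b ≠ c)
    (h : σ * k * σ⁻¹ = swap a b * swap a c) : IsThreeCycle k := by
  have h3 : IsThreeCycle (σ * k * σ⁻¹) := by
    rw [h]
    exact isThreeCycle_swap_mul_swap_same hab hac hbc
  unfold IsThreeCycle at h3 ⊢
  rwa [cycleType_conj] at h3

theorem step2 {G : Subgroup (Perm (Fin 8))} (h4 : IsMultiplyPretransitive ↥G (Fin 8) 4)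
    (σ k : Perm (Fin 8)) (hk : k ∈ G) (w : Fin 8) (hw : w = 5 ∨ w = 6 ∨ w = 7)
    (hk' : σ * k * σ⁻¹ = swap 0 w * swap 3 4) : ∃ k3 ∈ G, IsThreeCycle k3 := by
  have hinj1 : Function.Injective (![0, w, 3, 4] : Fin 4 → Fin 8) := by
    rcases hw with rfl | rfl | rfl <;> decide
  have hinj2 : Function.Injective (![0, w, 3, 1] : Fin 4 → Fin 8) := by
    rcases hw with rfl | rfl | rfl <;> decide
  obtain ⟨h2, h2G, hh2⟩ := exists_map4 h4 σ ![0, w, 3, 4] ![0, w, 3, 1] hinj1 hinj2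
  have e0 : (σ * h2 * σ⁻¹) 0 = 0 := hh2 0
  have e1 : (σ * h2 * σ⁻¹) w = w := hh2 1
  have e2 : (σ * h2 * σ⁻¹) 3 = 3 := hh2 2
  have e3 : (σ * h2 * σ⁻¹) 4 = 1 := hh2 3
  have hk2' : σ * (h2 * k * h2⁻¹) * σ⁻¹ = swap 0 w * swap 3 1 := by
    have : σ * (h2 * k * h2⁻¹) * σ⁻¹ = (σ * h2 * σ⁻¹) * (σ * k * σ⁻¹) * (σ * h2 * σ⁻¹)⁻¹ := by group
    rw [this, hk', conj_two_swaps, e0, e1, e2, e3]
  refine ⟨k * (h2 * k * h2⁻¹), G.mul_mem hk (G.mul_mem (G.mul_mem h2G hk) (G.inv_mem h2G)), ?_⟩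
  refine threeCycle_of_conj (σ := σ) (a := 3) (b := 4) (c := 1) (by decide) (by decide) (by decide) ?_
  have : σ * (k * (h2 * k * h2⁻¹)) * σ⁻¹ = (σ * k * σ⁻¹) * (σ * (h2 * k * h2⁻¹) * σ⁻¹) := by group
  rw [this, hk', hk2', kt w hw]

/-- L8b -/
theorem jordan5 (G : Subgroup (Equiv.Perm (Fin 8))) (hGA : G ≤ alternatingGroup (Fin 8))
    (hprim : MulAction.IsPreprimitive ↥G (Fin 8)) (h5 : 5 ∣ Nat.card ↥G) : G = alternatingGroup (Fin 8) := by
  classical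
  have : Fact (Nat.Prime 5) := ⟨by norm_num⟩
  obtain ⟨x, hx⟩ := exists_prime_orderOf_dvd_card' 5 h5
  obtain ⟨g, hgG, hxg⟩ : ∃ g : Perm (Fin 8), g ∈ G ∧ (x : Perm (Fin 8)) = g := ⟨x, x.2, rfl⟩
  have hog : orderOf g = 5 := by rw [← hxg, Subgroup.orderOf_coe]; exact hx
  have hct : g.cycleType = {5} := by
    obtain ⟨n, hn⟩ := cycleType_prime_order (σ := g) (by rw [hog]; norm_num)
    rw [hog] at hn
    have hsum := sum_cycleType_le g
    rw [hn, Multiset.sum_replicate, Fintype.card_fin, smul_eq_mul] at hsum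
    have : n = 0 := by omega
    subst this
    simpa using hn
  have hcyc : g.IsCycle := card_cycleType_eq_one.mp (by rw [hct]; rfl)
  have hsupp : g.support.card = 5 := by rw [← sum_cycleType, hct]; rfl
  have h4 : IsMultiplyPreprimitive ↥G (Fin 8) 4 := by
    apply hprim.isMultiplyPreprimitive (s := (g.supportᶜ : Set (Fin 8))) (n := 2)
    · apply Nat.add_left_cancel
      rw [Set.ncard_add_ncard_compl, Set.ncard_coe_finset, hsupp]
      simp
    · simp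
    have := isPretransitive_of_isCycle_mem hcyc hgG
    apply IsPreprimitive.of_prime_card
    convert Nat.prime_five
    rw [Nat.card_eq_fintype_card, Fintype.card_subtype, ← hsupp]
    apply congr_arg
    ext x
    simp [SubMulAction.mem_ofFixingSubgroup_iff]
  have h4t : IsMultiplyPretransitive ↥G (Fin 8) 4 := h4.isMultiplyPretransitive
  obtain ⟨σ, hσ⟩ : ∃ σ : Perm (Fin 8), σ * g * σ⁻¹ = c5 :=
    isConj_iff.mp (isConj_iff_cycleType_eq.mpr (by rw [hct, c5_cycleType]))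
  obtain ⟨h, hhG, hh⟩ := exists_map4 h4t σ ![0, 1, 2, 3] ![0, 1, 2, 4] (by decide) (by decide)
  have f0 : (σ * h * σ⁻¹) 0 = 0 := hh 0
  have f1 : (σ * h * σ⁻¹) 1 = 1 := hh 1
  have f2 : (σ * h * σ⁻¹) 2 = 2 := hh 2
  have f3 : (σ * h * σ⁻¹) 3 = 4 := hh 3
  have hkG : h * g * h⁻¹ * g⁻¹ ∈ G :=
    G.mul_mem (G.mul_mem (G.mul_mem hhG hgG) (G.inv_mem hhG)) (G.inv_mem hgG)
  have hk' : σ * (h * g * h⁻¹ * g⁻¹) * σ⁻¹ =
      swap 0 1 * swap 1 2 * swap 2 4 * swap 4 ((σ * h * σ⁻¹) 4) * c5⁻¹ := by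
    have : σ * (h * g * h⁻¹ * g⁻¹) * σ⁻¹ =
        (σ * h * σ⁻¹) * (σ * g * σ⁻¹) * (σ * h * σ⁻¹)⁻¹ * (σ * g * σ⁻¹)⁻¹ := by group
    rw [this, hσ, conj_c5, f0, f1, f2, f3]
  have hw : (σ * h * σ⁻¹) 4 = 3 ∨ ((σ * h * σ⁻¹) 4 = 5 ∨ (σ * h * σ⁻¹) 4 = 6 ∨ (σ * h * σ⁻¹) 4 = 7) := by
    have i0 : (σ * h * σ⁻¹) 4 ≠ 0 := fun e => by
      have := (σ * h * σ⁻¹).injective (e.trans f0.symm); revert this; decide
    have i1 : (σ * h * σ⁻¹) 4 ≠ 1 := fun e => by
      have := (σ * h * σ⁻¹).injective (e.trans f1.symm); revert this; decide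
    have i2 : (σ * h * σ⁻¹) 4 ≠ 2 := fun e => by
      have := (σ * h * σ⁻¹).injective (e.trans f2.symm); revert this; decide
    have i4 : (σ * h * σ⁻¹) 4 ≠ 4 := fun e => by
      have := (σ * h * σ⁻¹).injective (e.trans f3.symm); revert this; decide
    generalize (σ * h * σ⁻¹) 4 = w at i0 i1 i2 i4
    revert w
    decide
  obtain ⟨k3, hk3G, hk3⟩ : ∃ k3 ∈ G, IsThreeCycle k3 := by
    rcases hw with e | e
    · refine ⟨_, hkG, threeCycle_of_conj (σ := σ) (a := 0) (b := 4) (c := 3) (by decide) (by decide)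
        (by decide) ?_⟩
      rw [hk', e, k3]
    · rw [kw _ e] at hk'
      exact step2 h4t σ _ hkG _ e hk'
  exact le_antisymm hGA (alternatingGroup_le_of_isPreprimitive_of_isThreeCycle_mem hprim hk3 hk3G)

end Cfsg.Agent.Lib.Helper25.G42
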