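import Mathlib
import Cfsg.Agent.Lib.Helper70.AGDefs

/-!
# Pack K-4188 (S4188), leaf A5 (keystone 418805): geometry of a normal four-group
acting on an irreducible module of odd order.
-/

set_option autoImplicit false

namespace Cfsg.Agent.Lib.Helper25.AG

open Cfsg.Agent.Lib.Helper70.AG

/-- in a finite group of odd order, an element with trivial square is trivial -/
theorem a5_eq_one_of_sq {V : Type*} [Group V] [Finite V] (hodd : Odd (Nat.card V)) (v : V)
    (hv : v ^ 2 = 1) : v = 1 := by
  have h1 : orderOf v ∣ 2 := orderOf_dvd_of_pow_eq_one hv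
  have h2 : orderOf v ∣ Nat.card V := orderOf_dvd_natCard v
  rcases (Nat.dvd_prime Nat.prime_two).mp h1 with h | h
  · exact orderOf_eq_one_iff.mp h
  · exfalso
    rw [h] at h2
    exact (Nat.not_even_iff_odd.mpr hodd) (even_iff_two_dvd.mpr h2)

/-- in a finite group of odd order every element is a square -/
theorem a5_exists_sq {V : Type*} [Group V] [Finite V] (hodd : Odd (Nat.card V)) (v : V) :
    ∃ w : V, w ^ 2 = v := by
  obtain ⟨k, hk⟩ := hodd
  refine ⟨v ^ (k + 1), ?_⟩
  rw [← pow_mul]
  have h : (k + 1) * 2 = Nat.card V + 1 := by omega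
  rw [h, pow_succ, pow_card_eq_one', one_mul]

theorem caseB_geometry {V : Type*} [CommGroup V] [Finite V] (hodd : Odd (Nat.card V))
    (Q : Subgroup (MulAut V))
    (hirr : ∀ W : Subgroup V, IsInv Q W → W = ⊥ ∨ W = ⊤)
    (z u : ↥Q) (hz1 : z ≠ 1) (hz2 : z ^ 2 = 1) (hzc : z ∈ Subgroup.center ↥Q)
    (hu1 : u ≠ 1) (hu2 : u ^ 2 = 1) (huz : u ≠ z)
    (hconj : ∀ s : ↥Q, s * u * s⁻¹ = u ∨ s * u * s⁻¹ = u * z) :
    (Subgroup.centralizer ({u} : Set ↥Q)).index = 2 ∧
    fixedSub (u : MulAut V) ⊓ fixedSub ((u * z : ↥Q) : MulAut V) = ⊥ ∧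
    fixedSub (u : MulAut V) ⊔ fixedSub ((u * z : ↥Q) : MulAut V) = ⊤ ∧
    (∀ m ∈ Subgroup.centralizer ({u} : Set ↥Q), ∀ v ∈ fixedSub (u : MulAut V),
      (m : MulAut V) v ∈ fixedSub (u : MulAut V)) ∧
    (∀ m ∈ Subgroup.centralizer ({u} : Set ↥Q), ∀ v ∈ fixedSub ((u * z : ↥Q) : MulAut V),
      (m : MulAut V) v ∈ fixedSub ((u * z : ↥Q) : MulAut V)) ∧
    Nat.card ↥(fixedSub (u : MulAut V)) = Nat.card ↥(fixedSub ((u * z : ↥Q) : MulAut V)) ∧
    fixedSub (u : MulAut V) ≠ ⊥ := by
  -- evaluation of products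
  have ev : ∀ (a b : ↥Q) (v : V), ((a * b : ↥Q) : MulAut V) v = (a : MulAut V) ((b : MulAut V) v) :=
    fun _ _ _ => rfl
  -- an equation in `Q` gives a pointwise equation
  have app : ∀ {a b : ↥Q}, a = b → ∀ v : V, (a : MulAut V) v = (b : MulAut V) v := by
    intro a b h v
    rw [h]
  -- extensionality
  have ext : ∀ {a b : ↥Q}, (∀ v : V, (a : MulAut V) v = (b : MulAut V) v) → a = b := by
    intro a b h
    apply Subtype.ext
    apply MulEquiv.ext
    exact h
  have one_ev : ∀ v : V, ((1 : ↥Q) : MulAut V) v = v := fun _ => rfl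
  -- z is an involution, central
  have zz2 : ∀ v : V, (z : MulAut V) ((z : MulAut V) v) = v := by
    intro v
    have h := app hz2 v
    rw [pow_two, ev, one_ev] at h
    exact h
  have uu2 : ∀ v : V, (u : MulAut V) ((u : MulAut V) v) = v := by
    intro v
    have h := app hu2 v
    rw [pow_two, ev, one_ev] at h
    exact h
  have zcomm : ∀ q : ↥Q, q * z = z * q := fun q => (Subgroup.mem_center_iff.mp hzc) q
  have zcomm' : ∀ (q : ↥Q) (v : V), (q : MulAut V) ((z : MulAut V) v) = (z : MulAut V) ((q : MulAut V) v) := by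
    intro q v
    have h := app (zcomm q) v
    rw [ev, ev] at h
    exact h
  -- (1) z inverts V
  have zinv : ∀ v : V, (z : MulAut V) v = v⁻¹ := by
    have hinvz : IsInv Q (fixedSub (z : MulAut V)) := by
      intro q hq w hw
      rw [mem_fixedSub] at hw ⊢
      have h := zcomm' ⟨q, hq⟩ w
      simp only at h
      rw [← h, hw]
    have hbot : fixedSub (z : MulAut V) = ⊥ := by
      rcases hirr _ hinvz with h | h
      · exact h
      · exfalso
        apply hz1
        apply ext
        intro v
        have hv : v ∈ fixedSub (z : MulAut V) := by rw [h]; trivial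
        rw [one_ev]
        exact mem_fixedSub.mp hv
    intro v
    have hv : v * (z : MulAut V) v ∈ fixedSub (z : MulAut V) := by
      rw [mem_fixedSub, map_mul, zz2, mul_comm]
    rw [hbot, Subgroup.mem_bot] at hv
    exact eq_inv_of_mul_eq_one_right hv
  -- (2) membership in V₋
  have mem_minus : ∀ v : V, v ∈ fixedSub ((u * z : ↥Q) : MulAut V) ↔ (u : MulAut V) v = v⁻¹ := by
    intro v
    rw [mem_fixedSub, ev, zinv, map_inv, inv_eq_iff_eq_inv]
  have hinf : fixedSub (u : MulAut V) ⊓ fixedSub ((u * z : ↥Q) : MulAut V) = ⊥ := by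
    rw [eq_bot_iff]
    intro v hv
    rw [Subgroup.mem_inf] at hv
    obtain ⟨h1, h2⟩ := hv
    rw [mem_fixedSub] at h1
    rw [mem_minus, h1] at h2
    rw [Subgroup.mem_bot]
    apply a5_eq_one_of_sq hodd
    rw [pow_two]
    nth_rewrite 1 [h2]
    exact inv_mul_cancel v
  have hsup : fixedSub (u : MulAut V) ⊔ fixedSub ((u * z : ↥Q) : MulAut V) = ⊤ := by
    rw [eq_top_iff]
    intro v _
    obtain ⟨w, hw⟩ := a5_exists_sq hodd v
    have e : v = (w * (u : MulAut V) w) * (w * ((u : MulAut V) w)⁻¹) := by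
      rw [← hw, pow_two]
      rw [mul_mul_mul_comm, mul_inv_cancel, mul_one]
    rw [e]
    apply Subgroup.mul_mem_sup
    · rw [mem_fixedSub, map_mul, uu2, mul_comm]
    · rw [mem_minus, map_mul, map_inv, uu2, mul_inv_rev, inv_inv, mul_comm]
  -- V₊ is neither ⊥ nor ⊤
  have hplus_ne_top : fixedSub (u : MulAut V) ≠ ⊤ := by
    intro h
    apply hu1
    apply ext
    intro v
    have hv : v ∈ fixedSub (u : MulAut V) := by rw [h]; trivial
    rw [one_ev]
    exact mem_fixedSub.mp hv
  have hplus_ne_bot : fixedSub (u : MulAut V) ≠ ⊥ := by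
    intro h
    apply huz
    apply ext
    intro v
    have hv : v ∈ fixedSub ((u * z : ↥Q) : MulAut V) := by
      have : fixedSub ((u * z : ↥Q) : MulAut V) = ⊤ := by
        rw [h, bot_sup_eq] at hsup
        exact hsup
      rw [this]; trivial
    rw [zinv]
    exact (mem_minus v).mp hv
  have huz_ne : u * z ≠ u := by
    intro h
    apply hz1
    exact mul_left_cancel (a := u) (by rw [h, mul_one])
  -- (3) the centraliser of u preserves V₊ and V₋
  have cent : ∀ m : ↥Q, m ∈ Subgroup.centralizer ({u} : Set ↥Q) →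
      ∀ v : V, (u : MulAut V) ((m : MulAut V) v) = (m : MulAut V) ((u : MulAut V) v) := by
    intro m hm v
    have h := app (Subgroup.mem_centralizer_singleton_iff.mp hm) v
    rw [ev, ev] at h
    exact h.symm
  have h3 : ∀ m ∈ Subgroup.centralizer ({u} : Set ↥Q), ∀ v ∈ fixedSub (u : MulAut V),
      (m : MulAut V) v ∈ fixedSub (u : MulAut V) := by
    intro m hm v hv
    rw [mem_fixedSub] at hv ⊢
    rw [cent m hm, hv]
  have h4 : ∀ m ∈ Subgroup.centralizer ({u} : Set ↥Q), ∀ v ∈ fixedSub ((u * z : ↥Q) : MulAut V),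
      (m : MulAut V) v ∈ fixedSub ((u * z : ↥Q) : MulAut V) := by
    intro m hm v hv
    rw [mem_minus] at hv ⊢
    rw [cent m hm, hv, map_inv]
  -- (4) an element conjugating u to u z
  have hs : ∃ s : ↥Q, s * u * s⁻¹ = u * z := by
    by_contra hno
    push Not at hno
    have hall : ∀ s : ↥Q, s * u * s⁻¹ = u := by
      intro s
      rcases hconj s with h | h
      · exact h
      · exact absurd h (hno s)
    have hinvu : IsInv Q (fixedSub (u : MulAut V)) := by
      intro q hq w hw
      rw [mem_fixedSub] at hw ⊢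
      have h1 : (⟨q, hq⟩ : ↥Q) * u = u * ⟨q, hq⟩ := mul_inv_eq_iff_eq_mul.mp (hall ⟨q, hq⟩)
      have h := app h1 w
      rw [ev, ev] at h
      simp only at h
      rw [← h, hw]
    rcases hirr _ hinvu with h | h
    · exact hplus_ne_bot h
    · exact hplus_ne_top h
  obtain ⟨s, hs⟩ := hs
  have hs' : ∀ v : V, (s : MulAut V) ((u : MulAut V) v) = ((u : MulAut V) ((s : MulAut V) v))⁻¹ := by
    intro v
    have h1 : s * u = u * z * s := mul_inv_eq_iff_eq_mul.mp hs
    have h := app h1 v
    rw [ev, ev, ev, zinv, map_inv] at h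
    exact h
  have s_plus : ∀ v : V, v ∈ fixedSub (u : MulAut V) → (s : MulAut V) v ∈ fixedSub ((u * z : ↥Q) : MulAut V) := by
    intro v hv
    rw [mem_fixedSub] at hv
    rw [mem_minus]
    have h := hs' v
    rw [hv] at h
    exact (inv_eq_iff_eq_inv.mpr h).symm
  have s_minus : ∀ v : V, v ∈ fixedSub ((u * z : ↥Q) : MulAut V) → (s : MulAut V) v ∈ fixedSub (u : MulAut V) := by
    intro v hv
    rw [mem_minus] at hv
    rw [mem_fixedSub]
    have h := hs' v
    rw [hv, map_inv, inv_inj] at h
    exact h.symm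
  have hcard : Nat.card ↥(fixedSub (u : MulAut V)) = Nat.card ↥(fixedSub ((u * z : ↥Q) : MulAut V)) := by
    apply le_antisymm
    · apply Nat.card_le_card_of_injective
        (fun v : ↥(fixedSub (u : MulAut V)) =>
          (⟨(s : MulAut V) v.1, s_plus v.1 v.2⟩ : ↥(fixedSub ((u * z : ↥Q) : MulAut V))))
      intro a b hab
      apply Subtype.ext
      have := congrArg Subtype.val hab
      exact (s : MulAut V).injective this
    · apply Nat.card_le_card_of_injective
        (fun v : ↥(fixedSub ((u * z : ↥Q) : MulAut V)) =>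
          (⟨(s : MulAut V) v.1, s_minus v.1 v.2⟩ : ↥(fixedSub (u : MulAut V))))
      intro a b hab
      apply Subtype.ext
      have := congrArg Subtype.val hab
      exact (s : MulAut V).injective this
  -- (5) index two
  have hindex : (Subgroup.centralizer ({u} : Set ↥Q)).index = 2 := by
    rw [Subgroup.index_eq_two_iff]
    refine ⟨s, fun b => ?_⟩
    have hs_not : s * u ≠ u * s := by
      intro h
      apply huz_ne
      rw [← hs, h, mul_inv_cancel_right]
    rcases hconj b with hb | hb
    · -- b centralises u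
      have hbu : b * u = u * b := mul_inv_eq_iff_eq_mul.mp hb
      right
      refine ⟨Subgroup.mem_centralizer_singleton_iff.mpr hbu, ?_⟩
      intro hbs
      have h := Subgroup.mem_centralizer_singleton_iff.mp hbs
      apply hs_not
      have h2 : b * (s * u) = b * (u * s) := by
        rw [← mul_assoc, ← mul_assoc, hbu]
        exact h
      exact mul_left_cancel h2
    · -- b conjugates u to u z
      have hbu : b * u = u * z * b := mul_inv_eq_iff_eq_mul.mp hb
      left
      refine ⟨?_, ?_⟩
      · rw [Subgroup.mem_centralizer_singleton_iff]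
        have hsu : s * u = u * z * s := mul_inv_eq_iff_eq_mul.mp hs
        calc b * s * u = b * (s * u) := mul_assoc _ _ _
          _ = b * (u * z * s) := by rw [hsu]
          _ = (b * u) * z * s := by simp only [mul_assoc]
          _ = (u * z * b) * z * s := by rw [hbu]
          _ = u * z * (b * z) * s := by simp only [mul_assoc]
          _ = u * z * (z * b) * s := by rw [zcomm b]
          _ = u * (z * z) * (b * s) := by simp only [mul_assoc]
          _ = u * (b * s) := by rw [← pow_two, hz2, mul_one]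
      · intro hbc
        have h := Subgroup.mem_centralizer_singleton_iff.mp hbc
        rw [h] at hbu
        have : u = u * z := mul_right_cancel hbu
        exact huz_ne this.symm
  exact ⟨hindex, hinf, hsup, h3, h4, hcard, hplus_ne_bot⟩

end Cfsg.Agent.Lib.Helper25.AG
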