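import Mathlib
import Cfsg.Agent.Lib.Helper70.BQSDefs

/-!
# K-BQS pack (S3912), leaf B57.
-/

set_option autoImplicit false

namespace Cfsg.Agent.Lib.Helper25.BQS

open Cfsg Cfsg.Agent.Lib.Helper70.BQS

variable {G : Type*} [Group G] [Finite G]

/-- a normal subgroup of order two is central -/
theorem central_of_card_two (M : Subgroup G) [M.Normal] (hM2 : Nat.card ↥M = 2) :
    ∀ m ∈ M, ∀ g : G, g * m = m * g := by
  intro m hm g
  by_cases h1 : m = 1
  · subst h1; simp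
  · have hc : g * m * g⁻¹ ∈ M := Subgroup.Normal.conj_mem inferInstance m hm g
    have hne : g * m * g⁻¹ ≠ 1 := by
      intro h
      apply h1
      have := congrArg (fun x => g⁻¹ * x * g) h
      simpa [mul_assoc] using this
    obtain ⟨y, _, hy⟩ := (Nat.card_eq_two_iff' (1 : ↥M)).1 hM2
    have e1 : (⟨m, hm⟩ : ↥M) = y := hy _ (by intro h; exact h1 (congrArg Subtype.val h))
    have e2 : (⟨g * m * g⁻¹, hc⟩ : ↥M) = y := hy _ (by intro h; exact hne (congrArg Subtype.val h))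
    have : g * m * g⁻¹ = m := congrArg Subtype.val (e2.trans e1.symm)
    have := congrArg (fun x => x * g) this
    simpa [mul_assoc] using this

/-- elements of `M` square to one -/
theorem sq_of_card_two (M : Subgroup G) (hM2 : Nat.card ↥M = 2) : ∀ m ∈ M, m * m = 1 := by
  intro m hm
  have : (⟨m, hm⟩ : ↥M) ^ 2 = 1 := by
    rw [← hM2]; exact pow_card_eq_one'
  have := congrArg Subtype.val this
  simpa [pow_two] using this

/-- in a subgroup whose commutators lie in the central subgroup `M` of exponent two, elements of odd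
order are central -/
theorem comm_of_odd (M : Subgroup G) (hcen : ∀ m ∈ M, ∀ g : G, g * m = m * g)
    (hsq : ∀ m ∈ M, m * m = 1) (x u : G) (hxu : ∀ j : ℕ, x * u ^ j * x⁻¹ * (u ^ j)⁻¹ ∈ M)
    (hodd : Odd (orderOf u)) : x * u = u * x := by
  -- c j := x u^j x⁻¹ u^-j ; c (j+1) = c j * c 1
  have hstep : ∀ j : ℕ, x * u ^ (j + 1) * x⁻¹ * (u ^ (j + 1))⁻¹ =
      (x * u ^ j * x⁻¹ * (u ^ j)⁻¹) * (x * u * x⁻¹ * u⁻¹) := by
    intro j
    have h1 := hcen _ (by simpa using hxu 1) (u ^ j)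
    -- u^j * c1 = c1 * u^j
    have : x * u ^ (j + 1) * x⁻¹ * (u ^ (j + 1))⁻¹ =
        (x * u ^ j * x⁻¹) * (x * u * x⁻¹ * u⁻¹) * (u ^ j)⁻¹ := by
      rw [pow_succ]; group
    rw [this]
    have h2 : (x * u * x⁻¹ * u⁻¹) * (u ^ j)⁻¹ = (u ^ j)⁻¹ * (x * u * x⁻¹ * u⁻¹) := by
      have := congrArg (fun y => (u ^ j)⁻¹ * y * (u ^ j)⁻¹) h1
      simpa [mul_assoc] using this
    rw [mul_assoc, h2]; group
  have hpow : ∀ j : ℕ, x * u ^ j * x⁻¹ * (u ^ j)⁻¹ = (x * u * x⁻¹ * u⁻¹) ^ j := by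
    intro j
    induction j with
    | zero => simp
    | succ j ih => rw [hstep, ih, pow_succ]
  have hc1 : (x * u * x⁻¹ * u⁻¹) ^ orderOf u = 1 := by
    rw [← hpow, pow_orderOf_eq_one]; simp
  have hc2 : (x * u * x⁻¹ * u⁻¹) ^ 2 = 1 := by
    rw [pow_two]; exact hsq _ (by simpa using hxu 1)
  have hc : x * u * x⁻¹ * u⁻¹ = 1 := by
    obtain ⟨r, hr⟩ := hodd
    have : (x * u * x⁻¹ * u⁻¹) ^ (2 * r + 1) = 1 := by rw [← hr]; exact hc1
    rw [pow_succ, pow_mul, hc2, one_pow, one_mul] at this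
    exact this
  have := congrArg (fun y => y * u * x) hc
  simpa [mul_assoc] using this

/-- Structure lemma in an abstract finite group `H` all of whose commutators lie in a central subgroup of
exponent two: a normal Sylow `2`-subgroup with a central complement. -/
theorem exists_sylow_central_compl {H : Type*} [Group H] [Finite H] (M : Subgroup H)
    (hcen : ∀ m ∈ M, ∀ g : H, g * m = m * g) (hsq : ∀ m ∈ M, m * m = 1)
    (hcomm : ∀ x y : H, x * y * x⁻¹ * y⁻¹ ∈ M) :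
    ∃ (P : Sylow 2 H) (U : Subgroup H), Subgroup.IsComplement' (P : Subgroup H) U ∧
      (∀ u ∈ U, ∀ h : H, h * u = u * h) := by
  have : Fact (Nat.Prime 2) := ⟨Nat.prime_two⟩
  have hMp : IsPGroup 2 ↥M := by
    intro m
    refine ⟨1, ?_⟩
    apply Subtype.ext
    have := hsq m.1 m.2
    simpa [pow_two] using this
  obtain ⟨P, hP⟩ := hMp.exists_le_sylow
  have hPn : (P : Subgroup H).Normal := by
    refine ⟨fun n hn g => ?_⟩
    have h1 : g * n * g⁻¹ * n⁻¹ ∈ (P : Subgroup H) := hP (hcomm g n)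
    have := (P : Subgroup H).mul_mem h1 hn
    simpa [mul_assoc] using this
  obtain ⟨U, hU⟩ := Subgroup.exists_right_complement'_of_coprime (Sylow.card_coprime_index P)
  refine ⟨P, U, hU, ?_⟩
  have hUodd : ¬ 2 ∣ Nat.card ↥U := by
    have h1 : (P : Subgroup H).index = Nat.card ↥U := hU.symm.index_eq_card
    rw [← h1]
    exact P.not_dvd_index
  intro u hu h
  apply comm_of_odd M hcen hsq h u (fun j => hcomm h (u ^ j))
  have hdvd : orderOf u ∣ Nat.card ↥U := by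
    have := orderOf_dvd_natCard (⟨u, hu⟩ : ↥U)
    rwa [Subgroup.orderOf_mk] at this
  rcases Nat.even_or_odd (orderOf u) with he | ho
  · exact absurd (he.two_dvd.trans hdvd) hUodd
  · exact ho

/-- the same structure inside `G`, for a subgroup `H ≥ M` with `H / M` abelian -/
theorem exists_T_U (M : Subgroup G) (hcen : ∀ m ∈ M, ∀ g : G, g * m = m * g)
    (hsq : ∀ m ∈ M, m * m = 1) (H : Subgroup G)
    (hcomm : ∀ x ∈ H, ∀ y ∈ H, x * y * x⁻¹ * y⁻¹ ∈ M) :
    ∃ T U : Subgroup G, T ≤ H ∧ U ≤ H ∧ IsPGroup 2 ↥T ∧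
      Nat.card ↥T = 2 ^ (Nat.card ↥H).factorization 2 ∧
      Nat.card ↥T * Nat.card ↥U = Nat.card ↥H ∧
      (∀ u ∈ U, ∀ h ∈ H, h * u = u * h) ∧
      (∀ h ∈ H, ∃ t ∈ T, ∃ u ∈ U, h = t * u) := by
  have : Fact (Nat.Prime 2) := ⟨Nat.prime_two⟩
  obtain ⟨P, U, hPU, hUc⟩ := exists_sylow_central_compl (H := ↥H) (M.subgroupOf H)
    (fun m hm g => Subtype.ext (hcen m.1 (Subgroup.mem_subgroupOf.1 hm) g.1))
    (fun m hm => Subtype.ext (hsq m.1 (Subgroup.mem_subgroupOf.1 hm)))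
    (fun x y => Subgroup.mem_subgroupOf.2 (by simpa using hcomm x.1 x.2 y.1 y.2))
  refine ⟨(P : Subgroup ↥H).map H.subtype, U.map H.subtype, Subgroup.map_subtype_le _,
    Subgroup.map_subtype_le _, P.2.map _, ?_, ?_, ?_, ?_⟩
  · rw [Subgroup.card_map_of_injective H.subtype_injective]
    exact P.card_eq_multiplicity
  · rw [Subgroup.card_map_of_injective H.subtype_injective,
      Subgroup.card_map_of_injective H.subtype_injective]
    exact hPU.card_mul_card
  · rintro u ⟨u', hu', rfl⟩ h hh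
    have := hUc u' hu' ⟨h, hh⟩
    exact congrArg Subtype.val this
  · intro h hh
    obtain ⟨⟨t, u⟩, htu⟩ := hPU.2 ⟨h, hh⟩
    refine ⟨t.1.1, ⟨t.1, t.2, rfl⟩, u.1.1, ⟨u.1, u.2, rfl⟩, ?_⟩
    have := congrArg Subtype.val htu
    simpa using this.symm

/-- two Sylow subgroups of `G` contained in a subgroup `C` are conjugate by an element of `C` -/
theorem sylow_conj_in (C : Subgroup G) (Q1 Q2 : Sylow 2 G) (h1 : (Q1 : Subgroup G) ≤ C)
    (h2 : (Q2 : Subgroup G) ≤ C) : ∃ c ∈ C, ∀ x ∈ (Q1 : Subgroup G), c * x * c⁻¹ ∈ (Q2 : Subgroup G) := by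
  have : Fact (Nat.Prime 2) := ⟨Nat.prime_two⟩
  obtain ⟨c, hc⟩ := MulAction.exists_smul_eq ↥C (Q1.subtype h1) (Q2.subtype h2)
  refine ⟨c.1, c.2, fun x hx => ?_⟩
  have hy : (⟨x, h1 hx⟩ : ↥C) ∈ ((Q1.subtype h1 : Sylow 2 ↥C) : Subgroup ↥C) := by
    rw [Sylow.coe_subtype]; exact Subgroup.mem_subgroupOf.2 hx
  have h3 : c * (⟨x, h1 hx⟩ : ↥C) * c⁻¹ ∈ ((c • (Q1.subtype h1) : Sylow 2 ↥C) : Subgroup ↥C) := by
    rw [Sylow.coe_subgroup_smul]
    have := Subgroup.smul_mem_pointwise_smul _ (MulAut.conj c) _ hy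
    simpa [MulAut.smul_def] using this
  rw [hc, Sylow.coe_subtype] at h3
  have := Subgroup.mem_subgroupOf.1 h3
  simpa using this

theorem sylow_conj_in' (C : Subgroup G) (Q1 Q2 : Sylow 2 G) (g : G)
    (h1 : ∀ x ∈ (Q1 : Subgroup G), g * x * g⁻¹ ∈ C)
    (h2 : (Q2 : Subgroup G) ≤ C) :
    ∃ c ∈ C, ∀ x ∈ (Q1 : Subgroup G), c * (g * x * g⁻¹) * c⁻¹ ∈ (Q2 : Subgroup G) := by
  have hmem : ∀ y, y ∈ ((g • Q1 : Sylow 2 G) : Subgroup G) ↔ g⁻¹ * y * g ∈ (Q1 : Subgroup G) := by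
    intro y
    rw [Sylow.coe_subgroup_smul, Subgroup.mem_pointwise_smul_iff_inv_smul_mem]
    simp [MulAut.smul_def]
  obtain ⟨c, hc, h⟩ := sylow_conj_in C (g • Q1) Q2
    (fun y hy => by
      have := h1 _ ((hmem y).1 hy)
      simpa [mul_assoc] using this) h2
  exact ⟨c, hc, fun x hx => h _ ((hmem _).2 (by simpa [mul_assoc] using hx))⟩

/-- the conjugacy statement in `G` -/
theorem conj_of_good (hB : PropB G) (M : Subgroup G) (hcen : ∀ m ∈ M, ∀ g : G, g * m = m * g)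
    (hsq : ∀ m ∈ M, m * m = 1) (S : Sylow 2 G) (hS : SmallComm S) (H K : Subgroup G)
    (hH : ∀ x ∈ H, ∀ y ∈ H, x * y * x⁻¹ * y⁻¹ ∈ M)
    (hK : ∀ x ∈ K, ∀ y ∈ K, x * y * x⁻¹ * y⁻¹ ∈ M)
    (hcard : Nat.card ↥H = Nat.card ↥K) :
    ∃ g : G, K = H.map (MulAut.conj g).toMonoidHom := by
  have : Fact (Nat.Prime 2) := ⟨Nat.prime_two⟩
  obtain ⟨TH, UH, hTH, hUH, hpH, hcTH, hmulH, hcenH, hdecH⟩ := exists_T_U M hcen hsq H hH
  obtain ⟨TK, UK, hTK, hUK, hpK, hcTK, hmulK, hcenK, hdecK⟩ := exists_T_U M hcen hsq K hK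
  have hcT : Nat.card ↥TH = Nat.card ↥TK := by rw [hcTH, hcTK, hcard]
  have hcU : Nat.card ↥UH = Nat.card ↥UK := by
    have h : Nat.card ↥TH * Nat.card ↥UH = Nat.card ↥TH * Nat.card ↥UK := by
      rw [hmulH, hcT, hmulK, hcard]
    exact Nat.eq_of_mul_eq_mul_left Nat.card_pos h
  have commUH : IsMulCommutative ↥UH :=
    ⟨⟨fun a b => Subtype.ext (hcenH b.1 b.2 a.1 (hUH a.2))⟩⟩
  have commUK : IsMulCommutative ↥UK :=
    ⟨⟨fun a b => Subtype.ext (hcenK b.1 b.2 a.1 (hUK a.2))⟩⟩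
  have commOf : ∀ (H T U : Subgroup G), T ≤ H → U ≤ H → IsMulCommutative ↥T →
      (∀ u ∈ U, ∀ h ∈ H, h * u = u * h) → (∀ h ∈ H, ∃ t ∈ T, ∃ u ∈ U, h = t * u) →
      IsMulCommutative ↥H := by
    intro H T U hT hU cT hcenU hdec
    refine ⟨⟨fun x y => Subtype.ext ?_⟩⟩
    obtain ⟨t, ht, u, hu, hx⟩ := hdec x.1 x.2
    obtain ⟨t', ht', u', hu', hy⟩ := hdec y.1 y.2
    have e1 : t * t' = t' * t :=
      congrArg Subtype.val (cT.is_comm.comm (⟨t, ht⟩ : ↥T) ⟨t', ht'⟩)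
    show x.1 * y.1 = y.1 * x.1
    rw [hx, hy]
    have c1 : Commute t t' := e1
    have c2 : Commute u t' := (hcenU u hu t' (hT ht')).symm
    have c3 : Commute t u' := hcenU u' hu' t (hT ht)
    have c4 : Commute u u' := hcenU u' hu' u (hU hu)
    exact (c1.mul_left c2).mul_right (c3.mul_left c4)
  by_cases hlt : Nat.card ↥TH < Nat.card ↥(S : Subgroup G)
  · have cTH := hS TH hpH hlt
    have cTK := hS TK hpK (hcT ▸ hlt)
    exact hB H K (commOf H TH UH hTH hUH cTH hcenH hdecH) (commOf K TK UK hTK hUK cTK hcenK hdecK)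
      hcard
  · rw [not_lt] at hlt
    have hSc := S.card_eq_multiplicity
    obtain ⟨QH, hQH⟩ := hpH.exists_le_sylow
    obtain ⟨QK, hQK⟩ := hpK.exists_le_sylow
    have eH : TH = QH := Subgroup.eq_of_le_of_card_ge hQH
      (by rw [QH.card_eq_multiplicity, ← hSc]; exact hlt)
    have eK : TK = QK := Subgroup.eq_of_le_of_card_ge hQK
      (by rw [QK.card_eq_multiplicity, ← hSc, ← hcT]; exact hlt)
    obtain ⟨g, hg⟩ := hB UH UK commUH commUK hcU
    have hgU : ∀ u ∈ UH, g * u * g⁻¹ ∈ UK := by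
      intro u hu
      rw [hg]
      exact ⟨u, hu, by simp [MulAut.conj_apply]⟩
    have hgU' : ∀ v ∈ UK, ∃ u ∈ UH, v = g * u * g⁻¹ := by
      intro v hv
      rw [hg] at hv
      obtain ⟨u, hu, rfl⟩ := hv
      exact ⟨u, hu, by simp [MulAut.conj_apply]⟩
    have h1 : ∀ x ∈ (QH : Subgroup G), g * x * g⁻¹ ∈ Subgroup.centralizer (UK : Set G) := by
      intro x hx
      rw [Subgroup.mem_centralizer_iff]
      intro v hv
      obtain ⟨u, hu, rfl⟩ := hgU' v hv
      have := hcenH u hu x (hTH (eH.ge hx))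
      calc g * u * g⁻¹ * (g * x * g⁻¹) = g * (u * x) * g⁻¹ := by group
        _ = g * (x * u) * g⁻¹ := by rw [this]
        _ = _ := by group
    have h2 : (QK : Subgroup G) ≤ Subgroup.centralizer (UK : Set G) := by
      intro x hx
      rw [Subgroup.mem_centralizer_iff]
      intro v hv
      exact (hcenK v hv x (hTK (eK.ge hx))).symm
    obtain ⟨c, hcC, hc⟩ := sylow_conj_in' _ QH QK g h1 h2
    refine ⟨c * g, ?_⟩
    symm
    apply Subgroup.eq_of_le_of_card_ge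
    · rintro _ ⟨h, hh, rfl⟩
      obtain ⟨t, ht, u, hu, rfl⟩ := hdecH h hh
      have e : (MulAut.conj (c * g)).toMonoidHom (t * u) =
          (c * (g * t * g⁻¹) * c⁻¹) * (c * (g * u * g⁻¹) * c⁻¹) := by
        simp only [MulEquiv.coe_toMonoidHom, MulAut.conj_apply]; group
      rw [e]
      apply K.mul_mem
      · exact hTK (eK.ge (hc t (eH.le ht)))
      · have hv := hgU u hu
        have : c * (g * u * g⁻¹) * c⁻¹ = g * u * g⁻¹ := by
          have := (Subgroup.mem_centralizer_iff.1 hcC) _ hv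
          rw [← this]; group
        rw [this]; exact hUK hv
    · rw [Subgroup.card_map_of_injective (MulAut.conj (c * g)).injective, hcard]

/-- **B57**. -/
theorem propB_quot_of_card_two {G : Type*} [Group G] [Finite G] (hB : PropB G) (M : Subgroup G) [M.Normal]
    (hM2 : Nat.card ↥M = 2) (S : Sylow 2 G) (hS : SmallComm S) : PropB (G ⧸ M) := by
  intro A B hA hB' hcardAB
  have hcen := central_of_card_two M hM2
  have hsq := sq_of_card_two M hM2
  have key : ∀ A : Subgroup (G ⧸ M), IsMulCommutative ↥A →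
      ∀ x ∈ A.comap (QuotientGroup.mk' M), ∀ y ∈ A.comap (QuotientGroup.mk' M),
        x * y * x⁻¹ * y⁻¹ ∈ M := by
    intro A hA x hx y hy
    rw [← QuotientGroup.eq_one_iff]
    have h := congrArg Subtype.val
      (hA.is_comm.comm (⟨QuotientGroup.mk' M x, hx⟩ : ↥A) ⟨QuotientGroup.mk' M y, hy⟩)
    have h' : (x : G ⧸ M) * (y : G ⧸ M) = (y : G ⧸ M) * (x : G ⧸ M) := h
    simp only [QuotientGroup.mk_mul, QuotientGroup.mk_inv]
    rw [h']; group
  have hc : ∀ A : Subgroup (G ⧸ M), Nat.card ↥(A.comap (QuotientGroup.mk' M)) = 2 * Nat.card ↥A := by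
    intro A
    have := QuotientGroup.card_preimage_mk M (A : Set (G ⧸ M))
    rw [hM2] at this
    exact this
  obtain ⟨g, hg⟩ := conj_of_good hB M hcen hsq S hS (A.comap (QuotientGroup.mk' M))
    (B.comap (QuotientGroup.mk' M)) (key A hA) (key B hB') (by rw [hc A, hc B, hcardAB])
  refine ⟨(g : G ⧸ M), ?_⟩
  have sA : (A.comap (QuotientGroup.mk' M)).map (QuotientGroup.mk' M) = A :=
    Subgroup.map_comap_eq_self_of_surjective (QuotientGroup.mk'_surjective M) A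
  have sB : (B.comap (QuotientGroup.mk' M)).map (QuotientGroup.mk' M) = B :=
    Subgroup.map_comap_eq_self_of_surjective (QuotientGroup.mk'_surjective M) B
  calc B = (B.comap (QuotientGroup.mk' M)).map (QuotientGroup.mk' M) := sB.symm
    _ = (((A.comap (QuotientGroup.mk' M)).map (MulAut.conj g).toMonoidHom)).map
          (QuotientGroup.mk' M) := by rw [hg]
    _ = ((A.comap (QuotientGroup.mk' M)).map (QuotientGroup.mk' M)).map
          (MulAut.conj (g : G ⧸ M)).toMonoidHom := by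
        rw [Subgroup.map_map, Subgroup.map_map]
        congr 1
    _ = A.map (MulAut.conj (g : G ⧸ M)).toMonoidHom := by rw [sA]

end Cfsg.Agent.Lib.Helper25.BQS
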