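import Mathlib

set_option autoImplicit false

namespace Cfsg.Agent.Lib.Helper25.Cox

section General
variable {B : Type*} {M : CoxeterMatrix B} {W : Type*} [Group W] (cs : CoxeterSystem M W)

/-- The subgroup generated by the simple reflections indexed by a list. -/
def par (J : List B) : Subgroup W := Subgroup.closure {g | ∃ j ∈ J, g = cs.simple j}

theorem simple_mem_par {J : List B} {j : B} (hj : j ∈ J) : cs.simple j ∈ par cs J :=
  Subgroup.subset_closure ⟨j, hj, rfl⟩

theorem par_mono {J K : List B} (h : ∀ j ∈ J, j ∈ K) : par cs J ≤ par cs K := by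
  apply Subgroup.closure_mono
  rintro g ⟨j, hj, rfl⟩
  exact ⟨j, h j hj, rfl⟩

theorem par_nil : par cs ([] : List B) = ⊥ := by
  unfold par
  have : {g : W | ∃ j ∈ ([] : List B), g = cs.simple j} = ∅ := by
    ext g; simp
  rw [this, Subgroup.closure_empty]

theorem par_top {K : List B} (h : ∀ b : B, b ∈ K) : par cs K = ⊤ := by
  rw [eq_top_iff, ← cs.subgroup_closure_range_simple]
  apply Subgroup.closure_mono
  rintro g ⟨b, rfl⟩
  exact ⟨b, h b, rfl⟩

theorem wordProd_mem_par {J : List B} {w : List B} (hw : ∀ j ∈ w, j ∈ J) :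
    cs.wordProd w ∈ par cs J := by
  induction w with
  | nil => rw [CoxeterSystem.wordProd_nil]; exact Subgroup.one_mem _
  | cons j w ih =>
    rw [CoxeterSystem.wordProd_cons]
    exact Subgroup.mul_mem _ (simple_mem_par cs (hw j (List.mem_cons_self)))
      (ih (fun k hk => hw k (List.mem_cons_of_mem _ hk)))

theorem exists_word_of_mem_par {J : List B} {g : W} (hg : g ∈ par cs J) :
    ∃ w : List B, (∀ j ∈ w, j ∈ J) ∧ g = cs.wordProd w := by
  unfold par at hg
  induction hg using Subgroup.closure_induction with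
  | mem g hg =>
    obtain ⟨j, hj, rfl⟩ := hg
    refine ⟨[j], ?_, ?_⟩
    · intro k hk
      rw [List.mem_singleton] at hk
      rw [hk]; exact hj
    · simp [CoxeterSystem.wordProd]
  | one => exact ⟨[], by simp, by simp⟩
  | mul a b _ _ iha ihb =>
    obtain ⟨wa, ha, rfl⟩ := iha
    obtain ⟨wb, hb, rfl⟩ := ihb
    refine ⟨wa ++ wb, ?_, (cs.wordProd_append wa wb).symm⟩
    intro k hk
    rcases List.mem_append.mp hk with h | h
    · exact ha k h
    · exact hb k h
  | inv a _ iha =>
    obtain ⟨wa, ha, rfl⟩ := iha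
    refine ⟨wa.reverse, ?_, (cs.wordProd_reverse wa).symm⟩
    intro k hk
    exact ha k (List.mem_reverse.mp hk)

/-- Validity of a coset-table entry relative to a subgroup `H`:
`(π t')⁻¹ * s_j * π t ∈ H`. -/
def V (H : Subgroup W) (t : List B) (j : B) (t' : List B) : Prop :=
  (cs.wordProd t')⁻¹ * cs.simple j * cs.wordProd t ∈ H

theorem V_tree (H : Subgroup W) {t t' : List B} {j : B} (h : t' = j :: t) : V cs H t j t' := by
  subst h
  unfold V
  rw [CoxeterSystem.wordProd_cons]
  have : (cs.simple j * cs.wordProd t)⁻¹ * cs.simple j * cs.wordProd t = 1 := by group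
  rw [this]; exact Subgroup.one_mem _

theorem V_symm {H : Subgroup W} {t t' : List B} {j : B} (h : V cs H t j t') : V cs H t' j t := by
  unfold V at *
  have := H.inv_mem h
  have e : ((cs.wordProd t')⁻¹ * cs.simple j * cs.wordProd t)⁻¹ =
      (cs.wordProd t)⁻¹ * cs.simple j * cs.wordProd t' := by
    rw [mul_inv_rev, mul_inv_rev, inv_inv, cs.inv_simple, mul_assoc]
  rwa [e] at this

theorem V_base {H : Subgroup W} {t : List B} {j : B} (ht : t = []) (hj : cs.simple j ∈ H) :
    V cs H t j t := by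
  subst ht
  unfold V
  rw [CoxeterSystem.wordProd_nil]
  simpa using hj

/-- chaining: from `(π t)⁻¹ g (π t0) ∈ H` and a valid entry `t -a→ t'` get
`(π t')⁻¹ (s_a g) (π t0) ∈ H`. -/
theorem V_trans {H : Subgroup W} {t0 t t' : List B} {g : W} {a : B}
    (h : (cs.wordProd t)⁻¹ * g * cs.wordProd t0 ∈ H) (v : V cs H t a t') :
    (cs.wordProd t')⁻¹ * (cs.simple a * g) * cs.wordProd t0 ∈ H := by
  have := H.mul_mem v h
  have e : (cs.wordProd t')⁻¹ * cs.simple a * cs.wordProd t *
      ((cs.wordProd t)⁻¹ * g * cs.wordProd t0) =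
      (cs.wordProd t')⁻¹ * (cs.simple a * g) * cs.wordProd t0 := by group
  rwa [e] at this

theorem V_of_eq {H : Subgroup W} {t0 t : List B} {g : W} {a : B}
    (h : (cs.wordProd t)⁻¹ * g * cs.wordProd t0 ∈ H) (hg : g = cs.simple a) : V cs H t0 a t := by
  subst hg; exact h

/-- relation helper: `s_a * x = 1 → x = s_a` -/
theorem eq_simple_of_mul_eq_one {a : B} {x : W} (h : cs.simple a * x = 1) : x = cs.simple a := by
  have := congrArg (fun y => cs.simple a * y) h
  simp only [mul_one] at this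
  rw [cs.simple_mul_simple_cancel_left] at this
  exact this

theorem V_ded2 {H : Subgroup W} {a b : B} (hM : M a b = 2) {t0 t1 t2 t3 : List B}
    (v1 : V cs H t0 b t1) (v2 : V cs H t1 a t2) (v3 : V cs H t2 b t3) : V cs H t3 a t0 := by
  apply V_symm
  have h1 : (cs.wordProd t1)⁻¹ * cs.simple b * cs.wordProd t0 ∈ H := v1
  have h2 := V_trans cs h1 v2
  have h3 := V_trans cs h2 v3
  apply V_of_eq cs h3
  apply eq_simple_of_mul_eq_one
  have := cs.simple_mul_simple_pow a b
  rw [hM] at this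
  rw [← this]
  simp only [pow_succ, pow_zero, one_mul, mul_assoc]

theorem V_ded3 {H : Subgroup W} {a b : B} (hM : M a b = 3) {t0 t1 t2 t3 t4 t5 : List B}
    (v1 : V cs H t0 b t1) (v2 : V cs H t1 a t2) (v3 : V cs H t2 b t3) (v4 : V cs H t3 a t4)
    (v5 : V cs H t4 b t5) : V cs H t5 a t0 := by
  apply V_symm
  have h1 : (cs.wordProd t1)⁻¹ * cs.simple b * cs.wordProd t0 ∈ H := v1
  have h2 := V_trans cs h1 v2
  have h3 := V_trans cs h2 v3
  have h4 := V_trans cs h3 v4
  have h5 := V_trans cs h4 v5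
  apply V_of_eq cs h5
  apply eq_simple_of_mul_eq_one
  have := cs.simple_mul_simple_pow a b
  rw [hM] at this
  rw [← this]
  simp only [pow_succ, pow_zero, one_mul, mul_assoc]

theorem V_ded4 {H : Subgroup W} {a b : B} (hM : M a b = 4) {t0 t1 t2 t3 t4 t5 t6 t7 : List B}
    (v1 : V cs H t0 b t1) (v2 : V cs H t1 a t2) (v3 : V cs H t2 b t3) (v4 : V cs H t3 a t4)
    (v5 : V cs H t4 b t5) (v6 : V cs H t5 a t6) (v7 : V cs H t6 b t7) : V cs H t7 a t0 := by
  apply V_symm
  have h1 : (cs.wordProd t1)⁻¹ * cs.simple b * cs.wordProd t0 ∈ H := v1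
  have h2 := V_trans cs h1 v2
  have h3 := V_trans cs h2 v3
  have h4 := V_trans cs h3 v4
  have h5 := V_trans cs h4 v5
  have h6 := V_trans cs h5 v6
  have h7 := V_trans cs h6 v7
  apply V_of_eq cs h7
  apply eq_simple_of_mul_eq_one
  have := cs.simple_mul_simple_pow a b
  rw [hM] at this
  rw [← this]
  simp only [pow_succ, pow_zero, one_mul, mul_assoc]

theorem V_ded6 {H : Subgroup W} {a b : B} (hM : M a b = 6)
    {t0 t1 t2 t3 t4 t5 t6 t7 t8 t9 t10 t11 : List B}
    (v1 : V cs H t0 b t1) (v2 : V cs H t1 a t2) (v3 : V cs H t2 b t3) (v4 : V cs H t3 a t4)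
    (v5 : V cs H t4 b t5) (v6 : V cs H t5 a t6) (v7 : V cs H t6 b t7) (v8 : V cs H t7 a t8)
    (v9 : V cs H t8 b t9) (v10 : V cs H t9 a t10) (v11 : V cs H t10 b t11) :
    V cs H t11 a t0 := by
  apply V_symm
  have h1 : (cs.wordProd t1)⁻¹ * cs.simple b * cs.wordProd t0 ∈ H := v1
  have h2 := V_trans cs h1 v2
  have h3 := V_trans cs h2 v3
  have h4 := V_trans cs h3 v4
  have h5 := V_trans cs h4 v5
  have h6 := V_trans cs h5 v6
  have h7 := V_trans cs h6 v7
  have h8 := V_trans cs h7 v8
  have h9 := V_trans cs h8 v9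
  have h10 := V_trans cs h9 v10
  have h11 := V_trans cs h10 v11
  apply V_of_eq cs h11
  apply eq_simple_of_mul_eq_one
  have := cs.simple_mul_simple_pow a b
  rw [hM] at this
  rw [← this]
  simp only [pow_succ, pow_zero, one_mul, mul_assoc]

/-- Surjectivity for a link of the parabolic chain. -/
theorem link_surj (J K : List B) (N : ℕ) (word : ℕ → List B) (tbl : ℕ → B → ℕ)
    (hN : 0 < N) (h0 : word 0 = [])
    (htbl : ∀ x < N, ∀ j ∈ K, tbl x j < N ∧ V cs (par cs J) (word x) j (word (tbl x j))) :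
    ∀ g ∈ par cs K, ∃ x < N, ∃ u ∈ par cs J, g = cs.wordProd (word x) * u := by
  intro g hg
  obtain ⟨w, hw, rfl⟩ := exists_word_of_mem_par cs hg
  induction w with
  | nil =>
    refine ⟨0, hN, 1, Subgroup.one_mem _, ?_⟩
    rw [h0, mul_one]
  | cons j w ih =>
    obtain ⟨x, hx, u, hu, hxu⟩ := ih (fun k hk => hw k (List.mem_cons_of_mem _ hk))
        (wordProd_mem_par cs (fun k hk => hw k (List.mem_cons_of_mem _ hk)))
    obtain ⟨hlt, hv⟩ := htbl x hx j (hw j List.mem_cons_self)
    refine ⟨tbl x j, hlt, (cs.wordProd (word (tbl x j)))⁻¹ * cs.simple j * cs.wordProd (word x) * u,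
      Subgroup.mul_mem _ hv hu, ?_⟩
    rw [CoxeterSystem.wordProd_cons, hxu]
    group

/-- Injectivity for a link of the parabolic chain, via an action with a distinguishing point. -/
theorem link_inj {X : Type*} (φ : W →* Equiv.Perm X) (p : X) (J : List B) (N : ℕ)
    (word : ℕ → List B)
    (hfix : ∀ j ∈ J, φ (cs.simple j) p = p)
    (hdist : ∀ x < N, ∀ y < N, φ (cs.wordProd (word x)) p = φ (cs.wordProd (word y)) p → x = y) :
    ∀ x < N, ∀ y < N, ∀ u ∈ par cs J, ∀ u' ∈ par cs J,
      cs.wordProd (word x) * u = cs.wordProd (word y) * u' → x = y ∧ u = u' := by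
  have hstab : ∀ u ∈ par cs J, φ u p = p := by
    intro u hu
    unfold par at hu
    induction hu using Subgroup.closure_induction with
    | mem g hg => obtain ⟨j, hj, rfl⟩ := hg; exact hfix j hj
    | one => simp
    | mul a b _ _ iha ihb => rw [map_mul, Equiv.Perm.mul_apply, ihb, iha]
    | inv a _ iha =>
      rw [map_inv, Equiv.Perm.inv_eq_iff_eq]
      exact iha.symm
  intro x hx y hy u hu u' hu' h
  have h1 : φ (cs.wordProd (word x)) p = φ (cs.wordProd (word y)) p := by
    have := congrArg (fun g => φ g p) h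
    simp only [map_mul, Equiv.Perm.mul_apply] at this
    rwa [hstab u hu, hstab u' hu'] at this
  have hxy := hdist x hx y hy h1
  subst hxy
  exact ⟨rfl, mul_left_cancel h⟩

/-- Cardinality for a link of the parabolic chain. -/
theorem link_card {X : Type*} (φ : W →* Equiv.Perm X) (p : X) (J K : List B) (N : ℕ)
    (word : ℕ → List B) (tbl : ℕ → B → ℕ)
    (hJK : ∀ j ∈ J, j ∈ K)
    (hN : 0 < N) (h0 : word 0 = [])
    (hword : ∀ x < N, ∀ j ∈ word x, j ∈ K)
    (htbl : ∀ x < N, ∀ j ∈ K, tbl x j < N ∧ V cs (par cs J) (word x) j (word (tbl x j)))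
    (hfix : ∀ j ∈ J, φ (cs.simple j) p = p)
    (hdist : ∀ x < N, ∀ y < N, φ (cs.wordProd (word x)) p = φ (cs.wordProd (word y)) p → x = y) :
    Nat.card (par cs K) = N * Nat.card (par cs J) := by
  have hsurj := link_surj cs J K N word tbl hN h0 htbl
  have hinj := link_inj cs φ p J N word hfix hdist
  rw [← Nat.card_fin N, ← Nat.card_prod]
  symm
  let f : Fin N × par cs J → par cs K := fun q =>
    ⟨cs.wordProd (word q.1) * q.2.1,
      Subgroup.mul_mem _ (wordProd_mem_par cs (hword q.1 q.1.2)) (par_mono cs hJK q.2.2)⟩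
  apply Nat.card_congr
  refine Equiv.ofBijective f ⟨?_, ?_⟩
  · rintro ⟨⟨x, hx⟩, ⟨u, hu⟩⟩ ⟨⟨y, hy⟩, ⟨u', hu'⟩⟩ h
    have h' : cs.wordProd (word x) * u = cs.wordProd (word y) * u' := congrArg Subtype.val h
    obtain ⟨rfl, rfl⟩ := hinj x hx y hy u hu u' hu' h'
    rfl
  · rintro ⟨g, hg⟩
    obtain ⟨x, hx, u, hu, rfl⟩ := hsurj g hg
    exact ⟨(⟨x, hx⟩, ⟨u, hu⟩), rfl⟩

end General

section Action
variable {n : ℕ} (A : Matrix (Fin n) (Fin n) ℤ)

/-- The reflection `v ↦ v - v_i • (row i of A)` on integer vectors. -/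
def refl (i : Fin n) (v : Fin n → ℤ) : Fin n → ℤ := fun j => v j - v i * A i j

theorem refl_refl (hA : ∀ i, A i i = 2) (i : Fin n) (v : Fin n → ℤ) :
    refl A i (refl A i v) = v := by
  funext j
  simp only [refl, hA i]
  ring

/-- The reflection as a permutation of the integer vectors. -/
def reflEquiv (hA : ∀ i, A i i = 2) (i : Fin n) : Equiv.Perm (Fin n → ℤ) where
  toFun := refl A i
  invFun := refl A i
  left_inv := refl_refl A hA i
  right_inv := refl_refl A hA i

theorem reflEquiv_apply (hA : ∀ i, A i i = 2) (i : Fin n) (v : Fin n → ℤ) :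
    reflEquiv A hA i v = refl A i v := rfl

end Action

end Cfsg.Agent.Lib.Helper25.Cox
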