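import Mathlib
import Cfsg.Agent.Lib.Helper25.Coxeter

set_option autoImplicit false

namespace Cfsg.Agent.Lib.Helper25.Cox

section Action
variable {n : ℕ} (A : Matrix (Fin n) (Fin n) ℤ)

theorem braid_pow1 (hA : ∀ i, A i i = 2) (i : Fin n) :
    (reflEquiv A hA i * reflEquiv A hA i) ^ 1 = 1 := by
  ext v k
  simp only [pow_one, Equiv.Perm.mul_apply, reflEquiv_apply, Equiv.Perm.one_apply, refl_refl A hA]

theorem braid_pow2 (hA : ∀ i, A i i = 2) {i j : Fin n} (hij : A i j = 0) (hji : A j i = 0) :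
    (reflEquiv A hA i * reflEquiv A hA j) ^ 2 = 1 := by
  ext v k
  simp only [pow_succ, pow_zero, one_mul, Equiv.Perm.mul_apply, reflEquiv_apply, Equiv.Perm.one_apply]
  simp only [refl, hA i, hA j, hij, hji]
  ring

theorem braid_pow3 (hA : ∀ i, A i i = 2) {i j : Fin n} (hij : A i j = -1) (hji : A j i = -1) :
    (reflEquiv A hA i * reflEquiv A hA j) ^ 3 = 1 := by
  ext v k
  simp only [pow_succ, pow_zero, one_mul, Equiv.Perm.mul_apply, reflEquiv_apply, Equiv.Perm.one_apply]
  simp only [refl, hA i, hA j, hij, hji]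
  ring

theorem braid_pow4 (hA : ∀ i, A i i = 2) {i j : Fin n} (hij : A i j = -1) (hji : A j i = -2) :
    (reflEquiv A hA i * reflEquiv A hA j) ^ 4 = 1 := by
  ext v k
  simp only [pow_succ, pow_zero, one_mul, Equiv.Perm.mul_apply, reflEquiv_apply, Equiv.Perm.one_apply]
  simp only [refl, hA i, hA j, hij, hji]
  ring

theorem braid_pow4' (hA : ∀ i, A i i = 2) {i j : Fin n} (hij : A i j = -2) (hji : A j i = -1) :
    (reflEquiv A hA i * reflEquiv A hA j) ^ 4 = 1 := by
  ext v k
  simp only [pow_succ, pow_zero, one_mul, Equiv.Perm.mul_apply, reflEquiv_apply, Equiv.Perm.one_apply]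
  simp only [refl, hA i, hA j, hij, hji]
  ring

theorem braid_pow6 (hA : ∀ i, A i i = 2) {i j : Fin n} (hij : A i j = -1) (hji : A j i = -3) :
    (reflEquiv A hA i * reflEquiv A hA j) ^ 6 = 1 := by
  ext v k
  simp only [pow_succ, pow_zero, one_mul, Equiv.Perm.mul_apply, reflEquiv_apply, Equiv.Perm.one_apply]
  simp only [refl, hA i, hA j, hij, hji]
  ring

theorem braid_pow6' (hA : ∀ i, A i i = 2) {i j : Fin n} (hij : A i j = -3) (hji : A j i = -1) :
    (reflEquiv A hA i * reflEquiv A hA j) ^ 6 = 1 := by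
  ext v k
  simp only [pow_succ, pow_zero, one_mul, Equiv.Perm.mul_apply, reflEquiv_apply, Equiv.Perm.one_apply]
  simp only [refl, hA i, hA j, hij, hji]
  ring

/-- Compatibility of a Coxeter matrix with a (generalised) Cartan matrix. -/
def Compat (M : CoxeterMatrix (Fin n)) (A : Matrix (Fin n) (Fin n) ℤ) : Prop :=
  ∀ i j : Fin n, i = j ∨ (M i j = 2 ∧ A i j = 0 ∧ A j i = 0) ∨
    (M i j = 3 ∧ A i j = -1 ∧ A j i = -1) ∨
    (M i j = 4 ∧ A i j = -1 ∧ A j i = -2) ∨ (M i j = 4 ∧ A i j = -2 ∧ A j i = -1) ∨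
    (M i j = 6 ∧ A i j = -1 ∧ A j i = -3) ∨ (M i j = 6 ∧ A i j = -3 ∧ A j i = -1)

/-- Boolean version of `Compat`, for kernel evaluation. -/
def compatB (M : CoxeterMatrix (Fin n)) (A : Matrix (Fin n) (Fin n) ℤ) : Bool :=
  (List.finRange n).all fun i => (List.finRange n).all fun j =>
    decide (i = j) || (decide (M.M i j = 2) && decide (A i j = 0) && decide (A j i = 0)) ||
    (decide (M.M i j = 3) && decide (A i j = -1) && decide (A j i = -1)) ||
    (decide (M.M i j = 4) && decide (A i j = -1) && decide (A j i = -2)) ||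
    (decide (M.M i j = 4) && decide (A i j = -2) && decide (A j i = -1)) ||
    (decide (M.M i j = 6) && decide (A i j = -1) && decide (A j i = -3)) ||
    (decide (M.M i j = 6) && decide (A i j = -3) && decide (A j i = -1))

theorem compat_of_B {M : CoxeterMatrix (Fin n)} {A : Matrix (Fin n) (Fin n) ℤ}
    (h : compatB M A = true) : Compat M A := by
  intro i j
  unfold compatB at h
  rw [List.all_eq_true] at h
  have h1 := h i (List.mem_finRange i)
  rw [List.all_eq_true] at h1
  have h2 := h1 j (List.mem_finRange j)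
  simp only [Bool.or_eq_true, Bool.and_eq_true, decide_eq_true_eq] at h2
  tauto

theorem isLiftable {M : CoxeterMatrix (Fin n)} (hA : ∀ i, A i i = 2) (hc : Compat M A) :
    M.IsLiftable (reflEquiv A hA) := by
  intro i j
  rcases hc i j with rfl | ⟨hm, h1, h2⟩ | ⟨hm, h1, h2⟩ | ⟨hm, h1, h2⟩ | ⟨hm, h1, h2⟩ |
    ⟨hm, h1, h2⟩ | ⟨hm, h1, h2⟩
  · rw [M.diagonal]; exact braid_pow1 A hA i
  · rw [hm]; exact braid_pow2 A hA h1 h2
  · rw [hm]; exact braid_pow3 A hA h1 h2
  · rw [hm]; exact braid_pow4 A hA h1 h2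
  · rw [hm]; exact braid_pow4' A hA h1 h2
  · rw [hm]; exact braid_pow6 A hA h1 h2
  · rw [hm]; exact braid_pow6' A hA h1 h2

variable {M : CoxeterMatrix (Fin n)} {W : Type*} [Group W] (cs : CoxeterSystem M W)

/-- The action of the Coxeter group on integer vectors by reflections. -/
noncomputable def actHom (hA : ∀ i, A i i = 2) (hc : Compat M A) : W →* Equiv.Perm (Fin n → ℤ) :=
  cs.lift ⟨reflEquiv A hA, isLiftable A hA hc⟩

theorem actHom_simple (hA : ∀ i, A i i = 2) (hc : Compat M A) (i : Fin n) :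
    actHom A cs hA hc (cs.simple i) = reflEquiv A hA i :=
  cs.lift_apply_simple (isLiftable A hA hc) i

theorem pt_base (φ : W →* Equiv.Perm (Fin n → ℤ)) {w : List (Fin n)} (hw : w = [])
    (p : Fin n → ℤ) : φ (cs.wordProd w) p = p := by
  subst hw
  rw [CoxeterSystem.wordProd_nil, map_one, Equiv.Perm.one_apply]

theorem pt_step (hA : ∀ i, A i i = 2) (φ : W →* Equiv.Perm (Fin n → ℤ))
    (hφ : ∀ i, φ (cs.simple i) = reflEquiv A hA i) {w w' : List (Fin n)} {j : Fin n}
    (hw' : w' = j :: w) {p v v' : Fin n → ℤ} (hw : φ (cs.wordProd w) p = v)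
    (hv : refl A j v = v') : φ (cs.wordProd w') p = v' := by
  subst hw'
  rw [CoxeterSystem.wordProd_cons, map_mul, Equiv.Perm.mul_apply, hw, hφ, reflEquiv_apply, hv]

theorem fix_of_refl (hA : ∀ i, A i i = 2) (φ : W →* Equiv.Perm (Fin n → ℤ))
    (hφ : ∀ i, φ (cs.simple i) = reflEquiv A hA i) (J : List (Fin n)) (p : Fin n → ℤ)
    (h : ∀ j ∈ J, refl A j p = p) : ∀ j ∈ J, φ (cs.simple j) p = p := by
  intro j hj
  rw [hφ, reflEquiv_apply, h j hj]

end Action

section Keys
variable {B : Type*} {M : CoxeterMatrix B} {W : Type*} [Group W] (cs : CoxeterSystem M W)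

theorem getD_inj_of_nodup {l : List ℤ} (hnd : l.Nodup) {x y : ℕ} (hx : x < l.length)
    (hy : y < l.length) (h : l.getD x 0 = l.getD y 0) : x = y := by
  rw [List.getD_eq_getElem _ _ hx, List.getD_eq_getElem _ _ hy] at h
  exact (hnd.getElem_inj_iff).mp h

theorem hdist_of_keys {X : Type*} (φ : W →* Equiv.Perm X) (p : X) (word : ℕ → List B) (N : ℕ)
    (key : X → ℤ) (keys : List ℤ) (hlen : keys.length = N) (hnd : keys.Nodup)
    (hkey : ∀ x < N, key (φ (cs.wordProd (word x)) p) = keys.getD x 0) :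
    ∀ x < N, ∀ y < N, φ (cs.wordProd (word x)) p = φ (cs.wordProd (word y)) p → x = y := by
  intro x hx y hy h
  have h1 := hkey x hx
  have h2 := hkey y hy
  rw [h] at h1
  apply getD_inj_of_nodup hnd (hlen ▸ hx) (hlen ▸ hy)
  rw [← h1, ← h2]

end Keys

end Cfsg.Agent.Lib.Helper25.Cox
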