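import Mathlib
import Cfsg.Agent.Lib.Helper25.CoxeterAct

set_option autoImplicit false

namespace Cfsg.Agent.Lib.Helper25.Cox

section General
variable {B : Type*} {M : CoxeterMatrix B} {W : Type*} [Group W] (cs : CoxeterSystem M W)

theorem par_fix {X : Type*} (φ : W →* Equiv.Perm X) (p : X) (J : List B)
    (hfix : ∀ j ∈ J, φ (cs.simple j) p = p) : ∀ u ∈ par cs J, φ u p = p := by
  intro u hu
  unfold par at hu
  induction hu using Subgroup.closure_induction with
  | mem g hg => obtain ⟨j, hj, rfl⟩ := hg; exact hfix j hj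
  | one => simp
  | mul a b _ _ iha ihb => rw [map_mul, Equiv.Perm.mul_apply, ihb, iha]
  | inv a _ iha =>
    rw [map_inv, Equiv.Perm.inv_eq_iff_eq]
    exact iha.symm

/-- An element of `par K` fixing the distinguishing point lies in `par J`. -/
theorem link_ker {X : Type*} (φ : W →* Equiv.Perm X) (p : X) (J K : List B) (N : ℕ)
    (word : ℕ → List B) (tbl : ℕ → B → ℕ)
    (hN : 0 < N) (h0 : word 0 = [])
    (htbl : ∀ x < N, ∀ j ∈ K, tbl x j < N ∧ V cs (par cs J) (word x) j (word (tbl x j)))
    (hfix : ∀ j ∈ J, φ (cs.simple j) p = p)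
    (hdist : ∀ x < N, ∀ y < N, φ (cs.wordProd (word x)) p = φ (cs.wordProd (word y)) p → x = y) :
    ∀ g ∈ par cs K, φ g p = p → g ∈ par cs J := by
  intro g hg hgp
  obtain ⟨x, hx, u, hu, rfl⟩ := link_surj cs J K N word tbl hN h0 htbl g hg
  have hstab : φ u p = p := par_fix cs φ p J hfix u hu
  have h1 : φ (cs.wordProd (word x)) p = φ (cs.wordProd (word 0)) p := by
    rw [h0, CoxeterSystem.wordProd_nil, map_one, Equiv.Perm.one_apply]
    rw [map_mul, Equiv.Perm.mul_apply, hstab] at hgp
    exact hgp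
  have hx0 := hdist x hx 0 hN h1
  subst hx0
  rw [h0, CoxeterSystem.wordProd_nil, one_mul]
  exact hu

theorem injective_of_ker (φ : W →* Equiv.Perm (B → ℤ)) (h : ∀ g : W, φ g = 1 → g = 1) :
    Function.Injective φ := (injective_iff_map_eq_one φ).mpr h

end General

section Mat
variable {n : ℕ}

theorem pow_apply_of_mulVec (f : Equiv.Perm (Fin n → ℤ)) (C : Matrix (Fin n) (Fin n) ℤ)
    (h : ∀ v, f v = C.mulVec v) (k : ℕ) : ∀ v, (f ^ k) v = (C ^ k).mulVec v := by
  induction k with
  | zero => intro v; simp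
  | succ k ih =>
    intro v
    rw [pow_succ, Equiv.Perm.mul_apply, ih, h, Matrix.mulVec_mulVec, pow_succ]

theorem orderOf_eq_of_mulVec (f : Equiv.Perm (Fin n → ℤ)) (C : Matrix (Fin n) (Fin n) ℤ)
    (h : ∀ v, f v = C.mulVec v) : orderOf f = orderOf C := by
  rw [orderOf_eq_orderOf_iff]
  intro k
  constructor
  · intro hk
    ext i j
    have := pow_apply_of_mulVec f C h k (Pi.single j 1)
    rw [hk, Equiv.Perm.one_apply] at this
    have h2 := congrFun this i
    rw [Matrix.mulVec_single_one] at h2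
    simp only [Matrix.col_apply] at h2
    rw [← h2, Matrix.one_apply, Pi.single_apply]
  · intro hk
    ext v : 1
    rw [pow_apply_of_mulVec f C h k v, hk, Matrix.one_mulVec, Equiv.Perm.one_apply]

end Mat

end Cfsg.Agent.Lib.Helper25.Cox
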