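import Mathlib
import Cfsg.Agent.Lib.Helper25.CoxeterOrd
import Cfsg.Agent.Lib.Helper25.CoxB2

set_option autoImplicit false
set_option maxRecDepth 100000

namespace Cfsg.Agent.Lib.Helper25.Cox.B2

open Cfsg.Agent.Lib.Helper25.Cox

theorem ker1 : ∀ g ∈ par cs K1, φ g p1 = p1 → g ∈ par cs K0 :=
  link_ker cs φ p1 K0 K1 2 word1 tbl1 (by decide) (by decide) htbl1
    (fix_of_refl A cs hA φ hφ K0 p1 (by decide))
    (hdist_of_keys cs φ p1 word1 2 key keys1 (by decide) (by decide) hkey1)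
theorem ker2 : ∀ g ∈ par cs K2, φ g p2 = p2 → g ∈ par cs K1 :=
  link_ker cs φ p2 K1 K2 4 word2 tbl2 (by decide) (by decide) htbl2
    (fix_of_refl A cs hA φ hφ K1 p2 (by decide))
    (hdist_of_keys cs φ p2 word2 4 key keys2 (by decide) (by decide) hkey2)

theorem ker_trivial : ∀ g : Mx.Group, φ g = 1 → g = 1 := by
  intro g hg
  have hp : ∀ v, φ g v = v := fun v => by rw [hg]; rfl
  have h2 : g ∈ par cs K2 := by rw [par_top cs (by decide)]; trivial
  have h1 := ker2 g h2 (hp _)
  have h0 := ker1 g h1 (hp _)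
  rw [show K0 = [] from rfl, par_nil, Subgroup.mem_bot] at h0
  exact h0

theorem φ_injective : Function.Injective φ := (injective_iff_map_eq_one φ).mpr ker_trivial

def C : Matrix (Fin 2) (Fin 2) ℤ := !![-1, -2; 1, 1]
theorem hφ' (i : Fin 2) : φ (Mx.simple i) = reflEquiv A hA i := hφ i
theorem hC : ∀ v, φ (((List.finRange 2).map Mx.simple).prod) v = C.mulVec v := by
  intro v
  have hl : List.finRange 2 = [0, 1] := by decide
  rw [hl]
  simp only [List.map_cons, List.map_nil, List.prod_cons, List.prod_nil, mul_one, map_mul, Equiv.Perm.mul_apply, hφ', reflEquiv_apply]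
  funext j
  fin_cases j <;> simp [refl, A, C, Matrix.mulVec, dotProduct, Fin.sum_univ_succ] <;> ring
def P1 : Matrix (Fin 2) (Fin 2) ℤ := !![-1, -2; 1, 1]
theorem Cpow1 : C ^ 1 = P1 := by rw [pow_one]; decide
def P2 : Matrix (Fin 2) (Fin 2) ℤ := !![-1, 0; 0, -1]
theorem Cpow2 : C ^ 2 = P2 := by rw [pow_succ, Cpow1]; decide
def P3 : Matrix (Fin 2) (Fin 2) ℤ := !![1, 2; -1, -1]
theorem Cpow3 : C ^ 3 = P3 := by rw [pow_succ, Cpow2]; decide
def P4 : Matrix (Fin 2) (Fin 2) ℤ := !![1, 0; 0, 1]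
theorem Cpow4 : C ^ 4 = P4 := by rw [pow_succ, Cpow3]; decide
theorem orderOf_C : orderOf C = 4 := by
  apply orderOf_eq_of_pow_and_pow_div_prime (by norm_num)
  · rw [Cpow4]; decide
  · intro p hp hdvd
    have hle : p ≤ 4 := Nat.le_of_dvd (by norm_num) hdvd
    interval_cases p
    · exact absurd hp (by decide)
    · exact absurd hp (by decide)
    · rw [show 4 / 2 = 2 from rfl, Cpow2]; decide
    · exact absurd hdvd (by decide)
    · exact absurd hp (by decide)
theorem coxeter_order : orderOf (((List.finRange 2).map Mx.simple).prod) = 4 := by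
  rw [← orderOf_injective φ φ_injective, orderOf_eq_of_mulVec _ C hC, orderOf_C]

end Cfsg.Agent.Lib.Helper25.Cox.B2
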