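import Mathlib
import Cfsg.Agent.Lib.Helper25.CoxeterOrd

set_option autoImplicit false

namespace Cfsg.Agent.Lib.Helper25.Cox

section Mat
variable {n : ℕ} (A : Matrix (Fin n) (Fin n) ℤ)

/-- The matrix of the reflection `refl A i`. -/
def reflMat (i : Fin n) : Matrix (Fin n) (Fin n) ℤ :=
  fun j k => (if j = k then 1 else 0) - (if k = i then A i j else 0)

theorem refl_eq_mulVec (i : Fin n) (v : Fin n → ℤ) : refl A i v = (reflMat A i).mulVec v := by
  funext j
  simp only [refl, reflMat, Matrix.mulVec, dotProduct, sub_mul, Finset.sum_sub_distrib, ite_mul,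
    one_mul, zero_mul, Finset.sum_ite_eq, Finset.sum_ite_eq', Finset.mem_univ, if_true]
  ring

theorem mat_eq_one_of_mulVec (C : Matrix (Fin n) (Fin n) ℤ) (h : ∀ v, C.mulVec v = v) : C = 1 := by
  ext i j
  have h2 := congrFun (h (Pi.single j 1)) i
  rw [Matrix.mulVec_single_one] at h2
  simp only [Matrix.col_apply] at h2
  rw [h2, Matrix.one_apply, Pi.single_apply]

theorem mat_eq_of_mulVec (C C' : Matrix (Fin n) (Fin n) ℤ) (h : ∀ v, C.mulVec v = C'.mulVec v) :
    C = C' := by
  ext i j
  have h2 := congrFun (h (Pi.single j 1)) i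
  rw [Matrix.mulVec_single_one, Matrix.mulVec_single_one] at h2
  simpa using h2

theorem isLiftableMat {M : CoxeterMatrix (Fin n)} (hA : ∀ i, A i i = 2) (hc : Compat M A) :
    M.IsLiftable (reflMat A) := by
  intro i j
  apply mat_eq_one_of_mulVec
  intro v
  have hf : ∀ v, (reflEquiv A hA i * reflEquiv A hA j) v = (reflMat A i * reflMat A j).mulVec v := by
    intro v
    rw [Equiv.Perm.mul_apply, reflEquiv_apply, reflEquiv_apply, refl_eq_mulVec, refl_eq_mulVec,
      Matrix.mulVec_mulVec]
  rw [← pow_apply_of_mulVec _ _ hf (M i j) v, isLiftable A hA hc i j, Equiv.Perm.one_apply]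

variable {M : CoxeterMatrix (Fin n)} {W : Type*} [Group W] (cs : CoxeterSystem M W)

/-- The matrix representation of the Coxeter group by reflections. -/
noncomputable def matHom (hA : ∀ i, A i i = 2) (hc : Compat M A) : W →* Matrix (Fin n) (Fin n) ℤ :=
  cs.lift ⟨reflMat A, isLiftableMat A hA hc⟩

theorem matHom_simple (hA : ∀ i, A i i = 2) (hc : Compat M A) (i : Fin n) :
    matHom A cs hA hc (cs.simple i) = reflMat A i :=
  cs.lift_apply_simple (isLiftableMat A hA hc) i

theorem actHom_eq_mulVec (hA : ∀ i, A i i = 2) (hc : Compat M A) (g : W) (v : Fin n → ℤ) :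
    actHom A cs hA hc g v = (matHom A cs hA hc g).mulVec v := by
  induction g using cs.simple_induction_left generalizing v with
  | one => simp
  | mul_simple_left w i ih =>
    rw [map_mul, map_mul, Equiv.Perm.mul_apply, ih, actHom_simple, reflEquiv_apply, refl_eq_mulVec,
      matHom_simple, Matrix.mulVec_mulVec]

theorem matHom_injective (hA : ∀ i, A i i = 2) (hc : Compat M A)
    (hinj : Function.Injective (actHom A cs hA hc)) : Function.Injective (matHom A cs hA hc) := by
  intro g g' h
  apply hinj
  ext v : 1
  rw [actHom_eq_mulVec, actHom_eq_mulVec, h]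

/-- A matrix commuting with all the reflection matrices is diagonal, with equal diagonal entries
along the edges of the diagram. -/
theorem commute_reflMat (hA : ∀ i, A i i = 2) (Z : Matrix (Fin n) (Fin n) ℤ)
    (hZ : ∀ i, Z * reflMat A i = reflMat A i * Z) :
    (∀ i k, k ≠ i → Z i k = 0) ∧ (∀ i j, A i j ≠ 0 → Z j j = Z i i) := by
  have key : ∀ i j k, (if k = i then ∑ l, Z j l * A i l else 0) = A i j * Z i k := by
    intro i j k
    have h := congrFun (congrFun (hZ i) j) k
    simp only [Matrix.mul_apply, reflMat, mul_sub, sub_mul, Finset.sum_sub_distrib, mul_ite, ite_mul,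
      mul_one, mul_zero, one_mul, zero_mul, Finset.sum_ite_eq, Finset.sum_ite_eq', Finset.mem_univ,
      if_true] at h
    by_cases hk : k = i
    · subst hk
      simp only [if_true] at h ⊢
      linarith
    · simp only [hk, if_false] at h ⊢
      simp only [Finset.sum_const_zero] at h
      linarith
  have hdiag : ∀ i k, k ≠ i → Z i k = 0 := by
    intro i k hk
    have h := key i i k
    rw [if_neg hk, hA i] at h
    omega
  refine ⟨hdiag, ?_⟩
  intro i j hij
  have h := key i j i
  rw [if_pos rfl] at h
  have e : ∑ l, Z j l * A i l = Z j j * A i j := by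
    rw [Finset.sum_eq_single j]
    · intro b _ hb
      rw [hdiag j b hb, zero_mul]
    · intro hj; exact absurd (Finset.mem_univ j) hj
  rw [e] at h
  have : (Z j j - Z i i) * A i j = 0 := by ring_nf; ring_nf at h; linarith
  rcases mul_eq_zero.mp this with h1 | h1
  · omega
  · exact absurd h1 hij

end Mat

end Cfsg.Agent.Lib.Helper25.Cox

namespace Cfsg.Agent.Lib.Helper25.Cox

section Center
variable {n : ℕ} (A : Matrix (Fin n) (Fin n) ℤ)

/-- A matrix commuting with all reflection matrices of a connected diagram is scalar. -/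
theorem scalar_of_connected (hA : ∀ i, A i i = 2) (Z : Matrix (Fin n) (Fin n) ℤ)
    (hZ : ∀ i, Z * reflMat A i = reflMat A i * Z) (r : Fin n)
    (par : Fin n → Fin n) (hpar : ∀ i, par i = i ∨ A i (par i) ≠ 0)
    (hreach : ∀ i, par^[n] i = r) : Z = (Z r r) • (1 : Matrix (Fin n) (Fin n) ℤ) := by
  obtain ⟨hdiag, hedge⟩ := commute_reflMat A hA Z hZ
  have hstep : ∀ i, Z i i = Z (par i) (par i) := by
    intro i
    rcases hpar i with h | h
    · rw [h]
    · exact (hedge i (par i) h).symm
  have hiter : ∀ k i, Z i i = Z (par^[k] i) (par^[k] i) := by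
    intro k
    induction k with
    | zero => intro i; rfl
    | succ k ih =>
      intro i
      rw [Function.iterate_succ_apply', ← hstep, ← ih]
  ext i j
  rw [Matrix.smul_apply, Matrix.one_apply, smul_eq_mul]
  by_cases hij : i = j
  · subst hij
    rw [if_pos rfl, mul_one, hiter n i, hreach i]
  · rw [if_neg hij, mul_zero]
    exact hdiag i j (fun h => hij h.symm)

variable {M : CoxeterMatrix (Fin n)} {W : Type*} [Group W] (cs : CoxeterSystem M W)

/-- The image of a central element under the reflection representation is `±1`. -/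
theorem center_cases (hA : ∀ i, A i i = 2) (hc : Compat M A) (r : Fin n)
    (par : Fin n → Fin n) (hpar : ∀ i, par i = i ∨ A i (par i) ≠ 0)
    (hreach : ∀ i, par^[n] i = r) (z : W) (hz : z ∈ Subgroup.center W) :
    matHom A cs hA hc z = 1 ∨ matHom A cs hA hc z = -1 := by
  have hcomm : ∀ (y : W), y ∈ Subgroup.center W →
      ∀ i, matHom A cs hA hc y * reflMat A i = reflMat A i * matHom A cs hA hc y := by
    intro y hy i
    rw [← matHom_simple A cs hA hc i, ← map_mul, ← map_mul]
    congr 1
    exact (Subgroup.mem_center_iff.mp hy (cs.simple i)).symm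
  have h1 := scalar_of_connected A hA _ (hcomm z hz) r par hpar hreach
  have h2 := scalar_of_connected A hA _ (hcomm z⁻¹ (Subgroup.inv_mem _ hz)) r par hpar hreach
  have h3 : matHom A cs hA hc z * matHom A cs hA hc z⁻¹ = 1 := by
    rw [← map_mul, mul_inv_cancel, map_one]
  set d := matHom A cs hA hc z r r with hd
  set d' := matHom A cs hA hc z⁻¹ r r with hd'
  have h4 : d * d' = 1 := by
    rw [h1, h2, Matrix.smul_mul, Matrix.one_mul, smul_smul] at h3
    have := congrFun (congrFun h3 r) r
    simpa [Matrix.smul_apply, Matrix.one_apply] using this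
  rcases Int.eq_one_or_neg_one_of_mul_eq_one h4 with h | h
  · left; rw [h1, h, one_smul]
  · right; rw [h1, h]; simp

end Center

end Cfsg.Agent.Lib.Helper25.Cox
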