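import Mathlib
import Cfsg.Agent.Lib.Helper25.CoxB2Mat

set_option autoImplicit false
set_option maxRecDepth 100000

namespace Cfsg.Agent.Lib.Helper25.Cox.B2

open Cfsg.Agent.Lib.Helper25.Cox

noncomputable def Tset : Finset Mx.Group := {Mx.simple 0}
theorem Tset_card : Tset.card = 1 := Finset.card_singleton _
theorem mem_Tset {t : Mx.Group} : t ∈ Tset ↔ t = Mx.simple 0 := Finset.mem_singleton
theorem Tset_refl : ∀ t ∈ Tset, ∃ (g : Mx.Group) (i : Fin 2), t = g * Mx.simple i * g⁻¹ := by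
  intro t ht
  rw [mem_Tset] at ht
  exact ⟨1, 0, by rw [ht]; simp⟩
noncomputable def Hgen : Subgroup Mx.Group := Subgroup.closure (({cox} : Set Mx.Group) ∪ ↑Tset)
theorem cox_mem : cox ∈ Hgen := Subgroup.subset_closure (Or.inl rfl)
theorem t0_mem : Mx.simple 0 ∈ Hgen := Subgroup.subset_closure (Or.inr (Finset.mem_coe.mpr (mem_Tset.mpr (by simp))))
def L0 : Matrix (Fin 2) (Fin 2) ℤ := !![-1, 0; 1, 1]
noncomputable def e0 : Mx.Group := Mx.simple 0
theorem m0 : e0 ∈ Hgen := t0_mem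
theorem ψe0 : ψ e0 = L0 := by rw [e0, hψ]; decide
theorem simple0_mem : Mx.simple 0 ∈ Hgen := by
  have h : Mx.simple 0 = e0 := ψ_injective (by rw [hψ, ψe0]; decide)
  rw [h]; exact m0
def L1 : Matrix (Fin 2) (Fin 2) ℤ := !![-1, -2; 1, 1]
noncomputable def e1 : Mx.Group := cox ^ 1
theorem m1 : e1 ∈ Hgen := Subgroup.pow_mem _ cox_mem _
theorem ψe1 : ψ e1 = L1 := by rw [e1, map_pow, ψ_cox, Cpow1]; decide
def L2 : Matrix (Fin 2) (Fin 2) ℤ := !![1, 2; 0, -1]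
noncomputable def e2 : Mx.Group := e0 * e1
theorem m2 : e2 ∈ Hgen := Subgroup.mul_mem _ m0 m1
theorem ψe2 : ψ e2 = L2 := by rw [e2, map_mul, ψe0, ψe1]; decide
theorem simple1_mem : Mx.simple 1 ∈ Hgen := by
  have h : Mx.simple 1 = e2 := ψ_injective (by rw [hψ, ψe2]; decide)
  rw [h]; exact m2
theorem Hgen_top : Hgen = ⊤ := by
  rw [eq_top_iff, ← cs.subgroup_closure_range_simple, Subgroup.closure_le]
  rintro _ ⟨i, rfl⟩
  fin_cases i
  exacts [simple0_mem, simple1_mem]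
theorem gen_result : ∃ T : Finset Mx.Group, T.card = 1 ∧ (∀ t ∈ T, ∃ (g : Mx.Group) (i : Fin 2), t = g * Mx.simple i * g⁻¹) ∧
    Subgroup.closure (({((List.finRange 2).map Mx.simple).prod} : Set Mx.Group) ∪ ↑T) = ⊤ :=
  ⟨Tset, Tset_card, Tset_refl, Hgen_top⟩

end Cfsg.Agent.Lib.Helper25.Cox.B2
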