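import Mathlib
import Cfsg.Agent.Lib.Helper25.CoxeterAct
import Cfsg.Prelude.Def_ChevStructure

set_option autoImplicit false
set_option maxRecDepth 100000
set_option linter.unusedVariables false

namespace Cfsg.Agent.Lib.Helper25.Cox.D4

open Cfsg.Agent.Lib.Helper25.Cox

abbrev Mx : CoxeterMatrix (Fin 4) := Cfsg.Lie.coxeterD4
abbrev cs : CoxeterSystem Mx Mx.Group := Mx.toCoxeterSystem
def A : Matrix (Fin 4) (Fin 4) ℤ := !![2, -1, 0, 0; -1, 2, -1, -1; 0, -1, 2, 0; 0, -1, 0, 2]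
theorem hA : ∀ i, A i i = 2 := by decide
theorem hcompat : Compat Mx A := compat_of_B (by decide)
noncomputable def φ : Mx.Group →* Equiv.Perm (Fin 4 → ℤ) := actHom A cs hA hcompat
theorem hφ (i : Fin 4) : φ (cs.simple i) = reflEquiv A hA i := actHom_simple A cs hA hcompat i
def key (v : Fin 4 → ℤ) : ℤ := v 0 + 100 * v 1 + 10000 * v 2 + 1000000 * v 3

def K0 : List (Fin 4) := []
-- link 1: K = [0], N = 2
def K1 : List (Fin 4) := [0]
def word1 : ℕ → List (Fin 4) := fun x => ([[], [0]] : List (List (Fin 4))).getD x []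
def tbl1 : ℕ → Fin 4 → ℕ := fun x j => (([[1, 0, 0, 0], [0, 0, 0, 0]] : List (List ℕ)).getD x []).getD j.val 0
def p1 : Fin 4 → ℤ := ![1, 0, 0, 0]
def keys1 : List ℤ := [1, 99]
theorem v1_0_0 : V cs (par cs K0) (word1 0) 0 (word1 1) := V_tree cs _ (by decide)
theorem v1_1_0 : V cs (par cs K0) (word1 1) 0 (word1 0) := V_symm cs v1_0_0
theorem row1_0 : ∀ j ∈ K1, tbl1 0 j < 2 ∧ V cs (par cs K0) (word1 0) j (word1 (tbl1 0 j)) := by
  intro j hj
  simp only [K1, List.mem_cons, List.not_mem_nil, or_false] at hj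
  subst hj
  exact ⟨by decide, v1_0_0⟩
theorem row1_1 : ∀ j ∈ K1, tbl1 1 j < 2 ∧ V cs (par cs K0) (word1 1) j (word1 (tbl1 1 j)) := by
  intro j hj
  simp only [K1, List.mem_cons, List.not_mem_nil, or_false] at hj
  subst hj
  exact ⟨by decide, v1_1_0⟩
theorem htbl1 : ∀ x < 2, ∀ j ∈ K1, tbl1 x j < 2 ∧ V cs (par cs K0) (word1 x) j (word1 (tbl1 x j)) := by
  intro x hx
  interval_cases x
  exacts [row1_0, row1_1]
theorem pt1_0 : φ (cs.wordProd (word1 0)) p1 = ![1, 0, 0, 0] := pt_base cs φ (by decide) _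
theorem pt1_1 : φ (cs.wordProd (word1 1)) p1 = ![-1, 1, 0, 0] := pt_step A cs hA φ hφ (j := 0) (w := word1 0) (by decide) pt1_0 (by decide)
theorem key1_0 : key (φ (cs.wordProd (word1 0)) p1) = keys1.getD 0 0 := by rw [pt1_0]; decide
theorem key1_1 : key (φ (cs.wordProd (word1 1)) p1) = keys1.getD 1 0 := by rw [pt1_1]; decide
theorem hkey1 : ∀ x < 2, key (φ (cs.wordProd (word1 x)) p1) = keys1.getD x 0 := by
  intro x hx
  interval_cases x
  exacts [key1_0, key1_1]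
theorem card1 : Nat.card (par cs K1) = 2 * Nat.card (par cs K0) :=
  link_card cs φ p1 K0 K1 2 word1 tbl1 (by decide) (by decide) (by decide) (by decide) htbl1
    (fix_of_refl A cs hA φ hφ K0 p1 (by decide))
    (hdist_of_keys cs φ p1 word1 2 key keys1 (by decide) (by decide) hkey1)

-- link 2: K = [0, 1], N = 3
def K2 : List (Fin 4) := [0, 1]
def word2 : ℕ → List (Fin 4) := fun x => ([[], [1], [0, 1]] : List (List (Fin 4))).getD x []
def tbl2 : ℕ → Fin 4 → ℕ := fun x j => (([[0, 1, 0, 0], [2, 0, 0, 0], [1, 2, 0, 0]] : List (List ℕ)).getD x []).getD j.val 0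
def p2 : Fin 4 → ℤ := ![0, 1, 0, 0]
def keys2 : List ℤ := [100, 1009901, 1009999]
theorem v2_0_1 : V cs (par cs K1) (word2 0) 1 (word2 1) := V_tree cs _ (by decide)
theorem v2_1_1 : V cs (par cs K1) (word2 1) 1 (word2 0) := V_symm cs v2_0_1
theorem v2_1_0 : V cs (par cs K1) (word2 1) 0 (word2 2) := V_tree cs _ (by decide)
theorem v2_2_0 : V cs (par cs K1) (word2 2) 0 (word2 1) := V_symm cs v2_1_0
theorem v2_0_0 : V cs (par cs K1) (word2 0) 0 (word2 0) := V_base cs (by decide) (simple_mem_par cs (by decide))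
theorem v2_2_1 : V cs (par cs K1) (word2 2) 1 (word2 2) := V_ded3 cs (a := 1) (b := 0) (by decide) v2_2_0 v2_1_1 v2_0_0 v2_0_1 v2_1_0
theorem row2_0 : ∀ j ∈ K2, tbl2 0 j < 3 ∧ V cs (par cs K1) (word2 0) j (word2 (tbl2 0 j)) := by
  intro j hj
  simp only [K2, List.mem_cons, List.not_mem_nil, or_false] at hj
  rcases hj with rfl | rfl
  exacts [⟨by decide, v2_0_0⟩, ⟨by decide, v2_0_1⟩]
theorem row2_1 : ∀ j ∈ K2, tbl2 1 j < 3 ∧ V cs (par cs K1) (word2 1) j (word2 (tbl2 1 j)) := by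
  intro j hj
  simp only [K2, List.mem_cons, List.not_mem_nil, or_false] at hj
  rcases hj with rfl | rfl
  exacts [⟨by decide, v2_1_0⟩, ⟨by decide, v2_1_1⟩]
theorem row2_2 : ∀ j ∈ K2, tbl2 2 j < 3 ∧ V cs (par cs K1) (word2 2) j (word2 (tbl2 2 j)) := by
  intro j hj
  simp only [K2, List.mem_cons, List.not_mem_nil, or_false] at hj
  rcases hj with rfl | rfl
  exacts [⟨by decide, v2_2_0⟩, ⟨by decide, v2_2_1⟩]
theorem htbl2 : ∀ x < 3, ∀ j ∈ K2, tbl2 x j < 3 ∧ V cs (par cs K1) (word2 x) j (word2 (tbl2 x j)) := by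
  intro x hx
  interval_cases x
  exacts [row2_0, row2_1, row2_2]
theorem pt2_0 : φ (cs.wordProd (word2 0)) p2 = ![0, 1, 0, 0] := pt_base cs φ (by decide) _
theorem pt2_1 : φ (cs.wordProd (word2 1)) p2 = ![1, -1, 1, 1] := pt_step A cs hA φ hφ (j := 1) (w := word2 0) (by decide) pt2_0 (by decide)
theorem pt2_2 : φ (cs.wordProd (word2 2)) p2 = ![-1, 0, 1, 1] := pt_step A cs hA φ hφ (j := 0) (w := word2 1) (by decide) pt2_1 (by decide)
theorem key2_0 : key (φ (cs.wordProd (word2 0)) p2) = keys2.getD 0 0 := by rw [pt2_0]; decide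
theorem key2_1 : key (φ (cs.wordProd (word2 1)) p2) = keys2.getD 1 0 := by rw [pt2_1]; decide
theorem key2_2 : key (φ (cs.wordProd (word2 2)) p2) = keys2.getD 2 0 := by rw [pt2_2]; decide
theorem hkey2 : ∀ x < 3, key (φ (cs.wordProd (word2 x)) p2) = keys2.getD x 0 := by
  intro x hx
  interval_cases x
  exacts [key2_0, key2_1, key2_2]
theorem card2 : Nat.card (par cs K2) = 3 * Nat.card (par cs K1) :=
  link_card cs φ p2 K1 K2 3 word2 tbl2 (by decide) (by decide) (by decide) (by decide) htbl2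
    (fix_of_refl A cs hA φ hφ K1 p2 (by decide))
    (hdist_of_keys cs φ p2 word2 3 key keys2 (by decide) (by decide) hkey2)

-- link 3: K = [0, 1, 2], N = 4
def K3 : List (Fin 4) := [0, 1, 2]
def word3 : ℕ → List (Fin 4) := fun x => ([[], [2], [1, 2], [0, 1, 2]] : List (List (Fin 4))).getD x []
def tbl3 : ℕ → Fin 4 → ℕ := fun x j => (([[0, 0, 1, 0], [1, 2, 0, 0], [3, 1, 2, 0], [2, 3, 3, 0]] : List (List ℕ)).getD x []).getD j.val 0
def p3 : Fin 4 → ℤ := ![0, 0, 1, 0]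
def keys3 : List ℤ := [10000, -9900, 999901, 999999]
theorem v3_0_2 : V cs (par cs K2) (word3 0) 2 (word3 1) := V_tree cs _ (by decide)
theorem v3_1_2 : V cs (par cs K2) (word3 1) 2 (word3 0) := V_symm cs v3_0_2
theorem v3_1_1 : V cs (par cs K2) (word3 1) 1 (word3 2) := V_tree cs _ (by decide)
theorem v3_2_1 : V cs (par cs K2) (word3 2) 1 (word3 1) := V_symm cs v3_1_1
theorem v3_2_0 : V cs (par cs K2) (word3 2) 0 (word3 3) := V_tree cs _ (by decide)
theorem v3_3_0 : V cs (par cs K2) (word3 3) 0 (word3 2) := V_symm cs v3_2_0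
theorem v3_0_0 : V cs (par cs K2) (word3 0) 0 (word3 0) := V_base cs (by decide) (simple_mem_par cs (by decide))
theorem v3_0_1 : V cs (par cs K2) (word3 0) 1 (word3 0) := V_base cs (by decide) (simple_mem_par cs (by decide))
theorem v3_1_0 : V cs (par cs K2) (word3 1) 0 (word3 1) := V_ded2 cs (a := 0) (b := 2) (by decide) v3_1_2 v3_0_0 v3_0_2
theorem v3_3_1 : V cs (par cs K2) (word3 3) 1 (word3 3) := V_ded3 cs (a := 1) (b := 0) (by decide) v3_3_0 v3_2_1 v3_1_0 v3_1_1 v3_2_0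
theorem v3_2_2 : V cs (par cs K2) (word3 2) 2 (word3 2) := V_ded3 cs (a := 2) (b := 1) (by decide) v3_2_1 v3_1_2 v3_0_1 v3_0_2 v3_1_1
theorem v3_3_2 : V cs (par cs K2) (word3 3) 2 (word3 3) := V_ded2 cs (a := 2) (b := 0) (by decide) v3_3_0 v3_2_2 v3_2_0
theorem row3_0 : ∀ j ∈ K3, tbl3 0 j < 4 ∧ V cs (par cs K2) (word3 0) j (word3 (tbl3 0 j)) := by
  intro j hj
  simp only [K3, List.mem_cons, List.not_mem_nil, or_false] at hj
  rcases hj with rfl | rfl | rfl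
  exacts [⟨by decide, v3_0_0⟩, ⟨by decide, v3_0_1⟩, ⟨by decide, v3_0_2⟩]
theorem row3_1 : ∀ j ∈ K3, tbl3 1 j < 4 ∧ V cs (par cs K2) (word3 1) j (word3 (tbl3 1 j)) := by
  intro j hj
  simp only [K3, List.mem_cons, List.not_mem_nil, or_false] at hj
  rcases hj with rfl | rfl | rfl
  exacts [⟨by decide, v3_1_0⟩, ⟨by decide, v3_1_1⟩, ⟨by decide, v3_1_2⟩]
theorem row3_2 : ∀ j ∈ K3, tbl3 2 j < 4 ∧ V cs (par cs K2) (word3 2) j (word3 (tbl3 2 j)) := by
  intro j hj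
  simp only [K3, List.mem_cons, List.not_mem_nil, or_false] at hj
  rcases hj with rfl | rfl | rfl
  exacts [⟨by decide, v3_2_0⟩, ⟨by decide, v3_2_1⟩, ⟨by decide, v3_2_2⟩]
theorem row3_3 : ∀ j ∈ K3, tbl3 3 j < 4 ∧ V cs (par cs K2) (word3 3) j (word3 (tbl3 3 j)) := by
  intro j hj
  simp only [K3, List.mem_cons, List.not_mem_nil, or_false] at hj
  rcases hj with rfl | rfl | rfl
  exacts [⟨by decide, v3_3_0⟩, ⟨by decide, v3_3_1⟩, ⟨by decide, v3_3_2⟩]
theorem htbl3 : ∀ x < 4, ∀ j ∈ K3, tbl3 x j < 4 ∧ V cs (par cs K2) (word3 x) j (word3 (tbl3 x j)) := by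
  intro x hx
  interval_cases x
  exacts [row3_0, row3_1, row3_2, row3_3]
theorem pt3_0 : φ (cs.wordProd (word3 0)) p3 = ![0, 0, 1, 0] := pt_base cs φ (by decide) _
theorem pt3_1 : φ (cs.wordProd (word3 1)) p3 = ![0, 1, -1, 0] := pt_step A cs hA φ hφ (j := 2) (w := word3 0) (by decide) pt3_0 (by decide)
theorem pt3_2 : φ (cs.wordProd (word3 2)) p3 = ![1, -1, 0, 1] := pt_step A cs hA φ hφ (j := 1) (w := word3 1) (by decide) pt3_1 (by decide)
theorem pt3_3 : φ (cs.wordProd (word3 3)) p3 = ![-1, 0, 0, 1] := pt_step A cs hA φ hφ (j := 0) (w := word3 2) (by decide) pt3_2 (by decide)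
theorem key3_0 : key (φ (cs.wordProd (word3 0)) p3) = keys3.getD 0 0 := by rw [pt3_0]; decide
theorem key3_1 : key (φ (cs.wordProd (word3 1)) p3) = keys3.getD 1 0 := by rw [pt3_1]; decide
theorem key3_2 : key (φ (cs.wordProd (word3 2)) p3) = keys3.getD 2 0 := by rw [pt3_2]; decide
theorem key3_3 : key (φ (cs.wordProd (word3 3)) p3) = keys3.getD 3 0 := by rw [pt3_3]; decide
theorem hkey3 : ∀ x < 4, key (φ (cs.wordProd (word3 x)) p3) = keys3.getD x 0 := by
  intro x hx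
  interval_cases x
  exacts [key3_0, key3_1, key3_2, key3_3]
theorem card3 : Nat.card (par cs K3) = 4 * Nat.card (par cs K2) :=
  link_card cs φ p3 K2 K3 4 word3 tbl3 (by decide) (by decide) (by decide) (by decide) htbl3
    (fix_of_refl A cs hA φ hφ K2 p3 (by decide))
    (hdist_of_keys cs φ p3 word3 4 key keys3 (by decide) (by decide) hkey3)

-- link 4: K = [0, 1, 2, 3], N = 8
def K4 : List (Fin 4) := [0, 1, 2, 3]
def word4 : ℕ → List (Fin 4) := fun x => ([[], [3], [1, 3], [0, 1, 3], [2, 1, 3], [2, 0, 1, 3], [1, 2, 0, 1, 3], [3, 1, 2, 0, 1, 3]] : List (List (Fin 4))).getD x []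
def tbl4 : ℕ → Fin 4 → ℕ := fun x j => (([[0, 0, 0, 1], [1, 2, 1, 0], [3, 1, 4, 2], [2, 3, 5, 3], [5, 4, 2, 4], [4, 6, 3, 5], [6, 5, 6, 7], [7, 7, 7, 6]] : List (List ℕ)).getD x []).getD j.val 0
def p4 : Fin 4 → ℤ := ![0, 0, 0, 1]
def keys4 : List ℤ := [1000000, -999900, 9901, 9999, -9999, -9901, 999900, -1000000]
theorem v4_0_3 : V cs (par cs K3) (word4 0) 3 (word4 1) := V_tree cs _ (by decide)
theorem v4_1_3 : V cs (par cs K3) (word4 1) 3 (word4 0) := V_symm cs v4_0_3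
theorem v4_1_1 : V cs (par cs K3) (word4 1) 1 (word4 2) := V_tree cs _ (by decide)
theorem v4_2_1 : V cs (par cs K3) (word4 2) 1 (word4 1) := V_symm cs v4_1_1
theorem v4_2_0 : V cs (par cs K3) (word4 2) 0 (word4 3) := V_tree cs _ (by decide)
theorem v4_3_0 : V cs (par cs K3) (word4 3) 0 (word4 2) := V_symm cs v4_2_0
theorem v4_2_2 : V cs (par cs K3) (word4 2) 2 (word4 4) := V_tree cs _ (by decide)
theorem v4_4_2 : V cs (par cs K3) (word4 4) 2 (word4 2) := V_symm cs v4_2_2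
theorem v4_3_2 : V cs (par cs K3) (word4 3) 2 (word4 5) := V_tree cs _ (by decide)
theorem v4_5_2 : V cs (par cs K3) (word4 5) 2 (word4 3) := V_symm cs v4_3_2
theorem v4_5_1 : V cs (par cs K3) (word4 5) 1 (word4 6) := V_tree cs _ (by decide)
theorem v4_6_1 : V cs (par cs K3) (word4 6) 1 (word4 5) := V_symm cs v4_5_1
theorem v4_6_3 : V cs (par cs K3) (word4 6) 3 (word4 7) := V_tree cs _ (by decide)
theorem v4_7_3 : V cs (par cs K3) (word4 7) 3 (word4 6) := V_symm cs v4_6_3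
theorem v4_0_0 : V cs (par cs K3) (word4 0) 0 (word4 0) := V_base cs (by decide) (simple_mem_par cs (by decide))
theorem v4_0_1 : V cs (par cs K3) (word4 0) 1 (word4 0) := V_base cs (by decide) (simple_mem_par cs (by decide))
theorem v4_0_2 : V cs (par cs K3) (word4 0) 2 (word4 0) := V_base cs (by decide) (simple_mem_par cs (by decide))
theorem v4_5_0 : V cs (par cs K3) (word4 5) 0 (word4 4) := V_ded2 cs (a := 0) (b := 2) (by decide) v4_4_2 v4_2_0 v4_3_2
theorem v4_4_0 : V cs (par cs K3) (word4 4) 0 (word4 5) := V_symm cs v4_5_0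
theorem v4_1_0 : V cs (par cs K3) (word4 1) 0 (word4 1) := V_ded2 cs (a := 0) (b := 3) (by decide) v4_1_3 v4_0_0 v4_0_3
theorem v4_3_1 : V cs (par cs K3) (word4 3) 1 (word4 3) := V_ded3 cs (a := 1) (b := 0) (by decide) v4_3_0 v4_2_1 v4_1_0 v4_1_1 v4_2_0
theorem v4_6_2 : V cs (par cs K3) (word4 6) 2 (word4 6) := V_ded3 cs (a := 2) (b := 1) (by decide) v4_6_1 v4_5_2 v4_3_1 v4_3_2 v4_5_1
theorem v4_1_2 : V cs (par cs K3) (word4 1) 2 (word4 1) := V_ded2 cs (a := 2) (b := 3) (by decide) v4_1_3 v4_0_2 v4_0_3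
theorem v4_7_2 : V cs (par cs K3) (word4 7) 2 (word4 7) := V_ded2 cs (a := 2) (b := 3) (by decide) v4_7_3 v4_6_2 v4_6_3
theorem v4_2_3 : V cs (par cs K3) (word4 2) 3 (word4 2) := V_ded3 cs (a := 3) (b := 1) (by decide) v4_2_1 v4_1_3 v4_0_1 v4_0_3 v4_1_1
theorem v4_4_3 : V cs (par cs K3) (word4 4) 3 (word4 4) := V_ded2 cs (a := 3) (b := 2) (by decide) v4_4_2 v4_2_3 v4_2_2
theorem v4_4_1 : V cs (par cs K3) (word4 4) 1 (word4 4) := V_ded3 cs (a := 1) (b := 2) (by decide) v4_4_2 v4_2_1 v4_1_2 v4_1_1 v4_2_2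
theorem v4_3_3 : V cs (par cs K3) (word4 3) 3 (word4 3) := V_ded2 cs (a := 3) (b := 0) (by decide) v4_3_0 v4_2_3 v4_2_0
theorem v4_5_3 : V cs (par cs K3) (word4 5) 3 (word4 5) := V_ded2 cs (a := 3) (b := 0) (by decide) v4_5_0 v4_4_3 v4_4_0
theorem v4_6_0 : V cs (par cs K3) (word4 6) 0 (word4 6) := V_ded3 cs (a := 0) (b := 1) (by decide) v4_6_1 v4_5_0 v4_4_1 v4_4_0 v4_5_1
theorem v4_7_0 : V cs (par cs K3) (word4 7) 0 (word4 7) := V_ded2 cs (a := 0) (b := 3) (by decide) v4_7_3 v4_6_0 v4_6_3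
theorem v4_7_1 : V cs (par cs K3) (word4 7) 1 (word4 7) := V_ded3 cs (a := 1) (b := 3) (by decide) v4_7_3 v4_6_1 v4_5_3 v4_5_1 v4_6_3
theorem row4_0 : ∀ j ∈ K4, tbl4 0 j < 8 ∧ V cs (par cs K3) (word4 0) j (word4 (tbl4 0 j)) := by
  intro j hj
  simp only [K4, List.mem_cons, List.not_mem_nil, or_false] at hj
  rcases hj with rfl | rfl | rfl | rfl
  exacts [⟨by decide, v4_0_0⟩, ⟨by decide, v4_0_1⟩, ⟨by decide, v4_0_2⟩, ⟨by decide, v4_0_3⟩]
theorem row4_1 : ∀ j ∈ K4, tbl4 1 j < 8 ∧ V cs (par cs K3) (word4 1) j (word4 (tbl4 1 j)) := by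
  intro j hj
  simp only [K4, List.mem_cons, List.not_mem_nil, or_false] at hj
  rcases hj with rfl | rfl | rfl | rfl
  exacts [⟨by decide, v4_1_0⟩, ⟨by decide, v4_1_1⟩, ⟨by decide, v4_1_2⟩, ⟨by decide, v4_1_3⟩]
theorem row4_2 : ∀ j ∈ K4, tbl4 2 j < 8 ∧ V cs (par cs K3) (word4 2) j (word4 (tbl4 2 j)) := by
  intro j hj
  simp only [K4, List.mem_cons, List.not_mem_nil, or_false] at hj
  rcases hj with rfl | rfl | rfl | rfl
  exacts [⟨by decide, v4_2_0⟩, ⟨by decide, v4_2_1⟩, ⟨by decide, v4_2_2⟩, ⟨by decide, v4_2_3⟩]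
theorem row4_3 : ∀ j ∈ K4, tbl4 3 j < 8 ∧ V cs (par cs K3) (word4 3) j (word4 (tbl4 3 j)) := by
  intro j hj
  simp only [K4, List.mem_cons, List.not_mem_nil, or_false] at hj
  rcases hj with rfl | rfl | rfl | rfl
  exacts [⟨by decide, v4_3_0⟩, ⟨by decide, v4_3_1⟩, ⟨by decide, v4_3_2⟩, ⟨by decide, v4_3_3⟩]
theorem row4_4 : ∀ j ∈ K4, tbl4 4 j < 8 ∧ V cs (par cs K3) (word4 4) j (word4 (tbl4 4 j)) := by
  intro j hj
  simp only [K4, List.mem_cons, List.not_mem_nil, or_false] at hj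
  rcases hj with rfl | rfl | rfl | rfl
  exacts [⟨by decide, v4_4_0⟩, ⟨by decide, v4_4_1⟩, ⟨by decide, v4_4_2⟩, ⟨by decide, v4_4_3⟩]
theorem row4_5 : ∀ j ∈ K4, tbl4 5 j < 8 ∧ V cs (par cs K3) (word4 5) j (word4 (tbl4 5 j)) := by
  intro j hj
  simp only [K4, List.mem_cons, List.not_mem_nil, or_false] at hj
  rcases hj with rfl | rfl | rfl | rfl
  exacts [⟨by decide, v4_5_0⟩, ⟨by decide, v4_5_1⟩, ⟨by decide, v4_5_2⟩, ⟨by decide, v4_5_3⟩]
theorem row4_6 : ∀ j ∈ K4, tbl4 6 j < 8 ∧ V cs (par cs K3) (word4 6) j (word4 (tbl4 6 j)) := by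
  intro j hj
  simp only [K4, List.mem_cons, List.not_mem_nil, or_false] at hj
  rcases hj with rfl | rfl | rfl | rfl
  exacts [⟨by decide, v4_6_0⟩, ⟨by decide, v4_6_1⟩, ⟨by decide, v4_6_2⟩, ⟨by decide, v4_6_3⟩]
theorem row4_7 : ∀ j ∈ K4, tbl4 7 j < 8 ∧ V cs (par cs K3) (word4 7) j (word4 (tbl4 7 j)) := by
  intro j hj
  simp only [K4, List.mem_cons, List.not_mem_nil, or_false] at hj
  rcases hj with rfl | rfl | rfl | rfl
  exacts [⟨by decide, v4_7_0⟩, ⟨by decide, v4_7_1⟩, ⟨by decide, v4_7_2⟩, ⟨by decide, v4_7_3⟩]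
theorem htbl4 : ∀ x < 8, ∀ j ∈ K4, tbl4 x j < 8 ∧ V cs (par cs K3) (word4 x) j (word4 (tbl4 x j)) := by
  intro x hx
  interval_cases x
  exacts [row4_0, row4_1, row4_2, row4_3, row4_4, row4_5, row4_6, row4_7]
theorem pt4_0 : φ (cs.wordProd (word4 0)) p4 = ![0, 0, 0, 1] := pt_base cs φ (by decide) _
theorem pt4_1 : φ (cs.wordProd (word4 1)) p4 = ![0, 1, 0, -1] := pt_step A cs hA φ hφ (j := 3) (w := word4 0) (by decide) pt4_0 (by decide)
theorem pt4_2 : φ (cs.wordProd (word4 2)) p4 = ![1, -1, 1, 0] := pt_step A cs hA φ hφ (j := 1) (w := word4 1) (by decide) pt4_1 (by decide)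
theorem pt4_3 : φ (cs.wordProd (word4 3)) p4 = ![-1, 0, 1, 0] := pt_step A cs hA φ hφ (j := 0) (w := word4 2) (by decide) pt4_2 (by decide)
theorem pt4_4 : φ (cs.wordProd (word4 4)) p4 = ![1, 0, -1, 0] := pt_step A cs hA φ hφ (j := 2) (w := word4 2) (by decide) pt4_2 (by decide)
theorem pt4_5 : φ (cs.wordProd (word4 5)) p4 = ![-1, 1, -1, 0] := pt_step A cs hA φ hφ (j := 2) (w := word4 3) (by decide) pt4_3 (by decide)
theorem pt4_6 : φ (cs.wordProd (word4 6)) p4 = ![0, -1, 0, 1] := pt_step A cs hA φ hφ (j := 1) (w := word4 5) (by decide) pt4_5 (by decide)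
theorem pt4_7 : φ (cs.wordProd (word4 7)) p4 = ![0, 0, 0, -1] := pt_step A cs hA φ hφ (j := 3) (w := word4 6) (by decide) pt4_6 (by decide)
theorem key4_0 : key (φ (cs.wordProd (word4 0)) p4) = keys4.getD 0 0 := by rw [pt4_0]; decide
theorem key4_1 : key (φ (cs.wordProd (word4 1)) p4) = keys4.getD 1 0 := by rw [pt4_1]; decide
theorem key4_2 : key (φ (cs.wordProd (word4 2)) p4) = keys4.getD 2 0 := by rw [pt4_2]; decide
theorem key4_3 : key (φ (cs.wordProd (word4 3)) p4) = keys4.getD 3 0 := by rw [pt4_3]; decide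
theorem key4_4 : key (φ (cs.wordProd (word4 4)) p4) = keys4.getD 4 0 := by rw [pt4_4]; decide
theorem key4_5 : key (φ (cs.wordProd (word4 5)) p4) = keys4.getD 5 0 := by rw [pt4_5]; decide
theorem key4_6 : key (φ (cs.wordProd (word4 6)) p4) = keys4.getD 6 0 := by rw [pt4_6]; decide
theorem key4_7 : key (φ (cs.wordProd (word4 7)) p4) = keys4.getD 7 0 := by rw [pt4_7]; decide
theorem hkey4 : ∀ x < 8, key (φ (cs.wordProd (word4 x)) p4) = keys4.getD x 0 := by
  intro x hx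
  interval_cases x
  exacts [key4_0, key4_1, key4_2, key4_3, key4_4, key4_5, key4_6, key4_7]
theorem card4 : Nat.card (par cs K4) = 8 * Nat.card (par cs K3) :=
  link_card cs φ p4 K3 K4 8 word4 tbl4 (by decide) (by decide) (by decide) (by decide) htbl4
    (fix_of_refl A cs hA φ hφ K3 p4 (by decide))
    (hdist_of_keys cs φ p4 word4 8 key keys4 (by decide) (by decide) hkey4)

theorem card : Nat.card Mx.Group = 192 := by
  have h0 : Nat.card (par cs K0) = 1 := by rw [show K0 = [] from rfl, par_nil]; exact Subgroup.card_bot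
  have htop : par cs K4 = ⊤ := par_top cs (by decide)
  rw [← Subgroup.card_top (G := Mx.Group), ← htop, card4, card3, card2, card1, h0]

end Cfsg.Agent.Lib.Helper25.Cox.D4
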