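import Mathlib
import Cfsg.Agent.Lib.Helper25.CoxeterMat
import Cfsg.Agent.Lib.Helper25.CoxD4Ord

set_option autoImplicit false
set_option maxRecDepth 100000

namespace Cfsg.Agent.Lib.Helper25.Cox.D4

open Cfsg.Agent.Lib.Helper25.Cox

noncomputable def ψ : Mx.Group →* Matrix (Fin 4) (Fin 4) ℤ := matHom A cs hA hcompat
theorem hψ (i : Fin 4) : ψ (Mx.simple i) = reflMat A i := matHom_simple A cs hA hcompat i
theorem φ_eq (g : Mx.Group) (v : Fin 4 → ℤ) : φ g v = (ψ g).mulVec v := actHom_eq_mulVec A cs hA hcompat g v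
theorem ψ_injective : Function.Injective ψ := matHom_injective A cs hA hcompat φ_injective
abbrev cox : Mx.Group := ((List.finRange 4).map Mx.simple).prod
theorem ψ_cox : ψ cox = C := mat_eq_of_mulVec _ _ (fun v => by rw [← φ_eq, hC])
def parent : Fin 4 → Fin 4 := ![0, 0, 1, 1]
theorem center_pm (z : Mx.Group) (hz : z ∈ Subgroup.center Mx.Group) : ψ z = 1 ∨ ψ z = -1 :=
  center_cases A cs hA hcompat 0 parent (by decide) (by decide) z hz
theorem ψ_z0 : ψ (cox ^ 3) = -1 := by rw [map_pow, ψ_cox, Cpow3]; decide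
theorem z0_central : cox ^ 3 ∈ Subgroup.center Mx.Group := by
  rw [Subgroup.mem_center_iff]
  intro g
  apply ψ_injective
  rw [map_mul, map_mul, ψ_z0, mul_neg, neg_mul, mul_one, one_mul]
theorem center_eq : Subgroup.center Mx.Group = Subgroup.zpowers (cox ^ 3) := by
  apply le_antisymm
  · intro z hz
    rcases center_pm z hz with h | h
    · have : z = 1 := ψ_injective (by rw [h, map_one])
      rw [this]; exact Subgroup.one_mem _
    · have : z = cox ^ 3 := ψ_injective (by rw [h, ψ_z0])
      rw [this]; exact Subgroup.mem_zpowers _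
  · rw [Subgroup.zpowers_le]; exact z0_central
theorem center_card : Nat.card (Subgroup.center Mx.Group) = 2 := by
  rw [center_eq, Nat.card_zpowers]
  have : Fact (Nat.Prime 2) := ⟨Nat.prime_two⟩
  apply orderOf_eq_prime
  · apply ψ_injective
    rw [map_pow, ψ_z0, map_one, neg_one_sq]
  · intro h
    have h2 := congrArg ψ h
    rw [ψ_z0, map_one] at h2
    revert h2
    decide
theorem center_le : Subgroup.center Mx.Group ≤ Subgroup.zpowers cox := by
  rw [center_eq, Subgroup.zpowers_le]
  exact Subgroup.pow_mem _ (Subgroup.mem_zpowers _) _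

end Cfsg.Agent.Lib.Helper25.Cox.D4
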