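import Mathlib
import Cfsg.Agent.Lib.Helper25.CoxD4Mat

set_option autoImplicit false
set_option maxRecDepth 100000

namespace Cfsg.Agent.Lib.Helper25.Cox.D4

open Cfsg.Agent.Lib.Helper25.Cox

theorem T_ne : Mx.simple 1 ∉ ({Mx.simple 2} : Finset Mx.Group) := by
  rw [Finset.mem_singleton]
  intro h
  have h2 := congrArg ψ h
  rw [hψ, hψ] at h2
  revert h2
  decide
noncomputable def Tset : Finset Mx.Group := Finset.cons (Mx.simple 1) {Mx.simple 2} T_ne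
theorem Tset_card : Tset.card = 2 := by rw [Tset, Finset.card_cons, Finset.card_singleton]
theorem mem_Tset {t : Mx.Group} : t ∈ Tset ↔ t = Mx.simple 1 ∨ t = Mx.simple 2 := by
  rw [Tset, Finset.mem_cons, Finset.mem_singleton]
theorem Tset_refl : ∀ t ∈ Tset, ∃ (g : Mx.Group) (i : Fin 4), t = g * Mx.simple i * g⁻¹ := by
  intro t ht
  rw [mem_Tset] at ht
  rcases ht with ht | ht
  · exact ⟨1, 1, by rw [ht]; simp⟩
  · exact ⟨1, 2, by rw [ht]; simp⟩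
noncomputable def Hgen : Subgroup Mx.Group := Subgroup.closure (({cox} : Set Mx.Group) ∪ ↑Tset)
theorem cox_mem : cox ∈ Hgen := Subgroup.subset_closure (Or.inl rfl)
theorem t1_mem : Mx.simple 1 ∈ Hgen := Subgroup.subset_closure (Or.inr (Finset.mem_coe.mpr (mem_Tset.mpr (by simp))))
theorem t2_mem : Mx.simple 2 ∈ Hgen := Subgroup.subset_closure (Or.inr (Finset.mem_coe.mpr (mem_Tset.mpr (by simp))))
def L0 : Matrix (Fin 4) (Fin 4) ℤ := !![0, -1, 0, 0; -1, -1, -1, -1; 1, 1, 1, 0; 1, 1, 0, 1]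
noncomputable def e0 : Mx.Group := cox ^ 2
theorem m0 : e0 ∈ Hgen := Subgroup.pow_mem _ cox_mem _
theorem ψe0 : ψ e0 = L0 := by rw [e0, map_pow, ψ_cox, Cpow2]; decide
def L1 : Matrix (Fin 4) (Fin 4) ℤ := !![1, 1, 0, 0; 0, -1, 0, 0; 0, 1, 1, 0; 0, 1, 0, 1]
noncomputable def e1 : Mx.Group := Mx.simple 1
theorem m1 : e1 ∈ Hgen := t1_mem
theorem ψe1 : ψ e1 = L1 := by rw [e1, hψ]; decide
def L2 : Matrix (Fin 4) (Fin 4) ℤ := !![0, 1, 0, 0; -1, -2, -1, -1; 1, 1, 1, 0; 1, 1, 0, 1]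
noncomputable def e2 : Mx.Group := e0 * e1
theorem m2 : e2 ∈ Hgen := Subgroup.mul_mem _ m0 m1
theorem ψe2 : ψ e2 = L2 := by rw [e2, map_mul, ψe0, ψe1]; decide
def L3 : Matrix (Fin 4) (Fin 4) ℤ := !![1, 1, 1, 1; -1, 0, 0, 0; 0, -1, 0, -1; 0, -1, -1, 0]
noncomputable def e3 : Mx.Group := cox ^ 4
theorem m3 : e3 ∈ Hgen := Subgroup.pow_mem _ cox_mem _
theorem ψe3 : ψ e3 = L3 := by rw [e3, map_pow, ψ_cox, Cpow4]; decide
def L4 : Matrix (Fin 4) (Fin 4) ℤ := !![-1, 0, 0, 0; 1, 1, 0, 0; 0, 0, 1, 0; 0, 0, 0, 1]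
noncomputable def e4 : Mx.Group := e2 * e3
theorem m4 : e4 ∈ Hgen := Subgroup.mul_mem _ m2 m3
theorem ψe4 : ψ e4 = L4 := by rw [e4, map_mul, ψe2, ψe3]; decide
theorem simple0_mem : Mx.simple 0 ∈ Hgen := by
  have h : Mx.simple 0 = e4 := ψ_injective (by rw [hψ, ψe4]; decide)
  rw [h]; exact m4
theorem simple1_mem : Mx.simple 1 ∈ Hgen := by
  have h : Mx.simple 1 = e1 := ψ_injective (by rw [hψ, ψe1]; decide)
  rw [h]; exact m1
def L5 : Matrix (Fin 4) (Fin 4) ℤ := !![1, 0, 0, 0; 0, 1, 1, 0; 0, 0, -1, 0; 0, 0, 0, 1]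
noncomputable def e5 : Mx.Group := Mx.simple 2
theorem m5 : e5 ∈ Hgen := t2_mem
theorem ψe5 : ψ e5 = L5 := by rw [e5, hψ]; decide
theorem simple2_mem : Mx.simple 2 ∈ Hgen := by
  have h : Mx.simple 2 = e5 := ψ_injective (by rw [hψ, ψe5]; decide)
  rw [h]; exact m5
def L6 : Matrix (Fin 4) (Fin 4) ℤ := !![0, -1, -1, 0; -1, -1, 0, -1; 1, 1, 0, 0; 1, 1, 1, 1]
noncomputable def e6 : Mx.Group := e0 * e5
theorem m6 : e6 ∈ Hgen := Subgroup.mul_mem _ m0 m5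
theorem ψe6 : ψ e6 = L6 := by rw [e6, map_mul, ψe0, ψe5]; decide
def L7 : Matrix (Fin 4) (Fin 4) ℤ := !![1, 1, 0, 1; 0, 0, 0, -1; 0, 1, 1, 1; 0, -1, 0, 0]
noncomputable def e7 : Mx.Group := e6 * e3
theorem m7 : e7 ∈ Hgen := Subgroup.mul_mem _ m6 m3
theorem ψe7 : ψ e7 = L7 := by rw [e7, map_mul, ψe6, ψe3]; decide
def L8 : Matrix (Fin 4) (Fin 4) ℤ := !![1, 1, 0, 0; 0, 0, 0, 1; 0, 1, 1, 0; 0, -1, 0, -1]
noncomputable def e8 : Mx.Group := e1 * e7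
theorem m8 : e8 ∈ Hgen := Subgroup.mul_mem _ m1 m7
theorem ψe8 : ψ e8 = L8 := by rw [e8, map_mul, ψe1, ψe7]; decide
def L9 : Matrix (Fin 4) (Fin 4) ℤ := !![1, 0, 0, 0; 0, 1, 0, 1; 0, 0, 1, 0; 0, 0, 0, -1]
noncomputable def e9 : Mx.Group := e8 * e1
theorem m9 : e9 ∈ Hgen := Subgroup.mul_mem _ m8 m1
theorem ψe9 : ψ e9 = L9 := by rw [e9, map_mul, ψe8, ψe1]; decide
theorem simple3_mem : Mx.simple 3 ∈ Hgen := by
  have h : Mx.simple 3 = e9 := ψ_injective (by rw [hψ, ψe9]; decide)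
  rw [h]; exact m9
theorem Hgen_top : Hgen = ⊤ := by
  rw [eq_top_iff, ← cs.subgroup_closure_range_simple, Subgroup.closure_le]
  rintro _ ⟨i, rfl⟩
  fin_cases i
  exacts [simple0_mem, simple1_mem, simple2_mem, simple3_mem]
theorem gen_result : ∃ T : Finset Mx.Group, T.card = 2 ∧ (∀ t ∈ T, ∃ (g : Mx.Group) (i : Fin 4), t = g * Mx.simple i * g⁻¹) ∧
    Subgroup.closure (({((List.finRange 4).map Mx.simple).prod} : Set Mx.Group) ∪ ↑T) = ⊤ :=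
  ⟨Tset, Tset_card, Tset_refl, Hgen_top⟩

end Cfsg.Agent.Lib.Helper25.Cox.D4
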