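import Mathlib
import Cfsg.Agent.Lib.Helper25.CoxeterAct

set_option autoImplicit false
set_option maxRecDepth 100000
set_option linter.unusedVariables false

namespace Cfsg.Agent.Lib.Helper25.Cox.E6

open Cfsg.Agent.Lib.Helper25.Cox

abbrev Mx : CoxeterMatrix (Fin 6) := CoxeterMatrix.E₆
abbrev cs : CoxeterSystem Mx Mx.Group := Mx.toCoxeterSystem
def A : Matrix (Fin 6) (Fin 6) ℤ := !![2, 0, -1, 0, 0, 0; 0, 2, 0, -1, 0, 0; -1, 0, 2, -1, 0, 0; 0, -1, -1, 2, -1, 0; 0, 0, 0, -1, 2, -1; 0, 0, 0, 0, -1, 2]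
theorem hA : ∀ i, A i i = 2 := by decide
theorem hcompat : Compat Mx A := compat_of_B (by decide)
noncomputable def φ : Mx.Group →* Equiv.Perm (Fin 6 → ℤ) := actHom A cs hA hcompat
theorem hφ (i : Fin 6) : φ (cs.simple i) = reflEquiv A hA i := actHom_simple A cs hA hcompat i
def key (v : Fin 6 → ℤ) : ℤ := v 0 + 100 * v 1 + 10000 * v 2 + 1000000 * v 3 + 100000000 * v 4 + 10000000000 * v 5

def K0 : List (Fin 6) := []
-- link 1: K = [0], N = 2
def K1 : List (Fin 6) := [0]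
def word1 : ℕ → List (Fin 6) := fun x => ([[], [0]] : List (List (Fin 6))).getD x []
def tbl1 : ℕ → Fin 6 → ℕ := fun x j => (([[1, 0, 0, 0, 0, 0], [0, 0, 0, 0, 0, 0]] : List (List ℕ)).getD x []).getD j.val 0
def p1 : Fin 6 → ℤ := ![1, 0, 0, 0, 0, 0]
def keys1 : List ℤ := [1, 9999]
theorem v1_0_0 : V cs (par cs K0) (word1 0) 0 (word1 1) := V_tree cs _ (by decide)
theorem v1_1_0 : V cs (par cs K0) (word1 1) 0 (word1 0) := V_symm cs v1_0_0
theorem row1_0 : ∀ j ∈ K1, tbl1 0 j < 2 ∧ V cs (par cs K0) (word1 0) j (word1 (tbl1 0 j)) := by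
  intro j hj
  simp only [K1, List.mem_cons, List.not_mem_nil, or_false] at hj
  subst hj
  exact ⟨by decide, v1_0_0⟩
theorem row1_1 : ∀ j ∈ K1, tbl1 1 j < 2 ∧ V cs (par cs K0) (word1 1) j (word1 (tbl1 1 j)) := by
  intro j hj
  simp only [K1, List.mem_cons, List.not_mem_nil, or_false] at hj
  subst hj
  exact ⟨by decide, v1_1_0⟩
theorem htbl1 : ∀ x < 2, ∀ j ∈ K1, tbl1 x j < 2 ∧ V cs (par cs K0) (word1 x) j (word1 (tbl1 x j)) := by
  intro x hx
  interval_cases x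
  exacts [row1_0, row1_1]
theorem pt1_0 : φ (cs.wordProd (word1 0)) p1 = ![1, 0, 0, 0, 0, 0] := pt_base cs φ (by decide) _
theorem pt1_1 : φ (cs.wordProd (word1 1)) p1 = ![-1, 0, 1, 0, 0, 0] := pt_step A cs hA φ hφ (j := 0) (w := word1 0) (by decide) pt1_0 (by decide)
theorem key1_0 : key (φ (cs.wordProd (word1 0)) p1) = keys1.getD 0 0 := by rw [pt1_0]; decide
theorem key1_1 : key (φ (cs.wordProd (word1 1)) p1) = keys1.getD 1 0 := by rw [pt1_1]; decide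
theorem hkey1 : ∀ x < 2, key (φ (cs.wordProd (word1 x)) p1) = keys1.getD x 0 := by
  intro x hx
  interval_cases x
  exacts [key1_0, key1_1]
theorem card1 : Nat.card (par cs K1) = 2 * Nat.card (par cs K0) :=
  link_card cs φ p1 K0 K1 2 word1 tbl1 (by decide) (by decide) (by decide) (by decide) htbl1
    (fix_of_refl A cs hA φ hφ K0 p1 (by decide))
    (hdist_of_keys cs φ p1 word1 2 key keys1 (by decide) (by decide) hkey1)

-- link 2: K = [0, 2], N = 3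
def K2 : List (Fin 6) := [0, 2]
def word2 : ℕ → List (Fin 6) := fun x => ([[], [2], [0, 2]] : List (List (Fin 6))).getD x []
def tbl2 : ℕ → Fin 6 → ℕ := fun x j => (([[0, 0, 1, 0, 0, 0], [2, 0, 0, 0, 0, 0], [1, 0, 2, 0, 0, 0]] : List (List ℕ)).getD x []).getD j.val 0
def p2 : Fin 6 → ℤ := ![0, 0, 1, 0, 0, 0]
def keys2 : List ℤ := [10000, 990001, 999999]
theorem v2_0_2 : V cs (par cs K1) (word2 0) 2 (word2 1) := V_tree cs _ (by decide)
theorem v2_1_2 : V cs (par cs K1) (word2 1) 2 (word2 0) := V_symm cs v2_0_2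
theorem v2_1_0 : V cs (par cs K1) (word2 1) 0 (word2 2) := V_tree cs _ (by decide)
theorem v2_2_0 : V cs (par cs K1) (word2 2) 0 (word2 1) := V_symm cs v2_1_0
theorem v2_0_0 : V cs (par cs K1) (word2 0) 0 (word2 0) := V_base cs (by decide) (simple_mem_par cs (by decide))
theorem v2_2_2 : V cs (par cs K1) (word2 2) 2 (word2 2) := V_ded3 cs (a := 2) (b := 0) (by decide) v2_2_0 v2_1_2 v2_0_0 v2_0_2 v2_1_0
theorem row2_0 : ∀ j ∈ K2, tbl2 0 j < 3 ∧ V cs (par cs K1) (word2 0) j (word2 (tbl2 0 j)) := by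
  intro j hj
  simp only [K2, List.mem_cons, List.not_mem_nil, or_false] at hj
  rcases hj with rfl | rfl
  exacts [⟨by decide, v2_0_0⟩, ⟨by decide, v2_0_2⟩]
theorem row2_1 : ∀ j ∈ K2, tbl2 1 j < 3 ∧ V cs (par cs K1) (word2 1) j (word2 (tbl2 1 j)) := by
  intro j hj
  simp only [K2, List.mem_cons, List.not_mem_nil, or_false] at hj
  rcases hj with rfl | rfl
  exacts [⟨by decide, v2_1_0⟩, ⟨by decide, v2_1_2⟩]
theorem row2_2 : ∀ j ∈ K2, tbl2 2 j < 3 ∧ V cs (par cs K1) (word2 2) j (word2 (tbl2 2 j)) := by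
  intro j hj
  simp only [K2, List.mem_cons, List.not_mem_nil, or_false] at hj
  rcases hj with rfl | rfl
  exacts [⟨by decide, v2_2_0⟩, ⟨by decide, v2_2_2⟩]
theorem htbl2 : ∀ x < 3, ∀ j ∈ K2, tbl2 x j < 3 ∧ V cs (par cs K1) (word2 x) j (word2 (tbl2 x j)) := by
  intro x hx
  interval_cases x
  exacts [row2_0, row2_1, row2_2]
theorem pt2_0 : φ (cs.wordProd (word2 0)) p2 = ![0, 0, 1, 0, 0, 0] := pt_base cs φ (by decide) _
theorem pt2_1 : φ (cs.wordProd (word2 1)) p2 = ![1, 0, -1, 1, 0, 0] := pt_step A cs hA φ hφ (j := 2) (w := word2 0) (by decide) pt2_0 (by decide)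
theorem pt2_2 : φ (cs.wordProd (word2 2)) p2 = ![-1, 0, 0, 1, 0, 0] := pt_step A cs hA φ hφ (j := 0) (w := word2 1) (by decide) pt2_1 (by decide)
theorem key2_0 : key (φ (cs.wordProd (word2 0)) p2) = keys2.getD 0 0 := by rw [pt2_0]; decide
theorem key2_1 : key (φ (cs.wordProd (word2 1)) p2) = keys2.getD 1 0 := by rw [pt2_1]; decide
theorem key2_2 : key (φ (cs.wordProd (word2 2)) p2) = keys2.getD 2 0 := by rw [pt2_2]; decide
theorem hkey2 : ∀ x < 3, key (φ (cs.wordProd (word2 x)) p2) = keys2.getD x 0 := by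
  intro x hx
  interval_cases x
  exacts [key2_0, key2_1, key2_2]
theorem card2 : Nat.card (par cs K2) = 3 * Nat.card (par cs K1) :=
  link_card cs φ p2 K1 K2 3 word2 tbl2 (by decide) (by decide) (by decide) (by decide) htbl2
    (fix_of_refl A cs hA φ hφ K1 p2 (by decide))
    (hdist_of_keys cs φ p2 word2 3 key keys2 (by decide) (by decide) hkey2)

-- link 3: K = [0, 2, 3], N = 4
def K3 : List (Fin 6) := [0, 2, 3]
def word3 : ℕ → List (Fin 6) := fun x => ([[], [3], [2, 3], [0, 2, 3]] : List (List (Fin 6))).getD x []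
def tbl3 : ℕ → Fin 6 → ℕ := fun x j => (([[0, 0, 0, 1, 0, 0], [1, 0, 2, 0, 0, 0], [3, 0, 1, 2, 0, 0], [2, 0, 3, 3, 0, 0]] : List (List ℕ)).getD x []).getD j.val 0
def p3 : Fin 6 → ℤ := ![0, 0, 0, 1, 0, 0]
def keys3 : List ℤ := [1000000, 99010100, 99990101, 100000099]
theorem v3_0_3 : V cs (par cs K2) (word3 0) 3 (word3 1) := V_tree cs _ (by decide)
theorem v3_1_3 : V cs (par cs K2) (word3 1) 3 (word3 0) := V_symm cs v3_0_3
theorem v3_1_2 : V cs (par cs K2) (word3 1) 2 (word3 2) := V_tree cs _ (by decide)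
theorem v3_2_2 : V cs (par cs K2) (word3 2) 2 (word3 1) := V_symm cs v3_1_2
theorem v3_2_0 : V cs (par cs K2) (word3 2) 0 (word3 3) := V_tree cs _ (by decide)
theorem v3_3_0 : V cs (par cs K2) (word3 3) 0 (word3 2) := V_symm cs v3_2_0
theorem v3_0_0 : V cs (par cs K2) (word3 0) 0 (word3 0) := V_base cs (by decide) (simple_mem_par cs (by decide))
theorem v3_0_2 : V cs (par cs K2) (word3 0) 2 (word3 0) := V_base cs (by decide) (simple_mem_par cs (by decide))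
theorem v3_1_0 : V cs (par cs K2) (word3 1) 0 (word3 1) := V_ded2 cs (a := 0) (b := 3) (by decide) v3_1_3 v3_0_0 v3_0_3
theorem v3_3_2 : V cs (par cs K2) (word3 3) 2 (word3 3) := V_ded3 cs (a := 2) (b := 0) (by decide) v3_3_0 v3_2_2 v3_1_0 v3_1_2 v3_2_0
theorem v3_2_3 : V cs (par cs K2) (word3 2) 3 (word3 2) := V_ded3 cs (a := 3) (b := 2) (by decide) v3_2_2 v3_1_3 v3_0_2 v3_0_3 v3_1_2
theorem v3_3_3 : V cs (par cs K2) (word3 3) 3 (word3 3) := V_ded2 cs (a := 3) (b := 0) (by decide) v3_3_0 v3_2_3 v3_2_0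
theorem row3_0 : ∀ j ∈ K3, tbl3 0 j < 4 ∧ V cs (par cs K2) (word3 0) j (word3 (tbl3 0 j)) := by
  intro j hj
  simp only [K3, List.mem_cons, List.not_mem_nil, or_false] at hj
  rcases hj with rfl | rfl | rfl
  exacts [⟨by decide, v3_0_0⟩, ⟨by decide, v3_0_2⟩, ⟨by decide, v3_0_3⟩]
theorem row3_1 : ∀ j ∈ K3, tbl3 1 j < 4 ∧ V cs (par cs K2) (word3 1) j (word3 (tbl3 1 j)) := by
  intro j hj
  simp only [K3, List.mem_cons, List.not_mem_nil, or_false] at hj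
  rcases hj with rfl | rfl | rfl
  exacts [⟨by decide, v3_1_0⟩, ⟨by decide, v3_1_2⟩, ⟨by decide, v3_1_3⟩]
theorem row3_2 : ∀ j ∈ K3, tbl3 2 j < 4 ∧ V cs (par cs K2) (word3 2) j (word3 (tbl3 2 j)) := by
  intro j hj
  simp only [K3, List.mem_cons, List.not_mem_nil, or_false] at hj
  rcases hj with rfl | rfl | rfl
  exacts [⟨by decide, v3_2_0⟩, ⟨by decide, v3_2_2⟩, ⟨by decide, v3_2_3⟩]
theorem row3_3 : ∀ j ∈ K3, tbl3 3 j < 4 ∧ V cs (par cs K2) (word3 3) j (word3 (tbl3 3 j)) := by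
  intro j hj
  simp only [K3, List.mem_cons, List.not_mem_nil, or_false] at hj
  rcases hj with rfl | rfl | rfl
  exacts [⟨by decide, v3_3_0⟩, ⟨by decide, v3_3_2⟩, ⟨by decide, v3_3_3⟩]
theorem htbl3 : ∀ x < 4, ∀ j ∈ K3, tbl3 x j < 4 ∧ V cs (par cs K2) (word3 x) j (word3 (tbl3 x j)) := by
  intro x hx
  interval_cases x
  exacts [row3_0, row3_1, row3_2, row3_3]
theorem pt3_0 : φ (cs.wordProd (word3 0)) p3 = ![0, 0, 0, 1, 0, 0] := pt_base cs φ (by decide) _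
theorem pt3_1 : φ (cs.wordProd (word3 1)) p3 = ![0, 1, 1, -1, 1, 0] := pt_step A cs hA φ hφ (j := 3) (w := word3 0) (by decide) pt3_0 (by decide)
theorem pt3_2 : φ (cs.wordProd (word3 2)) p3 = ![1, 1, -1, 0, 1, 0] := pt_step A cs hA φ hφ (j := 2) (w := word3 1) (by decide) pt3_1 (by decide)
theorem pt3_3 : φ (cs.wordProd (word3 3)) p3 = ![-1, 1, 0, 0, 1, 0] := pt_step A cs hA φ hφ (j := 0) (w := word3 2) (by decide) pt3_2 (by decide)
theorem key3_0 : key (φ (cs.wordProd (word3 0)) p3) = keys3.getD 0 0 := by rw [pt3_0]; decide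
theorem key3_1 : key (φ (cs.wordProd (word3 1)) p3) = keys3.getD 1 0 := by rw [pt3_1]; decide
theorem key3_2 : key (φ (cs.wordProd (word3 2)) p3) = keys3.getD 2 0 := by rw [pt3_2]; decide
theorem key3_3 : key (φ (cs.wordProd (word3 3)) p3) = keys3.getD 3 0 := by rw [pt3_3]; decide
theorem hkey3 : ∀ x < 4, key (φ (cs.wordProd (word3 x)) p3) = keys3.getD x 0 := by
  intro x hx
  interval_cases x
  exacts [key3_0, key3_1, key3_2, key3_3]
theorem card3 : Nat.card (par cs K3) = 4 * Nat.card (par cs K2) :=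
  link_card cs φ p3 K2 K3 4 word3 tbl3 (by decide) (by decide) (by decide) (by decide) htbl3
    (fix_of_refl A cs hA φ hφ K2 p3 (by decide))
    (hdist_of_keys cs φ p3 word3 4 key keys3 (by decide) (by decide) hkey3)

-- link 4: K = [0, 2, 3, 1], N = 5
def K4 : List (Fin 6) := [0, 2, 3, 1]
def word4 : ℕ → List (Fin 6) := fun x => ([[], [1], [3, 1], [2, 3, 1], [0, 2, 3, 1]] : List (List (Fin 6))).getD x []
def tbl4 : ℕ → Fin 6 → ℕ := fun x j => (([[0, 1, 0, 0, 0, 0], [1, 0, 1, 2, 0, 0], [2, 2, 3, 1, 0, 0], [4, 3, 2, 3, 0, 0], [3, 4, 4, 4, 0, 0]] : List (List ℕ)).getD x []).getD j.val 0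
def p4 : Fin 6 → ℤ := ![0, 1, 0, 0, 0, 0]
def keys4 : List ℤ := [100, 999900, 99010000, 99990001, 99999999]
theorem v4_0_1 : V cs (par cs K3) (word4 0) 1 (word4 1) := V_tree cs _ (by decide)
theorem v4_1_1 : V cs (par cs K3) (word4 1) 1 (word4 0) := V_symm cs v4_0_1
theorem v4_1_3 : V cs (par cs K3) (word4 1) 3 (word4 2) := V_tree cs _ (by decide)
theorem v4_2_3 : V cs (par cs K3) (word4 2) 3 (word4 1) := V_symm cs v4_1_3
theorem v4_2_2 : V cs (par cs K3) (word4 2) 2 (word4 3) := V_tree cs _ (by decide)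
theorem v4_3_2 : V cs (par cs K3) (word4 3) 2 (word4 2) := V_symm cs v4_2_2
theorem v4_3_0 : V cs (par cs K3) (word4 3) 0 (word4 4) := V_tree cs _ (by decide)
theorem v4_4_0 : V cs (par cs K3) (word4 4) 0 (word4 3) := V_symm cs v4_3_0
theorem v4_0_0 : V cs (par cs K3) (word4 0) 0 (word4 0) := V_base cs (by decide) (simple_mem_par cs (by decide))
theorem v4_0_2 : V cs (par cs K3) (word4 0) 2 (word4 0) := V_base cs (by decide) (simple_mem_par cs (by decide))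
theorem v4_0_3 : V cs (par cs K3) (word4 0) 3 (word4 0) := V_base cs (by decide) (simple_mem_par cs (by decide))
theorem v4_1_0 : V cs (par cs K3) (word4 1) 0 (word4 1) := V_ded2 cs (a := 0) (b := 1) (by decide) v4_1_1 v4_0_0 v4_0_1
theorem v4_1_2 : V cs (par cs K3) (word4 1) 2 (word4 1) := V_ded2 cs (a := 2) (b := 1) (by decide) v4_1_1 v4_0_2 v4_0_1
theorem v4_3_3 : V cs (par cs K3) (word4 3) 3 (word4 3) := V_ded3 cs (a := 3) (b := 2) (by decide) v4_3_2 v4_2_3 v4_1_2 v4_1_3 v4_2_2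
theorem v4_2_1 : V cs (par cs K3) (word4 2) 1 (word4 2) := V_ded3 cs (a := 1) (b := 3) (by decide) v4_2_3 v4_1_1 v4_0_3 v4_0_1 v4_1_3
theorem v4_2_0 : V cs (par cs K3) (word4 2) 0 (word4 2) := V_ded2 cs (a := 0) (b := 3) (by decide) v4_2_3 v4_1_0 v4_1_3
theorem v4_4_2 : V cs (par cs K3) (word4 4) 2 (word4 4) := V_ded3 cs (a := 2) (b := 0) (by decide) v4_4_0 v4_3_2 v4_2_0 v4_2_2 v4_3_0
theorem v4_4_3 : V cs (par cs K3) (word4 4) 3 (word4 4) := V_ded2 cs (a := 3) (b := 0) (by decide) v4_4_0 v4_3_3 v4_3_0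
theorem v4_3_1 : V cs (par cs K3) (word4 3) 1 (word4 3) := V_ded2 cs (a := 1) (b := 2) (by decide) v4_3_2 v4_2_1 v4_2_2
theorem v4_4_1 : V cs (par cs K3) (word4 4) 1 (word4 4) := V_ded2 cs (a := 1) (b := 0) (by decide) v4_4_0 v4_3_1 v4_3_0
theorem row4_0 : ∀ j ∈ K4, tbl4 0 j < 5 ∧ V cs (par cs K3) (word4 0) j (word4 (tbl4 0 j)) := by
  intro j hj
  simp only [K4, List.mem_cons, List.not_mem_nil, or_false] at hj
  rcases hj with rfl | rfl | rfl | rfl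
  exacts [⟨by decide, v4_0_0⟩, ⟨by decide, v4_0_2⟩, ⟨by decide, v4_0_3⟩, ⟨by decide, v4_0_1⟩]
theorem row4_1 : ∀ j ∈ K4, tbl4 1 j < 5 ∧ V cs (par cs K3) (word4 1) j (word4 (tbl4 1 j)) := by
  intro j hj
  simp only [K4, List.mem_cons, List.not_mem_nil, or_false] at hj
  rcases hj with rfl | rfl | rfl | rfl
  exacts [⟨by decide, v4_1_0⟩, ⟨by decide, v4_1_2⟩, ⟨by decide, v4_1_3⟩, ⟨by decide, v4_1_1⟩]
theorem row4_2 : ∀ j ∈ K4, tbl4 2 j < 5 ∧ V cs (par cs K3) (word4 2) j (word4 (tbl4 2 j)) := by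
  intro j hj
  simp only [K4, List.mem_cons, List.not_mem_nil, or_false] at hj
  rcases hj with rfl | rfl | rfl | rfl
  exacts [⟨by decide, v4_2_0⟩, ⟨by decide, v4_2_2⟩, ⟨by decide, v4_2_3⟩, ⟨by decide, v4_2_1⟩]
theorem row4_3 : ∀ j ∈ K4, tbl4 3 j < 5 ∧ V cs (par cs K3) (word4 3) j (word4 (tbl4 3 j)) := by
  intro j hj
  simp only [K4, List.mem_cons, List.not_mem_nil, or_false] at hj
  rcases hj with rfl | rfl | rfl | rfl
  exacts [⟨by decide, v4_3_0⟩, ⟨by decide, v4_3_2⟩, ⟨by decide, v4_3_3⟩, ⟨by decide, v4_3_1⟩]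
theorem row4_4 : ∀ j ∈ K4, tbl4 4 j < 5 ∧ V cs (par cs K3) (word4 4) j (word4 (tbl4 4 j)) := by
  intro j hj
  simp only [K4, List.mem_cons, List.not_mem_nil, or_false] at hj
  rcases hj with rfl | rfl | rfl | rfl
  exacts [⟨by decide, v4_4_0⟩, ⟨by decide, v4_4_2⟩, ⟨by decide, v4_4_3⟩, ⟨by decide, v4_4_1⟩]
theorem htbl4 : ∀ x < 5, ∀ j ∈ K4, tbl4 x j < 5 ∧ V cs (par cs K3) (word4 x) j (word4 (tbl4 x j)) := by
  intro x hx
  interval_cases x
  exacts [row4_0, row4_1, row4_2, row4_3, row4_4]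
theorem pt4_0 : φ (cs.wordProd (word4 0)) p4 = ![0, 1, 0, 0, 0, 0] := pt_base cs φ (by decide) _
theorem pt4_1 : φ (cs.wordProd (word4 1)) p4 = ![0, -1, 0, 1, 0, 0] := pt_step A cs hA φ hφ (j := 1) (w := word4 0) (by decide) pt4_0 (by decide)
theorem pt4_2 : φ (cs.wordProd (word4 2)) p4 = ![0, 0, 1, -1, 1, 0] := pt_step A cs hA φ hφ (j := 3) (w := word4 1) (by decide) pt4_1 (by decide)
theorem pt4_3 : φ (cs.wordProd (word4 3)) p4 = ![1, 0, -1, 0, 1, 0] := pt_step A cs hA φ hφ (j := 2) (w := word4 2) (by decide) pt4_2 (by decide)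
theorem pt4_4 : φ (cs.wordProd (word4 4)) p4 = ![-1, 0, 0, 0, 1, 0] := pt_step A cs hA φ hφ (j := 0) (w := word4 3) (by decide) pt4_3 (by decide)
theorem key4_0 : key (φ (cs.wordProd (word4 0)) p4) = keys4.getD 0 0 := by rw [pt4_0]; decide
theorem key4_1 : key (φ (cs.wordProd (word4 1)) p4) = keys4.getD 1 0 := by rw [pt4_1]; decide
theorem key4_2 : key (φ (cs.wordProd (word4 2)) p4) = keys4.getD 2 0 := by rw [pt4_2]; decide
theorem key4_3 : key (φ (cs.wordProd (word4 3)) p4) = keys4.getD 3 0 := by rw [pt4_3]; decide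
theorem key4_4 : key (φ (cs.wordProd (word4 4)) p4) = keys4.getD 4 0 := by rw [pt4_4]; decide
theorem hkey4 : ∀ x < 5, key (φ (cs.wordProd (word4 x)) p4) = keys4.getD x 0 := by
  intro x hx
  interval_cases x
  exacts [key4_0, key4_1, key4_2, key4_3, key4_4]
theorem card4 : Nat.card (par cs K4) = 5 * Nat.card (par cs K3) :=
  link_card cs φ p4 K3 K4 5 word4 tbl4 (by decide) (by decide) (by decide) (by decide) htbl4
    (fix_of_refl A cs hA φ hφ K3 p4 (by decide))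
    (hdist_of_keys cs φ p4 word4 5 key keys4 (by decide) (by decide) hkey4)

-- link 5: K = [0, 2, 3, 1, 4], N = 16
def K5 : List (Fin 6) := [0, 2, 3, 1, 4]
def word5 : ℕ → List (Fin 6) := fun x => ([[], [4], [3, 4], [2, 3, 4], [1, 3, 4], [0, 2, 3, 4], [1, 2, 3, 4], [1, 0, 2, 3, 4], [3, 1, 2, 3, 4], [3, 1, 0, 2, 3, 4], [4, 3, 1, 2, 3, 4], [2, 3, 1, 0, 2, 3, 4], [4, 3, 1, 0, 2, 3, 4], [4, 2, 3, 1, 0, 2, 3, 4], [3, 4, 2, 3, 1, 0, 2, 3, 4], [1, 3, 4, 2, 3, 1, 0, 2, 3, 4]] : List (List (Fin 6))).getD x []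
def tbl5 : ℕ → Fin 6 → ℕ := fun x j => (([[0, 0, 0, 0, 1, 0], [1, 1, 1, 2, 0, 0], [2, 4, 3, 1, 2, 0], [5, 6, 2, 3, 3, 0], [4, 2, 6, 4, 4, 0], [3, 7, 5, 5, 5, 0], [7, 3, 4, 8, 6, 0], [6, 5, 7, 9, 7, 0], [9, 8, 8, 6, 10, 0], [8, 9, 11, 7, 12, 0], [12, 10, 10, 10, 8, 0], [11, 11, 9, 11, 13, 0], [10, 12, 13, 12, 9, 0], [13, 13, 12, 14, 11, 0], [14, 15, 14, 13, 14, 0], [15, 14, 15, 15, 15, 0]] : List (List ℕ)).getD x []).getD j.val 0
def p5 : Fin 6 → ℤ := ![0, 0, 0, 0, 1, 0]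
def keys5 : List ℤ := [100000000, 9901000000, 9999010100, 9999990101, 10000009900, 10000000099, 10000989901, 10000999899, 10099000001, 10099009999, 19900000001, 10099990000, 19900009999, 19900990000, 19999000100, 19999999900]
theorem v5_0_4 : V cs (par cs K4) (word5 0) 4 (word5 1) := V_tree cs _ (by decide)
theorem v5_1_4 : V cs (par cs K4) (word5 1) 4 (word5 0) := V_symm cs v5_0_4
theorem v5_1_3 : V cs (par cs K4) (word5 1) 3 (word5 2) := V_tree cs _ (by decide)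
theorem v5_2_3 : V cs (par cs K4) (word5 2) 3 (word5 1) := V_symm cs v5_1_3
theorem v5_2_2 : V cs (par cs K4) (word5 2) 2 (word5 3) := V_tree cs _ (by decide)
theorem v5_3_2 : V cs (par cs K4) (word5 3) 2 (word5 2) := V_symm cs v5_2_2
theorem v5_2_1 : V cs (par cs K4) (word5 2) 1 (word5 4) := V_tree cs _ (by decide)
theorem v5_4_1 : V cs (par cs K4) (word5 4) 1 (word5 2) := V_symm cs v5_2_1
theorem v5_3_0 : V cs (par cs K4) (word5 3) 0 (word5 5) := V_tree cs _ (by decide)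
theorem v5_5_0 : V cs (par cs K4) (word5 5) 0 (word5 3) := V_symm cs v5_3_0
theorem v5_3_1 : V cs (par cs K4) (word5 3) 1 (word5 6) := V_tree cs _ (by decide)
theorem v5_6_1 : V cs (par cs K4) (word5 6) 1 (word5 3) := V_symm cs v5_3_1
theorem v5_5_1 : V cs (par cs K4) (word5 5) 1 (word5 7) := V_tree cs _ (by decide)
theorem v5_7_1 : V cs (par cs K4) (word5 7) 1 (word5 5) := V_symm cs v5_5_1
theorem v5_6_3 : V cs (par cs K4) (word5 6) 3 (word5 8) := V_tree cs _ (by decide)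
theorem v5_8_3 : V cs (par cs K4) (word5 8) 3 (word5 6) := V_symm cs v5_6_3
theorem v5_7_3 : V cs (par cs K4) (word5 7) 3 (word5 9) := V_tree cs _ (by decide)
theorem v5_9_3 : V cs (par cs K4) (word5 9) 3 (word5 7) := V_symm cs v5_7_3
theorem v5_8_4 : V cs (par cs K4) (word5 8) 4 (word5 10) := V_tree cs _ (by decide)
theorem v5_10_4 : V cs (par cs K4) (word5 10) 4 (word5 8) := V_symm cs v5_8_4
theorem v5_9_2 : V cs (par cs K4) (word5 9) 2 (word5 11) := V_tree cs _ (by decide)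
theorem v5_11_2 : V cs (par cs K4) (word5 11) 2 (word5 9) := V_symm cs v5_9_2
theorem v5_9_4 : V cs (par cs K4) (word5 9) 4 (word5 12) := V_tree cs _ (by decide)
theorem v5_12_4 : V cs (par cs K4) (word5 12) 4 (word5 9) := V_symm cs v5_9_4
theorem v5_11_4 : V cs (par cs K4) (word5 11) 4 (word5 13) := V_tree cs _ (by decide)
theorem v5_13_4 : V cs (par cs K4) (word5 13) 4 (word5 11) := V_symm cs v5_11_4
theorem v5_13_3 : V cs (par cs K4) (word5 13) 3 (word5 14) := V_tree cs _ (by decide)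
theorem v5_14_3 : V cs (par cs K4) (word5 14) 3 (word5 13) := V_symm cs v5_13_3
theorem v5_14_1 : V cs (par cs K4) (word5 14) 1 (word5 15) := V_tree cs _ (by decide)
theorem v5_15_1 : V cs (par cs K4) (word5 15) 1 (word5 14) := V_symm cs v5_14_1
theorem v5_0_0 : V cs (par cs K4) (word5 0) 0 (word5 0) := V_base cs (by decide) (simple_mem_par cs (by decide))
theorem v5_0_2 : V cs (par cs K4) (word5 0) 2 (word5 0) := V_base cs (by decide) (simple_mem_par cs (by decide))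
theorem v5_0_3 : V cs (par cs K4) (word5 0) 3 (word5 0) := V_base cs (by decide) (simple_mem_par cs (by decide))
theorem v5_0_1 : V cs (par cs K4) (word5 0) 1 (word5 0) := V_base cs (by decide) (simple_mem_par cs (by decide))
theorem v5_7_0 : V cs (par cs K4) (word5 7) 0 (word5 6) := V_ded2 cs (a := 0) (b := 1) (by decide) v5_6_1 v5_3_0 v5_5_1
theorem v5_6_0 : V cs (par cs K4) (word5 6) 0 (word5 7) := V_symm cs v5_7_0
theorem v5_1_0 : V cs (par cs K4) (word5 1) 0 (word5 1) := V_ded2 cs (a := 0) (b := 4) (by decide) v5_1_4 v5_0_0 v5_0_4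
theorem v5_6_2 : V cs (par cs K4) (word5 6) 2 (word5 4) := V_ded2 cs (a := 2) (b := 1) (by decide) v5_4_1 v5_2_2 v5_3_1
theorem v5_4_2 : V cs (par cs K4) (word5 4) 2 (word5 6) := V_symm cs v5_6_2
theorem v5_1_2 : V cs (par cs K4) (word5 1) 2 (word5 1) := V_ded2 cs (a := 2) (b := 4) (by decide) v5_1_4 v5_0_2 v5_0_4
theorem v5_13_2 : V cs (par cs K4) (word5 13) 2 (word5 12) := V_ded2 cs (a := 2) (b := 4) (by decide) v5_12_4 v5_9_2 v5_11_4
theorem v5_12_2 : V cs (par cs K4) (word5 12) 2 (word5 13) := V_symm cs v5_13_2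
theorem v5_3_3 : V cs (par cs K4) (word5 3) 3 (word5 3) := V_ded3 cs (a := 3) (b := 2) (by decide) v5_3_2 v5_2_3 v5_1_2 v5_1_3 v5_2_2
theorem v5_8_1 : V cs (par cs K4) (word5 8) 1 (word5 8) := V_ded3 cs (a := 1) (b := 3) (by decide) v5_8_3 v5_6_1 v5_3_3 v5_3_1 v5_6_3
theorem v5_1_1 : V cs (par cs K4) (word5 1) 1 (word5 1) := V_ded2 cs (a := 1) (b := 4) (by decide) v5_1_4 v5_0_1 v5_0_4
theorem v5_10_1 : V cs (par cs K4) (word5 10) 1 (word5 10) := V_ded2 cs (a := 1) (b := 4) (by decide) v5_10_4 v5_8_1 v5_8_4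
theorem v5_2_4 : V cs (par cs K4) (word5 2) 4 (word5 2) := V_ded3 cs (a := 4) (b := 3) (by decide) v5_2_3 v5_1_4 v5_0_3 v5_0_4 v5_1_3
theorem v5_4_4 : V cs (par cs K4) (word5 4) 4 (word5 4) := V_ded2 cs (a := 4) (b := 1) (by decide) v5_4_1 v5_2_4 v5_2_1
theorem v5_2_0 : V cs (par cs K4) (word5 2) 0 (word5 2) := V_ded2 cs (a := 0) (b := 3) (by decide) v5_2_3 v5_1_0 v5_1_3
theorem v5_9_0 : V cs (par cs K4) (word5 9) 0 (word5 8) := V_ded2 cs (a := 0) (b := 3) (by decide) v5_8_3 v5_6_0 v5_7_3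
theorem v5_8_0 : V cs (par cs K4) (word5 8) 0 (word5 9) := V_symm cs v5_9_0
theorem v5_4_0 : V cs (par cs K4) (word5 4) 0 (word5 4) := V_ded2 cs (a := 0) (b := 1) (by decide) v5_4_1 v5_2_0 v5_2_1
theorem v5_12_0 : V cs (par cs K4) (word5 12) 0 (word5 10) := V_ded2 cs (a := 0) (b := 4) (by decide) v5_10_4 v5_8_0 v5_9_4
theorem v5_10_0 : V cs (par cs K4) (word5 10) 0 (word5 12) := V_symm cs v5_12_0
theorem v5_5_2 : V cs (par cs K4) (word5 5) 2 (word5 5) := V_ded3 cs (a := 2) (b := 0) (by decide) v5_5_0 v5_3_2 v5_2_0 v5_2_2 v5_3_0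
theorem v5_7_2 : V cs (par cs K4) (word5 7) 2 (word5 7) := V_ded3 cs (a := 2) (b := 0) (by decide) v5_7_0 v5_6_2 v5_4_0 v5_4_2 v5_6_0
theorem v5_5_3 : V cs (par cs K4) (word5 5) 3 (word5 5) := V_ded2 cs (a := 3) (b := 0) (by decide) v5_5_0 v5_3_3 v5_3_0
theorem v5_11_3 : V cs (par cs K4) (word5 11) 3 (word5 11) := V_ded3 cs (a := 3) (b := 2) (by decide) v5_11_2 v5_9_3 v5_7_2 v5_7_3 v5_9_2
theorem v5_4_3 : V cs (par cs K4) (word5 4) 3 (word5 4) := V_ded3 cs (a := 3) (b := 1) (by decide) v5_4_1 v5_2_3 v5_1_1 v5_1_3 v5_2_1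
theorem v5_9_1 : V cs (par cs K4) (word5 9) 1 (word5 9) := V_ded2 cs (a := 1) (b := 0) (by decide) v5_9_0 v5_8_1 v5_8_0
theorem v5_12_1 : V cs (par cs K4) (word5 12) 1 (word5 12) := V_ded2 cs (a := 1) (b := 0) (by decide) v5_12_0 v5_10_1 v5_10_0
theorem v5_11_1 : V cs (par cs K4) (word5 11) 1 (word5 11) := V_ded2 cs (a := 1) (b := 2) (by decide) v5_11_2 v5_9_1 v5_9_2
theorem v5_13_1 : V cs (par cs K4) (word5 13) 1 (word5 13) := V_ded2 cs (a := 1) (b := 2) (by decide) v5_13_2 v5_12_1 v5_12_2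
theorem v5_3_4 : V cs (par cs K4) (word5 3) 4 (word5 3) := V_ded2 cs (a := 4) (b := 2) (by decide) v5_3_2 v5_2_4 v5_2_2
theorem v5_6_4 : V cs (par cs K4) (word5 6) 4 (word5 6) := V_ded2 cs (a := 4) (b := 2) (by decide) v5_6_2 v5_4_4 v5_4_2
theorem v5_14_4 : V cs (par cs K4) (word5 14) 4 (word5 14) := V_ded3 cs (a := 4) (b := 3) (by decide) v5_14_3 v5_13_4 v5_11_3 v5_11_4 v5_13_3
theorem v5_15_4 : V cs (par cs K4) (word5 15) 4 (word5 15) := V_ded2 cs (a := 4) (b := 1) (by decide) v5_15_1 v5_14_4 v5_14_1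
theorem v5_8_2 : V cs (par cs K4) (word5 8) 2 (word5 8) := V_ded3 cs (a := 2) (b := 3) (by decide) v5_8_3 v5_6_2 v5_4_3 v5_4_2 v5_6_3
theorem v5_10_2 : V cs (par cs K4) (word5 10) 2 (word5 10) := V_ded2 cs (a := 2) (b := 4) (by decide) v5_10_4 v5_8_2 v5_8_4
theorem v5_15_3 : V cs (par cs K4) (word5 15) 3 (word5 15) := V_ded3 cs (a := 3) (b := 1) (by decide) v5_15_1 v5_14_3 v5_13_1 v5_13_3 v5_14_1
theorem v5_10_3 : V cs (par cs K4) (word5 10) 3 (word5 10) := V_ded3 cs (a := 3) (b := 4) (by decide) v5_10_4 v5_8_3 v5_6_4 v5_6_3 v5_8_4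
theorem v5_5_4 : V cs (par cs K4) (word5 5) 4 (word5 5) := V_ded2 cs (a := 4) (b := 0) (by decide) v5_5_0 v5_3_4 v5_3_0
theorem v5_7_4 : V cs (par cs K4) (word5 7) 4 (word5 7) := V_ded2 cs (a := 4) (b := 0) (by decide) v5_7_0 v5_6_4 v5_6_0
theorem v5_11_0 : V cs (par cs K4) (word5 11) 0 (word5 11) := V_ded3 cs (a := 0) (b := 2) (by decide) v5_11_2 v5_9_0 v5_8_2 v5_8_0 v5_9_2
theorem v5_13_0 : V cs (par cs K4) (word5 13) 0 (word5 13) := V_ded3 cs (a := 0) (b := 2) (by decide) v5_13_2 v5_12_0 v5_10_2 v5_10_0 v5_12_2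
theorem v5_14_0 : V cs (par cs K4) (word5 14) 0 (word5 14) := V_ded2 cs (a := 0) (b := 3) (by decide) v5_14_3 v5_13_0 v5_13_3
theorem v5_15_0 : V cs (par cs K4) (word5 15) 0 (word5 15) := V_ded2 cs (a := 0) (b := 1) (by decide) v5_15_1 v5_14_0 v5_14_1
theorem v5_12_3 : V cs (par cs K4) (word5 12) 3 (word5 12) := V_ded2 cs (a := 3) (b := 0) (by decide) v5_12_0 v5_10_3 v5_10_0
theorem v5_14_2 : V cs (par cs K4) (word5 14) 2 (word5 14) := V_ded3 cs (a := 2) (b := 3) (by decide) v5_14_3 v5_13_2 v5_12_3 v5_12_2 v5_13_3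
theorem v5_15_2 : V cs (par cs K4) (word5 15) 2 (word5 15) := V_ded2 cs (a := 2) (b := 1) (by decide) v5_15_1 v5_14_2 v5_14_1
theorem row5_0 : ∀ j ∈ K5, tbl5 0 j < 16 ∧ V cs (par cs K4) (word5 0) j (word5 (tbl5 0 j)) := by
  intro j hj
  simp only [K5, List.mem_cons, List.not_mem_nil, or_false] at hj
  rcases hj with rfl | rfl | rfl | rfl | rfl
  exacts [⟨by decide, v5_0_0⟩, ⟨by decide, v5_0_2⟩, ⟨by decide, v5_0_3⟩, ⟨by decide, v5_0_1⟩, ⟨by decide, v5_0_4⟩]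
theorem row5_1 : ∀ j ∈ K5, tbl5 1 j < 16 ∧ V cs (par cs K4) (word5 1) j (word5 (tbl5 1 j)) := by
  intro j hj
  simp only [K5, List.mem_cons, List.not_mem_nil, or_false] at hj
  rcases hj with rfl | rfl | rfl | rfl | rfl
  exacts [⟨by decide, v5_1_0⟩, ⟨by decide, v5_1_2⟩, ⟨by decide, v5_1_3⟩, ⟨by decide, v5_1_1⟩, ⟨by decide, v5_1_4⟩]
theorem row5_2 : ∀ j ∈ K5, tbl5 2 j < 16 ∧ V cs (par cs K4) (word5 2) j (word5 (tbl5 2 j)) := by
  intro j hj
  simp only [K5, List.mem_cons, List.not_mem_nil, or_false] at hj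
  rcases hj with rfl | rfl | rfl | rfl | rfl
  exacts [⟨by decide, v5_2_0⟩, ⟨by decide, v5_2_2⟩, ⟨by decide, v5_2_3⟩, ⟨by decide, v5_2_1⟩, ⟨by decide, v5_2_4⟩]
theorem row5_3 : ∀ j ∈ K5, tbl5 3 j < 16 ∧ V cs (par cs K4) (word5 3) j (word5 (tbl5 3 j)) := by
  intro j hj
  simp only [K5, List.mem_cons, List.not_mem_nil, or_false] at hj
  rcases hj with rfl | rfl | rfl | rfl | rfl
  exacts [⟨by decide, v5_3_0⟩, ⟨by decide, v5_3_2⟩, ⟨by decide, v5_3_3⟩, ⟨by decide, v5_3_1⟩, ⟨by decide, v5_3_4⟩]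
theorem row5_4 : ∀ j ∈ K5, tbl5 4 j < 16 ∧ V cs (par cs K4) (word5 4) j (word5 (tbl5 4 j)) := by
  intro j hj
  simp only [K5, List.mem_cons, List.not_mem_nil, or_false] at hj
  rcases hj with rfl | rfl | rfl | rfl | rfl
  exacts [⟨by decide, v5_4_0⟩, ⟨by decide, v5_4_2⟩, ⟨by decide, v5_4_3⟩, ⟨by decide, v5_4_1⟩, ⟨by decide, v5_4_4⟩]
theorem row5_5 : ∀ j ∈ K5, tbl5 5 j < 16 ∧ V cs (par cs K4) (word5 5) j (word5 (tbl5 5 j)) := by
  intro j hj
  simp only [K5, List.mem_cons, List.not_mem_nil, or_false] at hj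
  rcases hj with rfl | rfl | rfl | rfl | rfl
  exacts [⟨by decide, v5_5_0⟩, ⟨by decide, v5_5_2⟩, ⟨by decide, v5_5_3⟩, ⟨by decide, v5_5_1⟩, ⟨by decide, v5_5_4⟩]
theorem row5_6 : ∀ j ∈ K5, tbl5 6 j < 16 ∧ V cs (par cs K4) (word5 6) j (word5 (tbl5 6 j)) := by
  intro j hj
  simp only [K5, List.mem_cons, List.not_mem_nil, or_false] at hj
  rcases hj with rfl | rfl | rfl | rfl | rfl
  exacts [⟨by decide, v5_6_0⟩, ⟨by decide, v5_6_2⟩, ⟨by decide, v5_6_3⟩, ⟨by decide, v5_6_1⟩, ⟨by decide, v5_6_4⟩]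
theorem row5_7 : ∀ j ∈ K5, tbl5 7 j < 16 ∧ V cs (par cs K4) (word5 7) j (word5 (tbl5 7 j)) := by
  intro j hj
  simp only [K5, List.mem_cons, List.not_mem_nil, or_false] at hj
  rcases hj with rfl | rfl | rfl | rfl | rfl
  exacts [⟨by decide, v5_7_0⟩, ⟨by decide, v5_7_2⟩, ⟨by decide, v5_7_3⟩, ⟨by decide, v5_7_1⟩, ⟨by decide, v5_7_4⟩]
theorem row5_8 : ∀ j ∈ K5, tbl5 8 j < 16 ∧ V cs (par cs K4) (word5 8) j (word5 (tbl5 8 j)) := by
  intro j hj
  simp only [K5, List.mem_cons, List.not_mem_nil, or_false] at hj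
  rcases hj with rfl | rfl | rfl | rfl | rfl
  exacts [⟨by decide, v5_8_0⟩, ⟨by decide, v5_8_2⟩, ⟨by decide, v5_8_3⟩, ⟨by decide, v5_8_1⟩, ⟨by decide, v5_8_4⟩]
theorem row5_9 : ∀ j ∈ K5, tbl5 9 j < 16 ∧ V cs (par cs K4) (word5 9) j (word5 (tbl5 9 j)) := by
  intro j hj
  simp only [K5, List.mem_cons, List.not_mem_nil, or_false] at hj
  rcases hj with rfl | rfl | rfl | rfl | rfl
  exacts [⟨by decide, v5_9_0⟩, ⟨by decide, v5_9_2⟩, ⟨by decide, v5_9_3⟩, ⟨by decide, v5_9_1⟩, ⟨by decide, v5_9_4⟩]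
theorem row5_10 : ∀ j ∈ K5, tbl5 10 j < 16 ∧ V cs (par cs K4) (word5 10) j (word5 (tbl5 10 j)) := by
  intro j hj
  simp only [K5, List.mem_cons, List.not_mem_nil, or_false] at hj
  rcases hj with rfl | rfl | rfl | rfl | rfl
  exacts [⟨by decide, v5_10_0⟩, ⟨by decide, v5_10_2⟩, ⟨by decide, v5_10_3⟩, ⟨by decide, v5_10_1⟩, ⟨by decide, v5_10_4⟩]
theorem row5_11 : ∀ j ∈ K5, tbl5 11 j < 16 ∧ V cs (par cs K4) (word5 11) j (word5 (tbl5 11 j)) := by
  intro j hj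
  simp only [K5, List.mem_cons, List.not_mem_nil, or_false] at hj
  rcases hj with rfl | rfl | rfl | rfl | rfl
  exacts [⟨by decide, v5_11_0⟩, ⟨by decide, v5_11_2⟩, ⟨by decide, v5_11_3⟩, ⟨by decide, v5_11_1⟩, ⟨by decide, v5_11_4⟩]
theorem row5_12 : ∀ j ∈ K5, tbl5 12 j < 16 ∧ V cs (par cs K4) (word5 12) j (word5 (tbl5 12 j)) := by
  intro j hj
  simp only [K5, List.mem_cons, List.not_mem_nil, or_false] at hj
  rcases hj with rfl | rfl | rfl | rfl | rfl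
  exacts [⟨by decide, v5_12_0⟩, ⟨by decide, v5_12_2⟩, ⟨by decide, v5_12_3⟩, ⟨by decide, v5_12_1⟩, ⟨by decide, v5_12_4⟩]
theorem row5_13 : ∀ j ∈ K5, tbl5 13 j < 16 ∧ V cs (par cs K4) (word5 13) j (word5 (tbl5 13 j)) := by
  intro j hj
  simp only [K5, List.mem_cons, List.not_mem_nil, or_false] at hj
  rcases hj with rfl | rfl | rfl | rfl | rfl
  exacts [⟨by decide, v5_13_0⟩, ⟨by decide, v5_13_2⟩, ⟨by decide, v5_13_3⟩, ⟨by decide, v5_13_1⟩, ⟨by decide, v5_13_4⟩]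
theorem row5_14 : ∀ j ∈ K5, tbl5 14 j < 16 ∧ V cs (par cs K4) (word5 14) j (word5 (tbl5 14 j)) := by
  intro j hj
  simp only [K5, List.mem_cons, List.not_mem_nil, or_false] at hj
  rcases hj with rfl | rfl | rfl | rfl | rfl
  exacts [⟨by decide, v5_14_0⟩, ⟨by decide, v5_14_2⟩, ⟨by decide, v5_14_3⟩, ⟨by decide, v5_14_1⟩, ⟨by decide, v5_14_4⟩]
theorem row5_15 : ∀ j ∈ K5, tbl5 15 j < 16 ∧ V cs (par cs K4) (word5 15) j (word5 (tbl5 15 j)) := by
  intro j hj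
  simp only [K5, List.mem_cons, List.not_mem_nil, or_false] at hj
  rcases hj with rfl | rfl | rfl | rfl | rfl
  exacts [⟨by decide, v5_15_0⟩, ⟨by decide, v5_15_2⟩, ⟨by decide, v5_15_3⟩, ⟨by decide, v5_15_1⟩, ⟨by decide, v5_15_4⟩]
theorem htbl5 : ∀ x < 16, ∀ j ∈ K5, tbl5 x j < 16 ∧ V cs (par cs K4) (word5 x) j (word5 (tbl5 x j)) := by
  intro x hx
  interval_cases x
  exacts [row5_0, row5_1, row5_2, row5_3, row5_4, row5_5, row5_6, row5_7, row5_8, row5_9, row5_10, row5_11, row5_12, row5_13, row5_14, row5_15]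
theorem pt5_0 : φ (cs.wordProd (word5 0)) p5 = ![0, 0, 0, 0, 1, 0] := pt_base cs φ (by decide) _
theorem pt5_1 : φ (cs.wordProd (word5 1)) p5 = ![0, 0, 0, 1, -1, 1] := pt_step A cs hA φ hφ (j := 4) (w := word5 0) (by decide) pt5_0 (by decide)
theorem pt5_2 : φ (cs.wordProd (word5 2)) p5 = ![0, 1, 1, -1, 0, 1] := pt_step A cs hA φ hφ (j := 3) (w := word5 1) (by decide) pt5_1 (by decide)
theorem pt5_3 : φ (cs.wordProd (word5 3)) p5 = ![1, 1, -1, 0, 0, 1] := pt_step A cs hA φ hφ (j := 2) (w := word5 2) (by decide) pt5_2 (by decide)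
theorem pt5_4 : φ (cs.wordProd (word5 4)) p5 = ![0, -1, 1, 0, 0, 1] := pt_step A cs hA φ hφ (j := 1) (w := word5 2) (by decide) pt5_2 (by decide)
theorem pt5_5 : φ (cs.wordProd (word5 5)) p5 = ![-1, 1, 0, 0, 0, 1] := pt_step A cs hA φ hφ (j := 0) (w := word5 3) (by decide) pt5_3 (by decide)
theorem pt5_6 : φ (cs.wordProd (word5 6)) p5 = ![1, -1, -1, 1, 0, 1] := pt_step A cs hA φ hφ (j := 1) (w := word5 3) (by decide) pt5_3 (by decide)
theorem pt5_7 : φ (cs.wordProd (word5 7)) p5 = ![-1, -1, 0, 1, 0, 1] := pt_step A cs hA φ hφ (j := 1) (w := word5 5) (by decide) pt5_5 (by decide)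
theorem pt5_8 : φ (cs.wordProd (word5 8)) p5 = ![1, 0, 0, -1, 1, 1] := pt_step A cs hA φ hφ (j := 3) (w := word5 6) (by decide) pt5_6 (by decide)
theorem pt5_9 : φ (cs.wordProd (word5 9)) p5 = ![-1, 0, 1, -1, 1, 1] := pt_step A cs hA φ hφ (j := 3) (w := word5 7) (by decide) pt5_7 (by decide)
theorem pt5_10 : φ (cs.wordProd (word5 10)) p5 = ![1, 0, 0, 0, -1, 2] := pt_step A cs hA φ hφ (j := 4) (w := word5 8) (by decide) pt5_8 (by decide)
theorem pt5_11 : φ (cs.wordProd (word5 11)) p5 = ![0, 0, -1, 0, 1, 1] := pt_step A cs hA φ hφ (j := 2) (w := word5 9) (by decide) pt5_9 (by decide)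
theorem pt5_12 : φ (cs.wordProd (word5 12)) p5 = ![-1, 0, 1, 0, -1, 2] := pt_step A cs hA φ hφ (j := 4) (w := word5 9) (by decide) pt5_9 (by decide)
theorem pt5_13 : φ (cs.wordProd (word5 13)) p5 = ![0, 0, -1, 1, -1, 2] := pt_step A cs hA φ hφ (j := 4) (w := word5 11) (by decide) pt5_11 (by decide)
theorem pt5_14 : φ (cs.wordProd (word5 14)) p5 = ![0, 1, 0, -1, 0, 2] := pt_step A cs hA φ hφ (j := 3) (w := word5 13) (by decide) pt5_13 (by decide)
theorem pt5_15 : φ (cs.wordProd (word5 15)) p5 = ![0, -1, 0, 0, 0, 2] := pt_step A cs hA φ hφ (j := 1) (w := word5 14) (by decide) pt5_14 (by decide)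
theorem key5_0 : key (φ (cs.wordProd (word5 0)) p5) = keys5.getD 0 0 := by rw [pt5_0]; decide
theorem key5_1 : key (φ (cs.wordProd (word5 1)) p5) = keys5.getD 1 0 := by rw [pt5_1]; decide
theorem key5_2 : key (φ (cs.wordProd (word5 2)) p5) = keys5.getD 2 0 := by rw [pt5_2]; decide
theorem key5_3 : key (φ (cs.wordProd (word5 3)) p5) = keys5.getD 3 0 := by rw [pt5_3]; decide
theorem key5_4 : key (φ (cs.wordProd (word5 4)) p5) = keys5.getD 4 0 := by rw [pt5_4]; decide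
theorem key5_5 : key (φ (cs.wordProd (word5 5)) p5) = keys5.getD 5 0 := by rw [pt5_5]; decide
theorem key5_6 : key (φ (cs.wordProd (word5 6)) p5) = keys5.getD 6 0 := by rw [pt5_6]; decide
theorem key5_7 : key (φ (cs.wordProd (word5 7)) p5) = keys5.getD 7 0 := by rw [pt5_7]; decide
theorem key5_8 : key (φ (cs.wordProd (word5 8)) p5) = keys5.getD 8 0 := by rw [pt5_8]; decide
theorem key5_9 : key (φ (cs.wordProd (word5 9)) p5) = keys5.getD 9 0 := by rw [pt5_9]; decide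
theorem key5_10 : key (φ (cs.wordProd (word5 10)) p5) = keys5.getD 10 0 := by rw [pt5_10]; decide
theorem key5_11 : key (φ (cs.wordProd (word5 11)) p5) = keys5.getD 11 0 := by rw [pt5_11]; decide
theorem key5_12 : key (φ (cs.wordProd (word5 12)) p5) = keys5.getD 12 0 := by rw [pt5_12]; decide
theorem key5_13 : key (φ (cs.wordProd (word5 13)) p5) = keys5.getD 13 0 := by rw [pt5_13]; decide
theorem key5_14 : key (φ (cs.wordProd (word5 14)) p5) = keys5.getD 14 0 := by rw [pt5_14]; decide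
theorem key5_15 : key (φ (cs.wordProd (word5 15)) p5) = keys5.getD 15 0 := by rw [pt5_15]; decide
theorem hkey5 : ∀ x < 16, key (φ (cs.wordProd (word5 x)) p5) = keys5.getD x 0 := by
  intro x hx
  interval_cases x
  exacts [key5_0, key5_1, key5_2, key5_3, key5_4, key5_5, key5_6, key5_7, key5_8, key5_9, key5_10, key5_11, key5_12, key5_13, key5_14, key5_15]
theorem card5 : Nat.card (par cs K5) = 16 * Nat.card (par cs K4) :=
  link_card cs φ p5 K4 K5 16 word5 tbl5 (by decide) (by decide) (by decide) (by decide) htbl5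
    (fix_of_refl A cs hA φ hφ K4 p5 (by decide))
    (hdist_of_keys cs φ p5 word5 16 key keys5 (by decide) (by decide) hkey5)

-- link 6: K = [0, 2, 3, 1, 4, 5], N = 27
def K6 : List (Fin 6) := [0, 2, 3, 1, 4, 5]
def word6 : ℕ → List (Fin 6) := fun x => ([[], [5], [4, 5], [3, 4, 5], [2, 3, 4, 5], [1, 3, 4, 5], [0, 2, 3, 4, 5], [1, 2, 3, 4, 5], [1, 0, 2, 3, 4, 5], [3, 1, 2, 3, 4, 5], [3, 1, 0, 2, 3, 4, 5], [4, 3, 1, 2, 3, 4, 5], [2, 3, 1, 0, 2, 3, 4, 5], [4, 3, 1, 0, 2, 3, 4, 5], [5, 4, 3, 1, 2, 3, 4, 5], [4, 2, 3, 1, 0, 2, 3, 4, 5], [5, 4, 3, 1, 0, 2, 3, 4, 5], [3, 4, 2, 3, 1, 0, 2, 3, 4, 5], [5, 4, 2, 3, 1, 0, 2, 3, 4, 5], [1, 3, 4, 2, 3, 1, 0, 2, 3, 4, 5], [5, 3, 4, 2, 3, 1, 0, 2, 3, 4, 5], [5, 1, 3, 4, 2, 3, 1, 0, 2, 3, 4, 5], [4, 5, 3, 4, 2, 3, 1, 0, 2, 3, 4, 5], [4, 5, 1, 3, 4, 2, 3, 1, 0, 2, 3, 4, 5], [3, 4, 5, 1, 3, 4, 2, 3, 1, 0, 2, 3, 4, 5], [2, 3, 4, 5, 1, 3, 4, 2, 3, 1, 0, 2, 3, 4,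 5], [0, 2, 3, 4, 5, 1, 3, 4, 2, 3, 1, 0, 2, 3, 4, 5]] : List (List (Fin 6))).getD x []
def tbl6 : ℕ → Fin 6 → ℕ := fun x j => (([[0, 0, 0, 0, 0, 1], [1, 1, 1, 1, 2, 0], [2, 2, 2, 3, 1, 2], [3, 5, 4, 2, 3, 3], [6, 7, 3, 4, 4, 4], [5, 3, 7, 5, 5, 5], [4, 8, 6, 6, 6, 6], [8, 4, 5, 9, 7, 7], [7, 6, 8, 10, 8, 8], [10, 9, 9, 7, 11, 9], [9, 10, 12, 8, 13, 10], [13, 11, 11, 11, 9, 14], [12, 12, 10, 12, 15, 12], [11, 13, 15, 13, 10, 16], [16, 14, 14, 14, 14, 11], [15, 15, 13, 17, 12, 18], [14, 16, 18, 16, 16, 13], [17, 19, 17, 15, 17, 20], [18, 18, 16, 20, 18, 15], [19, 17, 19, 19, 19, 21], [20, 21, 20, 18, 22, 17], [21, 20, 21, 21, 23, 19], [22, 23, 22, 22, 20, 22], [23, 22, 23, 24, 21, 23], [24, 24, 25, 23, 24, 24], [26, 25, 24, 25, 25, 25], [25, 26, 26, 26, 26, 26]] : List (List ℕ)).getD x []).getD j.val 0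
def p6 : Fin 6 → ℤ := ![0, 0, 0, 0, 0, 1]
def keys6 : List ℤ := [10000000000, -9900000000, -99000000, -989900, -9899, 9900, 99, 989901, 999899, 99000001, 99009999, 9900000001, 99990000, 9900009999, -9999999999, 9900990000, -9999990001, 9999000100, -9999010000, 9999999900, -9900999900, -9900000100, -99999900, -99000100, -990000, -9999, -1]
theorem v6_0_5 : V cs (par cs K5) (word6 0) 5 (word6 1) := V_tree cs _ (by decide)
theorem v6_1_5 : V cs (par cs K5) (word6 1) 5 (word6 0) := V_symm cs v6_0_5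
theorem v6_1_4 : V cs (par cs K5) (word6 1) 4 (word6 2) := V_tree cs _ (by decide)
theorem v6_2_4 : V cs (par cs K5) (word6 2) 4 (word6 1) := V_symm cs v6_1_4
theorem v6_2_3 : V cs (par cs K5) (word6 2) 3 (word6 3) := V_tree cs _ (by decide)
theorem v6_3_3 : V cs (par cs K5) (word6 3) 3 (word6 2) := V_symm cs v6_2_3
theorem v6_3_2 : V cs (par cs K5) (word6 3) 2 (word6 4) := V_tree cs _ (by decide)
theorem v6_4_2 : V cs (par cs K5) (word6 4) 2 (word6 3) := V_symm cs v6_3_2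
theorem v6_3_1 : V cs (par cs K5) (word6 3) 1 (word6 5) := V_tree cs _ (by decide)
theorem v6_5_1 : V cs (par cs K5) (word6 5) 1 (word6 3) := V_symm cs v6_3_1
theorem v6_4_0 : V cs (par cs K5) (word6 4) 0 (word6 6) := V_tree cs _ (by decide)
theorem v6_6_0 : V cs (par cs K5) (word6 6) 0 (word6 4) := V_symm cs v6_4_0
theorem v6_4_1 : V cs (par cs K5) (word6 4) 1 (word6 7) := V_tree cs _ (by decide)
theorem v6_7_1 : V cs (par cs K5) (word6 7) 1 (word6 4) := V_symm cs v6_4_1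
theorem v6_6_1 : V cs (par cs K5) (word6 6) 1 (word6 8) := V_tree cs _ (by decide)
theorem v6_8_1 : V cs (par cs K5) (word6 8) 1 (word6 6) := V_symm cs v6_6_1
theorem v6_7_3 : V cs (par cs K5) (word6 7) 3 (word6 9) := V_tree cs _ (by decide)
theorem v6_9_3 : V cs (par cs K5) (word6 9) 3 (word6 7) := V_symm cs v6_7_3
theorem v6_8_3 : V cs (par cs K5) (word6 8) 3 (word6 10) := V_tree cs _ (by decide)
theorem v6_10_3 : V cs (par cs K5) (word6 10) 3 (word6 8) := V_symm cs v6_8_3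
theorem v6_9_4 : V cs (par cs K5) (word6 9) 4 (word6 11) := V_tree cs _ (by decide)
theorem v6_11_4 : V cs (par cs K5) (word6 11) 4 (word6 9) := V_symm cs v6_9_4
theorem v6_10_2 : V cs (par cs K5) (word6 10) 2 (word6 12) := V_tree cs _ (by decide)
theorem v6_12_2 : V cs (par cs K5) (word6 12) 2 (word6 10) := V_symm cs v6_10_2
theorem v6_10_4 : V cs (par cs K5) (word6 10) 4 (word6 13) := V_tree cs _ (by decide)
theorem v6_13_4 : V cs (par cs K5) (word6 13) 4 (word6 10) := V_symm cs v6_10_4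
theorem v6_11_5 : V cs (par cs K5) (word6 11) 5 (word6 14) := V_tree cs _ (by decide)
theorem v6_14_5 : V cs (par cs K5) (word6 14) 5 (word6 11) := V_symm cs v6_11_5
theorem v6_12_4 : V cs (par cs K5) (word6 12) 4 (word6 15) := V_tree cs _ (by decide)
theorem v6_15_4 : V cs (par cs K5) (word6 15) 4 (word6 12) := V_symm cs v6_12_4
theorem v6_13_5 : V cs (par cs K5) (word6 13) 5 (word6 16) := V_tree cs _ (by decide)
theorem v6_16_5 : V cs (par cs K5) (word6 16) 5 (word6 13) := V_symm cs v6_13_5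
theorem v6_15_3 : V cs (par cs K5) (word6 15) 3 (word6 17) := V_tree cs _ (by decide)
theorem v6_17_3 : V cs (par cs K5) (word6 17) 3 (word6 15) := V_symm cs v6_15_3
theorem v6_15_5 : V cs (par cs K5) (word6 15) 5 (word6 18) := V_tree cs _ (by decide)
theorem v6_18_5 : V cs (par cs K5) (word6 18) 5 (word6 15) := V_symm cs v6_15_5
theorem v6_17_1 : V cs (par cs K5) (word6 17) 1 (word6 19) := V_tree cs _ (by decide)
theorem v6_19_1 : V cs (par cs K5) (word6 19) 1 (word6 17) := V_symm cs v6_17_1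
theorem v6_17_5 : V cs (par cs K5) (word6 17) 5 (word6 20) := V_tree cs _ (by decide)
theorem v6_20_5 : V cs (par cs K5) (word6 20) 5 (word6 17) := V_symm cs v6_17_5
theorem v6_19_5 : V cs (par cs K5) (word6 19) 5 (word6 21) := V_tree cs _ (by decide)
theorem v6_21_5 : V cs (par cs K5) (word6 21) 5 (word6 19) := V_symm cs v6_19_5
theorem v6_20_4 : V cs (par cs K5) (word6 20) 4 (word6 22) := V_tree cs _ (by decide)
theorem v6_22_4 : V cs (par cs K5) (word6 22) 4 (word6 20) := V_symm cs v6_20_4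
theorem v6_21_4 : V cs (par cs K5) (word6 21) 4 (word6 23) := V_tree cs _ (by decide)
theorem v6_23_4 : V cs (par cs K5) (word6 23) 4 (word6 21) := V_symm cs v6_21_4
theorem v6_23_3 : V cs (par cs K5) (word6 23) 3 (word6 24) := V_tree cs _ (by decide)
theorem v6_24_3 : V cs (par cs K5) (word6 24) 3 (word6 23) := V_symm cs v6_23_3
theorem v6_24_2 : V cs (par cs K5) (word6 24) 2 (word6 25) := V_tree cs _ (by decide)
theorem v6_25_2 : V cs (par cs K5) (word6 25) 2 (word6 24) := V_symm cs v6_24_2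
theorem v6_25_0 : V cs (par cs K5) (word6 25) 0 (word6 26) := V_tree cs _ (by decide)
theorem v6_26_0 : V cs (par cs K5) (word6 26) 0 (word6 25) := V_symm cs v6_25_0
theorem v6_0_0 : V cs (par cs K5) (word6 0) 0 (word6 0) := V_base cs (by decide) (simple_mem_par cs (by decide))
theorem v6_0_2 : V cs (par cs K5) (word6 0) 2 (word6 0) := V_base cs (by decide) (simple_mem_par cs (by decide))
theorem v6_0_3 : V cs (par cs K5) (word6 0) 3 (word6 0) := V_base cs (by decide) (simple_mem_par cs (by decide))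
theorem v6_0_1 : V cs (par cs K5) (word6 0) 1 (word6 0) := V_base cs (by decide) (simple_mem_par cs (by decide))
theorem v6_0_4 : V cs (par cs K5) (word6 0) 4 (word6 0) := V_base cs (by decide) (simple_mem_par cs (by decide))
theorem v6_8_0 : V cs (par cs K5) (word6 8) 0 (word6 7) := V_ded2 cs (a := 0) (b := 1) (by decide) v6_7_1 v6_4_0 v6_6_1
theorem v6_7_0 : V cs (par cs K5) (word6 7) 0 (word6 8) := V_symm cs v6_8_0
theorem v6_1_0 : V cs (par cs K5) (word6 1) 0 (word6 1) := V_ded2 cs (a := 0) (b := 5) (by decide) v6_1_5 v6_0_0 v6_0_5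
theorem v6_7_2 : V cs (par cs K5) (word6 7) 2 (word6 5) := V_ded2 cs (a := 2) (b := 1) (by decide) v6_5_1 v6_3_2 v6_4_1
theorem v6_5_2 : V cs (par cs K5) (word6 5) 2 (word6 7) := V_symm cs v6_7_2
theorem v6_15_2 : V cs (par cs K5) (word6 15) 2 (word6 13) := V_ded2 cs (a := 2) (b := 4) (by decide) v6_13_4 v6_10_2 v6_12_4
theorem v6_13_2 : V cs (par cs K5) (word6 13) 2 (word6 15) := V_symm cs v6_15_2
theorem v6_1_2 : V cs (par cs K5) (word6 1) 2 (word6 1) := V_ded2 cs (a := 2) (b := 5) (by decide) v6_1_5 v6_0_2 v6_0_5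
theorem v6_18_2 : V cs (par cs K5) (word6 18) 2 (word6 16) := V_ded2 cs (a := 2) (b := 5) (by decide) v6_16_5 v6_13_2 v6_15_5
theorem v6_16_2 : V cs (par cs K5) (word6 16) 2 (word6 18) := V_symm cs v6_18_2
theorem v6_1_3 : V cs (par cs K5) (word6 1) 3 (word6 1) := V_ded2 cs (a := 3) (b := 5) (by decide) v6_1_5 v6_0_3 v6_0_5
theorem v6_20_3 : V cs (par cs K5) (word6 20) 3 (word6 18) := V_ded2 cs (a := 3) (b := 5) (by decide) v6_18_5 v6_15_3 v6_17_5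
theorem v6_18_3 : V cs (par cs K5) (word6 18) 3 (word6 20) := V_symm cs v6_20_3
theorem v6_1_1 : V cs (par cs K5) (word6 1) 1 (word6 1) := V_ded2 cs (a := 1) (b := 5) (by decide) v6_1_5 v6_0_1 v6_0_5
theorem v6_21_1 : V cs (par cs K5) (word6 21) 1 (word6 20) := V_ded2 cs (a := 1) (b := 5) (by decide) v6_20_5 v6_17_1 v6_19_5
theorem v6_20_1 : V cs (par cs K5) (word6 20) 1 (word6 21) := V_symm cs v6_21_1
theorem v6_3_4 : V cs (par cs K5) (word6 3) 4 (word6 3) := V_ded3 cs (a := 4) (b := 3) (by decide) v6_3_3 v6_2_4 v6_1_3 v6_1_4 v6_2_3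
theorem v6_5_4 : V cs (par cs K5) (word6 5) 4 (word6 5) := V_ded2 cs (a := 4) (b := 1) (by decide) v6_5_1 v6_3_4 v6_3_1
theorem v6_2_5 : V cs (par cs K5) (word6 2) 5 (word6 2) := V_ded3 cs (a := 5) (b := 4) (by decide) v6_2_4 v6_1_5 v6_0_4 v6_0_5 v6_1_4
theorem v6_10_0 : V cs (par cs K5) (word6 10) 0 (word6 9) := V_ded2 cs (a := 0) (b := 3) (by decide) v6_9_3 v6_7_0 v6_8_3
theorem v6_9_0 : V cs (par cs K5) (word6 9) 0 (word6 10) := V_symm cs v6_10_0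
theorem v6_2_0 : V cs (par cs K5) (word6 2) 0 (word6 2) := V_ded2 cs (a := 0) (b := 4) (by decide) v6_2_4 v6_1_0 v6_1_4
theorem v6_13_0 : V cs (par cs K5) (word6 13) 0 (word6 11) := V_ded2 cs (a := 0) (b := 4) (by decide) v6_11_4 v6_9_0 v6_10_4
theorem v6_11_0 : V cs (par cs K5) (word6 11) 0 (word6 13) := V_symm cs v6_13_0
theorem v6_16_0 : V cs (par cs K5) (word6 16) 0 (word6 14) := V_ded2 cs (a := 0) (b := 5) (by decide) v6_14_5 v6_11_0 v6_13_5
theorem v6_14_0 : V cs (par cs K5) (word6 14) 0 (word6 16) := V_symm cs v6_16_0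
theorem v6_2_2 : V cs (par cs K5) (word6 2) 2 (word6 2) := V_ded2 cs (a := 2) (b := 4) (by decide) v6_2_4 v6_1_2 v6_1_4
theorem v6_4_3 : V cs (par cs K5) (word6 4) 3 (word6 4) := V_ded3 cs (a := 3) (b := 2) (by decide) v6_4_2 v6_3_3 v6_2_2 v6_2_3 v6_3_2
theorem v6_9_1 : V cs (par cs K5) (word6 9) 1 (word6 9) := V_ded3 cs (a := 1) (b := 3) (by decide) v6_9_3 v6_7_1 v6_4_3 v6_4_1 v6_7_3
theorem v6_2_1 : V cs (par cs K5) (word6 2) 1 (word6 2) := V_ded2 cs (a := 1) (b := 4) (by decide) v6_2_4 v6_1_1 v6_1_4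
theorem v6_11_1 : V cs (par cs K5) (word6 11) 1 (word6 11) := V_ded2 cs (a := 1) (b := 4) (by decide) v6_11_4 v6_9_1 v6_9_4
theorem v6_23_1 : V cs (par cs K5) (word6 23) 1 (word6 22) := V_ded2 cs (a := 1) (b := 4) (by decide) v6_22_4 v6_20_1 v6_21_4
theorem v6_22_1 : V cs (par cs K5) (word6 22) 1 (word6 23) := V_symm cs v6_23_1
theorem v6_14_1 : V cs (par cs K5) (word6 14) 1 (word6 14) := V_ded2 cs (a := 1) (b := 5) (by decide) v6_14_5 v6_11_1 v6_11_5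
theorem v6_4_4 : V cs (par cs K5) (word6 4) 4 (word6 4) := V_ded2 cs (a := 4) (b := 2) (by decide) v6_4_2 v6_3_4 v6_3_2
theorem v6_7_4 : V cs (par cs K5) (word6 7) 4 (word6 7) := V_ded2 cs (a := 4) (b := 2) (by decide) v6_7_2 v6_5_4 v6_5_2
theorem v6_3_5 : V cs (par cs K5) (word6 3) 5 (word6 3) := V_ded2 cs (a := 5) (b := 3) (by decide) v6_3_3 v6_2_5 v6_2_3
theorem v6_5_5 : V cs (par cs K5) (word6 5) 5 (word6 5) := V_ded2 cs (a := 5) (b := 1) (by decide) v6_5_1 v6_3_5 v6_3_1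
theorem v6_3_0 : V cs (par cs K5) (word6 3) 0 (word6 3) := V_ded2 cs (a := 0) (b := 3) (by decide) v6_3_3 v6_2_0 v6_2_3
theorem v6_5_0 : V cs (par cs K5) (word6 5) 0 (word6 5) := V_ded2 cs (a := 0) (b := 1) (by decide) v6_5_1 v6_3_0 v6_3_1
theorem v6_6_2 : V cs (par cs K5) (word6 6) 2 (word6 6) := V_ded3 cs (a := 2) (b := 0) (by decide) v6_6_0 v6_4_2 v6_3_0 v6_3_2 v6_4_0
theorem v6_8_2 : V cs (par cs K5) (word6 8) 2 (word6 8) := V_ded3 cs (a := 2) (b := 0) (by decide) v6_8_0 v6_7_2 v6_5_0 v6_5_2 v6_7_0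
theorem v6_6_3 : V cs (par cs K5) (word6 6) 3 (word6 6) := V_ded2 cs (a := 3) (b := 0) (by decide) v6_6_0 v6_4_3 v6_4_0
theorem v6_12_3 : V cs (par cs K5) (word6 12) 3 (word6 12) := V_ded3 cs (a := 3) (b := 2) (by decide) v6_12_2 v6_10_3 v6_8_2 v6_8_3 v6_10_2
theorem v6_5_3 : V cs (par cs K5) (word6 5) 3 (word6 5) := V_ded3 cs (a := 3) (b := 1) (by decide) v6_5_1 v6_3_3 v6_2_1 v6_2_3 v6_3_1
theorem v6_11_3 : V cs (par cs K5) (word6 11) 3 (word6 11) := V_ded3 cs (a := 3) (b := 4) (by decide) v6_11_4 v6_9_3 v6_7_4 v6_7_3 v6_9_4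
theorem v6_14_3 : V cs (par cs K5) (word6 14) 3 (word6 14) := V_ded2 cs (a := 3) (b := 5) (by decide) v6_14_5 v6_11_3 v6_11_5
theorem v6_10_1 : V cs (par cs K5) (word6 10) 1 (word6 10) := V_ded2 cs (a := 1) (b := 0) (by decide) v6_10_0 v6_9_1 v6_9_0
theorem v6_13_1 : V cs (par cs K5) (word6 13) 1 (word6 13) := V_ded2 cs (a := 1) (b := 0) (by decide) v6_13_0 v6_11_1 v6_11_0
theorem v6_16_1 : V cs (par cs K5) (word6 16) 1 (word6 16) := V_ded2 cs (a := 1) (b := 0) (by decide) v6_16_0 v6_14_1 v6_14_0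
theorem v6_12_1 : V cs (par cs K5) (word6 12) 1 (word6 12) := V_ded2 cs (a := 1) (b := 2) (by decide) v6_12_2 v6_10_1 v6_10_2
theorem v6_15_1 : V cs (par cs K5) (word6 15) 1 (word6 15) := V_ded2 cs (a := 1) (b := 2) (by decide) v6_15_2 v6_13_1 v6_13_2
theorem v6_18_1 : V cs (par cs K5) (word6 18) 1 (word6 18) := V_ded2 cs (a := 1) (b := 2) (by decide) v6_18_2 v6_16_1 v6_16_2
theorem v6_6_4 : V cs (par cs K5) (word6 6) 4 (word6 6) := V_ded2 cs (a := 4) (b := 0) (by decide) v6_6_0 v6_4_4 v6_4_0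
theorem v6_8_4 : V cs (par cs K5) (word6 8) 4 (word6 8) := V_ded2 cs (a := 4) (b := 0) (by decide) v6_8_0 v6_7_4 v6_7_0
theorem v6_17_4 : V cs (par cs K5) (word6 17) 4 (word6 17) := V_ded3 cs (a := 4) (b := 3) (by decide) v6_17_3 v6_15_4 v6_12_3 v6_12_4 v6_15_3
theorem v6_19_4 : V cs (par cs K5) (word6 19) 4 (word6 19) := V_ded2 cs (a := 4) (b := 1) (by decide) v6_19_1 v6_17_4 v6_17_1
theorem v6_4_5 : V cs (par cs K5) (word6 4) 5 (word6 4) := V_ded2 cs (a := 5) (b := 2) (by decide) v6_4_2 v6_3_5 v6_3_2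
theorem v6_7_5 : V cs (par cs K5) (word6 7) 5 (word6 7) := V_ded2 cs (a := 5) (b := 2) (by decide) v6_7_2 v6_5_5 v6_5_2
theorem v6_9_5 : V cs (par cs K5) (word6 9) 5 (word6 9) := V_ded2 cs (a := 5) (b := 3) (by decide) v6_9_3 v6_7_5 v6_7_3
theorem v6_22_5 : V cs (par cs K5) (word6 22) 5 (word6 22) := V_ded3 cs (a := 5) (b := 4) (by decide) v6_22_4 v6_20_5 v6_17_4 v6_17_5 v6_20_4
theorem v6_23_5 : V cs (par cs K5) (word6 23) 5 (word6 23) := V_ded3 cs (a := 5) (b := 4) (by decide) v6_23_4 v6_21_5 v6_19_4 v6_19_5 v6_21_4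
theorem v6_9_2 : V cs (par cs K5) (word6 9) 2 (word6 9) := V_ded3 cs (a := 2) (b := 3) (by decide) v6_9_3 v6_7_2 v6_5_3 v6_5_2 v6_7_3
theorem v6_11_2 : V cs (par cs K5) (word6 11) 2 (word6 11) := V_ded2 cs (a := 2) (b := 4) (by decide) v6_11_4 v6_9_2 v6_9_4
theorem v6_14_2 : V cs (par cs K5) (word6 14) 2 (word6 14) := V_ded2 cs (a := 2) (b := 5) (by decide) v6_14_5 v6_11_2 v6_11_5
theorem v6_13_3 : V cs (par cs K5) (word6 13) 3 (word6 13) := V_ded2 cs (a := 3) (b := 0) (by decide) v6_13_0 v6_11_3 v6_11_0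
theorem v6_16_3 : V cs (par cs K5) (word6 16) 3 (word6 16) := V_ded2 cs (a := 3) (b := 0) (by decide) v6_16_0 v6_14_3 v6_14_0
theorem v6_19_3 : V cs (par cs K5) (word6 19) 3 (word6 19) := V_ded3 cs (a := 3) (b := 1) (by decide) v6_19_1 v6_17_3 v6_15_1 v6_15_3 v6_17_1
theorem v6_21_3 : V cs (par cs K5) (word6 21) 3 (word6 21) := V_ded3 cs (a := 3) (b := 1) (by decide) v6_21_1 v6_20_3 v6_18_1 v6_18_3 v6_20_1
theorem v6_24_4 : V cs (par cs K5) (word6 24) 4 (word6 24) := V_ded3 cs (a := 4) (b := 3) (by decide) v6_24_3 v6_23_4 v6_21_3 v6_21_4 v6_23_3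
theorem v6_14_4 : V cs (par cs K5) (word6 14) 4 (word6 14) := V_ded3 cs (a := 4) (b := 5) (by decide) v6_14_5 v6_11_4 v6_9_5 v6_9_4 v6_11_5
theorem v6_6_5 : V cs (par cs K5) (word6 6) 5 (word6 6) := V_ded2 cs (a := 5) (b := 0) (by decide) v6_6_0 v6_4_5 v6_4_0
theorem v6_8_5 : V cs (par cs K5) (word6 8) 5 (word6 8) := V_ded2 cs (a := 5) (b := 0) (by decide) v6_8_0 v6_7_5 v6_7_0
theorem v6_10_5 : V cs (par cs K5) (word6 10) 5 (word6 10) := V_ded2 cs (a := 5) (b := 0) (by decide) v6_10_0 v6_9_5 v6_9_0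
theorem v6_12_5 : V cs (par cs K5) (word6 12) 5 (word6 12) := V_ded2 cs (a := 5) (b := 2) (by decide) v6_12_2 v6_10_5 v6_10_2
theorem v6_24_5 : V cs (par cs K5) (word6 24) 5 (word6 24) := V_ded2 cs (a := 5) (b := 3) (by decide) v6_24_3 v6_23_5 v6_23_3
theorem v6_12_0 : V cs (par cs K5) (word6 12) 0 (word6 12) := V_ded3 cs (a := 0) (b := 2) (by decide) v6_12_2 v6_10_0 v6_9_2 v6_9_0 v6_10_2
theorem v6_15_0 : V cs (par cs K5) (word6 15) 0 (word6 15) := V_ded3 cs (a := 0) (b := 2) (by decide) v6_15_2 v6_13_0 v6_11_2 v6_11_0 v6_13_2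
theorem v6_18_0 : V cs (par cs K5) (word6 18) 0 (word6 18) := V_ded3 cs (a := 0) (b := 2) (by decide) v6_18_2 v6_16_0 v6_14_2 v6_14_0 v6_16_2
theorem v6_17_0 : V cs (par cs K5) (word6 17) 0 (word6 17) := V_ded2 cs (a := 0) (b := 3) (by decide) v6_17_3 v6_15_0 v6_15_3
theorem v6_20_0 : V cs (par cs K5) (word6 20) 0 (word6 20) := V_ded2 cs (a := 0) (b := 3) (by decide) v6_20_3 v6_18_0 v6_18_3
theorem v6_19_0 : V cs (par cs K5) (word6 19) 0 (word6 19) := V_ded2 cs (a := 0) (b := 1) (by decide) v6_19_1 v6_17_0 v6_17_1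
theorem v6_21_0 : V cs (par cs K5) (word6 21) 0 (word6 21) := V_ded2 cs (a := 0) (b := 1) (by decide) v6_21_1 v6_20_0 v6_20_1
theorem v6_22_0 : V cs (par cs K5) (word6 22) 0 (word6 22) := V_ded2 cs (a := 0) (b := 4) (by decide) v6_22_4 v6_20_0 v6_20_4
theorem v6_23_0 : V cs (par cs K5) (word6 23) 0 (word6 23) := V_ded2 cs (a := 0) (b := 4) (by decide) v6_23_4 v6_21_0 v6_21_4
theorem v6_17_2 : V cs (par cs K5) (word6 17) 2 (word6 17) := V_ded3 cs (a := 2) (b := 3) (by decide) v6_17_3 v6_15_2 v6_13_3 v6_13_2 v6_15_3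
theorem v6_20_2 : V cs (par cs K5) (word6 20) 2 (word6 20) := V_ded3 cs (a := 2) (b := 3) (by decide) v6_20_3 v6_18_2 v6_16_3 v6_16_2 v6_18_3
theorem v6_19_2 : V cs (par cs K5) (word6 19) 2 (word6 19) := V_ded2 cs (a := 2) (b := 1) (by decide) v6_19_1 v6_17_2 v6_17_1
theorem v6_21_2 : V cs (par cs K5) (word6 21) 2 (word6 21) := V_ded2 cs (a := 2) (b := 1) (by decide) v6_21_1 v6_20_2 v6_20_1
theorem v6_22_2 : V cs (par cs K5) (word6 22) 2 (word6 22) := V_ded2 cs (a := 2) (b := 4) (by decide) v6_22_4 v6_20_2 v6_20_4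
theorem v6_23_2 : V cs (par cs K5) (word6 23) 2 (word6 23) := V_ded2 cs (a := 2) (b := 4) (by decide) v6_23_4 v6_21_2 v6_21_4
theorem v6_25_3 : V cs (par cs K5) (word6 25) 3 (word6 25) := V_ded3 cs (a := 3) (b := 2) (by decide) v6_25_2 v6_24_3 v6_23_2 v6_23_3 v6_24_2
theorem v6_16_4 : V cs (par cs K5) (word6 16) 4 (word6 16) := V_ded2 cs (a := 4) (b := 0) (by decide) v6_16_0 v6_14_4 v6_14_0
theorem v6_18_4 : V cs (par cs K5) (word6 18) 4 (word6 18) := V_ded2 cs (a := 4) (b := 2) (by decide) v6_18_2 v6_16_4 v6_16_2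
theorem v6_25_4 : V cs (par cs K5) (word6 25) 4 (word6 25) := V_ded2 cs (a := 4) (b := 2) (by decide) v6_25_2 v6_24_4 v6_24_2
theorem v6_25_5 : V cs (par cs K5) (word6 25) 5 (word6 25) := V_ded2 cs (a := 5) (b := 2) (by decide) v6_25_2 v6_24_5 v6_24_2
theorem v6_24_0 : V cs (par cs K5) (word6 24) 0 (word6 24) := V_ded2 cs (a := 0) (b := 3) (by decide) v6_24_3 v6_23_0 v6_23_3
theorem v6_26_2 : V cs (par cs K5) (word6 26) 2 (word6 26) := V_ded3 cs (a := 2) (b := 0) (by decide) v6_26_0 v6_25_2 v6_24_0 v6_24_2 v6_25_0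
theorem v6_26_3 : V cs (par cs K5) (word6 26) 3 (word6 26) := V_ded2 cs (a := 3) (b := 0) (by decide) v6_26_0 v6_25_3 v6_25_0
theorem v6_22_3 : V cs (par cs K5) (word6 22) 3 (word6 22) := V_ded3 cs (a := 3) (b := 4) (by decide) v6_22_4 v6_20_3 v6_18_4 v6_18_3 v6_20_4
theorem v6_24_1 : V cs (par cs K5) (word6 24) 1 (word6 24) := V_ded3 cs (a := 1) (b := 3) (by decide) v6_24_3 v6_23_1 v6_22_3 v6_22_1 v6_23_3
theorem v6_26_4 : V cs (par cs K5) (word6 26) 4 (word6 26) := V_ded2 cs (a := 4) (b := 0) (by decide) v6_26_0 v6_25_4 v6_25_0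
theorem v6_26_5 : V cs (par cs K5) (word6 26) 5 (word6 26) := V_ded2 cs (a := 5) (b := 0) (by decide) v6_26_0 v6_25_5 v6_25_0
theorem v6_25_1 : V cs (par cs K5) (word6 25) 1 (word6 25) := V_ded2 cs (a := 1) (b := 2) (by decide) v6_25_2 v6_24_1 v6_24_2
theorem v6_26_1 : V cs (par cs K5) (word6 26) 1 (word6 26) := V_ded2 cs (a := 1) (b := 0) (by decide) v6_26_0 v6_25_1 v6_25_0
theorem row6_0 : ∀ j ∈ K6, tbl6 0 j < 27 ∧ V cs (par cs K5) (word6 0) j (word6 (tbl6 0 j)) := by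
  intro j hj
  simp only [K6, List.mem_cons, List.not_mem_nil, or_false] at hj
  rcases hj with rfl | rfl | rfl | rfl | rfl | rfl
  exacts [⟨by decide, v6_0_0⟩, ⟨by decide, v6_0_2⟩, ⟨by decide, v6_0_3⟩, ⟨by decide, v6_0_1⟩, ⟨by decide, v6_0_4⟩, ⟨by decide, v6_0_5⟩]
theorem row6_1 : ∀ j ∈ K6, tbl6 1 j < 27 ∧ V cs (par cs K5) (word6 1) j (word6 (tbl6 1 j)) := by
  intro j hj
  simp only [K6, List.mem_cons, List.not_mem_nil, or_false] at hj
  rcases hj with rfl | rfl | rfl | rfl | rfl | rfl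
  exacts [⟨by decide, v6_1_0⟩, ⟨by decide, v6_1_2⟩, ⟨by decide, v6_1_3⟩, ⟨by decide, v6_1_1⟩, ⟨by decide, v6_1_4⟩, ⟨by decide, v6_1_5⟩]
theorem row6_2 : ∀ j ∈ K6, tbl6 2 j < 27 ∧ V cs (par cs K5) (word6 2) j (word6 (tbl6 2 j)) := by
  intro j hj
  simp only [K6, List.mem_cons, List.not_mem_nil, or_false] at hj
  rcases hj with rfl | rfl | rfl | rfl | rfl | rfl
  exacts [⟨by decide, v6_2_0⟩, ⟨by decide, v6_2_2⟩, ⟨by decide, v6_2_3⟩, ⟨by decide, v6_2_1⟩, ⟨by decide, v6_2_4⟩, ⟨by decide, v6_2_5⟩]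
theorem row6_3 : ∀ j ∈ K6, tbl6 3 j < 27 ∧ V cs (par cs K5) (word6 3) j (word6 (tbl6 3 j)) := by
  intro j hj
  simp only [K6, List.mem_cons, List.not_mem_nil, or_false] at hj
  rcases hj with rfl | rfl | rfl | rfl | rfl | rfl
  exacts [⟨by decide, v6_3_0⟩, ⟨by decide, v6_3_2⟩, ⟨by decide, v6_3_3⟩, ⟨by decide, v6_3_1⟩, ⟨by decide, v6_3_4⟩, ⟨by decide, v6_3_5⟩]
theorem row6_4 : ∀ j ∈ K6, tbl6 4 j < 27 ∧ V cs (par cs K5) (word6 4) j (word6 (tbl6 4 j)) := by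
  intro j hj
  simp only [K6, List.mem_cons, List.not_mem_nil, or_false] at hj
  rcases hj with rfl | rfl | rfl | rfl | rfl | rfl
  exacts [⟨by decide, v6_4_0⟩, ⟨by decide, v6_4_2⟩, ⟨by decide, v6_4_3⟩, ⟨by decide, v6_4_1⟩, ⟨by decide, v6_4_4⟩, ⟨by decide, v6_4_5⟩]
theorem row6_5 : ∀ j ∈ K6, tbl6 5 j < 27 ∧ V cs (par cs K5) (word6 5) j (word6 (tbl6 5 j)) := by
  intro j hj
  simp only [K6, List.mem_cons, List.not_mem_nil, or_false] at hj
  rcases hj with rfl | rfl | rfl | rfl | rfl | rfl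
  exacts [⟨by decide, v6_5_0⟩, ⟨by decide, v6_5_2⟩, ⟨by decide, v6_5_3⟩, ⟨by decide, v6_5_1⟩, ⟨by decide, v6_5_4⟩, ⟨by decide, v6_5_5⟩]
theorem row6_6 : ∀ j ∈ K6, tbl6 6 j < 27 ∧ V cs (par cs K5) (word6 6) j (word6 (tbl6 6 j)) := by
  intro j hj
  simp only [K6, List.mem_cons, List.not_mem_nil, or_false] at hj
  rcases hj with rfl | rfl | rfl | rfl | rfl | rfl
  exacts [⟨by decide, v6_6_0⟩, ⟨by decide, v6_6_2⟩, ⟨by decide, v6_6_3⟩, ⟨by decide, v6_6_1⟩, ⟨by decide, v6_6_4⟩, ⟨by decide, v6_6_5⟩]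
theorem row6_7 : ∀ j ∈ K6, tbl6 7 j < 27 ∧ V cs (par cs K5) (word6 7) j (word6 (tbl6 7 j)) := by
  intro j hj
  simp only [K6, List.mem_cons, List.not_mem_nil, or_false] at hj
  rcases hj with rfl | rfl | rfl | rfl | rfl | rfl
  exacts [⟨by decide, v6_7_0⟩, ⟨by decide, v6_7_2⟩, ⟨by decide, v6_7_3⟩, ⟨by decide, v6_7_1⟩, ⟨by decide, v6_7_4⟩, ⟨by decide, v6_7_5⟩]
theorem row6_8 : ∀ j ∈ K6, tbl6 8 j < 27 ∧ V cs (par cs K5) (word6 8) j (word6 (tbl6 8 j)) := by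
  intro j hj
  simp only [K6, List.mem_cons, List.not_mem_nil, or_false] at hj
  rcases hj with rfl | rfl | rfl | rfl | rfl | rfl
  exacts [⟨by decide, v6_8_0⟩, ⟨by decide, v6_8_2⟩, ⟨by decide, v6_8_3⟩, ⟨by decide, v6_8_1⟩, ⟨by decide, v6_8_4⟩, ⟨by decide, v6_8_5⟩]
theorem row6_9 : ∀ j ∈ K6, tbl6 9 j < 27 ∧ V cs (par cs K5) (word6 9) j (word6 (tbl6 9 j)) := by
  intro j hj
  simp only [K6, List.mem_cons, List.not_mem_nil, or_false] at hj
  rcases hj with rfl | rfl | rfl | rfl | rfl | rfl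
  exacts [⟨by decide, v6_9_0⟩, ⟨by decide, v6_9_2⟩, ⟨by decide, v6_9_3⟩, ⟨by decide, v6_9_1⟩, ⟨by decide, v6_9_4⟩, ⟨by decide, v6_9_5⟩]
theorem row6_10 : ∀ j ∈ K6, tbl6 10 j < 27 ∧ V cs (par cs K5) (word6 10) j (word6 (tbl6 10 j)) := by
  intro j hj
  simp only [K6, List.mem_cons, List.not_mem_nil, or_false] at hj
  rcases hj with rfl | rfl | rfl | rfl | rfl | rfl
  exacts [⟨by decide, v6_10_0⟩, ⟨by decide, v6_10_2⟩, ⟨by decide, v6_10_3⟩, ⟨by decide, v6_10_1⟩, ⟨by decide, v6_10_4⟩, ⟨by decide, v6_10_5⟩]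
theorem row6_11 : ∀ j ∈ K6, tbl6 11 j < 27 ∧ V cs (par cs K5) (word6 11) j (word6 (tbl6 11 j)) := by
  intro j hj
  simp only [K6, List.mem_cons, List.not_mem_nil, or_false] at hj
  rcases hj with rfl | rfl | rfl | rfl | rfl | rfl
  exacts [⟨by decide, v6_11_0⟩, ⟨by decide, v6_11_2⟩, ⟨by decide, v6_11_3⟩, ⟨by decide, v6_11_1⟩, ⟨by decide, v6_11_4⟩, ⟨by decide, v6_11_5⟩]
theorem row6_12 : ∀ j ∈ K6, tbl6 12 j < 27 ∧ V cs (par cs K5) (word6 12) j (word6 (tbl6 12 j)) := by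
  intro j hj
  simp only [K6, List.mem_cons, List.not_mem_nil, or_false] at hj
  rcases hj with rfl | rfl | rfl | rfl | rfl | rfl
  exacts [⟨by decide, v6_12_0⟩, ⟨by decide, v6_12_2⟩, ⟨by decide, v6_12_3⟩, ⟨by decide, v6_12_1⟩, ⟨by decide, v6_12_4⟩, ⟨by decide, v6_12_5⟩]
theorem row6_13 : ∀ j ∈ K6, tbl6 13 j < 27 ∧ V cs (par cs K5) (word6 13) j (word6 (tbl6 13 j)) := by
  intro j hj
  simp only [K6, List.mem_cons, List.not_mem_nil, or_false] at hj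
  rcases hj with rfl | rfl | rfl | rfl | rfl | rfl
  exacts [⟨by decide, v6_13_0⟩, ⟨by decide, v6_13_2⟩, ⟨by decide, v6_13_3⟩, ⟨by decide, v6_13_1⟩, ⟨by decide, v6_13_4⟩, ⟨by decide, v6_13_5⟩]
theorem row6_14 : ∀ j ∈ K6, tbl6 14 j < 27 ∧ V cs (par cs K5) (word6 14) j (word6 (tbl6 14 j)) := by
  intro j hj
  simp only [K6, List.mem_cons, List.not_mem_nil, or_false] at hj
  rcases hj with rfl | rfl | rfl | rfl | rfl | rfl
  exacts [⟨by decide, v6_14_0⟩, ⟨by decide, v6_14_2⟩, ⟨by decide, v6_14_3⟩, ⟨by decide, v6_14_1⟩, ⟨by decide, v6_14_4⟩, ⟨by decide, v6_14_5⟩]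
theorem row6_15 : ∀ j ∈ K6, tbl6 15 j < 27 ∧ V cs (par cs K5) (word6 15) j (word6 (tbl6 15 j)) := by
  intro j hj
  simp only [K6, List.mem_cons, List.not_mem_nil, or_false] at hj
  rcases hj with rfl | rfl | rfl | rfl | rfl | rfl
  exacts [⟨by decide, v6_15_0⟩, ⟨by decide, v6_15_2⟩, ⟨by decide, v6_15_3⟩, ⟨by decide, v6_15_1⟩, ⟨by decide, v6_15_4⟩, ⟨by decide, v6_15_5⟩]
theorem row6_16 : ∀ j ∈ K6, tbl6 16 j < 27 ∧ V cs (par cs K5) (word6 16) j (word6 (tbl6 16 j)) := by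
  intro j hj
  simp only [K6, List.mem_cons, List.not_mem_nil, or_false] at hj
  rcases hj with rfl | rfl | rfl | rfl | rfl | rfl
  exacts [⟨by decide, v6_16_0⟩, ⟨by decide, v6_16_2⟩, ⟨by decide, v6_16_3⟩, ⟨by decide, v6_16_1⟩, ⟨by decide, v6_16_4⟩, ⟨by decide, v6_16_5⟩]
theorem row6_17 : ∀ j ∈ K6, tbl6 17 j < 27 ∧ V cs (par cs K5) (word6 17) j (word6 (tbl6 17 j)) := by
  intro j hj
  simp only [K6, List.mem_cons, List.not_mem_nil, or_false] at hj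
  rcases hj with rfl | rfl | rfl | rfl | rfl | rfl
  exacts [⟨by decide, v6_17_0⟩, ⟨by decide, v6_17_2⟩, ⟨by decide, v6_17_3⟩, ⟨by decide, v6_17_1⟩, ⟨by decide, v6_17_4⟩, ⟨by decide, v6_17_5⟩]
theorem row6_18 : ∀ j ∈ K6, tbl6 18 j < 27 ∧ V cs (par cs K5) (word6 18) j (word6 (tbl6 18 j)) := by
  intro j hj
  simp only [K6, List.mem_cons, List.not_mem_nil, or_false] at hj
  rcases hj with rfl | rfl | rfl | rfl | rfl | rfl
  exacts [⟨by decide, v6_18_0⟩, ⟨by decide, v6_18_2⟩, ⟨by decide, v6_18_3⟩, ⟨by decide, v6_18_1⟩, ⟨by decide, v6_18_4⟩, ⟨by decide, v6_18_5⟩]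
theorem row6_19 : ∀ j ∈ K6, tbl6 19 j < 27 ∧ V cs (par cs K5) (word6 19) j (word6 (tbl6 19 j)) := by
  intro j hj
  simp only [K6, List.mem_cons, List.not_mem_nil, or_false] at hj
  rcases hj with rfl | rfl | rfl | rfl | rfl | rfl
  exacts [⟨by decide, v6_19_0⟩, ⟨by decide, v6_19_2⟩, ⟨by decide, v6_19_3⟩, ⟨by decide, v6_19_1⟩, ⟨by decide, v6_19_4⟩, ⟨by decide, v6_19_5⟩]
theorem row6_20 : ∀ j ∈ K6, tbl6 20 j < 27 ∧ V cs (par cs K5) (word6 20) j (word6 (tbl6 20 j)) := by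
  intro j hj
  simp only [K6, List.mem_cons, List.not_mem_nil, or_false] at hj
  rcases hj with rfl | rfl | rfl | rfl | rfl | rfl
  exacts [⟨by decide, v6_20_0⟩, ⟨by decide, v6_20_2⟩, ⟨by decide, v6_20_3⟩, ⟨by decide, v6_20_1⟩, ⟨by decide, v6_20_4⟩, ⟨by decide, v6_20_5⟩]
theorem row6_21 : ∀ j ∈ K6, tbl6 21 j < 27 ∧ V cs (par cs K5) (word6 21) j (word6 (tbl6 21 j)) := by
  intro j hj
  simp only [K6, List.mem_cons, List.not_mem_nil, or_false] at hj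
  rcases hj with rfl | rfl | rfl | rfl | rfl | rfl
  exacts [⟨by decide, v6_21_0⟩, ⟨by decide, v6_21_2⟩, ⟨by decide, v6_21_3⟩, ⟨by decide, v6_21_1⟩, ⟨by decide, v6_21_4⟩, ⟨by decide, v6_21_5⟩]
theorem row6_22 : ∀ j ∈ K6, tbl6 22 j < 27 ∧ V cs (par cs K5) (word6 22) j (word6 (tbl6 22 j)) := by
  intro j hj
  simp only [K6, List.mem_cons, List.not_mem_nil, or_false] at hj
  rcases hj with rfl | rfl | rfl | rfl | rfl | rfl
  exacts [⟨by decide, v6_22_0⟩, ⟨by decide, v6_22_2⟩, ⟨by decide, v6_22_3⟩, ⟨by decide, v6_22_1⟩, ⟨by decide, v6_22_4⟩, ⟨by decide, v6_22_5⟩]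
theorem row6_23 : ∀ j ∈ K6, tbl6 23 j < 27 ∧ V cs (par cs K5) (word6 23) j (word6 (tbl6 23 j)) := by
  intro j hj
  simp only [K6, List.mem_cons, List.not_mem_nil, or_false] at hj
  rcases hj with rfl | rfl | rfl | rfl | rfl | rfl
  exacts [⟨by decide, v6_23_0⟩, ⟨by decide, v6_23_2⟩, ⟨by decide, v6_23_3⟩, ⟨by decide, v6_23_1⟩, ⟨by decide, v6_23_4⟩, ⟨by decide, v6_23_5⟩]
theorem row6_24 : ∀ j ∈ K6, tbl6 24 j < 27 ∧ V cs (par cs K5) (word6 24) j (word6 (tbl6 24 j)) := by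
  intro j hj
  simp only [K6, List.mem_cons, List.not_mem_nil, or_false] at hj
  rcases hj with rfl | rfl | rfl | rfl | rfl | rfl
  exacts [⟨by decide, v6_24_0⟩, ⟨by decide, v6_24_2⟩, ⟨by decide, v6_24_3⟩, ⟨by decide, v6_24_1⟩, ⟨by decide, v6_24_4⟩, ⟨by decide, v6_24_5⟩]
theorem row6_25 : ∀ j ∈ K6, tbl6 25 j < 27 ∧ V cs (par cs K5) (word6 25) j (word6 (tbl6 25 j)) := by
  intro j hj
  simp only [K6, List.mem_cons, List.not_mem_nil, or_false] at hj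
  rcases hj with rfl | rfl | rfl | rfl | rfl | rfl
  exacts [⟨by decide, v6_25_0⟩, ⟨by decide, v6_25_2⟩, ⟨by decide, v6_25_3⟩, ⟨by decide, v6_25_1⟩, ⟨by decide, v6_25_4⟩, ⟨by decide, v6_25_5⟩]
theorem row6_26 : ∀ j ∈ K6, tbl6 26 j < 27 ∧ V cs (par cs K5) (word6 26) j (word6 (tbl6 26 j)) := by
  intro j hj
  simp only [K6, List.mem_cons, List.not_mem_nil, or_false] at hj
  rcases hj with rfl | rfl | rfl | rfl | rfl | rfl
  exacts [⟨by decide, v6_26_0⟩, ⟨by decide, v6_26_2⟩, ⟨by decide, v6_26_3⟩, ⟨by decide, v6_26_1⟩, ⟨by decide, v6_26_4⟩, ⟨by decide, v6_26_5⟩]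
theorem htbl6 : ∀ x < 27, ∀ j ∈ K6, tbl6 x j < 27 ∧ V cs (par cs K5) (word6 x) j (word6 (tbl6 x j)) := by
  intro x hx
  interval_cases x
  exacts [row6_0, row6_1, row6_2, row6_3, row6_4, row6_5, row6_6, row6_7, row6_8, row6_9, row6_10, row6_11, row6_12, row6_13, row6_14, row6_15, row6_16, row6_17, row6_18, row6_19, row6_20, row6_21, row6_22, row6_23, row6_24, row6_25, row6_26]
theorem pt6_0 : φ (cs.wordProd (word6 0)) p6 = ![0, 0, 0, 0, 0, 1] := pt_base cs φ (by decide) _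
theorem pt6_1 : φ (cs.wordProd (word6 1)) p6 = ![0, 0, 0, 0, 1, -1] := pt_step A cs hA φ hφ (j := 5) (w := word6 0) (by decide) pt6_0 (by decide)
theorem pt6_2 : φ (cs.wordProd (word6 2)) p6 = ![0, 0, 0, 1, -1, 0] := pt_step A cs hA φ hφ (j := 4) (w := word6 1) (by decide) pt6_1 (by decide)
theorem pt6_3 : φ (cs.wordProd (word6 3)) p6 = ![0, 1, 1, -1, 0, 0] := pt_step A cs hA φ hφ (j := 3) (w := word6 2) (by decide) pt6_2 (by decide)
theorem pt6_4 : φ (cs.wordProd (word6 4)) p6 = ![1, 1, -1, 0, 0, 0] := pt_step A cs hA φ hφ (j := 2) (w := word6 3) (by decide) pt6_3 (by decide)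
theorem pt6_5 : φ (cs.wordProd (word6 5)) p6 = ![0, -1, 1, 0, 0, 0] := pt_step A cs hA φ hφ (j := 1) (w := word6 3) (by decide) pt6_3 (by decide)
theorem pt6_6 : φ (cs.wordProd (word6 6)) p6 = ![-1, 1, 0, 0, 0, 0] := pt_step A cs hA φ hφ (j := 0) (w := word6 4) (by decide) pt6_4 (by decide)
theorem pt6_7 : φ (cs.wordProd (word6 7)) p6 = ![1, -1, -1, 1, 0, 0] := pt_step A cs hA φ hφ (j := 1) (w := word6 4) (by decide) pt6_4 (by decide)
theorem pt6_8 : φ (cs.wordProd (word6 8)) p6 = ![-1, -1, 0, 1, 0, 0] := pt_step A cs hA φ hφ (j := 1) (w := word6 6) (by decide) pt6_6 (by decide)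
theorem pt6_9 : φ (cs.wordProd (word6 9)) p6 = ![1, 0, 0, -1, 1, 0] := pt_step A cs hA φ hφ (j := 3) (w := word6 7) (by decide) pt6_7 (by decide)
theorem pt6_10 : φ (cs.wordProd (word6 10)) p6 = ![-1, 0, 1, -1, 1, 0] := pt_step A cs hA φ hφ (j := 3) (w := word6 8) (by decide) pt6_8 (by decide)
theorem pt6_11 : φ (cs.wordProd (word6 11)) p6 = ![1, 0, 0, 0, -1, 1] := pt_step A cs hA φ hφ (j := 4) (w := word6 9) (by decide) pt6_9 (by decide)
theorem pt6_12 : φ (cs.wordProd (word6 12)) p6 = ![0, 0, -1, 0, 1, 0] := pt_step A cs hA φ hφ (j := 2) (w := word6 10) (by decide) pt6_10 (by decide)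
theorem pt6_13 : φ (cs.wordProd (word6 13)) p6 = ![-1, 0, 1, 0, -1, 1] := pt_step A cs hA φ hφ (j := 4) (w := word6 10) (by decide) pt6_10 (by decide)
theorem pt6_14 : φ (cs.wordProd (word6 14)) p6 = ![1, 0, 0, 0, 0, -1] := pt_step A cs hA φ hφ (j := 5) (w := word6 11) (by decide) pt6_11 (by decide)
theorem pt6_15 : φ (cs.wordProd (word6 15)) p6 = ![0, 0, -1, 1, -1, 1] := pt_step A cs hA φ hφ (j := 4) (w := word6 12) (by decide) pt6_12 (by decide)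
theorem pt6_16 : φ (cs.wordProd (word6 16)) p6 = ![-1, 0, 1, 0, 0, -1] := pt_step A cs hA φ hφ (j := 5) (w := word6 13) (by decide) pt6_13 (by decide)
theorem pt6_17 : φ (cs.wordProd (word6 17)) p6 = ![0, 1, 0, -1, 0, 1] := pt_step A cs hA φ hφ (j := 3) (w := word6 15) (by decide) pt6_15 (by decide)
theorem pt6_18 : φ (cs.wordProd (word6 18)) p6 = ![0, 0, -1, 1, 0, -1] := pt_step A cs hA φ hφ (j := 5) (w := word6 15) (by decide) pt6_15 (by decide)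
theorem pt6_19 : φ (cs.wordProd (word6 19)) p6 = ![0, -1, 0, 0, 0, 1] := pt_step A cs hA φ hφ (j := 1) (w := word6 17) (by decide) pt6_17 (by decide)
theorem pt6_20 : φ (cs.wordProd (word6 20)) p6 = ![0, 1, 0, -1, 1, -1] := pt_step A cs hA φ hφ (j := 5) (w := word6 17) (by decide) pt6_17 (by decide)
theorem pt6_21 : φ (cs.wordProd (word6 21)) p6 = ![0, -1, 0, 0, 1, -1] := pt_step A cs hA φ hφ (j := 5) (w := word6 19) (by decide) pt6_19 (by decide)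
theorem pt6_22 : φ (cs.wordProd (word6 22)) p6 = ![0, 1, 0, 0, -1, 0] := pt_step A cs hA φ hφ (j := 4) (w := word6 20) (by decide) pt6_20 (by decide)
theorem pt6_23 : φ (cs.wordProd (word6 23)) p6 = ![0, -1, 0, 1, -1, 0] := pt_step A cs hA φ hφ (j := 4) (w := word6 21) (by decide) pt6_21 (by decide)
theorem pt6_24 : φ (cs.wordProd (word6 24)) p6 = ![0, 0, 1, -1, 0, 0] := pt_step A cs hA φ hφ (j := 3) (w := word6 23) (by decide) pt6_23 (by decide)
theorem pt6_25 : φ (cs.wordProd (word6 25)) p6 = ![1, 0, -1, 0, 0, 0] := pt_step A cs hA φ hφ (j := 2) (w := word6 24) (by decide) pt6_24 (by decide)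
theorem pt6_26 : φ (cs.wordProd (word6 26)) p6 = ![-1, 0, 0, 0, 0, 0] := pt_step A cs hA φ hφ (j := 0) (w := word6 25) (by decide) pt6_25 (by decide)
theorem key6_0 : key (φ (cs.wordProd (word6 0)) p6) = keys6.getD 0 0 := by rw [pt6_0]; decide
theorem key6_1 : key (φ (cs.wordProd (word6 1)) p6) = keys6.getD 1 0 := by rw [pt6_1]; decide
theorem key6_2 : key (φ (cs.wordProd (word6 2)) p6) = keys6.getD 2 0 := by rw [pt6_2]; decide
theorem key6_3 : key (φ (cs.wordProd (word6 3)) p6) = keys6.getD 3 0 := by rw [pt6_3]; decide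
theorem key6_4 : key (φ (cs.wordProd (word6 4)) p6) = keys6.getD 4 0 := by rw [pt6_4]; decide
theorem key6_5 : key (φ (cs.wordProd (word6 5)) p6) = keys6.getD 5 0 := by rw [pt6_5]; decide
theorem key6_6 : key (φ (cs.wordProd (word6 6)) p6) = keys6.getD 6 0 := by rw [pt6_6]; decide
theorem key6_7 : key (φ (cs.wordProd (word6 7)) p6) = keys6.getD 7 0 := by rw [pt6_7]; decide
theorem key6_8 : key (φ (cs.wordProd (word6 8)) p6) = keys6.getD 8 0 := by rw [pt6_8]; decide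
theorem key6_9 : key (φ (cs.wordProd (word6 9)) p6) = keys6.getD 9 0 := by rw [pt6_9]; decide
theorem key6_10 : key (φ (cs.wordProd (word6 10)) p6) = keys6.getD 10 0 := by rw [pt6_10]; decide
theorem key6_11 : key (φ (cs.wordProd (word6 11)) p6) = keys6.getD 11 0 := by rw [pt6_11]; decide
theorem key6_12 : key (φ (cs.wordProd (word6 12)) p6) = keys6.getD 12 0 := by rw [pt6_12]; decide
theorem key6_13 : key (φ (cs.wordProd (word6 13)) p6) = keys6.getD 13 0 := by rw [pt6_13]; decide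
theorem key6_14 : key (φ (cs.wordProd (word6 14)) p6) = keys6.getD 14 0 := by rw [pt6_14]; decide
theorem key6_15 : key (φ (cs.wordProd (word6 15)) p6) = keys6.getD 15 0 := by rw [pt6_15]; decide
theorem key6_16 : key (φ (cs.wordProd (word6 16)) p6) = keys6.getD 16 0 := by rw [pt6_16]; decide
theorem key6_17 : key (φ (cs.wordProd (word6 17)) p6) = keys6.getD 17 0 := by rw [pt6_17]; decide
theorem key6_18 : key (φ (cs.wordProd (word6 18)) p6) = keys6.getD 18 0 := by rw [pt6_18]; decide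
theorem key6_19 : key (φ (cs.wordProd (word6 19)) p6) = keys6.getD 19 0 := by rw [pt6_19]; decide
theorem key6_20 : key (φ (cs.wordProd (word6 20)) p6) = keys6.getD 20 0 := by rw [pt6_20]; decide
theorem key6_21 : key (φ (cs.wordProd (word6 21)) p6) = keys6.getD 21 0 := by rw [pt6_21]; decide
theorem key6_22 : key (φ (cs.wordProd (word6 22)) p6) = keys6.getD 22 0 := by rw [pt6_22]; decide
theorem key6_23 : key (φ (cs.wordProd (word6 23)) p6) = keys6.getD 23 0 := by rw [pt6_23]; decide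
theorem key6_24 : key (φ (cs.wordProd (word6 24)) p6) = keys6.getD 24 0 := by rw [pt6_24]; decide
theorem key6_25 : key (φ (cs.wordProd (word6 25)) p6) = keys6.getD 25 0 := by rw [pt6_25]; decide
theorem key6_26 : key (φ (cs.wordProd (word6 26)) p6) = keys6.getD 26 0 := by rw [pt6_26]; decide
theorem hkey6 : ∀ x < 27, key (φ (cs.wordProd (word6 x)) p6) = keys6.getD x 0 := by
  intro x hx
  interval_cases x
  exacts [key6_0, key6_1, key6_2, key6_3, key6_4, key6_5, key6_6, key6_7, key6_8, key6_9, key6_10, key6_11, key6_12, key6_13, key6_14, key6_15, key6_16, key6_17, key6_18, key6_19, key6_20, key6_21, key6_22, key6_23, key6_24, key6_25, key6_26]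
theorem card6 : Nat.card (par cs K6) = 27 * Nat.card (par cs K5) :=
  link_card cs φ p6 K5 K6 27 word6 tbl6 (by decide) (by decide) (by decide) (by decide) htbl6
    (fix_of_refl A cs hA φ hφ K5 p6 (by decide))
    (hdist_of_keys cs φ p6 word6 27 key keys6 (by decide) (by decide) hkey6)

theorem card : Nat.card Mx.Group = 51840 := by
  have h0 : Nat.card (par cs K0) = 1 := by rw [show K0 = [] from rfl, par_nil]; exact Subgroup.card_bot
  have htop : par cs K6 = ⊤ := par_top cs (by decide)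
  rw [← Subgroup.card_top (G := Mx.Group), ← htop, card6, card5, card4, card3, card2, card1, h0]

end Cfsg.Agent.Lib.Helper25.Cox.E6
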