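import Mathlib
import Cfsg.Agent.Lib.Helper25.CoxeterMat
import Cfsg.Agent.Lib.Helper25.CoxE6Ord

set_option autoImplicit false
set_option maxRecDepth 100000

namespace Cfsg.Agent.Lib.Helper25.Cox.E6

open Cfsg.Agent.Lib.Helper25.Cox

noncomputable def ψ : Mx.Group →* Matrix (Fin 6) (Fin 6) ℤ := matHom A cs hA hcompat
theorem hψ (i : Fin 6) : ψ (Mx.simple i) = reflMat A i := matHom_simple A cs hA hcompat i
theorem φ_eq (g : Mx.Group) (v : Fin 6 → ℤ) : φ g v = (ψ g).mulVec v := actHom_eq_mulVec A cs hA hcompat g v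
theorem ψ_injective : Function.Injective ψ := matHom_injective A cs hA hcompat φ_injective
abbrev cox : Mx.Group := ((List.finRange 6).map Mx.simple).prod
theorem ψ_cox : ψ cox = C := mat_eq_of_mulVec _ _ (fun v => by rw [← φ_eq, hC])
def parent : Fin 6 → Fin 6 := ![0, 3, 0, 2, 3, 4]
theorem center_pm (z : Mx.Group) (hz : z ∈ Subgroup.center Mx.Group) : ψ z = 1 ∨ ψ z = -1 :=
  center_cases A cs hA hcompat 0 parent (by decide) (by decide) z hz
theorem no_neg_one : ∀ g : Mx.Group, ψ g ≠ -1 := by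
  intro g hg
  have h1 : φ g p6 = -p6 := by rw [φ_eq, hg, Matrix.neg_mulVec, Matrix.one_mulVec]
  have hr : g ∈ par cs K6 := by rw [par_top cs (by decide)]; trivial
  obtain ⟨x, hx, u, hu, rfl⟩ := link_surj cs K5 K6 27 word6 tbl6 (by decide) (by decide) htbl6 g hr
  have hu' := par_fix cs φ p6 K5 (fix_of_refl A cs hA φ hφ K5 p6 (by decide)) u hu
  rw [map_mul, Equiv.Perm.mul_apply, hu'] at h1
  have h2 := hkey6 x hx
  rw [h1] at h2
  have h3 : ∀ x < 27, key (-p6) ≠ keys6.getD x 0 := by decide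
  exact h3 x hx h2
theorem center_eq : Subgroup.center Mx.Group = ⊥ := by
  rw [Subgroup.eq_bot_iff_forall]
  intro z hz
  rcases center_pm z hz with h | h
  · exact ψ_injective (by rw [h, map_one])
  · exact absurd h (no_neg_one z)
theorem center_card : Nat.card (Subgroup.center Mx.Group) = 1 := by
  rw [center_eq, Subgroup.card_bot]
theorem center_le : Subgroup.center Mx.Group ≤ Subgroup.zpowers cox := by
  rw [center_eq]; exact bot_le

end Cfsg.Agent.Lib.Helper25.Cox.E6
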