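import Mathlib
import Cfsg.Agent.Lib.Helper25.CoxeterAct

set_option autoImplicit false
set_option maxRecDepth 100000
set_option linter.unusedVariables false

namespace Cfsg.Agent.Lib.Helper25.Cox.E7

open Cfsg.Agent.Lib.Helper25.Cox

abbrev Mx : CoxeterMatrix (Fin 7) := CoxeterMatrix.E₇
abbrev cs : CoxeterSystem Mx Mx.Group := Mx.toCoxeterSystem
def A : Matrix (Fin 7) (Fin 7) ℤ := !![2, 0, -1, 0, 0, 0, 0; 0, 2, 0, -1, 0, 0, 0; -1, 0, 2, -1, 0, 0, 0; 0, -1, -1, 2, -1, 0, 0; 0, 0, 0, -1, 2, -1, 0; 0, 0, 0, 0, -1, 2, -1; 0, 0, 0, 0, 0, -1, 2]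
theorem hA : ∀ i, A i i = 2 := by decide
theorem hcompat : Compat Mx A := compat_of_B (by decide)
noncomputable def φ : Mx.Group →* Equiv.Perm (Fin 7 → ℤ) := actHom A cs hA hcompat
theorem hφ (i : Fin 7) : φ (cs.simple i) = reflEquiv A hA i := actHom_simple A cs hA hcompat i
def key (v : Fin 7 → ℤ) : ℤ := v 0 + 100 * v 1 + 10000 * v 2 + 1000000 * v 3 + 100000000 * v 4 + 10000000000 * v 5 + 1000000000000 * v 6

def K0 : List (Fin 7) := []
-- link 1: K = [0], N = 2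
def K1 : List (Fin 7) := [0]
def word1 : ℕ → List (Fin 7) := fun x => ([[], [0]] : List (List (Fin 7))).getD x []
def tbl1 : ℕ → Fin 7 → ℕ := fun x j => (([[1, 0, 0, 0, 0, 0, 0], [0, 0, 0, 0, 0, 0, 0]] : List (List ℕ)).getD x []).getD j.val 0
def p1 : Fin 7 → ℤ := ![1, 0, 0, 0, 0, 0, 0]
def keys1 : List ℤ := [1, 9999]
theorem v1_0_0 : V cs (par cs K0) (word1 0) 0 (word1 1) := V_tree cs _ (by decide)
theorem v1_1_0 : V cs (par cs K0) (word1 1) 0 (word1 0) := V_symm cs v1_0_0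
theorem row1_0 : ∀ j ∈ K1, tbl1 0 j < 2 ∧ V cs (par cs K0) (word1 0) j (word1 (tbl1 0 j)) := by
  intro j hj
  simp only [K1, List.mem_cons, List.not_mem_nil, or_false] at hj
  subst hj
  exact ⟨by decide, v1_0_0⟩
theorem row1_1 : ∀ j ∈ K1, tbl1 1 j < 2 ∧ V cs (par cs K0) (word1 1) j (word1 (tbl1 1 j)) := by
  intro j hj
  simp only [K1, List.mem_cons, List.not_mem_nil, or_false] at hj
  subst hj
  exact ⟨by decide, v1_1_0⟩
theorem htbl1 : ∀ x < 2, ∀ j ∈ K1, tbl1 x j < 2 ∧ V cs (par cs K0) (word1 x) j (word1 (tbl1 x j)) := by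
  intro x hx
  interval_cases x
  exacts [row1_0, row1_1]
theorem pt1_0 : φ (cs.wordProd (word1 0)) p1 = ![1, 0, 0, 0, 0, 0, 0] := pt_base cs φ (by decide) _
theorem pt1_1 : φ (cs.wordProd (word1 1)) p1 = ![-1, 0, 1, 0, 0, 0, 0] := pt_step A cs hA φ hφ (j := 0) (w := word1 0) (by decide) pt1_0 (by decide)
theorem key1_0 : key (φ (cs.wordProd (word1 0)) p1) = keys1.getD 0 0 := by rw [pt1_0]; decide
theorem key1_1 : key (φ (cs.wordProd (word1 1)) p1) = keys1.getD 1 0 := by rw [pt1_1]; decide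
theorem hkey1 : ∀ x < 2, key (φ (cs.wordProd (word1 x)) p1) = keys1.getD x 0 := by
  intro x hx
  interval_cases x
  exacts [key1_0, key1_1]
theorem card1 : Nat.card (par cs K1) = 2 * Nat.card (par cs K0) :=
  link_card cs φ p1 K0 K1 2 word1 tbl1 (by decide) (by decide) (by decide) (by decide) htbl1
    (fix_of_refl A cs hA φ hφ K0 p1 (by decide))
    (hdist_of_keys cs φ p1 word1 2 key keys1 (by decide) (by decide) hkey1)

-- link 2: K = [0, 2], N = 3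
def K2 : List (Fin 7) := [0, 2]
def word2 : ℕ → List (Fin 7) := fun x => ([[], [2], [0, 2]] : List (List (Fin 7))).getD x []
def tbl2 : ℕ → Fin 7 → ℕ := fun x j => (([[0, 0, 1, 0, 0, 0, 0], [2, 0, 0, 0, 0, 0, 0], [1, 0, 2, 0, 0, 0, 0]] : List (List ℕ)).getD x []).getD j.val 0
def p2 : Fin 7 → ℤ := ![0, 0, 1, 0, 0, 0, 0]
def keys2 : List ℤ := [10000, 990001, 999999]
theorem v2_0_2 : V cs (par cs K1) (word2 0) 2 (word2 1) := V_tree cs _ (by decide)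
theorem v2_1_2 : V cs (par cs K1) (word2 1) 2 (word2 0) := V_symm cs v2_0_2
theorem v2_1_0 : V cs (par cs K1) (word2 1) 0 (word2 2) := V_tree cs _ (by decide)
theorem v2_2_0 : V cs (par cs K1) (word2 2) 0 (word2 1) := V_symm cs v2_1_0
theorem v2_0_0 : V cs (par cs K1) (word2 0) 0 (word2 0) := V_base cs (by decide) (simple_mem_par cs (by decide))
theorem v2_2_2 : V cs (par cs K1) (word2 2) 2 (word2 2) := V_ded3 cs (a := 2) (b := 0) (by decide) v2_2_0 v2_1_2 v2_0_0 v2_0_2 v2_1_0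
theorem row2_0 : ∀ j ∈ K2, tbl2 0 j < 3 ∧ V cs (par cs K1) (word2 0) j (word2 (tbl2 0 j)) := by
  intro j hj
  simp only [K2, List.mem_cons, List.not_mem_nil, or_false] at hj
  rcases hj with rfl | rfl
  exacts [⟨by decide, v2_0_0⟩, ⟨by decide, v2_0_2⟩]
theorem row2_1 : ∀ j ∈ K2, tbl2 1 j < 3 ∧ V cs (par cs K1) (word2 1) j (word2 (tbl2 1 j)) := by
  intro j hj
  simp only [K2, List.mem_cons, List.not_mem_nil, or_false] at hj
  rcases hj with rfl | rfl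
  exacts [⟨by decide, v2_1_0⟩, ⟨by decide, v2_1_2⟩]
theorem row2_2 : ∀ j ∈ K2, tbl2 2 j < 3 ∧ V cs (par cs K1) (word2 2) j (word2 (tbl2 2 j)) := by
  intro j hj
  simp only [K2, List.mem_cons, List.not_mem_nil, or_false] at hj
  rcases hj with rfl | rfl
  exacts [⟨by decide, v2_2_0⟩, ⟨by decide, v2_2_2⟩]
theorem htbl2 : ∀ x < 3, ∀ j ∈ K2, tbl2 x j < 3 ∧ V cs (par cs K1) (word2 x) j (word2 (tbl2 x j)) := by
  intro x hx
  interval_cases x
  exacts [row2_0, row2_1, row2_2]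
theorem pt2_0 : φ (cs.wordProd (word2 0)) p2 = ![0, 0, 1, 0, 0, 0, 0] := pt_base cs φ (by decide) _
theorem pt2_1 : φ (cs.wordProd (word2 1)) p2 = ![1, 0, -1, 1, 0, 0, 0] := pt_step A cs hA φ hφ (j := 2) (w := word2 0) (by decide) pt2_0 (by decide)
theorem pt2_2 : φ (cs.wordProd (word2 2)) p2 = ![-1, 0, 0, 1, 0, 0, 0] := pt_step A cs hA φ hφ (j := 0) (w := word2 1) (by decide) pt2_1 (by decide)
theorem key2_0 : key (φ (cs.wordProd (word2 0)) p2) = keys2.getD 0 0 := by rw [pt2_0]; decide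
theorem key2_1 : key (φ (cs.wordProd (word2 1)) p2) = keys2.getD 1 0 := by rw [pt2_1]; decide
theorem key2_2 : key (φ (cs.wordProd (word2 2)) p2) = keys2.getD 2 0 := by rw [pt2_2]; decide
theorem hkey2 : ∀ x < 3, key (φ (cs.wordProd (word2 x)) p2) = keys2.getD x 0 := by
  intro x hx
  interval_cases x
  exacts [key2_0, key2_1, key2_2]
theorem card2 : Nat.card (par cs K2) = 3 * Nat.card (par cs K1) :=
  link_card cs φ p2 K1 K2 3 word2 tbl2 (by decide) (by decide) (by decide) (by decide) htbl2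
    (fix_of_refl A cs hA φ hφ K1 p2 (by decide))
    (hdist_of_keys cs φ p2 word2 3 key keys2 (by decide) (by decide) hkey2)

-- link 3: K = [0, 2, 3], N = 4
def K3 : List (Fin 7) := [0, 2, 3]
def word3 : ℕ → List (Fin 7) := fun x => ([[], [3], [2, 3], [0, 2, 3]] : List (List (Fin 7))).getD x []
def tbl3 : ℕ → Fin 7 → ℕ := fun x j => (([[0, 0, 0, 1, 0, 0, 0], [1, 0, 2, 0, 0, 0, 0], [3, 0, 1, 2, 0, 0, 0], [2, 0, 3, 3, 0, 0, 0]] : List (List ℕ)).getD x []).getD j.val 0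
def p3 : Fin 7 → ℤ := ![0, 0, 0, 1, 0, 0, 0]
def keys3 : List ℤ := [1000000, 99010100, 99990101, 100000099]
theorem v3_0_3 : V cs (par cs K2) (word3 0) 3 (word3 1) := V_tree cs _ (by decide)
theorem v3_1_3 : V cs (par cs K2) (word3 1) 3 (word3 0) := V_symm cs v3_0_3
theorem v3_1_2 : V cs (par cs K2) (word3 1) 2 (word3 2) := V_tree cs _ (by decide)
theorem v3_2_2 : V cs (par cs K2) (word3 2) 2 (word3 1) := V_symm cs v3_1_2
theorem v3_2_0 : V cs (par cs K2) (word3 2) 0 (word3 3) := V_tree cs _ (by decide)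
theorem v3_3_0 : V cs (par cs K2) (word3 3) 0 (word3 2) := V_symm cs v3_2_0
theorem v3_0_0 : V cs (par cs K2) (word3 0) 0 (word3 0) := V_base cs (by decide) (simple_mem_par cs (by decide))
theorem v3_0_2 : V cs (par cs K2) (word3 0) 2 (word3 0) := V_base cs (by decide) (simple_mem_par cs (by decide))
theorem v3_1_0 : V cs (par cs K2) (word3 1) 0 (word3 1) := V_ded2 cs (a := 0) (b := 3) (by decide) v3_1_3 v3_0_0 v3_0_3
theorem v3_3_2 : V cs (par cs K2) (word3 3) 2 (word3 3) := V_ded3 cs (a := 2) (b := 0) (by decide) v3_3_0 v3_2_2 v3_1_0 v3_1_2 v3_2_0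
theorem v3_2_3 : V cs (par cs K2) (word3 2) 3 (word3 2) := V_ded3 cs (a := 3) (b := 2) (by decide) v3_2_2 v3_1_3 v3_0_2 v3_0_3 v3_1_2
theorem v3_3_3 : V cs (par cs K2) (word3 3) 3 (word3 3) := V_ded2 cs (a := 3) (b := 0) (by decide) v3_3_0 v3_2_3 v3_2_0
theorem row3_0 : ∀ j ∈ K3, tbl3 0 j < 4 ∧ V cs (par cs K2) (word3 0) j (word3 (tbl3 0 j)) := by
  intro j hj
  simp only [K3, List.mem_cons, List.not_mem_nil, or_false] at hj
  rcases hj with rfl | rfl | rfl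
  exacts [⟨by decide, v3_0_0⟩, ⟨by decide, v3_0_2⟩, ⟨by decide, v3_0_3⟩]
theorem row3_1 : ∀ j ∈ K3, tbl3 1 j < 4 ∧ V cs (par cs K2) (word3 1) j (word3 (tbl3 1 j)) := by
  intro j hj
  simp only [K3, List.mem_cons, List.not_mem_nil, or_false] at hj
  rcases hj with rfl | rfl | rfl
  exacts [⟨by decide, v3_1_0⟩, ⟨by decide, v3_1_2⟩, ⟨by decide, v3_1_3⟩]
theorem row3_2 : ∀ j ∈ K3, tbl3 2 j < 4 ∧ V cs (par cs K2) (word3 2) j (word3 (tbl3 2 j)) := by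
  intro j hj
  simp only [K3, List.mem_cons, List.not_mem_nil, or_false] at hj
  rcases hj with rfl | rfl | rfl
  exacts [⟨by decide, v3_2_0⟩, ⟨by decide, v3_2_2⟩, ⟨by decide, v3_2_3⟩]
theorem row3_3 : ∀ j ∈ K3, tbl3 3 j < 4 ∧ V cs (par cs K2) (word3 3) j (word3 (tbl3 3 j)) := by
  intro j hj
  simp only [K3, List.mem_cons, List.not_mem_nil, or_false] at hj
  rcases hj with rfl | rfl | rfl
  exacts [⟨by decide, v3_3_0⟩, ⟨by decide, v3_3_2⟩, ⟨by decide, v3_3_3⟩]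
theorem htbl3 : ∀ x < 4, ∀ j ∈ K3, tbl3 x j < 4 ∧ V cs (par cs K2) (word3 x) j (word3 (tbl3 x j)) := by
  intro x hx
  interval_cases x
  exacts [row3_0, row3_1, row3_2, row3_3]
theorem pt3_0 : φ (cs.wordProd (word3 0)) p3 = ![0, 0, 0, 1, 0, 0, 0] := pt_base cs φ (by decide) _
theorem pt3_1 : φ (cs.wordProd (word3 1)) p3 = ![0, 1, 1, -1, 1, 0, 0] := pt_step A cs hA φ hφ (j := 3) (w := word3 0) (by decide) pt3_0 (by decide)
theorem pt3_2 : φ (cs.wordProd (word3 2)) p3 = ![1, 1, -1, 0, 1, 0, 0] := pt_step A cs hA φ hφ (j := 2) (w := word3 1) (by decide) pt3_1 (by decide)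
theorem pt3_3 : φ (cs.wordProd (word3 3)) p3 = ![-1, 1, 0, 0, 1, 0, 0] := pt_step A cs hA φ hφ (j := 0) (w := word3 2) (by decide) pt3_2 (by decide)
theorem key3_0 : key (φ (cs.wordProd (word3 0)) p3) = keys3.getD 0 0 := by rw [pt3_0]; decide
theorem key3_1 : key (φ (cs.wordProd (word3 1)) p3) = keys3.getD 1 0 := by rw [pt3_1]; decide
theorem key3_2 : key (φ (cs.wordProd (word3 2)) p3) = keys3.getD 2 0 := by rw [pt3_2]; decide
theorem key3_3 : key (φ (cs.wordProd (word3 3)) p3) = keys3.getD 3 0 := by rw [pt3_3]; decide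
theorem hkey3 : ∀ x < 4, key (φ (cs.wordProd (word3 x)) p3) = keys3.getD x 0 := by
  intro x hx
  interval_cases x
  exacts [key3_0, key3_1, key3_2, key3_3]
theorem card3 : Nat.card (par cs K3) = 4 * Nat.card (par cs K2) :=
  link_card cs φ p3 K2 K3 4 word3 tbl3 (by decide) (by decide) (by decide) (by decide) htbl3
    (fix_of_refl A cs hA φ hφ K2 p3 (by decide))
    (hdist_of_keys cs φ p3 word3 4 key keys3 (by decide) (by decide) hkey3)

-- link 4: K = [0, 2, 3, 1], N = 5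
def K4 : List (Fin 7) := [0, 2, 3, 1]
def word4 : ℕ → List (Fin 7) := fun x => ([[], [1], [3, 1], [2, 3, 1], [0, 2, 3, 1]] : List (List (Fin 7))).getD x []
def tbl4 : ℕ → Fin 7 → ℕ := fun x j => (([[0, 1, 0, 0, 0, 0, 0], [1, 0, 1, 2, 0, 0, 0], [2, 2, 3, 1, 0, 0, 0], [4, 3, 2, 3, 0, 0, 0], [3, 4, 4, 4, 0, 0, 0]] : List (List ℕ)).getD x []).getD j.val 0
def p4 : Fin 7 → ℤ := ![0, 1, 0, 0, 0, 0, 0]
def keys4 : List ℤ := [100, 999900, 99010000, 99990001, 99999999]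
theorem v4_0_1 : V cs (par cs K3) (word4 0) 1 (word4 1) := V_tree cs _ (by decide)
theorem v4_1_1 : V cs (par cs K3) (word4 1) 1 (word4 0) := V_symm cs v4_0_1
theorem v4_1_3 : V cs (par cs K3) (word4 1) 3 (word4 2) := V_tree cs _ (by decide)
theorem v4_2_3 : V cs (par cs K3) (word4 2) 3 (word4 1) := V_symm cs v4_1_3
theorem v4_2_2 : V cs (par cs K3) (word4 2) 2 (word4 3) := V_tree cs _ (by decide)
theorem v4_3_2 : V cs (par cs K3) (word4 3) 2 (word4 2) := V_symm cs v4_2_2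
theorem v4_3_0 : V cs (par cs K3) (word4 3) 0 (word4 4) := V_tree cs _ (by decide)
theorem v4_4_0 : V cs (par cs K3) (word4 4) 0 (word4 3) := V_symm cs v4_3_0
theorem v4_0_0 : V cs (par cs K3) (word4 0) 0 (word4 0) := V_base cs (by decide) (simple_mem_par cs (by decide))
theorem v4_0_2 : V cs (par cs K3) (word4 0) 2 (word4 0) := V_base cs (by decide) (simple_mem_par cs (by decide))
theorem v4_0_3 : V cs (par cs K3) (word4 0) 3 (word4 0) := V_base cs (by decide) (simple_mem_par cs (by decide))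
theorem v4_1_0 : V cs (par cs K3) (word4 1) 0 (word4 1) := V_ded2 cs (a := 0) (b := 1) (by decide) v4_1_1 v4_0_0 v4_0_1
theorem v4_1_2 : V cs (par cs K3) (word4 1) 2 (word4 1) := V_ded2 cs (a := 2) (b := 1) (by decide) v4_1_1 v4_0_2 v4_0_1
theorem v4_3_3 : V cs (par cs K3) (word4 3) 3 (word4 3) := V_ded3 cs (a := 3) (b := 2) (by decide) v4_3_2 v4_2_3 v4_1_2 v4_1_3 v4_2_2
theorem v4_2_1 : V cs (par cs K3) (word4 2) 1 (word4 2) := V_ded3 cs (a := 1) (b := 3) (by decide) v4_2_3 v4_1_1 v4_0_3 v4_0_1 v4_1_3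
theorem v4_2_0 : V cs (par cs K3) (word4 2) 0 (word4 2) := V_ded2 cs (a := 0) (b := 3) (by decide) v4_2_3 v4_1_0 v4_1_3
theorem v4_4_2 : V cs (par cs K3) (word4 4) 2 (word4 4) := V_ded3 cs (a := 2) (b := 0) (by decide) v4_4_0 v4_3_2 v4_2_0 v4_2_2 v4_3_0
theorem v4_4_3 : V cs (par cs K3) (word4 4) 3 (word4 4) := V_ded2 cs (a := 3) (b := 0) (by decide) v4_4_0 v4_3_3 v4_3_0
theorem v4_3_1 : V cs (par cs K3) (word4 3) 1 (word4 3) := V_ded2 cs (a := 1) (b := 2) (by decide) v4_3_2 v4_2_1 v4_2_2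
theorem v4_4_1 : V cs (par cs K3) (word4 4) 1 (word4 4) := V_ded2 cs (a := 1) (b := 0) (by decide) v4_4_0 v4_3_1 v4_3_0
theorem row4_0 : ∀ j ∈ K4, tbl4 0 j < 5 ∧ V cs (par cs K3) (word4 0) j (word4 (tbl4 0 j)) := by
  intro j hj
  simp only [K4, List.mem_cons, List.not_mem_nil, or_false] at hj
  rcases hj with rfl | rfl | rfl | rfl
  exacts [⟨by decide, v4_0_0⟩, ⟨by decide, v4_0_2⟩, ⟨by decide, v4_0_3⟩, ⟨by decide, v4_0_1⟩]
theorem row4_1 : ∀ j ∈ K4, tbl4 1 j < 5 ∧ V cs (par cs K3) (word4 1) j (word4 (tbl4 1 j)) := by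
  intro j hj
  simp only [K4, List.mem_cons, List.not_mem_nil, or_false] at hj
  rcases hj with rfl | rfl | rfl | rfl
  exacts [⟨by decide, v4_1_0⟩, ⟨by decide, v4_1_2⟩, ⟨by decide, v4_1_3⟩, ⟨by decide, v4_1_1⟩]
theorem row4_2 : ∀ j ∈ K4, tbl4 2 j < 5 ∧ V cs (par cs K3) (word4 2) j (word4 (tbl4 2 j)) := by
  intro j hj
  simp only [K4, List.mem_cons, List.not_mem_nil, or_false] at hj
  rcases hj with rfl | rfl | rfl | rfl
  exacts [⟨by decide, v4_2_0⟩, ⟨by decide, v4_2_2⟩, ⟨by decide, v4_2_3⟩, ⟨by decide, v4_2_1⟩]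
theorem row4_3 : ∀ j ∈ K4, tbl4 3 j < 5 ∧ V cs (par cs K3) (word4 3) j (word4 (tbl4 3 j)) := by
  intro j hj
  simp only [K4, List.mem_cons, List.not_mem_nil, or_false] at hj
  rcases hj with rfl | rfl | rfl | rfl
  exacts [⟨by decide, v4_3_0⟩, ⟨by decide, v4_3_2⟩, ⟨by decide, v4_3_3⟩, ⟨by decide, v4_3_1⟩]
theorem row4_4 : ∀ j ∈ K4, tbl4 4 j < 5 ∧ V cs (par cs K3) (word4 4) j (word4 (tbl4 4 j)) := by
  intro j hj
  simp only [K4, List.mem_cons, List.not_mem_nil, or_false] at hj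
  rcases hj with rfl | rfl | rfl | rfl
  exacts [⟨by decide, v4_4_0⟩, ⟨by decide, v4_4_2⟩, ⟨by decide, v4_4_3⟩, ⟨by decide, v4_4_1⟩]
theorem htbl4 : ∀ x < 5, ∀ j ∈ K4, tbl4 x j < 5 ∧ V cs (par cs K3) (word4 x) j (word4 (tbl4 x j)) := by
  intro x hx
  interval_cases x
  exacts [row4_0, row4_1, row4_2, row4_3, row4_4]
theorem pt4_0 : φ (cs.wordProd (word4 0)) p4 = ![0, 1, 0, 0, 0, 0, 0] := pt_base cs φ (by decide) _
theorem pt4_1 : φ (cs.wordProd (word4 1)) p4 = ![0, -1, 0, 1, 0, 0, 0] := pt_step A cs hA φ hφ (j := 1) (w := word4 0) (by decide) pt4_0 (by decide)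
theorem pt4_2 : φ (cs.wordProd (word4 2)) p4 = ![0, 0, 1, -1, 1, 0, 0] := pt_step A cs hA φ hφ (j := 3) (w := word4 1) (by decide) pt4_1 (by decide)
theorem pt4_3 : φ (cs.wordProd (word4 3)) p4 = ![1, 0, -1, 0, 1, 0, 0] := pt_step A cs hA φ hφ (j := 2) (w := word4 2) (by decide) pt4_2 (by decide)
theorem pt4_4 : φ (cs.wordProd (word4 4)) p4 = ![-1, 0, 0, 0, 1, 0, 0] := pt_step A cs hA φ hφ (j := 0) (w := word4 3) (by decide) pt4_3 (by decide)
theorem key4_0 : key (φ (cs.wordProd (word4 0)) p4) = keys4.getD 0 0 := by rw [pt4_0]; decide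
theorem key4_1 : key (φ (cs.wordProd (word4 1)) p4) = keys4.getD 1 0 := by rw [pt4_1]; decide
theorem key4_2 : key (φ (cs.wordProd (word4 2)) p4) = keys4.getD 2 0 := by rw [pt4_2]; decide
theorem key4_3 : key (φ (cs.wordProd (word4 3)) p4) = keys4.getD 3 0 := by rw [pt4_3]; decide
theorem key4_4 : key (φ (cs.wordProd (word4 4)) p4) = keys4.getD 4 0 := by rw [pt4_4]; decide
theorem hkey4 : ∀ x < 5, key (φ (cs.wordProd (word4 x)) p4) = keys4.getD x 0 := by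
  intro x hx
  interval_cases x
  exacts [key4_0, key4_1, key4_2, key4_3, key4_4]
theorem card4 : Nat.card (par cs K4) = 5 * Nat.card (par cs K3) :=
  link_card cs φ p4 K3 K4 5 word4 tbl4 (by decide) (by decide) (by decide) (by decide) htbl4
    (fix_of_refl A cs hA φ hφ K3 p4 (by decide))
    (hdist_of_keys cs φ p4 word4 5 key keys4 (by decide) (by decide) hkey4)

-- link 5: K = [0, 2, 3, 1, 4], N = 16
def K5 : List (Fin 7) := [0, 2, 3, 1, 4]
def word5 : ℕ → List (Fin 7) := fun x => ([[], [4], [3, 4], [2, 3, 4], [1, 3, 4], [0, 2, 3, 4], [1, 2, 3, 4], [1, 0, 2, 3, 4], [3, 1, 2, 3, 4], [3, 1, 0, 2, 3, 4], [4, 3, 1, 2, 3, 4], [2, 3, 1, 0, 2, 3, 4], [4, 3, 1, 0, 2, 3, 4], [4, 2, 3, 1, 0, 2, 3, 4], [3, 4, 2, 3, 1, 0, 2, 3, 4], [1, 3, 4, 2, 3, 1, 0, 2, 3, 4]] : List (List (Fin 7))).getD x []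
def tbl5 : ℕ → Fin 7 → ℕ := fun x j => (([[0, 0, 0, 0, 1, 0, 0], [1, 1, 1, 2, 0, 0, 0], [2, 4, 3, 1, 2, 0, 0], [5, 6, 2, 3, 3, 0, 0], [4, 2, 6, 4, 4, 0, 0], [3, 7, 5, 5, 5, 0, 0], [7, 3, 4, 8, 6, 0, 0], [6, 5, 7, 9, 7, 0, 0], [9, 8, 8, 6, 10, 0, 0], [8, 9, 11, 7, 12, 0, 0], [12, 10, 10, 10, 8, 0, 0], [11, 11, 9, 11, 13, 0, 0], [10, 12, 13, 12, 9, 0, 0], [13, 13, 12, 14, 11, 0, 0], [14, 15, 14, 13, 14, 0, 0], [15, 14, 15, 15, 15, 0, 0]] : List (List ℕ)).getD x []).getD j.val 0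
def p5 : Fin 7 → ℤ := ![0, 0, 0, 0, 1, 0, 0]
def keys5 : List ℤ := [100000000, 9901000000, 9999010100, 9999990101, 10000009900, 10000000099, 10000989901, 10000999899, 10099000001, 10099009999, 19900000001, 10099990000, 19900009999, 19900990000, 19999000100, 19999999900]
theorem v5_0_4 : V cs (par cs K4) (word5 0) 4 (word5 1) := V_tree cs _ (by decide)
theorem v5_1_4 : V cs (par cs K4) (word5 1) 4 (word5 0) := V_symm cs v5_0_4
theorem v5_1_3 : V cs (par cs K4) (word5 1) 3 (word5 2) := V_tree cs _ (by decide)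
theorem v5_2_3 : V cs (par cs K4) (word5 2) 3 (word5 1) := V_symm cs v5_1_3
theorem v5_2_2 : V cs (par cs K4) (word5 2) 2 (word5 3) := V_tree cs _ (by decide)
theorem v5_3_2 : V cs (par cs K4) (word5 3) 2 (word5 2) := V_symm cs v5_2_2
theorem v5_2_1 : V cs (par cs K4) (word5 2) 1 (word5 4) := V_tree cs _ (by decide)
theorem v5_4_1 : V cs (par cs K4) (word5 4) 1 (word5 2) := V_symm cs v5_2_1
theorem v5_3_0 : V cs (par cs K4) (word5 3) 0 (word5 5) := V_tree cs _ (by decide)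
theorem v5_5_0 : V cs (par cs K4) (word5 5) 0 (word5 3) := V_symm cs v5_3_0
theorem v5_3_1 : V cs (par cs K4) (word5 3) 1 (word5 6) := V_tree cs _ (by decide)
theorem v5_6_1 : V cs (par cs K4) (word5 6) 1 (word5 3) := V_symm cs v5_3_1
theorem v5_5_1 : V cs (par cs K4) (word5 5) 1 (word5 7) := V_tree cs _ (by decide)
theorem v5_7_1 : V cs (par cs K4) (word5 7) 1 (word5 5) := V_symm cs v5_5_1
theorem v5_6_3 : V cs (par cs K4) (word5 6) 3 (word5 8) := V_tree cs _ (by decide)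
theorem v5_8_3 : V cs (par cs K4) (word5 8) 3 (word5 6) := V_symm cs v5_6_3
theorem v5_7_3 : V cs (par cs K4) (word5 7) 3 (word5 9) := V_tree cs _ (by decide)
theorem v5_9_3 : V cs (par cs K4) (word5 9) 3 (word5 7) := V_symm cs v5_7_3
theorem v5_8_4 : V cs (par cs K4) (word5 8) 4 (word5 10) := V_tree cs _ (by decide)
theorem v5_10_4 : V cs (par cs K4) (word5 10) 4 (word5 8) := V_symm cs v5_8_4
theorem v5_9_2 : V cs (par cs K4) (word5 9) 2 (word5 11) := V_tree cs _ (by decide)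
theorem v5_11_2 : V cs (par cs K4) (word5 11) 2 (word5 9) := V_symm cs v5_9_2
theorem v5_9_4 : V cs (par cs K4) (word5 9) 4 (word5 12) := V_tree cs _ (by decide)
theorem v5_12_4 : V cs (par cs K4) (word5 12) 4 (word5 9) := V_symm cs v5_9_4
theorem v5_11_4 : V cs (par cs K4) (word5 11) 4 (word5 13) := V_tree cs _ (by decide)
theorem v5_13_4 : V cs (par cs K4) (word5 13) 4 (word5 11) := V_symm cs v5_11_4
theorem v5_13_3 : V cs (par cs K4) (word5 13) 3 (word5 14) := V_tree cs _ (by decide)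
theorem v5_14_3 : V cs (par cs K4) (word5 14) 3 (word5 13) := V_symm cs v5_13_3
theorem v5_14_1 : V cs (par cs K4) (word5 14) 1 (word5 15) := V_tree cs _ (by decide)
theorem v5_15_1 : V cs (par cs K4) (word5 15) 1 (word5 14) := V_symm cs v5_14_1
theorem v5_0_0 : V cs (par cs K4) (word5 0) 0 (word5 0) := V_base cs (by decide) (simple_mem_par cs (by decide))
theorem v5_0_2 : V cs (par cs K4) (word5 0) 2 (word5 0) := V_base cs (by decide) (simple_mem_par cs (by decide))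
theorem v5_0_3 : V cs (par cs K4) (word5 0) 3 (word5 0) := V_base cs (by decide) (simple_mem_par cs (by decide))
theorem v5_0_1 : V cs (par cs K4) (word5 0) 1 (word5 0) := V_base cs (by decide) (simple_mem_par cs (by decide))
theorem v5_7_0 : V cs (par cs K4) (word5 7) 0 (word5 6) := V_ded2 cs (a := 0) (b := 1) (by decide) v5_6_1 v5_3_0 v5_5_1
theorem v5_6_0 : V cs (par cs K4) (word5 6) 0 (word5 7) := V_symm cs v5_7_0
theorem v5_1_0 : V cs (par cs K4) (word5 1) 0 (word5 1) := V_ded2 cs (a := 0) (b := 4) (by decide) v5_1_4 v5_0_0 v5_0_4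
theorem v5_6_2 : V cs (par cs K4) (word5 6) 2 (word5 4) := V_ded2 cs (a := 2) (b := 1) (by decide) v5_4_1 v5_2_2 v5_3_1
theorem v5_4_2 : V cs (par cs K4) (word5 4) 2 (word5 6) := V_symm cs v5_6_2
theorem v5_1_2 : V cs (par cs K4) (word5 1) 2 (word5 1) := V_ded2 cs (a := 2) (b := 4) (by decide) v5_1_4 v5_0_2 v5_0_4
theorem v5_13_2 : V cs (par cs K4) (word5 13) 2 (word5 12) := V_ded2 cs (a := 2) (b := 4) (by decide) v5_12_4 v5_9_2 v5_11_4
theorem v5_12_2 : V cs (par cs K4) (word5 12) 2 (word5 13) := V_symm cs v5_13_2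
theorem v5_3_3 : V cs (par cs K4) (word5 3) 3 (word5 3) := V_ded3 cs (a := 3) (b := 2) (by decide) v5_3_2 v5_2_3 v5_1_2 v5_1_3 v5_2_2
theorem v5_8_1 : V cs (par cs K4) (word5 8) 1 (word5 8) := V_ded3 cs (a := 1) (b := 3) (by decide) v5_8_3 v5_6_1 v5_3_3 v5_3_1 v5_6_3
theorem v5_1_1 : V cs (par cs K4) (word5 1) 1 (word5 1) := V_ded2 cs (a := 1) (b := 4) (by decide) v5_1_4 v5_0_1 v5_0_4
theorem v5_10_1 : V cs (par cs K4) (word5 10) 1 (word5 10) := V_ded2 cs (a := 1) (b := 4) (by decide) v5_10_4 v5_8_1 v5_8_4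
theorem v5_2_4 : V cs (par cs K4) (word5 2) 4 (word5 2) := V_ded3 cs (a := 4) (b := 3) (by decide) v5_2_3 v5_1_4 v5_0_3 v5_0_4 v5_1_3
theorem v5_4_4 : V cs (par cs K4) (word5 4) 4 (word5 4) := V_ded2 cs (a := 4) (b := 1) (by decide) v5_4_1 v5_2_4 v5_2_1
theorem v5_2_0 : V cs (par cs K4) (word5 2) 0 (word5 2) := V_ded2 cs (a := 0) (b := 3) (by decide) v5_2_3 v5_1_0 v5_1_3
theorem v5_9_0 : V cs (par cs K4) (word5 9) 0 (word5 8) := V_ded2 cs (a := 0) (b := 3) (by decide) v5_8_3 v5_6_0 v5_7_3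
theorem v5_8_0 : V cs (par cs K4) (word5 8) 0 (word5 9) := V_symm cs v5_9_0
theorem v5_4_0 : V cs (par cs K4) (word5 4) 0 (word5 4) := V_ded2 cs (a := 0) (b := 1) (by decide) v5_4_1 v5_2_0 v5_2_1
theorem v5_12_0 : V cs (par cs K4) (word5 12) 0 (word5 10) := V_ded2 cs (a := 0) (b := 4) (by decide) v5_10_4 v5_8_0 v5_9_4
theorem v5_10_0 : V cs (par cs K4) (word5 10) 0 (word5 12) := V_symm cs v5_12_0
theorem v5_5_2 : V cs (par cs K4) (word5 5) 2 (word5 5) := V_ded3 cs (a := 2) (b := 0) (by decide) v5_5_0 v5_3_2 v5_2_0 v5_2_2 v5_3_0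
theorem v5_7_2 : V cs (par cs K4) (word5 7) 2 (word5 7) := V_ded3 cs (a := 2) (b := 0) (by decide) v5_7_0 v5_6_2 v5_4_0 v5_4_2 v5_6_0
theorem v5_5_3 : V cs (par cs K4) (word5 5) 3 (word5 5) := V_ded2 cs (a := 3) (b := 0) (by decide) v5_5_0 v5_3_3 v5_3_0
theorem v5_11_3 : V cs (par cs K4) (word5 11) 3 (word5 11) := V_ded3 cs (a := 3) (b := 2) (by decide) v5_11_2 v5_9_3 v5_7_2 v5_7_3 v5_9_2
theorem v5_4_3 : V cs (par cs K4) (word5 4) 3 (word5 4) := V_ded3 cs (a := 3) (b := 1) (by decide) v5_4_1 v5_2_3 v5_1_1 v5_1_3 v5_2_1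
theorem v5_9_1 : V cs (par cs K4) (word5 9) 1 (word5 9) := V_ded2 cs (a := 1) (b := 0) (by decide) v5_9_0 v5_8_1 v5_8_0
theorem v5_12_1 : V cs (par cs K4) (word5 12) 1 (word5 12) := V_ded2 cs (a := 1) (b := 0) (by decide) v5_12_0 v5_10_1 v5_10_0
theorem v5_11_1 : V cs (par cs K4) (word5 11) 1 (word5 11) := V_ded2 cs (a := 1) (b := 2) (by decide) v5_11_2 v5_9_1 v5_9_2
theorem v5_13_1 : V cs (par cs K4) (word5 13) 1 (word5 13) := V_ded2 cs (a := 1) (b := 2) (by decide) v5_13_2 v5_12_1 v5_12_2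
theorem v5_3_4 : V cs (par cs K4) (word5 3) 4 (word5 3) := V_ded2 cs (a := 4) (b := 2) (by decide) v5_3_2 v5_2_4 v5_2_2
theorem v5_6_4 : V cs (par cs K4) (word5 6) 4 (word5 6) := V_ded2 cs (a := 4) (b := 2) (by decide) v5_6_2 v5_4_4 v5_4_2
theorem v5_14_4 : V cs (par cs K4) (word5 14) 4 (word5 14) := V_ded3 cs (a := 4) (b := 3) (by decide) v5_14_3 v5_13_4 v5_11_3 v5_11_4 v5_13_3
theorem v5_15_4 : V cs (par cs K4) (word5 15) 4 (word5 15) := V_ded2 cs (a := 4) (b := 1) (by decide) v5_15_1 v5_14_4 v5_14_1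
theorem v5_8_2 : V cs (par cs K4) (word5 8) 2 (word5 8) := V_ded3 cs (a := 2) (b := 3) (by decide) v5_8_3 v5_6_2 v5_4_3 v5_4_2 v5_6_3
theorem v5_10_2 : V cs (par cs K4) (word5 10) 2 (word5 10) := V_ded2 cs (a := 2) (b := 4) (by decide) v5_10_4 v5_8_2 v5_8_4
theorem v5_15_3 : V cs (par cs K4) (word5 15) 3 (word5 15) := V_ded3 cs (a := 3) (b := 1) (by decide) v5_15_1 v5_14_3 v5_13_1 v5_13_3 v5_14_1
theorem v5_10_3 : V cs (par cs K4) (word5 10) 3 (word5 10) := V_ded3 cs (a := 3) (b := 4) (by decide) v5_10_4 v5_8_3 v5_6_4 v5_6_3 v5_8_4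
theorem v5_5_4 : V cs (par cs K4) (word5 5) 4 (word5 5) := V_ded2 cs (a := 4) (b := 0) (by decide) v5_5_0 v5_3_4 v5_3_0
theorem v5_7_4 : V cs (par cs K4) (word5 7) 4 (word5 7) := V_ded2 cs (a := 4) (b := 0) (by decide) v5_7_0 v5_6_4 v5_6_0
theorem v5_11_0 : V cs (par cs K4) (word5 11) 0 (word5 11) := V_ded3 cs (a := 0) (b := 2) (by decide) v5_11_2 v5_9_0 v5_8_2 v5_8_0 v5_9_2
theorem v5_13_0 : V cs (par cs K4) (word5 13) 0 (word5 13) := V_ded3 cs (a := 0) (b := 2) (by decide) v5_13_2 v5_12_0 v5_10_2 v5_10_0 v5_12_2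
theorem v5_14_0 : V cs (par cs K4) (word5 14) 0 (word5 14) := V_ded2 cs (a := 0) (b := 3) (by decide) v5_14_3 v5_13_0 v5_13_3
theorem v5_15_0 : V cs (par cs K4) (word5 15) 0 (word5 15) := V_ded2 cs (a := 0) (b := 1) (by decide) v5_15_1 v5_14_0 v5_14_1
theorem v5_12_3 : V cs (par cs K4) (word5 12) 3 (word5 12) := V_ded2 cs (a := 3) (b := 0) (by decide) v5_12_0 v5_10_3 v5_10_0
theorem v5_14_2 : V cs (par cs K4) (word5 14) 2 (word5 14) := V_ded3 cs (a := 2) (b := 3) (by decide) v5_14_3 v5_13_2 v5_12_3 v5_12_2 v5_13_3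
theorem v5_15_2 : V cs (par cs K4) (word5 15) 2 (word5 15) := V_ded2 cs (a := 2) (b := 1) (by decide) v5_15_1 v5_14_2 v5_14_1
theorem row5_0 : ∀ j ∈ K5, tbl5 0 j < 16 ∧ V cs (par cs K4) (word5 0) j (word5 (tbl5 0 j)) := by
  intro j hj
  simp only [K5, List.mem_cons, List.not_mem_nil, or_false] at hj
  rcases hj with rfl | rfl | rfl | rfl | rfl
  exacts [⟨by decide, v5_0_0⟩, ⟨by decide, v5_0_2⟩, ⟨by decide, v5_0_3⟩, ⟨by decide, v5_0_1⟩, ⟨by decide, v5_0_4⟩]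
theorem row5_1 : ∀ j ∈ K5, tbl5 1 j < 16 ∧ V cs (par cs K4) (word5 1) j (word5 (tbl5 1 j)) := by
  intro j hj
  simp only [K5, List.mem_cons, List.not_mem_nil, or_false] at hj
  rcases hj with rfl | rfl | rfl | rfl | rfl
  exacts [⟨by decide, v5_1_0⟩, ⟨by decide, v5_1_2⟩, ⟨by decide, v5_1_3⟩, ⟨by decide, v5_1_1⟩, ⟨by decide, v5_1_4⟩]
theorem row5_2 : ∀ j ∈ K5, tbl5 2 j < 16 ∧ V cs (par cs K4) (word5 2) j (word5 (tbl5 2 j)) := by
  intro j hj
  simp only [K5, List.mem_cons, List.not_mem_nil, or_false] at hj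
  rcases hj with rfl | rfl | rfl | rfl | rfl
  exacts [⟨by decide, v5_2_0⟩, ⟨by decide, v5_2_2⟩, ⟨by decide, v5_2_3⟩, ⟨by decide, v5_2_1⟩, ⟨by decide, v5_2_4⟩]
theorem row5_3 : ∀ j ∈ K5, tbl5 3 j < 16 ∧ V cs (par cs K4) (word5 3) j (word5 (tbl5 3 j)) := by
  intro j hj
  simp only [K5, List.mem_cons, List.not_mem_nil, or_false] at hj
  rcases hj with rfl | rfl | rfl | rfl | rfl
  exacts [⟨by decide, v5_3_0⟩, ⟨by decide, v5_3_2⟩, ⟨by decide, v5_3_3⟩, ⟨by decide, v5_3_1⟩, ⟨by decide, v5_3_4⟩]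
theorem row5_4 : ∀ j ∈ K5, tbl5 4 j < 16 ∧ V cs (par cs K4) (word5 4) j (word5 (tbl5 4 j)) := by
  intro j hj
  simp only [K5, List.mem_cons, List.not_mem_nil, or_false] at hj
  rcases hj with rfl | rfl | rfl | rfl | rfl
  exacts [⟨by decide, v5_4_0⟩, ⟨by decide, v5_4_2⟩, ⟨by decide, v5_4_3⟩, ⟨by decide, v5_4_1⟩, ⟨by decide, v5_4_4⟩]
theorem row5_5 : ∀ j ∈ K5, tbl5 5 j < 16 ∧ V cs (par cs K4) (word5 5) j (word5 (tbl5 5 j)) := by
  intro j hj
  simp only [K5, List.mem_cons, List.not_mem_nil, or_false] at hj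
  rcases hj with rfl | rfl | rfl | rfl | rfl
  exacts [⟨by decide, v5_5_0⟩, ⟨by decide, v5_5_2⟩, ⟨by decide, v5_5_3⟩, ⟨by decide, v5_5_1⟩, ⟨by decide, v5_5_4⟩]
theorem row5_6 : ∀ j ∈ K5, tbl5 6 j < 16 ∧ V cs (par cs K4) (word5 6) j (word5 (tbl5 6 j)) := by
  intro j hj
  simp only [K5, List.mem_cons, List.not_mem_nil, or_false] at hj
  rcases hj with rfl | rfl | rfl | rfl | rfl
  exacts [⟨by decide, v5_6_0⟩, ⟨by decide, v5_6_2⟩, ⟨by decide, v5_6_3⟩, ⟨by decide, v5_6_1⟩, ⟨by decide, v5_6_4⟩]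
theorem row5_7 : ∀ j ∈ K5, tbl5 7 j < 16 ∧ V cs (par cs K4) (word5 7) j (word5 (tbl5 7 j)) := by
  intro j hj
  simp only [K5, List.mem_cons, List.not_mem_nil, or_false] at hj
  rcases hj with rfl | rfl | rfl | rfl | rfl
  exacts [⟨by decide, v5_7_0⟩, ⟨by decide, v5_7_2⟩, ⟨by decide, v5_7_3⟩, ⟨by decide, v5_7_1⟩, ⟨by decide, v5_7_4⟩]
theorem row5_8 : ∀ j ∈ K5, tbl5 8 j < 16 ∧ V cs (par cs K4) (word5 8) j (word5 (tbl5 8 j)) := by
  intro j hj
  simp only [K5, List.mem_cons, List.not_mem_nil, or_false] at hj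
  rcases hj with rfl | rfl | rfl | rfl | rfl
  exacts [⟨by decide, v5_8_0⟩, ⟨by decide, v5_8_2⟩, ⟨by decide, v5_8_3⟩, ⟨by decide, v5_8_1⟩, ⟨by decide, v5_8_4⟩]
theorem row5_9 : ∀ j ∈ K5, tbl5 9 j < 16 ∧ V cs (par cs K4) (word5 9) j (word5 (tbl5 9 j)) := by
  intro j hj
  simp only [K5, List.mem_cons, List.not_mem_nil, or_false] at hj
  rcases hj with rfl | rfl | rfl | rfl | rfl
  exacts [⟨by decide, v5_9_0⟩, ⟨by decide, v5_9_2⟩, ⟨by decide, v5_9_3⟩, ⟨by decide, v5_9_1⟩, ⟨by decide, v5_9_4⟩]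
theorem row5_10 : ∀ j ∈ K5, tbl5 10 j < 16 ∧ V cs (par cs K4) (word5 10) j (word5 (tbl5 10 j)) := by
  intro j hj
  simp only [K5, List.mem_cons, List.not_mem_nil, or_false] at hj
  rcases hj with rfl | rfl | rfl | rfl | rfl
  exacts [⟨by decide, v5_10_0⟩, ⟨by decide, v5_10_2⟩, ⟨by decide, v5_10_3⟩, ⟨by decide, v5_10_1⟩, ⟨by decide, v5_10_4⟩]
theorem row5_11 : ∀ j ∈ K5, tbl5 11 j < 16 ∧ V cs (par cs K4) (word5 11) j (word5 (tbl5 11 j)) := by
  intro j hj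
  simp only [K5, List.mem_cons, List.not_mem_nil, or_false] at hj
  rcases hj with rfl | rfl | rfl | rfl | rfl
  exacts [⟨by decide, v5_11_0⟩, ⟨by decide, v5_11_2⟩, ⟨by decide, v5_11_3⟩, ⟨by decide, v5_11_1⟩, ⟨by decide, v5_11_4⟩]
theorem row5_12 : ∀ j ∈ K5, tbl5 12 j < 16 ∧ V cs (par cs K4) (word5 12) j (word5 (tbl5 12 j)) := by
  intro j hj
  simp only [K5, List.mem_cons, List.not_mem_nil, or_false] at hj
  rcases hj with rfl | rfl | rfl | rfl | rfl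
  exacts [⟨by decide, v5_12_0⟩, ⟨by decide, v5_12_2⟩, ⟨by decide, v5_12_3⟩, ⟨by decide, v5_12_1⟩, ⟨by decide, v5_12_4⟩]
theorem row5_13 : ∀ j ∈ K5, tbl5 13 j < 16 ∧ V cs (par cs K4) (word5 13) j (word5 (tbl5 13 j)) := by
  intro j hj
  simp only [K5, List.mem_cons, List.not_mem_nil, or_false] at hj
  rcases hj with rfl | rfl | rfl | rfl | rfl
  exacts [⟨by decide, v5_13_0⟩, ⟨by decide, v5_13_2⟩, ⟨by decide, v5_13_3⟩, ⟨by decide, v5_13_1⟩, ⟨by decide, v5_13_4⟩]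
theorem row5_14 : ∀ j ∈ K5, tbl5 14 j < 16 ∧ V cs (par cs K4) (word5 14) j (word5 (tbl5 14 j)) := by
  intro j hj
  simp only [K5, List.mem_cons, List.not_mem_nil, or_false] at hj
  rcases hj with rfl | rfl | rfl | rfl | rfl
  exacts [⟨by decide, v5_14_0⟩, ⟨by decide, v5_14_2⟩, ⟨by decide, v5_14_3⟩, ⟨by decide, v5_14_1⟩, ⟨by decide, v5_14_4⟩]
theorem row5_15 : ∀ j ∈ K5, tbl5 15 j < 16 ∧ V cs (par cs K4) (word5 15) j (word5 (tbl5 15 j)) := by
  intro j hj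
  simp only [K5, List.mem_cons, List.not_mem_nil, or_false] at hj
  rcases hj with rfl | rfl | rfl | rfl | rfl
  exacts [⟨by decide, v5_15_0⟩, ⟨by decide, v5_15_2⟩, ⟨by decide, v5_15_3⟩, ⟨by decide, v5_15_1⟩, ⟨by decide, v5_15_4⟩]
theorem htbl5 : ∀ x < 16, ∀ j ∈ K5, tbl5 x j < 16 ∧ V cs (par cs K4) (word5 x) j (word5 (tbl5 x j)) := by
  intro x hx
  interval_cases x
  exacts [row5_0, row5_1, row5_2, row5_3, row5_4, row5_5, row5_6, row5_7, row5_8, row5_9, row5_10, row5_11, row5_12, row5_13, row5_14, row5_15]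
theorem pt5_0 : φ (cs.wordProd (word5 0)) p5 = ![0, 0, 0, 0, 1, 0, 0] := pt_base cs φ (by decide) _
theorem pt5_1 : φ (cs.wordProd (word5 1)) p5 = ![0, 0, 0, 1, -1, 1, 0] := pt_step A cs hA φ hφ (j := 4) (w := word5 0) (by decide) pt5_0 (by decide)
theorem pt5_2 : φ (cs.wordProd (word5 2)) p5 = ![0, 1, 1, -1, 0, 1, 0] := pt_step A cs hA φ hφ (j := 3) (w := word5 1) (by decide) pt5_1 (by decide)
theorem pt5_3 : φ (cs.wordProd (word5 3)) p5 = ![1, 1, -1, 0, 0, 1, 0] := pt_step A cs hA φ hφ (j := 2) (w := word5 2) (by decide) pt5_2 (by decide)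
theorem pt5_4 : φ (cs.wordProd (word5 4)) p5 = ![0, -1, 1, 0, 0, 1, 0] := pt_step A cs hA φ hφ (j := 1) (w := word5 2) (by decide) pt5_2 (by decide)
theorem pt5_5 : φ (cs.wordProd (word5 5)) p5 = ![-1, 1, 0, 0, 0, 1, 0] := pt_step A cs hA φ hφ (j := 0) (w := word5 3) (by decide) pt5_3 (by decide)
theorem pt5_6 : φ (cs.wordProd (word5 6)) p5 = ![1, -1, -1, 1, 0, 1, 0] := pt_step A cs hA φ hφ (j := 1) (w := word5 3) (by decide) pt5_3 (by decide)
theorem pt5_7 : φ (cs.wordProd (word5 7)) p5 = ![-1, -1, 0, 1, 0, 1, 0] := pt_step A cs hA φ hφ (j := 1) (w := word5 5) (by decide) pt5_5 (by decide)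
theorem pt5_8 : φ (cs.wordProd (word5 8)) p5 = ![1, 0, 0, -1, 1, 1, 0] := pt_step A cs hA φ hφ (j := 3) (w := word5 6) (by decide) pt5_6 (by decide)
theorem pt5_9 : φ (cs.wordProd (word5 9)) p5 = ![-1, 0, 1, -1, 1, 1, 0] := pt_step A cs hA φ hφ (j := 3) (w := word5 7) (by decide) pt5_7 (by decide)
theorem pt5_10 : φ (cs.wordProd (word5 10)) p5 = ![1, 0, 0, 0, -1, 2, 0] := pt_step A cs hA φ hφ (j := 4) (w := word5 8) (by decide) pt5_8 (by decide)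
theorem pt5_11 : φ (cs.wordProd (word5 11)) p5 = ![0, 0, -1, 0, 1, 1, 0] := pt_step A cs hA φ hφ (j := 2) (w := word5 9) (by decide) pt5_9 (by decide)
theorem pt5_12 : φ (cs.wordProd (word5 12)) p5 = ![-1, 0, 1, 0, -1, 2, 0] := pt_step A cs hA φ hφ (j := 4) (w := word5 9) (by decide) pt5_9 (by decide)
theorem pt5_13 : φ (cs.wordProd (word5 13)) p5 = ![0, 0, -1, 1, -1, 2, 0] := pt_step A cs hA φ hφ (j := 4) (w := word5 11) (by decide) pt5_11 (by decide)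
theorem pt5_14 : φ (cs.wordProd (word5 14)) p5 = ![0, 1, 0, -1, 0, 2, 0] := pt_step A cs hA φ hφ (j := 3) (w := word5 13) (by decide) pt5_13 (by decide)
theorem pt5_15 : φ (cs.wordProd (word5 15)) p5 = ![0, -1, 0, 0, 0, 2, 0] := pt_step A cs hA φ hφ (j := 1) (w := word5 14) (by decide) pt5_14 (by decide)
theorem key5_0 : key (φ (cs.wordProd (word5 0)) p5) = keys5.getD 0 0 := by rw [pt5_0]; decide
theorem key5_1 : key (φ (cs.wordProd (word5 1)) p5) = keys5.getD 1 0 := by rw [pt5_1]; decide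
theorem key5_2 : key (φ (cs.wordProd (word5 2)) p5) = keys5.getD 2 0 := by rw [pt5_2]; decide
theorem key5_3 : key (φ (cs.wordProd (word5 3)) p5) = keys5.getD 3 0 := by rw [pt5_3]; decide
theorem key5_4 : key (φ (cs.wordProd (word5 4)) p5) = keys5.getD 4 0 := by rw [pt5_4]; decide
theorem key5_5 : key (φ (cs.wordProd (word5 5)) p5) = keys5.getD 5 0 := by rw [pt5_5]; decide
theorem key5_6 : key (φ (cs.wordProd (word5 6)) p5) = keys5.getD 6 0 := by rw [pt5_6]; decide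
theorem key5_7 : key (φ (cs.wordProd (word5 7)) p5) = keys5.getD 7 0 := by rw [pt5_7]; decide
theorem key5_8 : key (φ (cs.wordProd (word5 8)) p5) = keys5.getD 8 0 := by rw [pt5_8]; decide
theorem key5_9 : key (φ (cs.wordProd (word5 9)) p5) = keys5.getD 9 0 := by rw [pt5_9]; decide
theorem key5_10 : key (φ (cs.wordProd (word5 10)) p5) = keys5.getD 10 0 := by rw [pt5_10]; decide
theorem key5_11 : key (φ (cs.wordProd (word5 11)) p5) = keys5.getD 11 0 := by rw [pt5_11]; decide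
theorem key5_12 : key (φ (cs.wordProd (word5 12)) p5) = keys5.getD 12 0 := by rw [pt5_12]; decide
theorem key5_13 : key (φ (cs.wordProd (word5 13)) p5) = keys5.getD 13 0 := by rw [pt5_13]; decide
theorem key5_14 : key (φ (cs.wordProd (word5 14)) p5) = keys5.getD 14 0 := by rw [pt5_14]; decide
theorem key5_15 : key (φ (cs.wordProd (word5 15)) p5) = keys5.getD 15 0 := by rw [pt5_15]; decide
theorem hkey5 : ∀ x < 16, key (φ (cs.wordProd (word5 x)) p5) = keys5.getD x 0 := by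
  intro x hx
  interval_cases x
  exacts [key5_0, key5_1, key5_2, key5_3, key5_4, key5_5, key5_6, key5_7, key5_8, key5_9, key5_10, key5_11, key5_12, key5_13, key5_14, key5_15]
theorem card5 : Nat.card (par cs K5) = 16 * Nat.card (par cs K4) :=
  link_card cs φ p5 K4 K5 16 word5 tbl5 (by decide) (by decide) (by decide) (by decide) htbl5
    (fix_of_refl A cs hA φ hφ K4 p5 (by decide))
    (hdist_of_keys cs φ p5 word5 16 key keys5 (by decide) (by decide) hkey5)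

-- link 6: K = [0, 2, 3, 1, 4, 5], N = 27
def K6 : List (Fin 7) := [0, 2, 3, 1, 4, 5]
def word6 : ℕ → List (Fin 7) := fun x => ([[], [5], [4, 5], [3, 4, 5], [2, 3, 4, 5], [1, 3, 4, 5], [0, 2, 3, 4, 5], [1, 2, 3, 4, 5], [1, 0, 2, 3, 4, 5], [3, 1, 2, 3, 4, 5], [3, 1, 0, 2, 3, 4, 5], [4, 3, 1, 2, 3, 4, 5], [2, 3, 1, 0, 2, 3, 4, 5], [4, 3, 1, 0, 2, 3, 4, 5], [5, 4, 3, 1, 2, 3, 4, 5], [4, 2, 3, 1, 0, 2, 3, 4, 5], [5, 4, 3, 1, 0, 2, 3, 4, 5], [3, 4, 2, 3, 1, 0, 2, 3, 4, 5], [5, 4, 2, 3, 1, 0, 2, 3, 4, 5], [1, 3, 4, 2, 3, 1, 0, 2, 3, 4, 5], [5, 3, 4, 2, 3, 1, 0, 2, 3, 4, 5], [5, 1, 3, 4, 2, 3, 1, 0, 2, 3, 4, 5], [4, 5, 3, 4, 2, 3, 1, 0, 2, 3, 4, 5], [4, 5, 1, 3, 4, 2, 3, 1, 0, 2, 3, 4, 5], [3, 4, 5, 1, 3, 4, 2, 3, 1, 0, 2, 3, 4, 5], [2, 3, 4, 5, 1, 3, 4, 2, 3, 1, 0, 2, 3, 4, 5], [0, 2, 3, 4, 5, 1, 3, 4, 2, 3, 1, 0, 2, 3, 4, 5]] : List (List (Fin 7))).getD x []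
def tbl6 : ℕ → Fin 7 → ℕ := fun x j => (([[0, 0, 0, 0, 0, 1, 0], [1, 1, 1, 1, 2, 0, 0], [2, 2, 2, 3, 1, 2, 0], [3, 5, 4, 2, 3, 3, 0], [6, 7, 3, 4, 4, 4, 0], [5, 3, 7, 5, 5, 5, 0], [4, 8, 6, 6, 6, 6, 0], [8, 4, 5, 9, 7, 7, 0], [7, 6, 8, 10, 8, 8, 0], [10, 9, 9, 7, 11, 9, 0], [9, 10, 12, 8, 13, 10, 0], [13, 11, 11, 11, 9, 14, 0], [12, 12, 10, 12, 15, 12, 0], [11, 13, 15, 13, 10, 16, 0], [16, 14, 14, 14, 14, 11, 0], [15, 15, 13, 17, 12, 18, 0], [14, 16, 18, 16, 16, 13, 0], [17, 19, 17, 15, 17, 20, 0], [18, 18, 16, 20, 18, 15, 0], [19, 17, 19, 19, 19, 21, 0], [20, 21, 20, 18, 22, 17, 0], [21, 20, 21, 21, 23, 19, 0], [22, 23, 22, 22, 20, 22, 0], [23, 22, 23, 24, 21, 23, 0], [24, 24, 25, 23, 24, 24, 0], [26, 25, 24, 25, 25, 25, 0], [25, 26, 26, 26, 26, 26, 0]] : List (List ℕ)).getD x []).getD j.val 0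
def p6 : Fin 7 → ℤ := ![0, 0, 0, 0, 0, 1, 0]
def keys6 : List ℤ := [10000000000, 990100000000, 999901000000, 999999010100, 999999990101, 1000000009900, 1000000000099, 1000000989901, 1000000999899, 1000099000001, 1000099009999, 1009900000001, 1000099990000, 1009900009999, 1990000000001, 1009900990000, 1990000009999, 1009999000100, 1990000990000, 1009999999900, 1990099000100, 1990099999900, 1999900000100, 1999900999900, 1999999010000, 1999999990001, 1999999999999]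
theorem v6_0_5 : V cs (par cs K5) (word6 0) 5 (word6 1) := V_tree cs _ (by decide)
theorem v6_1_5 : V cs (par cs K5) (word6 1) 5 (word6 0) := V_symm cs v6_0_5
theorem v6_1_4 : V cs (par cs K5) (word6 1) 4 (word6 2) := V_tree cs _ (by decide)
theorem v6_2_4 : V cs (par cs K5) (word6 2) 4 (word6 1) := V_symm cs v6_1_4
theorem v6_2_3 : V cs (par cs K5) (word6 2) 3 (word6 3) := V_tree cs _ (by decide)
theorem v6_3_3 : V cs (par cs K5) (word6 3) 3 (word6 2) := V_symm cs v6_2_3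
theorem v6_3_2 : V cs (par cs K5) (word6 3) 2 (word6 4) := V_tree cs _ (by decide)
theorem v6_4_2 : V cs (par cs K5) (word6 4) 2 (word6 3) := V_symm cs v6_3_2
theorem v6_3_1 : V cs (par cs K5) (word6 3) 1 (word6 5) := V_tree cs _ (by decide)
theorem v6_5_1 : V cs (par cs K5) (word6 5) 1 (word6 3) := V_symm cs v6_3_1
theorem v6_4_0 : V cs (par cs K5) (word6 4) 0 (word6 6) := V_tree cs _ (by decide)
theorem v6_6_0 : V cs (par cs K5) (word6 6) 0 (word6 4) := V_symm cs v6_4_0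
theorem v6_4_1 : V cs (par cs K5) (word6 4) 1 (word6 7) := V_tree cs _ (by decide)
theorem v6_7_1 : V cs (par cs K5) (word6 7) 1 (word6 4) := V_symm cs v6_4_1
theorem v6_6_1 : V cs (par cs K5) (word6 6) 1 (word6 8) := V_tree cs _ (by decide)
theorem v6_8_1 : V cs (par cs K5) (word6 8) 1 (word6 6) := V_symm cs v6_6_1
theorem v6_7_3 : V cs (par cs K5) (word6 7) 3 (word6 9) := V_tree cs _ (by decide)
theorem v6_9_3 : V cs (par cs K5) (word6 9) 3 (word6 7) := V_symm cs v6_7_3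
theorem v6_8_3 : V cs (par cs K5) (word6 8) 3 (word6 10) := V_tree cs _ (by decide)
theorem v6_10_3 : V cs (par cs K5) (word6 10) 3 (word6 8) := V_symm cs v6_8_3
theorem v6_9_4 : V cs (par cs K5) (word6 9) 4 (word6 11) := V_tree cs _ (by decide)
theorem v6_11_4 : V cs (par cs K5) (word6 11) 4 (word6 9) := V_symm cs v6_9_4
theorem v6_10_2 : V cs (par cs K5) (word6 10) 2 (word6 12) := V_tree cs _ (by decide)
theorem v6_12_2 : V cs (par cs K5) (word6 12) 2 (word6 10) := V_symm cs v6_10_2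
theorem v6_10_4 : V cs (par cs K5) (word6 10) 4 (word6 13) := V_tree cs _ (by decide)
theorem v6_13_4 : V cs (par cs K5) (word6 13) 4 (word6 10) := V_symm cs v6_10_4
theorem v6_11_5 : V cs (par cs K5) (word6 11) 5 (word6 14) := V_tree cs _ (by decide)
theorem v6_14_5 : V cs (par cs K5) (word6 14) 5 (word6 11) := V_symm cs v6_11_5
theorem v6_12_4 : V cs (par cs K5) (word6 12) 4 (word6 15) := V_tree cs _ (by decide)
theorem v6_15_4 : V cs (par cs K5) (word6 15) 4 (word6 12) := V_symm cs v6_12_4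
theorem v6_13_5 : V cs (par cs K5) (word6 13) 5 (word6 16) := V_tree cs _ (by decide)
theorem v6_16_5 : V cs (par cs K5) (word6 16) 5 (word6 13) := V_symm cs v6_13_5
theorem v6_15_3 : V cs (par cs K5) (word6 15) 3 (word6 17) := V_tree cs _ (by decide)
theorem v6_17_3 : V cs (par cs K5) (word6 17) 3 (word6 15) := V_symm cs v6_15_3
theorem v6_15_5 : V cs (par cs K5) (word6 15) 5 (word6 18) := V_tree cs _ (by decide)
theorem v6_18_5 : V cs (par cs K5) (word6 18) 5 (word6 15) := V_symm cs v6_15_5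
theorem v6_17_1 : V cs (par cs K5) (word6 17) 1 (word6 19) := V_tree cs _ (by decide)
theorem v6_19_1 : V cs (par cs K5) (word6 19) 1 (word6 17) := V_symm cs v6_17_1
theorem v6_17_5 : V cs (par cs K5) (word6 17) 5 (word6 20) := V_tree cs _ (by decide)
theorem v6_20_5 : V cs (par cs K5) (word6 20) 5 (word6 17) := V_symm cs v6_17_5
theorem v6_19_5 : V cs (par cs K5) (word6 19) 5 (word6 21) := V_tree cs _ (by decide)
theorem v6_21_5 : V cs (par cs K5) (word6 21) 5 (word6 19) := V_symm cs v6_19_5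
theorem v6_20_4 : V cs (par cs K5) (word6 20) 4 (word6 22) := V_tree cs _ (by decide)
theorem v6_22_4 : V cs (par cs K5) (word6 22) 4 (word6 20) := V_symm cs v6_20_4
theorem v6_21_4 : V cs (par cs K5) (word6 21) 4 (word6 23) := V_tree cs _ (by decide)
theorem v6_23_4 : V cs (par cs K5) (word6 23) 4 (word6 21) := V_symm cs v6_21_4
theorem v6_23_3 : V cs (par cs K5) (word6 23) 3 (word6 24) := V_tree cs _ (by decide)
theorem v6_24_3 : V cs (par cs K5) (word6 24) 3 (word6 23) := V_symm cs v6_23_3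
theorem v6_24_2 : V cs (par cs K5) (word6 24) 2 (word6 25) := V_tree cs _ (by decide)
theorem v6_25_2 : V cs (par cs K5) (word6 25) 2 (word6 24) := V_symm cs v6_24_2
theorem v6_25_0 : V cs (par cs K5) (word6 25) 0 (word6 26) := V_tree cs _ (by decide)
theorem v6_26_0 : V cs (par cs K5) (word6 26) 0 (word6 25) := V_symm cs v6_25_0
theorem v6_0_0 : V cs (par cs K5) (word6 0) 0 (word6 0) := V_base cs (by decide) (simple_mem_par cs (by decide))
theorem v6_0_2 : V cs (par cs K5) (word6 0) 2 (word6 0) := V_base cs (by decide) (simple_mem_par cs (by decide))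
theorem v6_0_3 : V cs (par cs K5) (word6 0) 3 (word6 0) := V_base cs (by decide) (simple_mem_par cs (by decide))
theorem v6_0_1 : V cs (par cs K5) (word6 0) 1 (word6 0) := V_base cs (by decide) (simple_mem_par cs (by decide))
theorem v6_0_4 : V cs (par cs K5) (word6 0) 4 (word6 0) := V_base cs (by decide) (simple_mem_par cs (by decide))
theorem v6_8_0 : V cs (par cs K5) (word6 8) 0 (word6 7) := V_ded2 cs (a := 0) (b := 1) (by decide) v6_7_1 v6_4_0 v6_6_1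
theorem v6_7_0 : V cs (par cs K5) (word6 7) 0 (word6 8) := V_symm cs v6_8_0
theorem v6_1_0 : V cs (par cs K5) (word6 1) 0 (word6 1) := V_ded2 cs (a := 0) (b := 5) (by decide) v6_1_5 v6_0_0 v6_0_5
theorem v6_7_2 : V cs (par cs K5) (word6 7) 2 (word6 5) := V_ded2 cs (a := 2) (b := 1) (by decide) v6_5_1 v6_3_2 v6_4_1
theorem v6_5_2 : V cs (par cs K5) (word6 5) 2 (word6 7) := V_symm cs v6_7_2
theorem v6_15_2 : V cs (par cs K5) (word6 15) 2 (word6 13) := V_ded2 cs (a := 2) (b := 4) (by decide) v6_13_4 v6_10_2 v6_12_4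
theorem v6_13_2 : V cs (par cs K5) (word6 13) 2 (word6 15) := V_symm cs v6_15_2
theorem v6_1_2 : V cs (par cs K5) (word6 1) 2 (word6 1) := V_ded2 cs (a := 2) (b := 5) (by decide) v6_1_5 v6_0_2 v6_0_5
theorem v6_18_2 : V cs (par cs K5) (word6 18) 2 (word6 16) := V_ded2 cs (a := 2) (b := 5) (by decide) v6_16_5 v6_13_2 v6_15_5
theorem v6_16_2 : V cs (par cs K5) (word6 16) 2 (word6 18) := V_symm cs v6_18_2
theorem v6_1_3 : V cs (par cs K5) (word6 1) 3 (word6 1) := V_ded2 cs (a := 3) (b := 5) (by decide) v6_1_5 v6_0_3 v6_0_5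
theorem v6_20_3 : V cs (par cs K5) (word6 20) 3 (word6 18) := V_ded2 cs (a := 3) (b := 5) (by decide) v6_18_5 v6_15_3 v6_17_5
theorem v6_18_3 : V cs (par cs K5) (word6 18) 3 (word6 20) := V_symm cs v6_20_3
theorem v6_1_1 : V cs (par cs K5) (word6 1) 1 (word6 1) := V_ded2 cs (a := 1) (b := 5) (by decide) v6_1_5 v6_0_1 v6_0_5
theorem v6_21_1 : V cs (par cs K5) (word6 21) 1 (word6 20) := V_ded2 cs (a := 1) (b := 5) (by decide) v6_20_5 v6_17_1 v6_19_5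
theorem v6_20_1 : V cs (par cs K5) (word6 20) 1 (word6 21) := V_symm cs v6_21_1
theorem v6_3_4 : V cs (par cs K5) (word6 3) 4 (word6 3) := V_ded3 cs (a := 4) (b := 3) (by decide) v6_3_3 v6_2_4 v6_1_3 v6_1_4 v6_2_3
theorem v6_5_4 : V cs (par cs K5) (word6 5) 4 (word6 5) := V_ded2 cs (a := 4) (b := 1) (by decide) v6_5_1 v6_3_4 v6_3_1
theorem v6_2_5 : V cs (par cs K5) (word6 2) 5 (word6 2) := V_ded3 cs (a := 5) (b := 4) (by decide) v6_2_4 v6_1_5 v6_0_4 v6_0_5 v6_1_4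
theorem v6_10_0 : V cs (par cs K5) (word6 10) 0 (word6 9) := V_ded2 cs (a := 0) (b := 3) (by decide) v6_9_3 v6_7_0 v6_8_3
theorem v6_9_0 : V cs (par cs K5) (word6 9) 0 (word6 10) := V_symm cs v6_10_0
theorem v6_2_0 : V cs (par cs K5) (word6 2) 0 (word6 2) := V_ded2 cs (a := 0) (b := 4) (by decide) v6_2_4 v6_1_0 v6_1_4
theorem v6_13_0 : V cs (par cs K5) (word6 13) 0 (word6 11) := V_ded2 cs (a := 0) (b := 4) (by decide) v6_11_4 v6_9_0 v6_10_4
theorem v6_11_0 : V cs (par cs K5) (word6 11) 0 (word6 13) := V_symm cs v6_13_0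
theorem v6_16_0 : V cs (par cs K5) (word6 16) 0 (word6 14) := V_ded2 cs (a := 0) (b := 5) (by decide) v6_14_5 v6_11_0 v6_13_5
theorem v6_14_0 : V cs (par cs K5) (word6 14) 0 (word6 16) := V_symm cs v6_16_0
theorem v6_2_2 : V cs (par cs K5) (word6 2) 2 (word6 2) := V_ded2 cs (a := 2) (b := 4) (by decide) v6_2_4 v6_1_2 v6_1_4
theorem v6_4_3 : V cs (par cs K5) (word6 4) 3 (word6 4) := V_ded3 cs (a := 3) (b := 2) (by decide) v6_4_2 v6_3_3 v6_2_2 v6_2_3 v6_3_2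
theorem v6_9_1 : V cs (par cs K5) (word6 9) 1 (word6 9) := V_ded3 cs (a := 1) (b := 3) (by decide) v6_9_3 v6_7_1 v6_4_3 v6_4_1 v6_7_3
theorem v6_2_1 : V cs (par cs K5) (word6 2) 1 (word6 2) := V_ded2 cs (a := 1) (b := 4) (by decide) v6_2_4 v6_1_1 v6_1_4
theorem v6_11_1 : V cs (par cs K5) (word6 11) 1 (word6 11) := V_ded2 cs (a := 1) (b := 4) (by decide) v6_11_4 v6_9_1 v6_9_4
theorem v6_23_1 : V cs (par cs K5) (word6 23) 1 (word6 22) := V_ded2 cs (a := 1) (b := 4) (by decide) v6_22_4 v6_20_1 v6_21_4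
theorem v6_22_1 : V cs (par cs K5) (word6 22) 1 (word6 23) := V_symm cs v6_23_1
theorem v6_14_1 : V cs (par cs K5) (word6 14) 1 (word6 14) := V_ded2 cs (a := 1) (b := 5) (by decide) v6_14_5 v6_11_1 v6_11_5
theorem v6_4_4 : V cs (par cs K5) (word6 4) 4 (word6 4) := V_ded2 cs (a := 4) (b := 2) (by decide) v6_4_2 v6_3_4 v6_3_2
theorem v6_7_4 : V cs (par cs K5) (word6 7) 4 (word6 7) := V_ded2 cs (a := 4) (b := 2) (by decide) v6_7_2 v6_5_4 v6_5_2
theorem v6_3_5 : V cs (par cs K5) (word6 3) 5 (word6 3) := V_ded2 cs (a := 5) (b := 3) (by decide) v6_3_3 v6_2_5 v6_2_3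
theorem v6_5_5 : V cs (par cs K5) (word6 5) 5 (word6 5) := V_ded2 cs (a := 5) (b := 1) (by decide) v6_5_1 v6_3_5 v6_3_1
theorem v6_3_0 : V cs (par cs K5) (word6 3) 0 (word6 3) := V_ded2 cs (a := 0) (b := 3) (by decide) v6_3_3 v6_2_0 v6_2_3
theorem v6_5_0 : V cs (par cs K5) (word6 5) 0 (word6 5) := V_ded2 cs (a := 0) (b := 1) (by decide) v6_5_1 v6_3_0 v6_3_1
theorem v6_6_2 : V cs (par cs K5) (word6 6) 2 (word6 6) := V_ded3 cs (a := 2) (b := 0) (by decide) v6_6_0 v6_4_2 v6_3_0 v6_3_2 v6_4_0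
theorem v6_8_2 : V cs (par cs K5) (word6 8) 2 (word6 8) := V_ded3 cs (a := 2) (b := 0) (by decide) v6_8_0 v6_7_2 v6_5_0 v6_5_2 v6_7_0
theorem v6_6_3 : V cs (par cs K5) (word6 6) 3 (word6 6) := V_ded2 cs (a := 3) (b := 0) (by decide) v6_6_0 v6_4_3 v6_4_0
theorem v6_12_3 : V cs (par cs K5) (word6 12) 3 (word6 12) := V_ded3 cs (a := 3) (b := 2) (by decide) v6_12_2 v6_10_3 v6_8_2 v6_8_3 v6_10_2
theorem v6_5_3 : V cs (par cs K5) (word6 5) 3 (word6 5) := V_ded3 cs (a := 3) (b := 1) (by decide) v6_5_1 v6_3_3 v6_2_1 v6_2_3 v6_3_1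
theorem v6_11_3 : V cs (par cs K5) (word6 11) 3 (word6 11) := V_ded3 cs (a := 3) (b := 4) (by decide) v6_11_4 v6_9_3 v6_7_4 v6_7_3 v6_9_4
theorem v6_14_3 : V cs (par cs K5) (word6 14) 3 (word6 14) := V_ded2 cs (a := 3) (b := 5) (by decide) v6_14_5 v6_11_3 v6_11_5
theorem v6_10_1 : V cs (par cs K5) (word6 10) 1 (word6 10) := V_ded2 cs (a := 1) (b := 0) (by decide) v6_10_0 v6_9_1 v6_9_0
theorem v6_13_1 : V cs (par cs K5) (word6 13) 1 (word6 13) := V_ded2 cs (a := 1) (b := 0) (by decide) v6_13_0 v6_11_1 v6_11_0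
theorem v6_16_1 : V cs (par cs K5) (word6 16) 1 (word6 16) := V_ded2 cs (a := 1) (b := 0) (by decide) v6_16_0 v6_14_1 v6_14_0
theorem v6_12_1 : V cs (par cs K5) (word6 12) 1 (word6 12) := V_ded2 cs (a := 1) (b := 2) (by decide) v6_12_2 v6_10_1 v6_10_2
theorem v6_15_1 : V cs (par cs K5) (word6 15) 1 (word6 15) := V_ded2 cs (a := 1) (b := 2) (by decide) v6_15_2 v6_13_1 v6_13_2
theorem v6_18_1 : V cs (par cs K5) (word6 18) 1 (word6 18) := V_ded2 cs (a := 1) (b := 2) (by decide) v6_18_2 v6_16_1 v6_16_2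
theorem v6_6_4 : V cs (par cs K5) (word6 6) 4 (word6 6) := V_ded2 cs (a := 4) (b := 0) (by decide) v6_6_0 v6_4_4 v6_4_0
theorem v6_8_4 : V cs (par cs K5) (word6 8) 4 (word6 8) := V_ded2 cs (a := 4) (b := 0) (by decide) v6_8_0 v6_7_4 v6_7_0
theorem v6_17_4 : V cs (par cs K5) (word6 17) 4 (word6 17) := V_ded3 cs (a := 4) (b := 3) (by decide) v6_17_3 v6_15_4 v6_12_3 v6_12_4 v6_15_3
theorem v6_19_4 : V cs (par cs K5) (word6 19) 4 (word6 19) := V_ded2 cs (a := 4) (b := 1) (by decide) v6_19_1 v6_17_4 v6_17_1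
theorem v6_4_5 : V cs (par cs K5) (word6 4) 5 (word6 4) := V_ded2 cs (a := 5) (b := 2) (by decide) v6_4_2 v6_3_5 v6_3_2
theorem v6_7_5 : V cs (par cs K5) (word6 7) 5 (word6 7) := V_ded2 cs (a := 5) (b := 2) (by decide) v6_7_2 v6_5_5 v6_5_2
theorem v6_9_5 : V cs (par cs K5) (word6 9) 5 (word6 9) := V_ded2 cs (a := 5) (b := 3) (by decide) v6_9_3 v6_7_5 v6_7_3
theorem v6_22_5 : V cs (par cs K5) (word6 22) 5 (word6 22) := V_ded3 cs (a := 5) (b := 4) (by decide) v6_22_4 v6_20_5 v6_17_4 v6_17_5 v6_20_4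
theorem v6_23_5 : V cs (par cs K5) (word6 23) 5 (word6 23) := V_ded3 cs (a := 5) (b := 4) (by decide) v6_23_4 v6_21_5 v6_19_4 v6_19_5 v6_21_4
theorem v6_9_2 : V cs (par cs K5) (word6 9) 2 (word6 9) := V_ded3 cs (a := 2) (b := 3) (by decide) v6_9_3 v6_7_2 v6_5_3 v6_5_2 v6_7_3
theorem v6_11_2 : V cs (par cs K5) (word6 11) 2 (word6 11) := V_ded2 cs (a := 2) (b := 4) (by decide) v6_11_4 v6_9_2 v6_9_4
theorem v6_14_2 : V cs (par cs K5) (word6 14) 2 (word6 14) := V_ded2 cs (a := 2) (b := 5) (by decide) v6_14_5 v6_11_2 v6_11_5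
theorem v6_13_3 : V cs (par cs K5) (word6 13) 3 (word6 13) := V_ded2 cs (a := 3) (b := 0) (by decide) v6_13_0 v6_11_3 v6_11_0
theorem v6_16_3 : V cs (par cs K5) (word6 16) 3 (word6 16) := V_ded2 cs (a := 3) (b := 0) (by decide) v6_16_0 v6_14_3 v6_14_0
theorem v6_19_3 : V cs (par cs K5) (word6 19) 3 (word6 19) := V_ded3 cs (a := 3) (b := 1) (by decide) v6_19_1 v6_17_3 v6_15_1 v6_15_3 v6_17_1
theorem v6_21_3 : V cs (par cs K5) (word6 21) 3 (word6 21) := V_ded3 cs (a := 3) (b := 1) (by decide) v6_21_1 v6_20_3 v6_18_1 v6_18_3 v6_20_1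
theorem v6_24_4 : V cs (par cs K5) (word6 24) 4 (word6 24) := V_ded3 cs (a := 4) (b := 3) (by decide) v6_24_3 v6_23_4 v6_21_3 v6_21_4 v6_23_3
theorem v6_14_4 : V cs (par cs K5) (word6 14) 4 (word6 14) := V_ded3 cs (a := 4) (b := 5) (by decide) v6_14_5 v6_11_4 v6_9_5 v6_9_4 v6_11_5
theorem v6_6_5 : V cs (par cs K5) (word6 6) 5 (word6 6) := V_ded2 cs (a := 5) (b := 0) (by decide) v6_6_0 v6_4_5 v6_4_0
theorem v6_8_5 : V cs (par cs K5) (word6 8) 5 (word6 8) := V_ded2 cs (a := 5) (b := 0) (by decide) v6_8_0 v6_7_5 v6_7_0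
theorem v6_10_5 : V cs (par cs K5) (word6 10) 5 (word6 10) := V_ded2 cs (a := 5) (b := 0) (by decide) v6_10_0 v6_9_5 v6_9_0
theorem v6_12_5 : V cs (par cs K5) (word6 12) 5 (word6 12) := V_ded2 cs (a := 5) (b := 2) (by decide) v6_12_2 v6_10_5 v6_10_2
theorem v6_24_5 : V cs (par cs K5) (word6 24) 5 (word6 24) := V_ded2 cs (a := 5) (b := 3) (by decide) v6_24_3 v6_23_5 v6_23_3
theorem v6_12_0 : V cs (par cs K5) (word6 12) 0 (word6 12) := V_ded3 cs (a := 0) (b := 2) (by decide) v6_12_2 v6_10_0 v6_9_2 v6_9_0 v6_10_2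
theorem v6_15_0 : V cs (par cs K5) (word6 15) 0 (word6 15) := V_ded3 cs (a := 0) (b := 2) (by decide) v6_15_2 v6_13_0 v6_11_2 v6_11_0 v6_13_2
theorem v6_18_0 : V cs (par cs K5) (word6 18) 0 (word6 18) := V_ded3 cs (a := 0) (b := 2) (by decide) v6_18_2 v6_16_0 v6_14_2 v6_14_0 v6_16_2
theorem v6_17_0 : V cs (par cs K5) (word6 17) 0 (word6 17) := V_ded2 cs (a := 0) (b := 3) (by decide) v6_17_3 v6_15_0 v6_15_3
theorem v6_20_0 : V cs (par cs K5) (word6 20) 0 (word6 20) := V_ded2 cs (a := 0) (b := 3) (by decide) v6_20_3 v6_18_0 v6_18_3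
theorem v6_19_0 : V cs (par cs K5) (word6 19) 0 (word6 19) := V_ded2 cs (a := 0) (b := 1) (by decide) v6_19_1 v6_17_0 v6_17_1
theorem v6_21_0 : V cs (par cs K5) (word6 21) 0 (word6 21) := V_ded2 cs (a := 0) (b := 1) (by decide) v6_21_1 v6_20_0 v6_20_1
theorem v6_22_0 : V cs (par cs K5) (word6 22) 0 (word6 22) := V_ded2 cs (a := 0) (b := 4) (by decide) v6_22_4 v6_20_0 v6_20_4
theorem v6_23_0 : V cs (par cs K5) (word6 23) 0 (word6 23) := V_ded2 cs (a := 0) (b := 4) (by decide) v6_23_4 v6_21_0 v6_21_4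
theorem v6_17_2 : V cs (par cs K5) (word6 17) 2 (word6 17) := V_ded3 cs (a := 2) (b := 3) (by decide) v6_17_3 v6_15_2 v6_13_3 v6_13_2 v6_15_3
theorem v6_20_2 : V cs (par cs K5) (word6 20) 2 (word6 20) := V_ded3 cs (a := 2) (b := 3) (by decide) v6_20_3 v6_18_2 v6_16_3 v6_16_2 v6_18_3
theorem v6_19_2 : V cs (par cs K5) (word6 19) 2 (word6 19) := V_ded2 cs (a := 2) (b := 1) (by decide) v6_19_1 v6_17_2 v6_17_1
theorem v6_21_2 : V cs (par cs K5) (word6 21) 2 (word6 21) := V_ded2 cs (a := 2) (b := 1) (by decide) v6_21_1 v6_20_2 v6_20_1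
theorem v6_22_2 : V cs (par cs K5) (word6 22) 2 (word6 22) := V_ded2 cs (a := 2) (b := 4) (by decide) v6_22_4 v6_20_2 v6_20_4
theorem v6_23_2 : V cs (par cs K5) (word6 23) 2 (word6 23) := V_ded2 cs (a := 2) (b := 4) (by decide) v6_23_4 v6_21_2 v6_21_4
theorem v6_25_3 : V cs (par cs K5) (word6 25) 3 (word6 25) := V_ded3 cs (a := 3) (b := 2) (by decide) v6_25_2 v6_24_3 v6_23_2 v6_23_3 v6_24_2
theorem v6_16_4 : V cs (par cs K5) (word6 16) 4 (word6 16) := V_ded2 cs (a := 4) (b := 0) (by decide) v6_16_0 v6_14_4 v6_14_0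
theorem v6_18_4 : V cs (par cs K5) (word6 18) 4 (word6 18) := V_ded2 cs (a := 4) (b := 2) (by decide) v6_18_2 v6_16_4 v6_16_2
theorem v6_25_4 : V cs (par cs K5) (word6 25) 4 (word6 25) := V_ded2 cs (a := 4) (b := 2) (by decide) v6_25_2 v6_24_4 v6_24_2
theorem v6_25_5 : V cs (par cs K5) (word6 25) 5 (word6 25) := V_ded2 cs (a := 5) (b := 2) (by decide) v6_25_2 v6_24_5 v6_24_2
theorem v6_24_0 : V cs (par cs K5) (word6 24) 0 (word6 24) := V_ded2 cs (a := 0) (b := 3) (by decide) v6_24_3 v6_23_0 v6_23_3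
theorem v6_26_2 : V cs (par cs K5) (word6 26) 2 (word6 26) := V_ded3 cs (a := 2) (b := 0) (by decide) v6_26_0 v6_25_2 v6_24_0 v6_24_2 v6_25_0
theorem v6_26_3 : V cs (par cs K5) (word6 26) 3 (word6 26) := V_ded2 cs (a := 3) (b := 0) (by decide) v6_26_0 v6_25_3 v6_25_0
theorem v6_22_3 : V cs (par cs K5) (word6 22) 3 (word6 22) := V_ded3 cs (a := 3) (b := 4) (by decide) v6_22_4 v6_20_3 v6_18_4 v6_18_3 v6_20_4
theorem v6_24_1 : V cs (par cs K5) (word6 24) 1 (word6 24) := V_ded3 cs (a := 1) (b := 3) (by decide) v6_24_3 v6_23_1 v6_22_3 v6_22_1 v6_23_3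
theorem v6_26_4 : V cs (par cs K5) (word6 26) 4 (word6 26) := V_ded2 cs (a := 4) (b := 0) (by decide) v6_26_0 v6_25_4 v6_25_0
theorem v6_26_5 : V cs (par cs K5) (word6 26) 5 (word6 26) := V_ded2 cs (a := 5) (b := 0) (by decide) v6_26_0 v6_25_5 v6_25_0
theorem v6_25_1 : V cs (par cs K5) (word6 25) 1 (word6 25) := V_ded2 cs (a := 1) (b := 2) (by decide) v6_25_2 v6_24_1 v6_24_2
theorem v6_26_1 : V cs (par cs K5) (word6 26) 1 (word6 26) := V_ded2 cs (a := 1) (b := 0) (by decide) v6_26_0 v6_25_1 v6_25_0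
theorem row6_0 : ∀ j ∈ K6, tbl6 0 j < 27 ∧ V cs (par cs K5) (word6 0) j (word6 (tbl6 0 j)) := by
  intro j hj
  simp only [K6, List.mem_cons, List.not_mem_nil, or_false] at hj
  rcases hj with rfl | rfl | rfl | rfl | rfl | rfl
  exacts [⟨by decide, v6_0_0⟩, ⟨by decide, v6_0_2⟩, ⟨by decide, v6_0_3⟩, ⟨by decide, v6_0_1⟩, ⟨by decide, v6_0_4⟩, ⟨by decide, v6_0_5⟩]
theorem row6_1 : ∀ j ∈ K6, tbl6 1 j < 27 ∧ V cs (par cs K5) (word6 1) j (word6 (tbl6 1 j)) := by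
  intro j hj
  simp only [K6, List.mem_cons, List.not_mem_nil, or_false] at hj
  rcases hj with rfl | rfl | rfl | rfl | rfl | rfl
  exacts [⟨by decide, v6_1_0⟩, ⟨by decide, v6_1_2⟩, ⟨by decide, v6_1_3⟩, ⟨by decide, v6_1_1⟩, ⟨by decide, v6_1_4⟩, ⟨by decide, v6_1_5⟩]
theorem row6_2 : ∀ j ∈ K6, tbl6 2 j < 27 ∧ V cs (par cs K5) (word6 2) j (word6 (tbl6 2 j)) := by
  intro j hj
  simp only [K6, List.mem_cons, List.not_mem_nil, or_false] at hj
  rcases hj with rfl | rfl | rfl | rfl | rfl | rfl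
  exacts [⟨by decide, v6_2_0⟩, ⟨by decide, v6_2_2⟩, ⟨by decide, v6_2_3⟩, ⟨by decide, v6_2_1⟩, ⟨by decide, v6_2_4⟩, ⟨by decide, v6_2_5⟩]
theorem row6_3 : ∀ j ∈ K6, tbl6 3 j < 27 ∧ V cs (par cs K5) (word6 3) j (word6 (tbl6 3 j)) := by
  intro j hj
  simp only [K6, List.mem_cons, List.not_mem_nil, or_false] at hj
  rcases hj with rfl | rfl | rfl | rfl | rfl | rfl
  exacts [⟨by decide, v6_3_0⟩, ⟨by decide, v6_3_2⟩, ⟨by decide, v6_3_3⟩, ⟨by decide, v6_3_1⟩, ⟨by decide, v6_3_4⟩, ⟨by decide, v6_3_5⟩]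
theorem row6_4 : ∀ j ∈ K6, tbl6 4 j < 27 ∧ V cs (par cs K5) (word6 4) j (word6 (tbl6 4 j)) := by
  intro j hj
  simp only [K6, List.mem_cons, List.not_mem_nil, or_false] at hj
  rcases hj with rfl | rfl | rfl | rfl | rfl | rfl
  exacts [⟨by decide, v6_4_0⟩, ⟨by decide, v6_4_2⟩, ⟨by decide, v6_4_3⟩, ⟨by decide, v6_4_1⟩, ⟨by decide, v6_4_4⟩, ⟨by decide, v6_4_5⟩]
theorem row6_5 : ∀ j ∈ K6, tbl6 5 j < 27 ∧ V cs (par cs K5) (word6 5) j (word6 (tbl6 5 j)) := by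
  intro j hj
  simp only [K6, List.mem_cons, List.not_mem_nil, or_false] at hj
  rcases hj with rfl | rfl | rfl | rfl | rfl | rfl
  exacts [⟨by decide, v6_5_0⟩, ⟨by decide, v6_5_2⟩, ⟨by decide, v6_5_3⟩, ⟨by decide, v6_5_1⟩, ⟨by decide, v6_5_4⟩, ⟨by decide, v6_5_5⟩]
theorem row6_6 : ∀ j ∈ K6, tbl6 6 j < 27 ∧ V cs (par cs K5) (word6 6) j (word6 (tbl6 6 j)) := by
  intro j hj
  simp only [K6, List.mem_cons, List.not_mem_nil, or_false] at hj
  rcases hj with rfl | rfl | rfl | rfl | rfl | rfl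
  exacts [⟨by decide, v6_6_0⟩, ⟨by decide, v6_6_2⟩, ⟨by decide, v6_6_3⟩, ⟨by decide, v6_6_1⟩, ⟨by decide, v6_6_4⟩, ⟨by decide, v6_6_5⟩]
theorem row6_7 : ∀ j ∈ K6, tbl6 7 j < 27 ∧ V cs (par cs K5) (word6 7) j (word6 (tbl6 7 j)) := by
  intro j hj
  simp only [K6, List.mem_cons, List.not_mem_nil, or_false] at hj
  rcases hj with rfl | rfl | rfl | rfl | rfl | rfl
  exacts [⟨by decide, v6_7_0⟩, ⟨by decide, v6_7_2⟩, ⟨by decide, v6_7_3⟩, ⟨by decide, v6_7_1⟩, ⟨by decide, v6_7_4⟩, ⟨by decide, v6_7_5⟩]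
theorem row6_8 : ∀ j ∈ K6, tbl6 8 j < 27 ∧ V cs (par cs K5) (word6 8) j (word6 (tbl6 8 j)) := by
  intro j hj
  simp only [K6, List.mem_cons, List.not_mem_nil, or_false] at hj
  rcases hj with rfl | rfl | rfl | rfl | rfl | rfl
  exacts [⟨by decide, v6_8_0⟩, ⟨by decide, v6_8_2⟩, ⟨by decide, v6_8_3⟩, ⟨by decide, v6_8_1⟩, ⟨by decide, v6_8_4⟩, ⟨by decide, v6_8_5⟩]
theorem row6_9 : ∀ j ∈ K6, tbl6 9 j < 27 ∧ V cs (par cs K5) (word6 9) j (word6 (tbl6 9 j)) := by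
  intro j hj
  simp only [K6, List.mem_cons, List.not_mem_nil, or_false] at hj
  rcases hj with rfl | rfl | rfl | rfl | rfl | rfl
  exacts [⟨by decide, v6_9_0⟩, ⟨by decide, v6_9_2⟩, ⟨by decide, v6_9_3⟩, ⟨by decide, v6_9_1⟩, ⟨by decide, v6_9_4⟩, ⟨by decide, v6_9_5⟩]
theorem row6_10 : ∀ j ∈ K6, tbl6 10 j < 27 ∧ V cs (par cs K5) (word6 10) j (word6 (tbl6 10 j)) := by
  intro j hj
  simp only [K6, List.mem_cons, List.not_mem_nil, or_false] at hj
  rcases hj with rfl | rfl | rfl | rfl | rfl | rfl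
  exacts [⟨by decide, v6_10_0⟩, ⟨by decide, v6_10_2⟩, ⟨by decide, v6_10_3⟩, ⟨by decide, v6_10_1⟩, ⟨by decide, v6_10_4⟩, ⟨by decide, v6_10_5⟩]
theorem row6_11 : ∀ j ∈ K6, tbl6 11 j < 27 ∧ V cs (par cs K5) (word6 11) j (word6 (tbl6 11 j)) := by
  intro j hj
  simp only [K6, List.mem_cons, List.not_mem_nil, or_false] at hj
  rcases hj with rfl | rfl | rfl | rfl | rfl | rfl
  exacts [⟨by decide, v6_11_0⟩, ⟨by decide, v6_11_2⟩, ⟨by decide, v6_11_3⟩, ⟨by decide, v6_11_1⟩, ⟨by decide, v6_11_4⟩, ⟨by decide, v6_11_5⟩]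
theorem row6_12 : ∀ j ∈ K6, tbl6 12 j < 27 ∧ V cs (par cs K5) (word6 12) j (word6 (tbl6 12 j)) := by
  intro j hj
  simp only [K6, List.mem_cons, List.not_mem_nil, or_false] at hj
  rcases hj with rfl | rfl | rfl | rfl | rfl | rfl
  exacts [⟨by decide, v6_12_0⟩, ⟨by decide, v6_12_2⟩, ⟨by decide, v6_12_3⟩, ⟨by decide, v6_12_1⟩, ⟨by decide, v6_12_4⟩, ⟨by decide, v6_12_5⟩]
theorem row6_13 : ∀ j ∈ K6, tbl6 13 j < 27 ∧ V cs (par cs K5) (word6 13) j (word6 (tbl6 13 j)) := by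
  intro j hj
  simp only [K6, List.mem_cons, List.not_mem_nil, or_false] at hj
  rcases hj with rfl | rfl | rfl | rfl | rfl | rfl
  exacts [⟨by decide, v6_13_0⟩, ⟨by decide, v6_13_2⟩, ⟨by decide, v6_13_3⟩, ⟨by decide, v6_13_1⟩, ⟨by decide, v6_13_4⟩, ⟨by decide, v6_13_5⟩]
theorem row6_14 : ∀ j ∈ K6, tbl6 14 j < 27 ∧ V cs (par cs K5) (word6 14) j (word6 (tbl6 14 j)) := by
  intro j hj
  simp only [K6, List.mem_cons, List.not_mem_nil, or_false] at hj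
  rcases hj with rfl | rfl | rfl | rfl | rfl | rfl
  exacts [⟨by decide, v6_14_0⟩, ⟨by decide, v6_14_2⟩, ⟨by decide, v6_14_3⟩, ⟨by decide, v6_14_1⟩, ⟨by decide, v6_14_4⟩, ⟨by decide, v6_14_5⟩]
theorem row6_15 : ∀ j ∈ K6, tbl6 15 j < 27 ∧ V cs (par cs K5) (word6 15) j (word6 (tbl6 15 j)) := by
  intro j hj
  simp only [K6, List.mem_cons, List.not_mem_nil, or_false] at hj
  rcases hj with rfl | rfl | rfl | rfl | rfl | rfl
  exacts [⟨by decide, v6_15_0⟩, ⟨by decide, v6_15_2⟩, ⟨by decide, v6_15_3⟩, ⟨by decide, v6_15_1⟩, ⟨by decide, v6_15_4⟩, ⟨by decide, v6_15_5⟩]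
theorem row6_16 : ∀ j ∈ K6, tbl6 16 j < 27 ∧ V cs (par cs K5) (word6 16) j (word6 (tbl6 16 j)) := by
  intro j hj
  simp only [K6, List.mem_cons, List.not_mem_nil, or_false] at hj
  rcases hj with rfl | rfl | rfl | rfl | rfl | rfl
  exacts [⟨by decide, v6_16_0⟩, ⟨by decide, v6_16_2⟩, ⟨by decide, v6_16_3⟩, ⟨by decide, v6_16_1⟩, ⟨by decide, v6_16_4⟩, ⟨by decide, v6_16_5⟩]
theorem row6_17 : ∀ j ∈ K6, tbl6 17 j < 27 ∧ V cs (par cs K5) (word6 17) j (word6 (tbl6 17 j)) := by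
  intro j hj
  simp only [K6, List.mem_cons, List.not_mem_nil, or_false] at hj
  rcases hj with rfl | rfl | rfl | rfl | rfl | rfl
  exacts [⟨by decide, v6_17_0⟩, ⟨by decide, v6_17_2⟩, ⟨by decide, v6_17_3⟩, ⟨by decide, v6_17_1⟩, ⟨by decide, v6_17_4⟩, ⟨by decide, v6_17_5⟩]
theorem row6_18 : ∀ j ∈ K6, tbl6 18 j < 27 ∧ V cs (par cs K5) (word6 18) j (word6 (tbl6 18 j)) := by
  intro j hj
  simp only [K6, List.mem_cons, List.not_mem_nil, or_false] at hj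
  rcases hj with rfl | rfl | rfl | rfl | rfl | rfl
  exacts [⟨by decide, v6_18_0⟩, ⟨by decide, v6_18_2⟩, ⟨by decide, v6_18_3⟩, ⟨by decide, v6_18_1⟩, ⟨by decide, v6_18_4⟩, ⟨by decide, v6_18_5⟩]
theorem row6_19 : ∀ j ∈ K6, tbl6 19 j < 27 ∧ V cs (par cs K5) (word6 19) j (word6 (tbl6 19 j)) := by
  intro j hj
  simp only [K6, List.mem_cons, List.not_mem_nil, or_false] at hj
  rcases hj with rfl | rfl | rfl | rfl | rfl | rfl
  exacts [⟨by decide, v6_19_0⟩, ⟨by decide, v6_19_2⟩, ⟨by decide, v6_19_3⟩, ⟨by decide, v6_19_1⟩, ⟨by decide, v6_19_4⟩, ⟨by decide, v6_19_5⟩]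
theorem row6_20 : ∀ j ∈ K6, tbl6 20 j < 27 ∧ V cs (par cs K5) (word6 20) j (word6 (tbl6 20 j)) := by
  intro j hj
  simp only [K6, List.mem_cons, List.not_mem_nil, or_false] at hj
  rcases hj with rfl | rfl | rfl | rfl | rfl | rfl
  exacts [⟨by decide, v6_20_0⟩, ⟨by decide, v6_20_2⟩, ⟨by decide, v6_20_3⟩, ⟨by decide, v6_20_1⟩, ⟨by decide, v6_20_4⟩, ⟨by decide, v6_20_5⟩]
theorem row6_21 : ∀ j ∈ K6, tbl6 21 j < 27 ∧ V cs (par cs K5) (word6 21) j (word6 (tbl6 21 j)) := by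
  intro j hj
  simp only [K6, List.mem_cons, List.not_mem_nil, or_false] at hj
  rcases hj with rfl | rfl | rfl | rfl | rfl | rfl
  exacts [⟨by decide, v6_21_0⟩, ⟨by decide, v6_21_2⟩, ⟨by decide, v6_21_3⟩, ⟨by decide, v6_21_1⟩, ⟨by decide, v6_21_4⟩, ⟨by decide, v6_21_5⟩]
theorem row6_22 : ∀ j ∈ K6, tbl6 22 j < 27 ∧ V cs (par cs K5) (word6 22) j (word6 (tbl6 22 j)) := by
  intro j hj
  simp only [K6, List.mem_cons, List.not_mem_nil, or_false] at hj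
  rcases hj with rfl | rfl | rfl | rfl | rfl | rfl
  exacts [⟨by decide, v6_22_0⟩, ⟨by decide, v6_22_2⟩, ⟨by decide, v6_22_3⟩, ⟨by decide, v6_22_1⟩, ⟨by decide, v6_22_4⟩, ⟨by decide, v6_22_5⟩]
theorem row6_23 : ∀ j ∈ K6, tbl6 23 j < 27 ∧ V cs (par cs K5) (word6 23) j (word6 (tbl6 23 j)) := by
  intro j hj
  simp only [K6, List.mem_cons, List.not_mem_nil, or_false] at hj
  rcases hj with rfl | rfl | rfl | rfl | rfl | rfl
  exacts [⟨by decide, v6_23_0⟩, ⟨by decide, v6_23_2⟩, ⟨by decide, v6_23_3⟩, ⟨by decide, v6_23_1⟩, ⟨by decide, v6_23_4⟩, ⟨by decide, v6_23_5⟩]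
theorem row6_24 : ∀ j ∈ K6, tbl6 24 j < 27 ∧ V cs (par cs K5) (word6 24) j (word6 (tbl6 24 j)) := by
  intro j hj
  simp only [K6, List.mem_cons, List.not_mem_nil, or_false] at hj
  rcases hj with rfl | rfl | rfl | rfl | rfl | rfl
  exacts [⟨by decide, v6_24_0⟩, ⟨by decide, v6_24_2⟩, ⟨by decide, v6_24_3⟩, ⟨by decide, v6_24_1⟩, ⟨by decide, v6_24_4⟩, ⟨by decide, v6_24_5⟩]
theorem row6_25 : ∀ j ∈ K6, tbl6 25 j < 27 ∧ V cs (par cs K5) (word6 25) j (word6 (tbl6 25 j)) := by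
  intro j hj
  simp only [K6, List.mem_cons, List.not_mem_nil, or_false] at hj
  rcases hj with rfl | rfl | rfl | rfl | rfl | rfl
  exacts [⟨by decide, v6_25_0⟩, ⟨by decide, v6_25_2⟩, ⟨by decide, v6_25_3⟩, ⟨by decide, v6_25_1⟩, ⟨by decide, v6_25_4⟩, ⟨by decide, v6_25_5⟩]
theorem row6_26 : ∀ j ∈ K6, tbl6 26 j < 27 ∧ V cs (par cs K5) (word6 26) j (word6 (tbl6 26 j)) := by
  intro j hj
  simp only [K6, List.mem_cons, List.not_mem_nil, or_false] at hj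
  rcases hj with rfl | rfl | rfl | rfl | rfl | rfl
  exacts [⟨by decide, v6_26_0⟩, ⟨by decide, v6_26_2⟩, ⟨by decide, v6_26_3⟩, ⟨by decide, v6_26_1⟩, ⟨by decide, v6_26_4⟩, ⟨by decide, v6_26_5⟩]
theorem htbl6 : ∀ x < 27, ∀ j ∈ K6, tbl6 x j < 27 ∧ V cs (par cs K5) (word6 x) j (word6 (tbl6 x j)) := by
  intro x hx
  interval_cases x
  exacts [row6_0, row6_1, row6_2, row6_3, row6_4, row6_5, row6_6, row6_7, row6_8, row6_9, row6_10, row6_11, row6_12, row6_13, row6_14, row6_15, row6_16, row6_17, row6_18, row6_19, row6_20, row6_21, row6_22, row6_23, row6_24, row6_25, row6_26]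
theorem pt6_0 : φ (cs.wordProd (word6 0)) p6 = ![0, 0, 0, 0, 0, 1, 0] := pt_base cs φ (by decide) _
theorem pt6_1 : φ (cs.wordProd (word6 1)) p6 = ![0, 0, 0, 0, 1, -1, 1] := pt_step A cs hA φ hφ (j := 5) (w := word6 0) (by decide) pt6_0 (by decide)
theorem pt6_2 : φ (cs.wordProd (word6 2)) p6 = ![0, 0, 0, 1, -1, 0, 1] := pt_step A cs hA φ hφ (j := 4) (w := word6 1) (by decide) pt6_1 (by decide)
theorem pt6_3 : φ (cs.wordProd (word6 3)) p6 = ![0, 1, 1, -1, 0, 0, 1] := pt_step A cs hA φ hφ (j := 3) (w := word6 2) (by decide) pt6_2 (by decide)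
theorem pt6_4 : φ (cs.wordProd (word6 4)) p6 = ![1, 1, -1, 0, 0, 0, 1] := pt_step A cs hA φ hφ (j := 2) (w := word6 3) (by decide) pt6_3 (by decide)
theorem pt6_5 : φ (cs.wordProd (word6 5)) p6 = ![0, -1, 1, 0, 0, 0, 1] := pt_step A cs hA φ hφ (j := 1) (w := word6 3) (by decide) pt6_3 (by decide)
theorem pt6_6 : φ (cs.wordProd (word6 6)) p6 = ![-1, 1, 0, 0, 0, 0, 1] := pt_step A cs hA φ hφ (j := 0) (w := word6 4) (by decide) pt6_4 (by decide)
theorem pt6_7 : φ (cs.wordProd (word6 7)) p6 = ![1, -1, -1, 1, 0, 0, 1] := pt_step A cs hA φ hφ (j := 1) (w := word6 4) (by decide) pt6_4 (by decide)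
theorem pt6_8 : φ (cs.wordProd (word6 8)) p6 = ![-1, -1, 0, 1, 0, 0, 1] := pt_step A cs hA φ hφ (j := 1) (w := word6 6) (by decide) pt6_6 (by decide)
theorem pt6_9 : φ (cs.wordProd (word6 9)) p6 = ![1, 0, 0, -1, 1, 0, 1] := pt_step A cs hA φ hφ (j := 3) (w := word6 7) (by decide) pt6_7 (by decide)
theorem pt6_10 : φ (cs.wordProd (word6 10)) p6 = ![-1, 0, 1, -1, 1, 0, 1] := pt_step A cs hA φ hφ (j := 3) (w := word6 8) (by decide) pt6_8 (by decide)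
theorem pt6_11 : φ (cs.wordProd (word6 11)) p6 = ![1, 0, 0, 0, -1, 1, 1] := pt_step A cs hA φ hφ (j := 4) (w := word6 9) (by decide) pt6_9 (by decide)
theorem pt6_12 : φ (cs.wordProd (word6 12)) p6 = ![0, 0, -1, 0, 1, 0, 1] := pt_step A cs hA φ hφ (j := 2) (w := word6 10) (by decide) pt6_10 (by decide)
theorem pt6_13 : φ (cs.wordProd (word6 13)) p6 = ![-1, 0, 1, 0, -1, 1, 1] := pt_step A cs hA φ hφ (j := 4) (w := word6 10) (by decide) pt6_10 (by decide)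
theorem pt6_14 : φ (cs.wordProd (word6 14)) p6 = ![1, 0, 0, 0, 0, -1, 2] := pt_step A cs hA φ hφ (j := 5) (w := word6 11) (by decide) pt6_11 (by decide)
theorem pt6_15 : φ (cs.wordProd (word6 15)) p6 = ![0, 0, -1, 1, -1, 1, 1] := pt_step A cs hA φ hφ (j := 4) (w := word6 12) (by decide) pt6_12 (by decide)
theorem pt6_16 : φ (cs.wordProd (word6 16)) p6 = ![-1, 0, 1, 0, 0, -1, 2] := pt_step A cs hA φ hφ (j := 5) (w := word6 13) (by decide) pt6_13 (by decide)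
theorem pt6_17 : φ (cs.wordProd (word6 17)) p6 = ![0, 1, 0, -1, 0, 1, 1] := pt_step A cs hA φ hφ (j := 3) (w := word6 15) (by decide) pt6_15 (by decide)
theorem pt6_18 : φ (cs.wordProd (word6 18)) p6 = ![0, 0, -1, 1, 0, -1, 2] := pt_step A cs hA φ hφ (j := 5) (w := word6 15) (by decide) pt6_15 (by decide)
theorem pt6_19 : φ (cs.wordProd (word6 19)) p6 = ![0, -1, 0, 0, 0, 1, 1] := pt_step A cs hA φ hφ (j := 1) (w := word6 17) (by decide) pt6_17 (by decide)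
theorem pt6_20 : φ (cs.wordProd (word6 20)) p6 = ![0, 1, 0, -1, 1, -1, 2] := pt_step A cs hA φ hφ (j := 5) (w := word6 17) (by decide) pt6_17 (by decide)
theorem pt6_21 : φ (cs.wordProd (word6 21)) p6 = ![0, -1, 0, 0, 1, -1, 2] := pt_step A cs hA φ hφ (j := 5) (w := word6 19) (by decide) pt6_19 (by decide)
theorem pt6_22 : φ (cs.wordProd (word6 22)) p6 = ![0, 1, 0, 0, -1, 0, 2] := pt_step A cs hA φ hφ (j := 4) (w := word6 20) (by decide) pt6_20 (by decide)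
theorem pt6_23 : φ (cs.wordProd (word6 23)) p6 = ![0, -1, 0, 1, -1, 0, 2] := pt_step A cs hA φ hφ (j := 4) (w := word6 21) (by decide) pt6_21 (by decide)
theorem pt6_24 : φ (cs.wordProd (word6 24)) p6 = ![0, 0, 1, -1, 0, 0, 2] := pt_step A cs hA φ hφ (j := 3) (w := word6 23) (by decide) pt6_23 (by decide)
theorem pt6_25 : φ (cs.wordProd (word6 25)) p6 = ![1, 0, -1, 0, 0, 0, 2] := pt_step A cs hA φ hφ (j := 2) (w := word6 24) (by decide) pt6_24 (by decide)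
theorem pt6_26 : φ (cs.wordProd (word6 26)) p6 = ![-1, 0, 0, 0, 0, 0, 2] := pt_step A cs hA φ hφ (j := 0) (w := word6 25) (by decide) pt6_25 (by decide)
theorem key6_0 : key (φ (cs.wordProd (word6 0)) p6) = keys6.getD 0 0 := by rw [pt6_0]; decide
theorem key6_1 : key (φ (cs.wordProd (word6 1)) p6) = keys6.getD 1 0 := by rw [pt6_1]; decide
theorem key6_2 : key (φ (cs.wordProd (word6 2)) p6) = keys6.getD 2 0 := by rw [pt6_2]; decide
theorem key6_3 : key (φ (cs.wordProd (word6 3)) p6) = keys6.getD 3 0 := by rw [pt6_3]; decide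
theorem key6_4 : key (φ (cs.wordProd (word6 4)) p6) = keys6.getD 4 0 := by rw [pt6_4]; decide
theorem key6_5 : key (φ (cs.wordProd (word6 5)) p6) = keys6.getD 5 0 := by rw [pt6_5]; decide
theorem key6_6 : key (φ (cs.wordProd (word6 6)) p6) = keys6.getD 6 0 := by rw [pt6_6]; decide
theorem key6_7 : key (φ (cs.wordProd (word6 7)) p6) = keys6.getD 7 0 := by rw [pt6_7]; decide
theorem key6_8 : key (φ (cs.wordProd (word6 8)) p6) = keys6.getD 8 0 := by rw [pt6_8]; decide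
theorem key6_9 : key (φ (cs.wordProd (word6 9)) p6) = keys6.getD 9 0 := by rw [pt6_9]; decide
theorem key6_10 : key (φ (cs.wordProd (word6 10)) p6) = keys6.getD 10 0 := by rw [pt6_10]; decide
theorem key6_11 : key (φ (cs.wordProd (word6 11)) p6) = keys6.getD 11 0 := by rw [pt6_11]; decide
theorem key6_12 : key (φ (cs.wordProd (word6 12)) p6) = keys6.getD 12 0 := by rw [pt6_12]; decide
theorem key6_13 : key (φ (cs.wordProd (word6 13)) p6) = keys6.getD 13 0 := by rw [pt6_13]; decide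
theorem key6_14 : key (φ (cs.wordProd (word6 14)) p6) = keys6.getD 14 0 := by rw [pt6_14]; decide
theorem key6_15 : key (φ (cs.wordProd (word6 15)) p6) = keys6.getD 15 0 := by rw [pt6_15]; decide
theorem key6_16 : key (φ (cs.wordProd (word6 16)) p6) = keys6.getD 16 0 := by rw [pt6_16]; decide
theorem key6_17 : key (φ (cs.wordProd (word6 17)) p6) = keys6.getD 17 0 := by rw [pt6_17]; decide
theorem key6_18 : key (φ (cs.wordProd (word6 18)) p6) = keys6.getD 18 0 := by rw [pt6_18]; decide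
theorem key6_19 : key (φ (cs.wordProd (word6 19)) p6) = keys6.getD 19 0 := by rw [pt6_19]; decide
theorem key6_20 : key (φ (cs.wordProd (word6 20)) p6) = keys6.getD 20 0 := by rw [pt6_20]; decide
theorem key6_21 : key (φ (cs.wordProd (word6 21)) p6) = keys6.getD 21 0 := by rw [pt6_21]; decide
theorem key6_22 : key (φ (cs.wordProd (word6 22)) p6) = keys6.getD 22 0 := by rw [pt6_22]; decide
theorem key6_23 : key (φ (cs.wordProd (word6 23)) p6) = keys6.getD 23 0 := by rw [pt6_23]; decide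
theorem key6_24 : key (φ (cs.wordProd (word6 24)) p6) = keys6.getD 24 0 := by rw [pt6_24]; decide
theorem key6_25 : key (φ (cs.wordProd (word6 25)) p6) = keys6.getD 25 0 := by rw [pt6_25]; decide
theorem key6_26 : key (φ (cs.wordProd (word6 26)) p6) = keys6.getD 26 0 := by rw [pt6_26]; decide
theorem hkey6 : ∀ x < 27, key (φ (cs.wordProd (word6 x)) p6) = keys6.getD x 0 := by
  intro x hx
  interval_cases x
  exacts [key6_0, key6_1, key6_2, key6_3, key6_4, key6_5, key6_6, key6_7, key6_8, key6_9, key6_10, key6_11, key6_12, key6_13, key6_14, key6_15, key6_16, key6_17, key6_18, key6_19, key6_20, key6_21, key6_22, key6_23, key6_24, key6_25, key6_26]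
theorem card6 : Nat.card (par cs K6) = 27 * Nat.card (par cs K5) :=
  link_card cs φ p6 K5 K6 27 word6 tbl6 (by decide) (by decide) (by decide) (by decide) htbl6
    (fix_of_refl A cs hA φ hφ K5 p6 (by decide))
    (hdist_of_keys cs φ p6 word6 27 key keys6 (by decide) (by decide) hkey6)

-- link 7: K = [0, 2, 3, 1, 4, 5, 6], N = 56
def K7 : List (Fin 7) := [0, 2, 3, 1, 4, 5, 6]
def word7 : ℕ → List (Fin 7) := fun x => ([[], [6], [5, 6], [4, 5, 6], [3, 4, 5, 6], [2, 3, 4, 5, 6], [1, 3, 4, 5, 6], [0, 2, 3, 4, 5, 6], [1, 2, 3, 4, 5, 6], [1, 0, 2, 3, 4, 5, 6], [3, 1, 2, 3, 4, 5, 6], [3, 1, 0, 2, 3, 4, 5, 6], [4, 3, 1, 2, 3, 4, 5, 6], [2, 3, 1, 0, 2, 3, 4, 5, 6], [4, 3, 1, 0, 2, 3, 4, 5, 6], [5, 4, 3, 1, 2, 3, 4, 5, 6], [4, 2, 3, 1, 0, 2, 3, 4, 5, 6], [5, 4, 3, 1, 0, 2, 3, 4, 5, 6], [6, 5, 4, 3, 1, 2, 3, 4, 5, 6], [3, 4, 2, 3, 1, 0, 2, 3, 4, 5, 6], [5, 4, 2, 3, 1, 0, 2, 3, 4, 5, 6], [6, 5, 4,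 3, 1, 0, 2, 3, 4, 5, 6], [1, 3, 4, 2, 3, 1, 0, 2, 3, 4, 5, 6], [5, 3, 4, 2, 3, 1, 0, 2, 3, 4, 5, 6], [6, 5, 4, 2, 3, 1, 0, 2, 3, 4, 5, 6], [5, 1, 3, 4, 2, 3, 1, 0, 2, 3, 4, 5, 6], [4, 5, 3, 4, 2, 3, 1, 0, 2, 3, 4, 5, 6], [6, 5, 3, 4, 2, 3, 1, 0, 2, 3, 4, 5, 6], [4, 5, 1, 3, 4, 2, 3, 1, 0, 2, 3, 4, 5, 6], [6, 5, 1, 3, 4, 2, 3, 1, 0, 2, 3, 4, 5, 6], [6, 4, 5, 3, 4, 2, 3, 1, 0, 2, 3, 4, 5, 6], [3, 4, 5, 1, 3, 4, 2, 3, 1, 0, 2, 3, 4, 5, 6], [6, 4, 5, 1, 3, 4, 2, 3, 1, 0, 2, 3, 4, 5, 6], [5, 6, 4, 5, 3, 4, 2, 3, 1, 0, 2, 3, 4, 5, 6], [2, 3, 4, 5, 1, 3, 4, 2, 3, 1, 0, 2, 3, 4, 5, 6], [6, 3, 4, 5, 1, 3, 4, 2, 3, 1, 0, 2, 3, 4, 5, 6], [5, 6, 4, 5, 1, 3, 4, 2, 3, 1, 0, 2, 3, 4, 5, 6], [0, 2, 3, 4, 5, 1, 3, 4, 2, 3, 1, 0, 2, 3, 4, 5, 6], [6, 2, 3, 4, 5, 1, 3, 4, 2, 3, 1, 0, 2, 3, 4, 5, 6], [5, 6, 3, 4, 5, 1, 3, 4, 2, 3, 1, 0, 2, 3, 4, 5, 6], [6, 0, 2, 3, 4, 5, 1, 3, 4, 2, 3, 1, 0, 2, 3, 4, 5, 6],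 [5, 6, 2, 3, 4, 5, 1, 3, 4, 2, 3, 1, 0, 2, 3, 4, 5, 6], [4, 5, 6, 3, 4, 5, 1, 3, 4, 2, 3, 1, 0, 2, 3, 4, 5, 6], [5, 6, 0, 2, 3, 4, 5, 1, 3, 4, 2, 3, 1, 0, 2, 3, 4, 5, 6], [4, 5, 6, 2, 3, 4, 5, 1, 3, 4, 2, 3, 1, 0, 2, 3, 4, 5, 6], [4, 5, 6, 0, 2, 3, 4, 5, 1, 3, 4, 2, 3, 1, 0, 2, 3, 4, 5, 6], [3, 4, 5, 6, 2, 3, 4, 5, 1, 3, 4, 2, 3, 1, 0, 2, 3, 4, 5, 6], [3, 4, 5, 6, 0, 2, 3, 4, 5, 1, 3, 4, 2, 3, 1, 0, 2, 3, 4, 5, 6], [1, 3, 4, 5, 6, 2, 3, 4, 5, 1, 3, 4, 2, 3, 1, 0, 2, 3, 4, 5, 6], [2, 3, 4, 5, 6, 0, 2, 3, 4, 5, 1, 3, 4, 2, 3, 1, 0, 2, 3, 4, 5, 6], [1, 3, 4, 5, 6, 0, 2, 3, 4, 5, 1, 3, 4, 2, 3, 1, 0, 2, 3, 4, 5, 6], [1, 2, 3, 4, 5, 6, 0, 2, 3, 4, 5, 1, 3, 4, 2, 3, 1, 0, 2, 3, 4, 5, 6], [3, 1, 2, 3, 4, 5, 6, 0, 2, 3, 4, 5, 1, 3, 4, 2, 3, 1, 0, 2, 3, 4, 5, 6], [4, 3, 1, 2, 3, 4, 5, 6, 0, 2, 3, 4, 5, 1, 3, 4, 2, 3, 1, 0, 2, 3, 4, 5, 6], [5, 4, 3, 1, 2, 3, 4, 5, 6, 0, 2, 3, 4, 5, 1, 3, 4, 2, 3,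 1, 0, 2, 3, 4, 5, 6], [6, 5, 4, 3, 1, 2, 3, 4, 5, 6, 0, 2, 3, 4, 5, 1, 3, 4, 2, 3, 1, 0, 2, 3, 4, 5, 6]] : List (List (Fin 7))).getD x []
def tbl7 : ℕ → Fin 7 → ℕ := fun x j => (([[0, 0, 0, 0, 0, 0, 1], [1, 1, 1, 1, 1, 2, 0], [2, 2, 2, 2, 3, 1, 2], [3, 3, 3, 4, 2, 3, 3], [4, 6, 5, 3, 4, 4, 4], [7, 8, 4, 5, 5, 5, 5], [6, 4, 8, 6, 6, 6, 6], [5, 9, 7, 7, 7, 7, 7], [9, 5, 6, 10, 8, 8, 8], [8, 7, 9, 11, 9, 9, 9], [11, 10, 10, 8, 12, 10, 10], [10, 11, 13, 9, 14, 11, 11], [14, 12, 12, 12, 10, 15, 12], [13, 13, 11, 13, 16, 13, 13], [12, 14, 16, 14, 11, 17, 14], [17, 15, 15, 15, 15, 12, 18], [16, 16, 14, 19, 13, 20, 16], [15, 17, 20, 17, 17, 14, 21], [21, 18, 18, 18, 18, 18, 15], [19, 22, 19, 16, 19, 23, 19], [20, 20, 17, 23, 20, 16, 24], [18, 21, 24, 21, 21, 21, 17], [22, 19, 22, 22, 22, 25, 22], [23, 25, 23, 20, 26, 19, 27], [24, 24, 21, 27, 24, 24, 20], [25, 23, 25, 25, 28, 22, 29], [26, 28, 26,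 26, 23, 26, 30], [27, 29, 27, 24, 30, 27, 23], [28, 26, 28, 31, 25, 28, 32], [29, 27, 29, 29, 32, 29, 25], [30, 32, 30, 30, 27, 33, 26], [31, 31, 34, 28, 31, 31, 35], [32, 30, 32, 35, 29, 36, 28], [33, 36, 33, 33, 33, 30, 33], [37, 34, 31, 34, 34, 34, 38], [35, 35, 38, 32, 35, 39, 31], [36, 33, 36, 39, 36, 32, 36], [34, 37, 37, 37, 37, 37, 40], [40, 38, 35, 38, 38, 41, 34], [39, 39, 41, 36, 42, 35, 39], [38, 40, 40, 40, 40, 43, 37], [43, 41, 39, 41, 44, 38, 41], [42, 42, 44, 42, 39, 42, 42], [41, 43, 43, 43, 45, 40, 43], [45, 44, 42, 46, 41, 44, 44], [44, 45, 45, 47, 43, 45, 45], [47, 48, 46, 44, 46, 46, 46], [46, 50, 49, 45, 47, 47, 47], [50, 46, 48, 48, 48, 48, 48], [49, 51, 47, 49, 49, 49, 49], [48, 47, 51, 50, 50, 50, 50], [51, 49, 50, 52, 51, 51, 51], [52, 52, 52, 51, 53, 52, 52], [53, 53, 53, 53, 52, 54, 53], [54, 54, 54, 54, 54, 53, 55], [55, 55, 55, 55, 55, 55, 54]] : List (List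 ℕ)).getD x []).getD j.val 0
def p7 : Fin 7 → ℤ := ![0, 0, 0, 0, 0, 0, 1]
def keys7 : List ℤ := [1000000000000, -990000000000, -9900000000, -99000000, -989900, -9899, 9900, 99, 989901, 999899, 99000001, 99009999, 9900000001, 99990000, 9900009999, 990000000001, 9900990000, 990000009999, -999999999999, 9999000100, 990000990000, -999999990001, 9999999900, 990099000100, -999999010000, 990099999900, 999900000100, -999900999900, 999900999900, -999900000100, -990099999900, 999999010000, -990099000100, -9999999900, 999999990001, -990000990000, -9999000100, 999999999999, -990000009999, -9900990000, -990000000001, -9900009999, -99990000, -9900000001, -99009999, -99000001, -999899, -989901, -99, -9900, 9899, 989900, 99000000, 9900000000, 990000000000, -1000000000000]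
theorem v7_0_6 : V cs (par cs K6) (word7 0) 6 (word7 1) := V_tree cs _ (by decide)
theorem v7_1_6 : V cs (par cs K6) (word7 1) 6 (word7 0) := V_symm cs v7_0_6
theorem v7_1_5 : V cs (par cs K6) (word7 1) 5 (word7 2) := V_tree cs _ (by decide)
theorem v7_2_5 : V cs (par cs K6) (word7 2) 5 (word7 1) := V_symm cs v7_1_5
theorem v7_2_4 : V cs (par cs K6) (word7 2) 4 (word7 3) := V_tree cs _ (by decide)
theorem v7_3_4 : V cs (par cs K6) (word7 3) 4 (word7 2) := V_symm cs v7_2_4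
theorem v7_3_3 : V cs (par cs K6) (word7 3) 3 (word7 4) := V_tree cs _ (by decide)
theorem v7_4_3 : V cs (par cs K6) (word7 4) 3 (word7 3) := V_symm cs v7_3_3
theorem v7_4_2 : V cs (par cs K6) (word7 4) 2 (word7 5) := V_tree cs _ (by decide)
theorem v7_5_2 : V cs (par cs K6) (word7 5) 2 (word7 4) := V_symm cs v7_4_2
theorem v7_4_1 : V cs (par cs K6) (word7 4) 1 (word7 6) := V_tree cs _ (by decide)
theorem v7_6_1 : V cs (par cs K6) (word7 6) 1 (word7 4) := V_symm cs v7_4_1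
theorem v7_5_0 : V cs (par cs K6) (word7 5) 0 (word7 7) := V_tree cs _ (by decide)
theorem v7_7_0 : V cs (par cs K6) (word7 7) 0 (word7 5) := V_symm cs v7_5_0
theorem v7_5_1 : V cs (par cs K6) (word7 5) 1 (word7 8) := V_tree cs _ (by decide)
theorem v7_8_1 : V cs (par cs K6) (word7 8) 1 (word7 5) := V_symm cs v7_5_1
theorem v7_7_1 : V cs (par cs K6) (word7 7) 1 (word7 9) := V_tree cs _ (by decide)
theorem v7_9_1 : V cs (par cs K6) (word7 9) 1 (word7 7) := V_symm cs v7_7_1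
theorem v7_8_3 : V cs (par cs K6) (word7 8) 3 (word7 10) := V_tree cs _ (by decide)
theorem v7_10_3 : V cs (par cs K6) (word7 10) 3 (word7 8) := V_symm cs v7_8_3
theorem v7_9_3 : V cs (par cs K6) (word7 9) 3 (word7 11) := V_tree cs _ (by decide)
theorem v7_11_3 : V cs (par cs K6) (word7 11) 3 (word7 9) := V_symm cs v7_9_3
theorem v7_10_4 : V cs (par cs K6) (word7 10) 4 (word7 12) := V_tree cs _ (by decide)
theorem v7_12_4 : V cs (par cs K6) (word7 12) 4 (word7 10) := V_symm cs v7_10_4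
theorem v7_11_2 : V cs (par cs K6) (word7 11) 2 (word7 13) := V_tree cs _ (by decide)
theorem v7_13_2 : V cs (par cs K6) (word7 13) 2 (word7 11) := V_symm cs v7_11_2
theorem v7_11_4 : V cs (par cs K6) (word7 11) 4 (word7 14) := V_tree cs _ (by decide)
theorem v7_14_4 : V cs (par cs K6) (word7 14) 4 (word7 11) := V_symm cs v7_11_4
theorem v7_12_5 : V cs (par cs K6) (word7 12) 5 (word7 15) := V_tree cs _ (by decide)
theorem v7_15_5 : V cs (par cs K6) (word7 15) 5 (word7 12) := V_symm cs v7_12_5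
theorem v7_13_4 : V cs (par cs K6) (word7 13) 4 (word7 16) := V_tree cs _ (by decide)
theorem v7_16_4 : V cs (par cs K6) (word7 16) 4 (word7 13) := V_symm cs v7_13_4
theorem v7_14_5 : V cs (par cs K6) (word7 14) 5 (word7 17) := V_tree cs _ (by decide)
theorem v7_17_5 : V cs (par cs K6) (word7 17) 5 (word7 14) := V_symm cs v7_14_5
theorem v7_15_6 : V cs (par cs K6) (word7 15) 6 (word7 18) := V_tree cs _ (by decide)
theorem v7_18_6 : V cs (par cs K6) (word7 18) 6 (word7 15) := V_symm cs v7_15_6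
theorem v7_16_3 : V cs (par cs K6) (word7 16) 3 (word7 19) := V_tree cs _ (by decide)
theorem v7_19_3 : V cs (par cs K6) (word7 19) 3 (word7 16) := V_symm cs v7_16_3
theorem v7_16_5 : V cs (par cs K6) (word7 16) 5 (word7 20) := V_tree cs _ (by decide)
theorem v7_20_5 : V cs (par cs K6) (word7 20) 5 (word7 16) := V_symm cs v7_16_5
theorem v7_17_6 : V cs (par cs K6) (word7 17) 6 (word7 21) := V_tree cs _ (by decide)
theorem v7_21_6 : V cs (par cs K6) (word7 21) 6 (word7 17) := V_symm cs v7_17_6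
theorem v7_19_1 : V cs (par cs K6) (word7 19) 1 (word7 22) := V_tree cs _ (by decide)
theorem v7_22_1 : V cs (par cs K6) (word7 22) 1 (word7 19) := V_symm cs v7_19_1
theorem v7_19_5 : V cs (par cs K6) (word7 19) 5 (word7 23) := V_tree cs _ (by decide)
theorem v7_23_5 : V cs (par cs K6) (word7 23) 5 (word7 19) := V_symm cs v7_19_5
theorem v7_20_6 : V cs (par cs K6) (word7 20) 6 (word7 24) := V_tree cs _ (by decide)
theorem v7_24_6 : V cs (par cs K6) (word7 24) 6 (word7 20) := V_symm cs v7_20_6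
theorem v7_22_5 : V cs (par cs K6) (word7 22) 5 (word7 25) := V_tree cs _ (by decide)
theorem v7_25_5 : V cs (par cs K6) (word7 25) 5 (word7 22) := V_symm cs v7_22_5
theorem v7_23_4 : V cs (par cs K6) (word7 23) 4 (word7 26) := V_tree cs _ (by decide)
theorem v7_26_4 : V cs (par cs K6) (word7 26) 4 (word7 23) := V_symm cs v7_23_4
theorem v7_23_6 : V cs (par cs K6) (word7 23) 6 (word7 27) := V_tree cs _ (by decide)
theorem v7_27_6 : V cs (par cs K6) (word7 27) 6 (word7 23) := V_symm cs v7_23_6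
theorem v7_25_4 : V cs (par cs K6) (word7 25) 4 (word7 28) := V_tree cs _ (by decide)
theorem v7_28_4 : V cs (par cs K6) (word7 28) 4 (word7 25) := V_symm cs v7_25_4
theorem v7_25_6 : V cs (par cs K6) (word7 25) 6 (word7 29) := V_tree cs _ (by decide)
theorem v7_29_6 : V cs (par cs K6) (word7 29) 6 (word7 25) := V_symm cs v7_25_6
theorem v7_26_6 : V cs (par cs K6) (word7 26) 6 (word7 30) := V_tree cs _ (by decide)
theorem v7_30_6 : V cs (par cs K6) (word7 30) 6 (word7 26) := V_symm cs v7_26_6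
theorem v7_28_3 : V cs (par cs K6) (word7 28) 3 (word7 31) := V_tree cs _ (by decide)
theorem v7_31_3 : V cs (par cs K6) (word7 31) 3 (word7 28) := V_symm cs v7_28_3
theorem v7_28_6 : V cs (par cs K6) (word7 28) 6 (word7 32) := V_tree cs _ (by decide)
theorem v7_32_6 : V cs (par cs K6) (word7 32) 6 (word7 28) := V_symm cs v7_28_6
theorem v7_30_5 : V cs (par cs K6) (word7 30) 5 (word7 33) := V_tree cs _ (by decide)
theorem v7_33_5 : V cs (par cs K6) (word7 33) 5 (word7 30) := V_symm cs v7_30_5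
theorem v7_31_2 : V cs (par cs K6) (word7 31) 2 (word7 34) := V_tree cs _ (by decide)
theorem v7_34_2 : V cs (par cs K6) (word7 34) 2 (word7 31) := V_symm cs v7_31_2
theorem v7_31_6 : V cs (par cs K6) (word7 31) 6 (word7 35) := V_tree cs _ (by decide)
theorem v7_35_6 : V cs (par cs K6) (word7 35) 6 (word7 31) := V_symm cs v7_31_6
theorem v7_32_5 : V cs (par cs K6) (word7 32) 5 (word7 36) := V_tree cs _ (by decide)
theorem v7_36_5 : V cs (par cs K6) (word7 36) 5 (word7 32) := V_symm cs v7_32_5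
theorem v7_34_0 : V cs (par cs K6) (word7 34) 0 (word7 37) := V_tree cs _ (by decide)
theorem v7_37_0 : V cs (par cs K6) (word7 37) 0 (word7 34) := V_symm cs v7_34_0
theorem v7_34_6 : V cs (par cs K6) (word7 34) 6 (word7 38) := V_tree cs _ (by decide)
theorem v7_38_6 : V cs (par cs K6) (word7 38) 6 (word7 34) := V_symm cs v7_34_6
theorem v7_35_5 : V cs (par cs K6) (word7 35) 5 (word7 39) := V_tree cs _ (by decide)
theorem v7_39_5 : V cs (par cs K6) (word7 39) 5 (word7 35) := V_symm cs v7_35_5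
theorem v7_37_6 : V cs (par cs K6) (word7 37) 6 (word7 40) := V_tree cs _ (by decide)
theorem v7_40_6 : V cs (par cs K6) (word7 40) 6 (word7 37) := V_symm cs v7_37_6
theorem v7_38_5 : V cs (par cs K6) (word7 38) 5 (word7 41) := V_tree cs _ (by decide)
theorem v7_41_5 : V cs (par cs K6) (word7 41) 5 (word7 38) := V_symm cs v7_38_5
theorem v7_39_4 : V cs (par cs K6) (word7 39) 4 (word7 42) := V_tree cs _ (by decide)
theorem v7_42_4 : V cs (par cs K6) (word7 42) 4 (word7 39) := V_symm cs v7_39_4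
theorem v7_40_5 : V cs (par cs K6) (word7 40) 5 (word7 43) := V_tree cs _ (by decide)
theorem v7_43_5 : V cs (par cs K6) (word7 43) 5 (word7 40) := V_symm cs v7_40_5
theorem v7_41_4 : V cs (par cs K6) (word7 41) 4 (word7 44) := V_tree cs _ (by decide)
theorem v7_44_4 : V cs (par cs K6) (word7 44) 4 (word7 41) := V_symm cs v7_41_4
theorem v7_43_4 : V cs (par cs K6) (word7 43) 4 (word7 45) := V_tree cs _ (by decide)
theorem v7_45_4 : V cs (par cs K6) (word7 45) 4 (word7 43) := V_symm cs v7_43_4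
theorem v7_44_3 : V cs (par cs K6) (word7 44) 3 (word7 46) := V_tree cs _ (by decide)
theorem v7_46_3 : V cs (par cs K6) (word7 46) 3 (word7 44) := V_symm cs v7_44_3
theorem v7_45_3 : V cs (par cs K6) (word7 45) 3 (word7 47) := V_tree cs _ (by decide)
theorem v7_47_3 : V cs (par cs K6) (word7 47) 3 (word7 45) := V_symm cs v7_45_3
theorem v7_46_1 : V cs (par cs K6) (word7 46) 1 (word7 48) := V_tree cs _ (by decide)
theorem v7_48_1 : V cs (par cs K6) (word7 48) 1 (word7 46) := V_symm cs v7_46_1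
theorem v7_47_2 : V cs (par cs K6) (word7 47) 2 (word7 49) := V_tree cs _ (by decide)
theorem v7_49_2 : V cs (par cs K6) (word7 49) 2 (word7 47) := V_symm cs v7_47_2
theorem v7_47_1 : V cs (par cs K6) (word7 47) 1 (word7 50) := V_tree cs _ (by decide)
theorem v7_50_1 : V cs (par cs K6) (word7 50) 1 (word7 47) := V_symm cs v7_47_1
theorem v7_49_1 : V cs (par cs K6) (word7 49) 1 (word7 51) := V_tree cs _ (by decide)
theorem v7_51_1 : V cs (par cs K6) (word7 51) 1 (word7 49) := V_symm cs v7_49_1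
theorem v7_51_3 : V cs (par cs K6) (word7 51) 3 (word7 52) := V_tree cs _ (by decide)
theorem v7_52_3 : V cs (par cs K6) (word7 52) 3 (word7 51) := V_symm cs v7_51_3
theorem v7_52_4 : V cs (par cs K6) (word7 52) 4 (word7 53) := V_tree cs _ (by decide)
theorem v7_53_4 : V cs (par cs K6) (word7 53) 4 (word7 52) := V_symm cs v7_52_4
theorem v7_53_5 : V cs (par cs K6) (word7 53) 5 (word7 54) := V_tree cs _ (by decide)
theorem v7_54_5 : V cs (par cs K6) (word7 54) 5 (word7 53) := V_symm cs v7_53_5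
theorem v7_54_6 : V cs (par cs K6) (word7 54) 6 (word7 55) := V_tree cs _ (by decide)
theorem v7_55_6 : V cs (par cs K6) (word7 55) 6 (word7 54) := V_symm cs v7_54_6
theorem v7_0_0 : V cs (par cs K6) (word7 0) 0 (word7 0) := V_base cs (by decide) (simple_mem_par cs (by decide))
theorem v7_0_2 : V cs (par cs K6) (word7 0) 2 (word7 0) := V_base cs (by decide) (simple_mem_par cs (by decide))
theorem v7_0_3 : V cs (par cs K6) (word7 0) 3 (word7 0) := V_base cs (by decide) (simple_mem_par cs (by decide))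
theorem v7_0_1 : V cs (par cs K6) (word7 0) 1 (word7 0) := V_base cs (by decide) (simple_mem_par cs (by decide))
theorem v7_0_4 : V cs (par cs K6) (word7 0) 4 (word7 0) := V_base cs (by decide) (simple_mem_par cs (by decide))
theorem v7_0_5 : V cs (par cs K6) (word7 0) 5 (word7 0) := V_base cs (by decide) (simple_mem_par cs (by decide))
theorem v7_9_0 : V cs (par cs K6) (word7 9) 0 (word7 8) := V_ded2 cs (a := 0) (b := 1) (by decide) v7_8_1 v7_5_0 v7_7_1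
theorem v7_8_0 : V cs (par cs K6) (word7 8) 0 (word7 9) := V_symm cs v7_9_0
theorem v7_1_0 : V cs (par cs K6) (word7 1) 0 (word7 1) := V_ded2 cs (a := 0) (b := 6) (by decide) v7_1_6 v7_0_0 v7_0_6
theorem v7_40_0 : V cs (par cs K6) (word7 40) 0 (word7 38) := V_ded2 cs (a := 0) (b := 6) (by decide) v7_38_6 v7_34_0 v7_37_6
theorem v7_38_0 : V cs (par cs K6) (word7 38) 0 (word7 40) := V_symm cs v7_40_0
theorem v7_8_2 : V cs (par cs K6) (word7 8) 2 (word7 6) := V_ded2 cs (a := 2) (b := 1) (by decide) v7_6_1 v7_4_2 v7_5_1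
theorem v7_6_2 : V cs (par cs K6) (word7 6) 2 (word7 8) := V_symm cs v7_8_2
theorem v7_51_2 : V cs (par cs K6) (word7 51) 2 (word7 50) := V_ded2 cs (a := 2) (b := 1) (by decide) v7_50_1 v7_47_2 v7_49_1
theorem v7_50_2 : V cs (par cs K6) (word7 50) 2 (word7 51) := V_symm cs v7_51_2
theorem v7_16_2 : V cs (par cs K6) (word7 16) 2 (word7 14) := V_ded2 cs (a := 2) (b := 4) (by decide) v7_14_4 v7_11_2 v7_13_4
theorem v7_14_2 : V cs (par cs K6) (word7 14) 2 (word7 16) := V_symm cs v7_16_2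
theorem v7_20_2 : V cs (par cs K6) (word7 20) 2 (word7 17) := V_ded2 cs (a := 2) (b := 5) (by decide) v7_17_5 v7_14_2 v7_16_5
theorem v7_17_2 : V cs (par cs K6) (word7 17) 2 (word7 20) := V_symm cs v7_20_2
theorem v7_1_2 : V cs (par cs K6) (word7 1) 2 (word7 1) := V_ded2 cs (a := 2) (b := 6) (by decide) v7_1_6 v7_0_2 v7_0_6
theorem v7_24_2 : V cs (par cs K6) (word7 24) 2 (word7 21) := V_ded2 cs (a := 2) (b := 6) (by decide) v7_21_6 v7_17_2 v7_20_6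
theorem v7_21_2 : V cs (par cs K6) (word7 21) 2 (word7 24) := V_symm cs v7_24_2
theorem v7_38_2 : V cs (par cs K6) (word7 38) 2 (word7 35) := V_ded2 cs (a := 2) (b := 6) (by decide) v7_35_6 v7_31_2 v7_34_6
theorem v7_35_2 : V cs (par cs K6) (word7 35) 2 (word7 38) := V_symm cs v7_38_2
theorem v7_23_3 : V cs (par cs K6) (word7 23) 3 (word7 20) := V_ded2 cs (a := 3) (b := 5) (by decide) v7_20_5 v7_16_3 v7_19_5
theorem v7_20_3 : V cs (par cs K6) (word7 20) 3 (word7 23) := V_symm cs v7_23_3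
theorem v7_1_3 : V cs (par cs K6) (word7 1) 3 (word7 1) := V_ded2 cs (a := 3) (b := 6) (by decide) v7_1_6 v7_0_3 v7_0_6
theorem v7_27_3 : V cs (par cs K6) (word7 27) 3 (word7 24) := V_ded2 cs (a := 3) (b := 6) (by decide) v7_24_6 v7_20_3 v7_23_6
theorem v7_24_3 : V cs (par cs K6) (word7 24) 3 (word7 27) := V_symm cs v7_27_3
theorem v7_35_3 : V cs (par cs K6) (word7 35) 3 (word7 32) := V_ded2 cs (a := 3) (b := 6) (by decide) v7_32_6 v7_28_3 v7_31_6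
theorem v7_32_3 : V cs (par cs K6) (word7 32) 3 (word7 35) := V_symm cs v7_35_3
theorem v7_25_1 : V cs (par cs K6) (word7 25) 1 (word7 23) := V_ded2 cs (a := 1) (b := 5) (by decide) v7_23_5 v7_19_1 v7_22_5
theorem v7_23_1 : V cs (par cs K6) (word7 23) 1 (word7 25) := V_symm cs v7_25_1
theorem v7_1_1 : V cs (par cs K6) (word7 1) 1 (word7 1) := V_ded2 cs (a := 1) (b := 6) (by decide) v7_1_6 v7_0_1 v7_0_6
theorem v7_29_1 : V cs (par cs K6) (word7 29) 1 (word7 27) := V_ded2 cs (a := 1) (b := 6) (by decide) v7_27_6 v7_23_1 v7_25_6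
theorem v7_27_1 : V cs (par cs K6) (word7 27) 1 (word7 29) := V_symm cs v7_29_1
theorem v7_1_4 : V cs (par cs K6) (word7 1) 4 (word7 1) := V_ded2 cs (a := 4) (b := 6) (by decide) v7_1_6 v7_0_4 v7_0_6
theorem v7_30_4 : V cs (par cs K6) (word7 30) 4 (word7 27) := V_ded2 cs (a := 4) (b := 6) (by decide) v7_27_6 v7_23_4 v7_26_6
theorem v7_27_4 : V cs (par cs K6) (word7 27) 4 (word7 30) := V_symm cs v7_30_4
theorem v7_32_4 : V cs (par cs K6) (word7 32) 4 (word7 29) := V_ded2 cs (a := 4) (b := 6) (by decide) v7_29_6 v7_25_4 v7_28_6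
theorem v7_29_4 : V cs (par cs K6) (word7 29) 4 (word7 32) := V_symm cs v7_32_4
theorem v7_3_5 : V cs (par cs K6) (word7 3) 5 (word7 3) := V_ded3 cs (a := 5) (b := 4) (by decide) v7_3_4 v7_2_5 v7_1_4 v7_1_5 v7_2_4
theorem v7_2_6 : V cs (par cs K6) (word7 2) 6 (word7 2) := V_ded3 cs (a := 6) (b := 5) (by decide) v7_2_5 v7_1_6 v7_0_5 v7_0_6 v7_1_5
theorem v7_11_0 : V cs (par cs K6) (word7 11) 0 (word7 10) := V_ded2 cs (a := 0) (b := 3) (by decide) v7_10_3 v7_8_0 v7_9_3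
theorem v7_10_0 : V cs (par cs K6) (word7 10) 0 (word7 11) := V_symm cs v7_11_0
theorem v7_14_0 : V cs (par cs K6) (word7 14) 0 (word7 12) := V_ded2 cs (a := 0) (b := 4) (by decide) v7_12_4 v7_10_0 v7_11_4
theorem v7_12_0 : V cs (par cs K6) (word7 12) 0 (word7 14) := V_symm cs v7_14_0
theorem v7_2_0 : V cs (par cs K6) (word7 2) 0 (word7 2) := V_ded2 cs (a := 0) (b := 5) (by decide) v7_2_5 v7_1_0 v7_1_5
theorem v7_17_0 : V cs (par cs K6) (word7 17) 0 (word7 15) := V_ded2 cs (a := 0) (b := 5) (by decide) v7_15_5 v7_12_0 v7_14_5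
theorem v7_15_0 : V cs (par cs K6) (word7 15) 0 (word7 17) := V_symm cs v7_17_0
theorem v7_43_0 : V cs (par cs K6) (word7 43) 0 (word7 41) := V_ded2 cs (a := 0) (b := 5) (by decide) v7_41_5 v7_38_0 v7_40_5
theorem v7_41_0 : V cs (par cs K6) (word7 41) 0 (word7 43) := V_symm cs v7_43_0
theorem v7_21_0 : V cs (par cs K6) (word7 21) 0 (word7 18) := V_ded2 cs (a := 0) (b := 6) (by decide) v7_18_6 v7_15_0 v7_17_6
theorem v7_18_0 : V cs (par cs K6) (word7 18) 0 (word7 21) := V_symm cs v7_21_0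
theorem v7_2_2 : V cs (par cs K6) (word7 2) 2 (word7 2) := V_ded2 cs (a := 2) (b := 5) (by decide) v7_2_5 v7_1_2 v7_1_5
theorem v7_41_2 : V cs (par cs K6) (word7 41) 2 (word7 39) := V_ded2 cs (a := 2) (b := 5) (by decide) v7_39_5 v7_35_2 v7_38_5
theorem v7_39_2 : V cs (par cs K6) (word7 39) 2 (word7 41) := V_symm cs v7_41_2
theorem v7_2_3 : V cs (par cs K6) (word7 2) 3 (word7 2) := V_ded2 cs (a := 3) (b := 5) (by decide) v7_2_5 v7_1_3 v7_1_5
theorem v7_39_3 : V cs (par cs K6) (word7 39) 3 (word7 36) := V_ded2 cs (a := 3) (b := 5) (by decide) v7_36_5 v7_32_3 v7_35_5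
theorem v7_36_3 : V cs (par cs K6) (word7 36) 3 (word7 39) := V_symm cs v7_39_3
theorem v7_28_1 : V cs (par cs K6) (word7 28) 1 (word7 26) := V_ded2 cs (a := 1) (b := 4) (by decide) v7_26_4 v7_23_1 v7_25_4
theorem v7_26_1 : V cs (par cs K6) (word7 26) 1 (word7 28) := V_symm cs v7_28_1
theorem v7_32_1 : V cs (par cs K6) (word7 32) 1 (word7 30) := V_ded2 cs (a := 1) (b := 4) (by decide) v7_30_4 v7_27_1 v7_29_4
theorem v7_30_1 : V cs (par cs K6) (word7 30) 1 (word7 32) := V_symm cs v7_32_1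
theorem v7_2_1 : V cs (par cs K6) (word7 2) 1 (word7 2) := V_ded2 cs (a := 1) (b := 5) (by decide) v7_2_5 v7_1_1 v7_1_5
theorem v7_36_1 : V cs (par cs K6) (word7 36) 1 (word7 33) := V_ded2 cs (a := 1) (b := 5) (by decide) v7_33_5 v7_30_1 v7_32_5
theorem v7_33_1 : V cs (par cs K6) (word7 33) 1 (word7 36) := V_symm cs v7_36_1
theorem v7_4_4 : V cs (par cs K6) (word7 4) 4 (word7 4) := V_ded3 cs (a := 4) (b := 3) (by decide) v7_4_3 v7_3_4 v7_2_3 v7_2_4 v7_3_3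
theorem v7_6_4 : V cs (par cs K6) (word7 6) 4 (word7 6) := V_ded2 cs (a := 4) (b := 1) (by decide) v7_6_1 v7_4_4 v7_4_1
theorem v7_4_5 : V cs (par cs K6) (word7 4) 5 (word7 4) := V_ded2 cs (a := 5) (b := 3) (by decide) v7_4_3 v7_3_5 v7_3_3
theorem v7_6_5 : V cs (par cs K6) (word7 6) 5 (word7 6) := V_ded2 cs (a := 5) (b := 1) (by decide) v7_6_1 v7_4_5 v7_4_1
theorem v7_3_6 : V cs (par cs K6) (word7 3) 6 (word7 3) := V_ded2 cs (a := 6) (b := 4) (by decide) v7_3_4 v7_2_6 v7_2_4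
theorem v7_3_0 : V cs (par cs K6) (word7 3) 0 (word7 3) := V_ded2 cs (a := 0) (b := 4) (by decide) v7_3_4 v7_2_0 v7_2_4
theorem v7_45_0 : V cs (par cs K6) (word7 45) 0 (word7 44) := V_ded2 cs (a := 0) (b := 4) (by decide) v7_44_4 v7_41_0 v7_43_4
theorem v7_44_0 : V cs (par cs K6) (word7 44) 0 (word7 45) := V_symm cs v7_45_0
theorem v7_3_2 : V cs (par cs K6) (word7 3) 2 (word7 3) := V_ded2 cs (a := 2) (b := 4) (by decide) v7_3_4 v7_2_2 v7_2_4
theorem v7_44_2 : V cs (par cs K6) (word7 44) 2 (word7 42) := V_ded2 cs (a := 2) (b := 4) (by decide) v7_42_4 v7_39_2 v7_41_4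
theorem v7_42_2 : V cs (par cs K6) (word7 42) 2 (word7 44) := V_symm cs v7_44_2
theorem v7_5_3 : V cs (par cs K6) (word7 5) 3 (word7 5) := V_ded3 cs (a := 3) (b := 2) (by decide) v7_5_2 v7_4_3 v7_3_2 v7_3_3 v7_4_2
theorem v7_10_1 : V cs (par cs K6) (word7 10) 1 (word7 10) := V_ded3 cs (a := 1) (b := 3) (by decide) v7_10_3 v7_8_1 v7_5_3 v7_5_1 v7_8_3
theorem v7_3_1 : V cs (par cs K6) (word7 3) 1 (word7 3) := V_ded2 cs (a := 1) (b := 4) (by decide) v7_3_4 v7_2_1 v7_2_4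
theorem v7_12_1 : V cs (par cs K6) (word7 12) 1 (word7 12) := V_ded2 cs (a := 1) (b := 4) (by decide) v7_12_4 v7_10_1 v7_10_4
theorem v7_15_1 : V cs (par cs K6) (word7 15) 1 (word7 15) := V_ded2 cs (a := 1) (b := 5) (by decide) v7_15_5 v7_12_1 v7_12_5
theorem v7_18_1 : V cs (par cs K6) (word7 18) 1 (word7 18) := V_ded2 cs (a := 1) (b := 6) (by decide) v7_18_6 v7_15_1 v7_15_6
theorem v7_5_4 : V cs (par cs K6) (word7 5) 4 (word7 5) := V_ded2 cs (a := 4) (b := 2) (by decide) v7_5_2 v7_4_4 v7_4_2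
theorem v7_8_4 : V cs (par cs K6) (word7 8) 4 (word7 8) := V_ded2 cs (a := 4) (b := 2) (by decide) v7_8_2 v7_6_4 v7_6_2
theorem v7_5_5 : V cs (par cs K6) (word7 5) 5 (word7 5) := V_ded2 cs (a := 5) (b := 2) (by decide) v7_5_2 v7_4_5 v7_4_2
theorem v7_8_5 : V cs (par cs K6) (word7 8) 5 (word7 8) := V_ded2 cs (a := 5) (b := 2) (by decide) v7_8_2 v7_6_5 v7_6_2
theorem v7_10_5 : V cs (par cs K6) (word7 10) 5 (word7 10) := V_ded2 cs (a := 5) (b := 3) (by decide) v7_10_3 v7_8_5 v7_8_3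
theorem v7_4_6 : V cs (par cs K6) (word7 4) 6 (word7 4) := V_ded2 cs (a := 6) (b := 3) (by decide) v7_4_3 v7_3_6 v7_3_3
theorem v7_6_6 : V cs (par cs K6) (word7 6) 6 (word7 6) := V_ded2 cs (a := 6) (b := 1) (by decide) v7_6_1 v7_4_6 v7_4_1
theorem v7_4_0 : V cs (par cs K6) (word7 4) 0 (word7 4) := V_ded2 cs (a := 0) (b := 3) (by decide) v7_4_3 v7_3_0 v7_3_3
theorem v7_47_0 : V cs (par cs K6) (word7 47) 0 (word7 46) := V_ded2 cs (a := 0) (b := 3) (by decide) v7_46_3 v7_44_0 v7_45_3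
theorem v7_46_0 : V cs (par cs K6) (word7 46) 0 (word7 47) := V_symm cs v7_47_0
theorem v7_6_0 : V cs (par cs K6) (word7 6) 0 (word7 6) := V_ded2 cs (a := 0) (b := 1) (by decide) v7_6_1 v7_4_0 v7_4_1
theorem v7_50_0 : V cs (par cs K6) (word7 50) 0 (word7 48) := V_ded2 cs (a := 0) (b := 1) (by decide) v7_48_1 v7_46_0 v7_47_1
theorem v7_48_0 : V cs (par cs K6) (word7 48) 0 (word7 50) := V_symm cs v7_50_0
theorem v7_7_2 : V cs (par cs K6) (word7 7) 2 (word7 7) := V_ded3 cs (a := 2) (b := 0) (by decide) v7_7_0 v7_5_2 v7_4_0 v7_4_2 v7_5_0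
theorem v7_9_2 : V cs (par cs K6) (word7 9) 2 (word7 9) := V_ded3 cs (a := 2) (b := 0) (by decide) v7_9_0 v7_8_2 v7_6_0 v7_6_2 v7_8_0
theorem v7_7_3 : V cs (par cs K6) (word7 7) 3 (word7 7) := V_ded2 cs (a := 3) (b := 0) (by decide) v7_7_0 v7_5_3 v7_5_0
theorem v7_13_3 : V cs (par cs K6) (word7 13) 3 (word7 13) := V_ded3 cs (a := 3) (b := 2) (by decide) v7_13_2 v7_11_3 v7_9_2 v7_9_3 v7_11_2
theorem v7_6_3 : V cs (par cs K6) (word7 6) 3 (word7 6) := V_ded3 cs (a := 3) (b := 1) (by decide) v7_6_1 v7_4_3 v7_3_1 v7_3_3 v7_4_1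
theorem v7_12_3 : V cs (par cs K6) (word7 12) 3 (word7 12) := V_ded3 cs (a := 3) (b := 4) (by decide) v7_12_4 v7_10_3 v7_8_4 v7_8_3 v7_10_4
theorem v7_15_3 : V cs (par cs K6) (word7 15) 3 (word7 15) := V_ded2 cs (a := 3) (b := 5) (by decide) v7_15_5 v7_12_3 v7_12_5
theorem v7_18_3 : V cs (par cs K6) (word7 18) 3 (word7 18) := V_ded2 cs (a := 3) (b := 6) (by decide) v7_18_6 v7_15_3 v7_15_6
theorem v7_11_1 : V cs (par cs K6) (word7 11) 1 (word7 11) := V_ded2 cs (a := 1) (b := 0) (by decide) v7_11_0 v7_10_1 v7_10_0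
theorem v7_14_1 : V cs (par cs K6) (word7 14) 1 (word7 14) := V_ded2 cs (a := 1) (b := 0) (by decide) v7_14_0 v7_12_1 v7_12_0
theorem v7_17_1 : V cs (par cs K6) (word7 17) 1 (word7 17) := V_ded2 cs (a := 1) (b := 0) (by decide) v7_17_0 v7_15_1 v7_15_0
theorem v7_21_1 : V cs (par cs K6) (word7 21) 1 (word7 21) := V_ded2 cs (a := 1) (b := 0) (by decide) v7_21_0 v7_18_1 v7_18_0
theorem v7_13_1 : V cs (par cs K6) (word7 13) 1 (word7 13) := V_ded2 cs (a := 1) (b := 2) (by decide) v7_13_2 v7_11_1 v7_11_2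
theorem v7_16_1 : V cs (par cs K6) (word7 16) 1 (word7 16) := V_ded2 cs (a := 1) (b := 2) (by decide) v7_16_2 v7_14_1 v7_14_2
theorem v7_20_1 : V cs (par cs K6) (word7 20) 1 (word7 20) := V_ded2 cs (a := 1) (b := 2) (by decide) v7_20_2 v7_17_1 v7_17_2
theorem v7_24_1 : V cs (par cs K6) (word7 24) 1 (word7 24) := V_ded2 cs (a := 1) (b := 2) (by decide) v7_24_2 v7_21_1 v7_21_2
theorem v7_7_4 : V cs (par cs K6) (word7 7) 4 (word7 7) := V_ded2 cs (a := 4) (b := 0) (by decide) v7_7_0 v7_5_4 v7_5_0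
theorem v7_9_4 : V cs (par cs K6) (word7 9) 4 (word7 9) := V_ded2 cs (a := 4) (b := 0) (by decide) v7_9_0 v7_8_4 v7_8_0
theorem v7_19_4 : V cs (par cs K6) (word7 19) 4 (word7 19) := V_ded3 cs (a := 4) (b := 3) (by decide) v7_19_3 v7_16_4 v7_13_3 v7_13_4 v7_16_3
theorem v7_22_4 : V cs (par cs K6) (word7 22) 4 (word7 22) := V_ded2 cs (a := 4) (b := 1) (by decide) v7_22_1 v7_19_4 v7_19_1
theorem v7_15_4 : V cs (par cs K6) (word7 15) 4 (word7 15) := V_ded3 cs (a := 4) (b := 5) (by decide) v7_15_5 v7_12_4 v7_10_5 v7_10_4 v7_12_5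
theorem v7_18_4 : V cs (par cs K6) (word7 18) 4 (word7 18) := V_ded2 cs (a := 4) (b := 6) (by decide) v7_18_6 v7_15_4 v7_15_6
theorem v7_7_5 : V cs (par cs K6) (word7 7) 5 (word7 7) := V_ded2 cs (a := 5) (b := 0) (by decide) v7_7_0 v7_5_5 v7_5_0
theorem v7_9_5 : V cs (par cs K6) (word7 9) 5 (word7 9) := V_ded2 cs (a := 5) (b := 0) (by decide) v7_9_0 v7_8_5 v7_8_0
theorem v7_11_5 : V cs (par cs K6) (word7 11) 5 (word7 11) := V_ded2 cs (a := 5) (b := 0) (by decide) v7_11_0 v7_10_5 v7_10_0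
theorem v7_13_5 : V cs (par cs K6) (word7 13) 5 (word7 13) := V_ded2 cs (a := 5) (b := 2) (by decide) v7_13_2 v7_11_5 v7_11_2
theorem v7_26_5 : V cs (par cs K6) (word7 26) 5 (word7 26) := V_ded3 cs (a := 5) (b := 4) (by decide) v7_26_4 v7_23_5 v7_19_4 v7_19_5 v7_23_4
theorem v7_28_5 : V cs (par cs K6) (word7 28) 5 (word7 28) := V_ded3 cs (a := 5) (b := 4) (by decide) v7_28_4 v7_25_5 v7_22_4 v7_22_5 v7_25_4
theorem v7_5_6 : V cs (par cs K6) (word7 5) 6 (word7 5) := V_ded2 cs (a := 6) (b := 2) (by decide) v7_5_2 v7_4_6 v7_4_2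
theorem v7_8_6 : V cs (par cs K6) (word7 8) 6 (word7 8) := V_ded2 cs (a := 6) (b := 2) (by decide) v7_8_2 v7_6_6 v7_6_2
theorem v7_10_6 : V cs (par cs K6) (word7 10) 6 (word7 10) := V_ded2 cs (a := 6) (b := 3) (by decide) v7_10_3 v7_8_6 v7_8_3
theorem v7_12_6 : V cs (par cs K6) (word7 12) 6 (word7 12) := V_ded2 cs (a := 6) (b := 4) (by decide) v7_12_4 v7_10_6 v7_10_4
theorem v7_33_6 : V cs (par cs K6) (word7 33) 6 (word7 33) := V_ded3 cs (a := 6) (b := 5) (by decide) v7_33_5 v7_30_6 v7_26_5 v7_26_6 v7_30_5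
theorem v7_36_6 : V cs (par cs K6) (word7 36) 6 (word7 36) := V_ded3 cs (a := 6) (b := 5) (by decide) v7_36_5 v7_32_6 v7_28_5 v7_28_6 v7_32_5
theorem v7_10_2 : V cs (par cs K6) (word7 10) 2 (word7 10) := V_ded3 cs (a := 2) (b := 3) (by decide) v7_10_3 v7_8_2 v7_6_3 v7_6_2 v7_8_3
theorem v7_12_2 : V cs (par cs K6) (word7 12) 2 (word7 12) := V_ded2 cs (a := 2) (b := 4) (by decide) v7_12_4 v7_10_2 v7_10_4
theorem v7_15_2 : V cs (par cs K6) (word7 15) 2 (word7 15) := V_ded2 cs (a := 2) (b := 5) (by decide) v7_15_5 v7_12_2 v7_12_5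
theorem v7_18_2 : V cs (par cs K6) (word7 18) 2 (word7 18) := V_ded2 cs (a := 2) (b := 6) (by decide) v7_18_6 v7_15_2 v7_15_6
theorem v7_14_3 : V cs (par cs K6) (word7 14) 3 (word7 14) := V_ded2 cs (a := 3) (b := 0) (by decide) v7_14_0 v7_12_3 v7_12_0
theorem v7_17_3 : V cs (par cs K6) (word7 17) 3 (word7 17) := V_ded2 cs (a := 3) (b := 0) (by decide) v7_17_0 v7_15_3 v7_15_0
theorem v7_21_3 : V cs (par cs K6) (word7 21) 3 (word7 21) := V_ded2 cs (a := 3) (b := 0) (by decide) v7_21_0 v7_18_3 v7_18_0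
theorem v7_22_3 : V cs (par cs K6) (word7 22) 3 (word7 22) := V_ded3 cs (a := 3) (b := 1) (by decide) v7_22_1 v7_19_3 v7_16_1 v7_16_3 v7_19_1
theorem v7_25_3 : V cs (par cs K6) (word7 25) 3 (word7 25) := V_ded3 cs (a := 3) (b := 1) (by decide) v7_25_1 v7_23_3 v7_20_1 v7_20_3 v7_23_1
theorem v7_29_3 : V cs (par cs K6) (word7 29) 3 (word7 29) := V_ded3 cs (a := 3) (b := 1) (by decide) v7_29_1 v7_27_3 v7_24_1 v7_24_3 v7_27_1
theorem v7_17_4 : V cs (par cs K6) (word7 17) 4 (word7 17) := V_ded2 cs (a := 4) (b := 0) (by decide) v7_17_0 v7_15_4 v7_15_0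
theorem v7_21_4 : V cs (par cs K6) (word7 21) 4 (word7 21) := V_ded2 cs (a := 4) (b := 0) (by decide) v7_21_0 v7_18_4 v7_18_0
theorem v7_20_4 : V cs (par cs K6) (word7 20) 4 (word7 20) := V_ded2 cs (a := 4) (b := 2) (by decide) v7_20_2 v7_17_4 v7_17_2
theorem v7_24_4 : V cs (par cs K6) (word7 24) 4 (word7 24) := V_ded2 cs (a := 4) (b := 2) (by decide) v7_24_2 v7_21_4 v7_21_2
theorem v7_31_4 : V cs (par cs K6) (word7 31) 4 (word7 31) := V_ded3 cs (a := 4) (b := 3) (by decide) v7_31_3 v7_28_4 v7_25_3 v7_25_4 v7_28_3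
theorem v7_35_4 : V cs (par cs K6) (word7 35) 4 (word7 35) := V_ded3 cs (a := 4) (b := 3) (by decide) v7_35_3 v7_32_4 v7_29_3 v7_29_4 v7_32_3
theorem v7_31_5 : V cs (par cs K6) (word7 31) 5 (word7 31) := V_ded2 cs (a := 5) (b := 3) (by decide) v7_31_3 v7_28_5 v7_28_3
theorem v7_42_5 : V cs (par cs K6) (word7 42) 5 (word7 42) := V_ded3 cs (a := 5) (b := 4) (by decide) v7_42_4 v7_39_5 v7_35_4 v7_35_5 v7_39_4
theorem v7_18_5 : V cs (par cs K6) (word7 18) 5 (word7 18) := V_ded3 cs (a := 5) (b := 6) (by decide) v7_18_6 v7_15_5 v7_12_6 v7_12_5 v7_15_6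
theorem v7_7_6 : V cs (par cs K6) (word7 7) 6 (word7 7) := V_ded2 cs (a := 6) (b := 0) (by decide) v7_7_0 v7_5_6 v7_5_0
theorem v7_9_6 : V cs (par cs K6) (word7 9) 6 (word7 9) := V_ded2 cs (a := 6) (b := 0) (by decide) v7_9_0 v7_8_6 v7_8_0
theorem v7_11_6 : V cs (par cs K6) (word7 11) 6 (word7 11) := V_ded2 cs (a := 6) (b := 0) (by decide) v7_11_0 v7_10_6 v7_10_0
theorem v7_14_6 : V cs (par cs K6) (word7 14) 6 (word7 14) := V_ded2 cs (a := 6) (b := 0) (by decide) v7_14_0 v7_12_6 v7_12_0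
theorem v7_13_6 : V cs (par cs K6) (word7 13) 6 (word7 13) := V_ded2 cs (a := 6) (b := 2) (by decide) v7_13_2 v7_11_6 v7_11_2
theorem v7_16_6 : V cs (par cs K6) (word7 16) 6 (word7 16) := V_ded2 cs (a := 6) (b := 2) (by decide) v7_16_2 v7_14_6 v7_14_2
theorem v7_19_6 : V cs (par cs K6) (word7 19) 6 (word7 19) := V_ded2 cs (a := 6) (b := 3) (by decide) v7_19_3 v7_16_6 v7_16_3
theorem v7_39_6 : V cs (par cs K6) (word7 39) 6 (word7 39) := V_ded2 cs (a := 6) (b := 3) (by decide) v7_39_3 v7_36_6 v7_36_3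
theorem v7_22_6 : V cs (par cs K6) (word7 22) 6 (word7 22) := V_ded2 cs (a := 6) (b := 1) (by decide) v7_22_1 v7_19_6 v7_19_1
theorem v7_42_6 : V cs (par cs K6) (word7 42) 6 (word7 42) := V_ded2 cs (a := 6) (b := 4) (by decide) v7_42_4 v7_39_6 v7_39_4
theorem v7_13_0 : V cs (par cs K6) (word7 13) 0 (word7 13) := V_ded3 cs (a := 0) (b := 2) (by decide) v7_13_2 v7_11_0 v7_10_2 v7_10_0 v7_11_2
theorem v7_16_0 : V cs (par cs K6) (word7 16) 0 (word7 16) := V_ded3 cs (a := 0) (b := 2) (by decide) v7_16_2 v7_14_0 v7_12_2 v7_12_0 v7_14_2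
theorem v7_20_0 : V cs (par cs K6) (word7 20) 0 (word7 20) := V_ded3 cs (a := 0) (b := 2) (by decide) v7_20_2 v7_17_0 v7_15_2 v7_15_0 v7_17_2
theorem v7_24_0 : V cs (par cs K6) (word7 24) 0 (word7 24) := V_ded3 cs (a := 0) (b := 2) (by decide) v7_24_2 v7_21_0 v7_18_2 v7_18_0 v7_21_2
theorem v7_19_0 : V cs (par cs K6) (word7 19) 0 (word7 19) := V_ded2 cs (a := 0) (b := 3) (by decide) v7_19_3 v7_16_0 v7_16_3
theorem v7_23_0 : V cs (par cs K6) (word7 23) 0 (word7 23) := V_ded2 cs (a := 0) (b := 3) (by decide) v7_23_3 v7_20_0 v7_20_3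
theorem v7_27_0 : V cs (par cs K6) (word7 27) 0 (word7 27) := V_ded2 cs (a := 0) (b := 3) (by decide) v7_27_3 v7_24_0 v7_24_3
theorem v7_22_0 : V cs (par cs K6) (word7 22) 0 (word7 22) := V_ded2 cs (a := 0) (b := 1) (by decide) v7_22_1 v7_19_0 v7_19_1
theorem v7_25_0 : V cs (par cs K6) (word7 25) 0 (word7 25) := V_ded2 cs (a := 0) (b := 1) (by decide) v7_25_1 v7_23_0 v7_23_1
theorem v7_29_0 : V cs (par cs K6) (word7 29) 0 (word7 29) := V_ded2 cs (a := 0) (b := 1) (by decide) v7_29_1 v7_27_0 v7_27_1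
theorem v7_26_0 : V cs (par cs K6) (word7 26) 0 (word7 26) := V_ded2 cs (a := 0) (b := 4) (by decide) v7_26_4 v7_23_0 v7_23_4
theorem v7_28_0 : V cs (par cs K6) (word7 28) 0 (word7 28) := V_ded2 cs (a := 0) (b := 4) (by decide) v7_28_4 v7_25_0 v7_25_4
theorem v7_30_0 : V cs (par cs K6) (word7 30) 0 (word7 30) := V_ded2 cs (a := 0) (b := 4) (by decide) v7_30_4 v7_27_0 v7_27_4
theorem v7_32_0 : V cs (par cs K6) (word7 32) 0 (word7 32) := V_ded2 cs (a := 0) (b := 4) (by decide) v7_32_4 v7_29_0 v7_29_4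
theorem v7_33_0 : V cs (par cs K6) (word7 33) 0 (word7 33) := V_ded2 cs (a := 0) (b := 5) (by decide) v7_33_5 v7_30_0 v7_30_5
theorem v7_36_0 : V cs (par cs K6) (word7 36) 0 (word7 36) := V_ded2 cs (a := 0) (b := 5) (by decide) v7_36_5 v7_32_0 v7_32_5
theorem v7_19_2 : V cs (par cs K6) (word7 19) 2 (word7 19) := V_ded3 cs (a := 2) (b := 3) (by decide) v7_19_3 v7_16_2 v7_14_3 v7_14_2 v7_16_3
theorem v7_23_2 : V cs (par cs K6) (word7 23) 2 (word7 23) := V_ded3 cs (a := 2) (b := 3) (by decide) v7_23_3 v7_20_2 v7_17_3 v7_17_2 v7_20_3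
theorem v7_27_2 : V cs (par cs K6) (word7 27) 2 (word7 27) := V_ded3 cs (a := 2) (b := 3) (by decide) v7_27_3 v7_24_2 v7_21_3 v7_21_2 v7_24_3
theorem v7_22_2 : V cs (par cs K6) (word7 22) 2 (word7 22) := V_ded2 cs (a := 2) (b := 1) (by decide) v7_22_1 v7_19_2 v7_19_1
theorem v7_25_2 : V cs (par cs K6) (word7 25) 2 (word7 25) := V_ded2 cs (a := 2) (b := 1) (by decide) v7_25_1 v7_23_2 v7_23_1
theorem v7_29_2 : V cs (par cs K6) (word7 29) 2 (word7 29) := V_ded2 cs (a := 2) (b := 1) (by decide) v7_29_1 v7_27_2 v7_27_1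
theorem v7_26_2 : V cs (par cs K6) (word7 26) 2 (word7 26) := V_ded2 cs (a := 2) (b := 4) (by decide) v7_26_4 v7_23_2 v7_23_4
theorem v7_28_2 : V cs (par cs K6) (word7 28) 2 (word7 28) := V_ded2 cs (a := 2) (b := 4) (by decide) v7_28_4 v7_25_2 v7_25_4
theorem v7_30_2 : V cs (par cs K6) (word7 30) 2 (word7 30) := V_ded2 cs (a := 2) (b := 4) (by decide) v7_30_4 v7_27_2 v7_27_4
theorem v7_32_2 : V cs (par cs K6) (word7 32) 2 (word7 32) := V_ded2 cs (a := 2) (b := 4) (by decide) v7_32_4 v7_29_2 v7_29_4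
theorem v7_33_2 : V cs (par cs K6) (word7 33) 2 (word7 33) := V_ded2 cs (a := 2) (b := 5) (by decide) v7_33_5 v7_30_2 v7_30_5
theorem v7_36_2 : V cs (par cs K6) (word7 36) 2 (word7 36) := V_ded2 cs (a := 2) (b := 5) (by decide) v7_36_5 v7_32_2 v7_32_5
theorem v7_34_3 : V cs (par cs K6) (word7 34) 3 (word7 34) := V_ded3 cs (a := 3) (b := 2) (by decide) v7_34_2 v7_31_3 v7_28_2 v7_28_3 v7_31_2
theorem v7_38_3 : V cs (par cs K6) (word7 38) 3 (word7 38) := V_ded3 cs (a := 3) (b := 2) (by decide) v7_38_2 v7_35_3 v7_32_2 v7_32_3 v7_35_2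
theorem v7_41_3 : V cs (par cs K6) (word7 41) 3 (word7 41) := V_ded3 cs (a := 3) (b := 2) (by decide) v7_41_2 v7_39_3 v7_36_2 v7_36_3 v7_39_2
theorem v7_26_3 : V cs (par cs K6) (word7 26) 3 (word7 26) := V_ded3 cs (a := 3) (b := 4) (by decide) v7_26_4 v7_23_3 v7_20_4 v7_20_3 v7_23_4
theorem v7_30_3 : V cs (par cs K6) (word7 30) 3 (word7 30) := V_ded3 cs (a := 3) (b := 4) (by decide) v7_30_4 v7_27_3 v7_24_4 v7_24_3 v7_27_4
theorem v7_33_3 : V cs (par cs K6) (word7 33) 3 (word7 33) := V_ded2 cs (a := 3) (b := 5) (by decide) v7_33_5 v7_30_3 v7_30_5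
theorem v7_31_1 : V cs (par cs K6) (word7 31) 1 (word7 31) := V_ded3 cs (a := 1) (b := 3) (by decide) v7_31_3 v7_28_1 v7_26_3 v7_26_1 v7_28_3
theorem v7_35_1 : V cs (par cs K6) (word7 35) 1 (word7 35) := V_ded3 cs (a := 1) (b := 3) (by decide) v7_35_3 v7_32_1 v7_30_3 v7_30_1 v7_32_3
theorem v7_39_1 : V cs (par cs K6) (word7 39) 1 (word7 39) := V_ded3 cs (a := 1) (b := 3) (by decide) v7_39_3 v7_36_1 v7_33_3 v7_33_1 v7_36_3
theorem v7_42_1 : V cs (par cs K6) (word7 42) 1 (word7 42) := V_ded2 cs (a := 1) (b := 4) (by decide) v7_42_4 v7_39_1 v7_39_4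
theorem v7_34_4 : V cs (par cs K6) (word7 34) 4 (word7 34) := V_ded2 cs (a := 4) (b := 2) (by decide) v7_34_2 v7_31_4 v7_31_2
theorem v7_38_4 : V cs (par cs K6) (word7 38) 4 (word7 38) := V_ded2 cs (a := 4) (b := 2) (by decide) v7_38_2 v7_35_4 v7_35_2
theorem v7_46_4 : V cs (par cs K6) (word7 46) 4 (word7 46) := V_ded3 cs (a := 4) (b := 3) (by decide) v7_46_3 v7_44_4 v7_41_3 v7_41_4 v7_44_3
theorem v7_48_4 : V cs (par cs K6) (word7 48) 4 (word7 48) := V_ded2 cs (a := 4) (b := 1) (by decide) v7_48_1 v7_46_4 v7_46_1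
theorem v7_21_5 : V cs (par cs K6) (word7 21) 5 (word7 21) := V_ded2 cs (a := 5) (b := 0) (by decide) v7_21_0 v7_18_5 v7_18_0
theorem v7_24_5 : V cs (par cs K6) (word7 24) 5 (word7 24) := V_ded2 cs (a := 5) (b := 2) (by decide) v7_24_2 v7_21_5 v7_21_2
theorem v7_34_5 : V cs (par cs K6) (word7 34) 5 (word7 34) := V_ded2 cs (a := 5) (b := 2) (by decide) v7_34_2 v7_31_5 v7_31_2
theorem v7_44_5 : V cs (par cs K6) (word7 44) 5 (word7 44) := V_ded2 cs (a := 5) (b := 2) (by decide) v7_44_2 v7_42_5 v7_42_2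
theorem v7_27_5 : V cs (par cs K6) (word7 27) 5 (word7 27) := V_ded2 cs (a := 5) (b := 3) (by decide) v7_27_3 v7_24_5 v7_24_3
theorem v7_46_5 : V cs (par cs K6) (word7 46) 5 (word7 46) := V_ded2 cs (a := 5) (b := 3) (by decide) v7_46_3 v7_44_5 v7_44_3
theorem v7_29_5 : V cs (par cs K6) (word7 29) 5 (word7 29) := V_ded2 cs (a := 5) (b := 1) (by decide) v7_29_1 v7_27_5 v7_27_1
theorem v7_48_5 : V cs (par cs K6) (word7 48) 5 (word7 48) := V_ded2 cs (a := 5) (b := 1) (by decide) v7_48_1 v7_46_5 v7_46_1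
theorem v7_41_6 : V cs (par cs K6) (word7 41) 6 (word7 41) := V_ded2 cs (a := 6) (b := 2) (by decide) v7_41_2 v7_39_6 v7_39_2
theorem v7_44_6 : V cs (par cs K6) (word7 44) 6 (word7 44) := V_ded2 cs (a := 6) (b := 2) (by decide) v7_44_2 v7_42_6 v7_42_2
theorem v7_46_6 : V cs (par cs K6) (word7 46) 6 (word7 46) := V_ded2 cs (a := 6) (b := 3) (by decide) v7_46_3 v7_44_6 v7_44_3
theorem v7_48_6 : V cs (par cs K6) (word7 48) 6 (word7 48) := V_ded2 cs (a := 6) (b := 1) (by decide) v7_48_1 v7_46_6 v7_46_1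
theorem v7_31_0 : V cs (par cs K6) (word7 31) 0 (word7 31) := V_ded2 cs (a := 0) (b := 3) (by decide) v7_31_3 v7_28_0 v7_28_3
theorem v7_35_0 : V cs (par cs K6) (word7 35) 0 (word7 35) := V_ded2 cs (a := 0) (b := 3) (by decide) v7_35_3 v7_32_0 v7_32_3
theorem v7_39_0 : V cs (par cs K6) (word7 39) 0 (word7 39) := V_ded2 cs (a := 0) (b := 3) (by decide) v7_39_3 v7_36_0 v7_36_3
theorem v7_42_0 : V cs (par cs K6) (word7 42) 0 (word7 42) := V_ded2 cs (a := 0) (b := 4) (by decide) v7_42_4 v7_39_0 v7_39_4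
theorem v7_37_2 : V cs (par cs K6) (word7 37) 2 (word7 37) := V_ded3 cs (a := 2) (b := 0) (by decide) v7_37_0 v7_34_2 v7_31_0 v7_31_2 v7_34_0
theorem v7_40_2 : V cs (par cs K6) (word7 40) 2 (word7 40) := V_ded3 cs (a := 2) (b := 0) (by decide) v7_40_0 v7_38_2 v7_35_0 v7_35_2 v7_38_0
theorem v7_43_2 : V cs (par cs K6) (word7 43) 2 (word7 43) := V_ded3 cs (a := 2) (b := 0) (by decide) v7_43_0 v7_41_2 v7_39_0 v7_39_2 v7_41_0
theorem v7_45_2 : V cs (par cs K6) (word7 45) 2 (word7 45) := V_ded3 cs (a := 2) (b := 0) (by decide) v7_45_0 v7_44_2 v7_42_0 v7_42_2 v7_44_0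
theorem v7_37_3 : V cs (par cs K6) (word7 37) 3 (word7 37) := V_ded2 cs (a := 3) (b := 0) (by decide) v7_37_0 v7_34_3 v7_34_0
theorem v7_40_3 : V cs (par cs K6) (word7 40) 3 (word7 40) := V_ded2 cs (a := 3) (b := 0) (by decide) v7_40_0 v7_38_3 v7_38_0
theorem v7_43_3 : V cs (par cs K6) (word7 43) 3 (word7 43) := V_ded2 cs (a := 3) (b := 0) (by decide) v7_43_0 v7_41_3 v7_41_0
theorem v7_49_3 : V cs (par cs K6) (word7 49) 3 (word7 49) := V_ded3 cs (a := 3) (b := 2) (by decide) v7_49_2 v7_47_3 v7_45_2 v7_45_3 v7_47_2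
theorem v7_34_1 : V cs (par cs K6) (word7 34) 1 (word7 34) := V_ded2 cs (a := 1) (b := 2) (by decide) v7_34_2 v7_31_1 v7_31_2
theorem v7_38_1 : V cs (par cs K6) (word7 38) 1 (word7 38) := V_ded2 cs (a := 1) (b := 2) (by decide) v7_38_2 v7_35_1 v7_35_2
theorem v7_41_1 : V cs (par cs K6) (word7 41) 1 (word7 41) := V_ded2 cs (a := 1) (b := 2) (by decide) v7_41_2 v7_39_1 v7_39_2
theorem v7_44_1 : V cs (par cs K6) (word7 44) 1 (word7 44) := V_ded2 cs (a := 1) (b := 2) (by decide) v7_44_2 v7_42_1 v7_42_2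
theorem v7_52_1 : V cs (par cs K6) (word7 52) 1 (word7 52) := V_ded3 cs (a := 1) (b := 3) (by decide) v7_52_3 v7_51_1 v7_49_3 v7_49_1 v7_51_3
theorem v7_53_1 : V cs (par cs K6) (word7 53) 1 (word7 53) := V_ded2 cs (a := 1) (b := 4) (by decide) v7_53_4 v7_52_1 v7_52_4
theorem v7_54_1 : V cs (par cs K6) (word7 54) 1 (word7 54) := V_ded2 cs (a := 1) (b := 5) (by decide) v7_54_5 v7_53_1 v7_53_5
theorem v7_55_1 : V cs (par cs K6) (word7 55) 1 (word7 55) := V_ded2 cs (a := 1) (b := 6) (by decide) v7_55_6 v7_54_1 v7_54_6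
theorem v7_37_4 : V cs (par cs K6) (word7 37) 4 (word7 37) := V_ded2 cs (a := 4) (b := 0) (by decide) v7_37_0 v7_34_4 v7_34_0
theorem v7_40_4 : V cs (par cs K6) (word7 40) 4 (word7 40) := V_ded2 cs (a := 4) (b := 0) (by decide) v7_40_0 v7_38_4 v7_38_0
theorem v7_47_4 : V cs (par cs K6) (word7 47) 4 (word7 47) := V_ded2 cs (a := 4) (b := 0) (by decide) v7_47_0 v7_46_4 v7_46_0
theorem v7_50_4 : V cs (par cs K6) (word7 50) 4 (word7 50) := V_ded2 cs (a := 4) (b := 0) (by decide) v7_50_0 v7_48_4 v7_48_0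
theorem v7_49_4 : V cs (par cs K6) (word7 49) 4 (word7 49) := V_ded2 cs (a := 4) (b := 2) (by decide) v7_49_2 v7_47_4 v7_47_2
theorem v7_51_4 : V cs (par cs K6) (word7 51) 4 (word7 51) := V_ded2 cs (a := 4) (b := 2) (by decide) v7_51_2 v7_50_4 v7_50_2
theorem v7_33_4 : V cs (par cs K6) (word7 33) 4 (word7 33) := V_ded3 cs (a := 4) (b := 5) (by decide) v7_33_5 v7_30_4 v7_27_5 v7_27_4 v7_30_5
theorem v7_36_4 : V cs (par cs K6) (word7 36) 4 (word7 36) := V_ded3 cs (a := 4) (b := 5) (by decide) v7_36_5 v7_32_4 v7_29_5 v7_29_4 v7_32_5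
theorem v7_37_5 : V cs (par cs K6) (word7 37) 5 (word7 37) := V_ded2 cs (a := 5) (b := 0) (by decide) v7_37_0 v7_34_5 v7_34_0
theorem v7_45_5 : V cs (par cs K6) (word7 45) 5 (word7 45) := V_ded2 cs (a := 5) (b := 0) (by decide) v7_45_0 v7_44_5 v7_44_0
theorem v7_47_5 : V cs (par cs K6) (word7 47) 5 (word7 47) := V_ded2 cs (a := 5) (b := 0) (by decide) v7_47_0 v7_46_5 v7_46_0
theorem v7_50_5 : V cs (par cs K6) (word7 50) 5 (word7 50) := V_ded2 cs (a := 5) (b := 0) (by decide) v7_50_0 v7_48_5 v7_48_0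
theorem v7_49_5 : V cs (par cs K6) (word7 49) 5 (word7 49) := V_ded2 cs (a := 5) (b := 2) (by decide) v7_49_2 v7_47_5 v7_47_2
theorem v7_51_5 : V cs (par cs K6) (word7 51) 5 (word7 51) := V_ded2 cs (a := 5) (b := 2) (by decide) v7_51_2 v7_50_5 v7_50_2
theorem v7_52_5 : V cs (par cs K6) (word7 52) 5 (word7 52) := V_ded2 cs (a := 5) (b := 3) (by decide) v7_52_3 v7_51_5 v7_51_3
theorem v7_43_6 : V cs (par cs K6) (word7 43) 6 (word7 43) := V_ded2 cs (a := 6) (b := 0) (by decide) v7_43_0 v7_41_6 v7_41_0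
theorem v7_45_6 : V cs (par cs K6) (word7 45) 6 (word7 45) := V_ded2 cs (a := 6) (b := 0) (by decide) v7_45_0 v7_44_6 v7_44_0
theorem v7_47_6 : V cs (par cs K6) (word7 47) 6 (word7 47) := V_ded2 cs (a := 6) (b := 0) (by decide) v7_47_0 v7_46_6 v7_46_0
theorem v7_50_6 : V cs (par cs K6) (word7 50) 6 (word7 50) := V_ded2 cs (a := 6) (b := 0) (by decide) v7_50_0 v7_48_6 v7_48_0
theorem v7_49_6 : V cs (par cs K6) (word7 49) 6 (word7 49) := V_ded2 cs (a := 6) (b := 2) (by decide) v7_49_2 v7_47_6 v7_47_2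
theorem v7_51_6 : V cs (par cs K6) (word7 51) 6 (word7 51) := V_ded2 cs (a := 6) (b := 2) (by decide) v7_51_2 v7_50_6 v7_50_2
theorem v7_52_6 : V cs (par cs K6) (word7 52) 6 (word7 52) := V_ded2 cs (a := 6) (b := 3) (by decide) v7_52_3 v7_51_6 v7_51_3
theorem v7_53_6 : V cs (par cs K6) (word7 53) 6 (word7 53) := V_ded2 cs (a := 6) (b := 4) (by decide) v7_53_4 v7_52_6 v7_52_4
theorem v7_48_3 : V cs (par cs K6) (word7 48) 3 (word7 48) := V_ded3 cs (a := 3) (b := 1) (by decide) v7_48_1 v7_46_3 v7_44_1 v7_44_3 v7_46_1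
theorem v7_42_3 : V cs (par cs K6) (word7 42) 3 (word7 42) := V_ded3 cs (a := 3) (b := 4) (by decide) v7_42_4 v7_39_3 v7_36_4 v7_36_3 v7_39_4
theorem v7_53_3 : V cs (par cs K6) (word7 53) 3 (word7 53) := V_ded3 cs (a := 3) (b := 4) (by decide) v7_53_4 v7_52_3 v7_51_4 v7_51_3 v7_52_4
theorem v7_54_3 : V cs (par cs K6) (word7 54) 3 (word7 54) := V_ded2 cs (a := 3) (b := 5) (by decide) v7_54_5 v7_53_3 v7_53_5
theorem v7_55_3 : V cs (par cs K6) (word7 55) 3 (word7 55) := V_ded2 cs (a := 3) (b := 6) (by decide) v7_55_6 v7_54_3 v7_54_6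
theorem v7_37_1 : V cs (par cs K6) (word7 37) 1 (word7 37) := V_ded2 cs (a := 1) (b := 0) (by decide) v7_37_0 v7_34_1 v7_34_0
theorem v7_40_1 : V cs (par cs K6) (word7 40) 1 (word7 40) := V_ded2 cs (a := 1) (b := 0) (by decide) v7_40_0 v7_38_1 v7_38_0
theorem v7_43_1 : V cs (par cs K6) (word7 43) 1 (word7 43) := V_ded2 cs (a := 1) (b := 0) (by decide) v7_43_0 v7_41_1 v7_41_0
theorem v7_45_1 : V cs (par cs K6) (word7 45) 1 (word7 45) := V_ded2 cs (a := 1) (b := 0) (by decide) v7_45_0 v7_44_1 v7_44_0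
theorem v7_54_4 : V cs (par cs K6) (word7 54) 4 (word7 54) := V_ded3 cs (a := 4) (b := 5) (by decide) v7_54_5 v7_53_4 v7_52_5 v7_52_4 v7_53_5
theorem v7_55_4 : V cs (par cs K6) (word7 55) 4 (word7 55) := V_ded2 cs (a := 4) (b := 6) (by decide) v7_55_6 v7_54_4 v7_54_6
theorem v7_55_5 : V cs (par cs K6) (word7 55) 5 (word7 55) := V_ded3 cs (a := 5) (b := 6) (by decide) v7_55_6 v7_54_5 v7_53_6 v7_53_5 v7_54_6
theorem v7_46_2 : V cs (par cs K6) (word7 46) 2 (word7 46) := V_ded3 cs (a := 2) (b := 3) (by decide) v7_46_3 v7_44_2 v7_42_3 v7_42_2 v7_44_3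
theorem v7_48_2 : V cs (par cs K6) (word7 48) 2 (word7 48) := V_ded2 cs (a := 2) (b := 1) (by decide) v7_48_1 v7_46_2 v7_46_1
theorem v7_50_3 : V cs (par cs K6) (word7 50) 3 (word7 50) := V_ded2 cs (a := 3) (b := 0) (by decide) v7_50_0 v7_48_3 v7_48_0
theorem v7_49_0 : V cs (par cs K6) (word7 49) 0 (word7 49) := V_ded3 cs (a := 0) (b := 2) (by decide) v7_49_2 v7_47_0 v7_46_2 v7_46_0 v7_47_2
theorem v7_51_0 : V cs (par cs K6) (word7 51) 0 (word7 51) := V_ded3 cs (a := 0) (b := 2) (by decide) v7_51_2 v7_50_0 v7_48_2 v7_48_0 v7_50_2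
theorem v7_52_0 : V cs (par cs K6) (word7 52) 0 (word7 52) := V_ded2 cs (a := 0) (b := 3) (by decide) v7_52_3 v7_51_0 v7_51_3
theorem v7_53_0 : V cs (par cs K6) (word7 53) 0 (word7 53) := V_ded2 cs (a := 0) (b := 4) (by decide) v7_53_4 v7_52_0 v7_52_4
theorem v7_54_0 : V cs (par cs K6) (word7 54) 0 (word7 54) := V_ded2 cs (a := 0) (b := 5) (by decide) v7_54_5 v7_53_0 v7_53_5
theorem v7_55_0 : V cs (par cs K6) (word7 55) 0 (word7 55) := V_ded2 cs (a := 0) (b := 6) (by decide) v7_55_6 v7_54_0 v7_54_6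
theorem v7_52_2 : V cs (par cs K6) (word7 52) 2 (word7 52) := V_ded3 cs (a := 2) (b := 3) (by decide) v7_52_3 v7_51_2 v7_50_3 v7_50_2 v7_51_3
theorem v7_53_2 : V cs (par cs K6) (word7 53) 2 (word7 53) := V_ded2 cs (a := 2) (b := 4) (by decide) v7_53_4 v7_52_2 v7_52_4
theorem v7_54_2 : V cs (par cs K6) (word7 54) 2 (word7 54) := V_ded2 cs (a := 2) (b := 5) (by decide) v7_54_5 v7_53_2 v7_53_5
theorem v7_55_2 : V cs (par cs K6) (word7 55) 2 (word7 55) := V_ded2 cs (a := 2) (b := 6) (by decide) v7_55_6 v7_54_2 v7_54_6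
theorem row7_0 : ∀ j ∈ K7, tbl7 0 j < 56 ∧ V cs (par cs K6) (word7 0) j (word7 (tbl7 0 j)) := by
  intro j hj
  simp only [K7, List.mem_cons, List.not_mem_nil, or_false] at hj
  rcases hj with rfl | rfl | rfl | rfl | rfl | rfl | rfl
  exacts [⟨by decide, v7_0_0⟩, ⟨by decide, v7_0_2⟩, ⟨by decide, v7_0_3⟩, ⟨by decide, v7_0_1⟩, ⟨by decide, v7_0_4⟩, ⟨by decide, v7_0_5⟩, ⟨by decide, v7_0_6⟩]
theorem row7_1 : ∀ j ∈ K7, tbl7 1 j < 56 ∧ V cs (par cs K6) (word7 1) j (word7 (tbl7 1 j)) := by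
  intro j hj
  simp only [K7, List.mem_cons, List.not_mem_nil, or_false] at hj
  rcases hj with rfl | rfl | rfl | rfl | rfl | rfl | rfl
  exacts [⟨by decide, v7_1_0⟩, ⟨by decide, v7_1_2⟩, ⟨by decide, v7_1_3⟩, ⟨by decide, v7_1_1⟩, ⟨by decide, v7_1_4⟩, ⟨by decide, v7_1_5⟩, ⟨by decide, v7_1_6⟩]
theorem row7_2 : ∀ j ∈ K7, tbl7 2 j < 56 ∧ V cs (par cs K6) (word7 2) j (word7 (tbl7 2 j)) := by
  intro j hj
  simp only [K7, List.mem_cons, List.not_mem_nil, or_false] at hj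
  rcases hj with rfl | rfl | rfl | rfl | rfl | rfl | rfl
  exacts [⟨by decide, v7_2_0⟩, ⟨by decide, v7_2_2⟩, ⟨by decide, v7_2_3⟩, ⟨by decide, v7_2_1⟩, ⟨by decide, v7_2_4⟩, ⟨by decide, v7_2_5⟩, ⟨by decide, v7_2_6⟩]
theorem row7_3 : ∀ j ∈ K7, tbl7 3 j < 56 ∧ V cs (par cs K6) (word7 3) j (word7 (tbl7 3 j)) := by
  intro j hj
  simp only [K7, List.mem_cons, List.not_mem_nil, or_false] at hj
  rcases hj with rfl | rfl | rfl | rfl | rfl | rfl | rfl
  exacts [⟨by decide, v7_3_0⟩, ⟨by decide, v7_3_2⟩, ⟨by decide, v7_3_3⟩, ⟨by decide, v7_3_1⟩, ⟨by decide, v7_3_4⟩, ⟨by decide, v7_3_5⟩, ⟨by decide, v7_3_6⟩]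
theorem row7_4 : ∀ j ∈ K7, tbl7 4 j < 56 ∧ V cs (par cs K6) (word7 4) j (word7 (tbl7 4 j)) := by
  intro j hj
  simp only [K7, List.mem_cons, List.not_mem_nil, or_false] at hj
  rcases hj with rfl | rfl | rfl | rfl | rfl | rfl | rfl
  exacts [⟨by decide, v7_4_0⟩, ⟨by decide, v7_4_2⟩, ⟨by decide, v7_4_3⟩, ⟨by decide, v7_4_1⟩, ⟨by decide, v7_4_4⟩, ⟨by decide, v7_4_5⟩, ⟨by decide, v7_4_6⟩]
theorem row7_5 : ∀ j ∈ K7, tbl7 5 j < 56 ∧ V cs (par cs K6) (word7 5) j (word7 (tbl7 5 j)) := by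
  intro j hj
  simp only [K7, List.mem_cons, List.not_mem_nil, or_false] at hj
  rcases hj with rfl | rfl | rfl | rfl | rfl | rfl | rfl
  exacts [⟨by decide, v7_5_0⟩, ⟨by decide, v7_5_2⟩, ⟨by decide, v7_5_3⟩, ⟨by decide, v7_5_1⟩, ⟨by decide, v7_5_4⟩, ⟨by decide, v7_5_5⟩, ⟨by decide, v7_5_6⟩]
theorem row7_6 : ∀ j ∈ K7, tbl7 6 j < 56 ∧ V cs (par cs K6) (word7 6) j (word7 (tbl7 6 j)) := by
  intro j hj
  simp only [K7, List.mem_cons, List.not_mem_nil, or_false] at hj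
  rcases hj with rfl | rfl | rfl | rfl | rfl | rfl | rfl
  exacts [⟨by decide, v7_6_0⟩, ⟨by decide, v7_6_2⟩, ⟨by decide, v7_6_3⟩, ⟨by decide, v7_6_1⟩, ⟨by decide, v7_6_4⟩, ⟨by decide, v7_6_5⟩, ⟨by decide, v7_6_6⟩]
theorem row7_7 : ∀ j ∈ K7, tbl7 7 j < 56 ∧ V cs (par cs K6) (word7 7) j (word7 (tbl7 7 j)) := by
  intro j hj
  simp only [K7, List.mem_cons, List.not_mem_nil, or_false] at hj
  rcases hj with rfl | rfl | rfl | rfl | rfl | rfl | rfl
  exacts [⟨by decide, v7_7_0⟩, ⟨by decide, v7_7_2⟩, ⟨by decide, v7_7_3⟩, ⟨by decide, v7_7_1⟩, ⟨by decide, v7_7_4⟩, ⟨by decide, v7_7_5⟩, ⟨by decide, v7_7_6⟩]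
theorem row7_8 : ∀ j ∈ K7, tbl7 8 j < 56 ∧ V cs (par cs K6) (word7 8) j (word7 (tbl7 8 j)) := by
  intro j hj
  simp only [K7, List.mem_cons, List.not_mem_nil, or_false] at hj
  rcases hj with rfl | rfl | rfl | rfl | rfl | rfl | rfl
  exacts [⟨by decide, v7_8_0⟩, ⟨by decide, v7_8_2⟩, ⟨by decide, v7_8_3⟩, ⟨by decide, v7_8_1⟩, ⟨by decide, v7_8_4⟩, ⟨by decide, v7_8_5⟩, ⟨by decide, v7_8_6⟩]
theorem row7_9 : ∀ j ∈ K7, tbl7 9 j < 56 ∧ V cs (par cs K6) (word7 9) j (word7 (tbl7 9 j)) := by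
  intro j hj
  simp only [K7, List.mem_cons, List.not_mem_nil, or_false] at hj
  rcases hj with rfl | rfl | rfl | rfl | rfl | rfl | rfl
  exacts [⟨by decide, v7_9_0⟩, ⟨by decide, v7_9_2⟩, ⟨by decide, v7_9_3⟩, ⟨by decide, v7_9_1⟩, ⟨by decide, v7_9_4⟩, ⟨by decide, v7_9_5⟩, ⟨by decide, v7_9_6⟩]
theorem row7_10 : ∀ j ∈ K7, tbl7 10 j < 56 ∧ V cs (par cs K6) (word7 10) j (word7 (tbl7 10 j)) := by
  intro j hj
  simp only [K7, List.mem_cons, List.not_mem_nil, or_false] at hj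
  rcases hj with rfl | rfl | rfl | rfl | rfl | rfl | rfl
  exacts [⟨by decide, v7_10_0⟩, ⟨by decide, v7_10_2⟩, ⟨by decide, v7_10_3⟩, ⟨by decide, v7_10_1⟩, ⟨by decide, v7_10_4⟩, ⟨by decide, v7_10_5⟩, ⟨by decide, v7_10_6⟩]
theorem row7_11 : ∀ j ∈ K7, tbl7 11 j < 56 ∧ V cs (par cs K6) (word7 11) j (word7 (tbl7 11 j)) := by
  intro j hj
  simp only [K7, List.mem_cons, List.not_mem_nil, or_false] at hj
  rcases hj with rfl | rfl | rfl | rfl | rfl | rfl | rfl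
  exacts [⟨by decide, v7_11_0⟩, ⟨by decide, v7_11_2⟩, ⟨by decide, v7_11_3⟩, ⟨by decide, v7_11_1⟩, ⟨by decide, v7_11_4⟩, ⟨by decide, v7_11_5⟩, ⟨by decide, v7_11_6⟩]
theorem row7_12 : ∀ j ∈ K7, tbl7 12 j < 56 ∧ V cs (par cs K6) (word7 12) j (word7 (tbl7 12 j)) := by
  intro j hj
  simp only [K7, List.mem_cons, List.not_mem_nil, or_false] at hj
  rcases hj with rfl | rfl | rfl | rfl | rfl | rfl | rfl
  exacts [⟨by decide, v7_12_0⟩, ⟨by decide, v7_12_2⟩, ⟨by decide, v7_12_3⟩, ⟨by decide, v7_12_1⟩, ⟨by decide, v7_12_4⟩, ⟨by decide, v7_12_5⟩, ⟨by decide, v7_12_6⟩]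
theorem row7_13 : ∀ j ∈ K7, tbl7 13 j < 56 ∧ V cs (par cs K6) (word7 13) j (word7 (tbl7 13 j)) := by
  intro j hj
  simp only [K7, List.mem_cons, List.not_mem_nil, or_false] at hj
  rcases hj with rfl | rfl | rfl | rfl | rfl | rfl | rfl
  exacts [⟨by decide, v7_13_0⟩, ⟨by decide, v7_13_2⟩, ⟨by decide, v7_13_3⟩, ⟨by decide, v7_13_1⟩, ⟨by decide, v7_13_4⟩, ⟨by decide, v7_13_5⟩, ⟨by decide, v7_13_6⟩]
theorem row7_14 : ∀ j ∈ K7, tbl7 14 j < 56 ∧ V cs (par cs K6) (word7 14) j (word7 (tbl7 14 j)) := by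
  intro j hj
  simp only [K7, List.mem_cons, List.not_mem_nil, or_false] at hj
  rcases hj with rfl | rfl | rfl | rfl | rfl | rfl | rfl
  exacts [⟨by decide, v7_14_0⟩, ⟨by decide, v7_14_2⟩, ⟨by decide, v7_14_3⟩, ⟨by decide, v7_14_1⟩, ⟨by decide, v7_14_4⟩, ⟨by decide, v7_14_5⟩, ⟨by decide, v7_14_6⟩]
theorem row7_15 : ∀ j ∈ K7, tbl7 15 j < 56 ∧ V cs (par cs K6) (word7 15) j (word7 (tbl7 15 j)) := by
  intro j hj
  simp only [K7, List.mem_cons, List.not_mem_nil, or_false] at hj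
  rcases hj with rfl | rfl | rfl | rfl | rfl | rfl | rfl
  exacts [⟨by decide, v7_15_0⟩, ⟨by decide, v7_15_2⟩, ⟨by decide, v7_15_3⟩, ⟨by decide, v7_15_1⟩, ⟨by decide, v7_15_4⟩, ⟨by decide, v7_15_5⟩, ⟨by decide, v7_15_6⟩]
theorem row7_16 : ∀ j ∈ K7, tbl7 16 j < 56 ∧ V cs (par cs K6) (word7 16) j (word7 (tbl7 16 j)) := by
  intro j hj
  simp only [K7, List.mem_cons, List.not_mem_nil, or_false] at hj
  rcases hj with rfl | rfl | rfl | rfl | rfl | rfl | rfl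
  exacts [⟨by decide, v7_16_0⟩, ⟨by decide, v7_16_2⟩, ⟨by decide, v7_16_3⟩, ⟨by decide, v7_16_1⟩, ⟨by decide, v7_16_4⟩, ⟨by decide, v7_16_5⟩, ⟨by decide, v7_16_6⟩]
theorem row7_17 : ∀ j ∈ K7, tbl7 17 j < 56 ∧ V cs (par cs K6) (word7 17) j (word7 (tbl7 17 j)) := by
  intro j hj
  simp only [K7, List.mem_cons, List.not_mem_nil, or_false] at hj
  rcases hj with rfl | rfl | rfl | rfl | rfl | rfl | rfl
  exacts [⟨by decide, v7_17_0⟩, ⟨by decide, v7_17_2⟩, ⟨by decide, v7_17_3⟩, ⟨by decide, v7_17_1⟩, ⟨by decide, v7_17_4⟩, ⟨by decide, v7_17_5⟩, ⟨by decide, v7_17_6⟩]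
theorem row7_18 : ∀ j ∈ K7, tbl7 18 j < 56 ∧ V cs (par cs K6) (word7 18) j (word7 (tbl7 18 j)) := by
  intro j hj
  simp only [K7, List.mem_cons, List.not_mem_nil, or_false] at hj
  rcases hj with rfl | rfl | rfl | rfl | rfl | rfl | rfl
  exacts [⟨by decide, v7_18_0⟩, ⟨by decide, v7_18_2⟩, ⟨by decide, v7_18_3⟩, ⟨by decide, v7_18_1⟩, ⟨by decide, v7_18_4⟩, ⟨by decide, v7_18_5⟩, ⟨by decide, v7_18_6⟩]
theorem row7_19 : ∀ j ∈ K7, tbl7 19 j < 56 ∧ V cs (par cs K6) (word7 19) j (word7 (tbl7 19 j)) := by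
  intro j hj
  simp only [K7, List.mem_cons, List.not_mem_nil, or_false] at hj
  rcases hj with rfl | rfl | rfl | rfl | rfl | rfl | rfl
  exacts [⟨by decide, v7_19_0⟩, ⟨by decide, v7_19_2⟩, ⟨by decide, v7_19_3⟩, ⟨by decide, v7_19_1⟩, ⟨by decide, v7_19_4⟩, ⟨by decide, v7_19_5⟩, ⟨by decide, v7_19_6⟩]
theorem row7_20 : ∀ j ∈ K7, tbl7 20 j < 56 ∧ V cs (par cs K6) (word7 20) j (word7 (tbl7 20 j)) := by
  intro j hj
  simp only [K7, List.mem_cons, List.not_mem_nil, or_false] at hj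
  rcases hj with rfl | rfl | rfl | rfl | rfl | rfl | rfl
  exacts [⟨by decide, v7_20_0⟩, ⟨by decide, v7_20_2⟩, ⟨by decide, v7_20_3⟩, ⟨by decide, v7_20_1⟩, ⟨by decide, v7_20_4⟩, ⟨by decide, v7_20_5⟩, ⟨by decide, v7_20_6⟩]
theorem row7_21 : ∀ j ∈ K7, tbl7 21 j < 56 ∧ V cs (par cs K6) (word7 21) j (word7 (tbl7 21 j)) := by
  intro j hj
  simp only [K7, List.mem_cons, List.not_mem_nil, or_false] at hj
  rcases hj with rfl | rfl | rfl | rfl | rfl | rfl | rfl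
  exacts [⟨by decide, v7_21_0⟩, ⟨by decide, v7_21_2⟩, ⟨by decide, v7_21_3⟩, ⟨by decide, v7_21_1⟩, ⟨by decide, v7_21_4⟩, ⟨by decide, v7_21_5⟩, ⟨by decide, v7_21_6⟩]
theorem row7_22 : ∀ j ∈ K7, tbl7 22 j < 56 ∧ V cs (par cs K6) (word7 22) j (word7 (tbl7 22 j)) := by
  intro j hj
  simp only [K7, List.mem_cons, List.not_mem_nil, or_false] at hj
  rcases hj with rfl | rfl | rfl | rfl | rfl | rfl | rfl
  exacts [⟨by decide, v7_22_0⟩, ⟨by decide, v7_22_2⟩, ⟨by decide, v7_22_3⟩, ⟨by decide, v7_22_1⟩, ⟨by decide, v7_22_4⟩, ⟨by decide, v7_22_5⟩, ⟨by decide, v7_22_6⟩]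
theorem row7_23 : ∀ j ∈ K7, tbl7 23 j < 56 ∧ V cs (par cs K6) (word7 23) j (word7 (tbl7 23 j)) := by
  intro j hj
  simp only [K7, List.mem_cons, List.not_mem_nil, or_false] at hj
  rcases hj with rfl | rfl | rfl | rfl | rfl | rfl | rfl
  exacts [⟨by decide, v7_23_0⟩, ⟨by decide, v7_23_2⟩, ⟨by decide, v7_23_3⟩, ⟨by decide, v7_23_1⟩, ⟨by decide, v7_23_4⟩, ⟨by decide, v7_23_5⟩, ⟨by decide, v7_23_6⟩]
theorem row7_24 : ∀ j ∈ K7, tbl7 24 j < 56 ∧ V cs (par cs K6) (word7 24) j (word7 (tbl7 24 j)) := by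
  intro j hj
  simp only [K7, List.mem_cons, List.not_mem_nil, or_false] at hj
  rcases hj with rfl | rfl | rfl | rfl | rfl | rfl | rfl
  exacts [⟨by decide, v7_24_0⟩, ⟨by decide, v7_24_2⟩, ⟨by decide, v7_24_3⟩, ⟨by decide, v7_24_1⟩, ⟨by decide, v7_24_4⟩, ⟨by decide, v7_24_5⟩, ⟨by decide, v7_24_6⟩]
theorem row7_25 : ∀ j ∈ K7, tbl7 25 j < 56 ∧ V cs (par cs K6) (word7 25) j (word7 (tbl7 25 j)) := by
  intro j hj
  simp only [K7, List.mem_cons, List.not_mem_nil, or_false] at hj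
  rcases hj with rfl | rfl | rfl | rfl | rfl | rfl | rfl
  exacts [⟨by decide, v7_25_0⟩, ⟨by decide, v7_25_2⟩, ⟨by decide, v7_25_3⟩, ⟨by decide, v7_25_1⟩, ⟨by decide, v7_25_4⟩, ⟨by decide, v7_25_5⟩, ⟨by decide, v7_25_6⟩]
theorem row7_26 : ∀ j ∈ K7, tbl7 26 j < 56 ∧ V cs (par cs K6) (word7 26) j (word7 (tbl7 26 j)) := by
  intro j hj
  simp only [K7, List.mem_cons, List.not_mem_nil, or_false] at hj
  rcases hj with rfl | rfl | rfl | rfl | rfl | rfl | rfl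
  exacts [⟨by decide, v7_26_0⟩, ⟨by decide, v7_26_2⟩, ⟨by decide, v7_26_3⟩, ⟨by decide, v7_26_1⟩, ⟨by decide, v7_26_4⟩, ⟨by decide, v7_26_5⟩, ⟨by decide, v7_26_6⟩]
theorem row7_27 : ∀ j ∈ K7, tbl7 27 j < 56 ∧ V cs (par cs K6) (word7 27) j (word7 (tbl7 27 j)) := by
  intro j hj
  simp only [K7, List.mem_cons, List.not_mem_nil, or_false] at hj
  rcases hj with rfl | rfl | rfl | rfl | rfl | rfl | rfl
  exacts [⟨by decide, v7_27_0⟩, ⟨by decide, v7_27_2⟩, ⟨by decide, v7_27_3⟩, ⟨by decide, v7_27_1⟩, ⟨by decide, v7_27_4⟩, ⟨by decide, v7_27_5⟩, ⟨by decide, v7_27_6⟩]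
theorem row7_28 : ∀ j ∈ K7, tbl7 28 j < 56 ∧ V cs (par cs K6) (word7 28) j (word7 (tbl7 28 j)) := by
  intro j hj
  simp only [K7, List.mem_cons, List.not_mem_nil, or_false] at hj
  rcases hj with rfl | rfl | rfl | rfl | rfl | rfl | rfl
  exacts [⟨by decide, v7_28_0⟩, ⟨by decide, v7_28_2⟩, ⟨by decide, v7_28_3⟩, ⟨by decide, v7_28_1⟩, ⟨by decide, v7_28_4⟩, ⟨by decide, v7_28_5⟩, ⟨by decide, v7_28_6⟩]
theorem row7_29 : ∀ j ∈ K7, tbl7 29 j < 56 ∧ V cs (par cs K6) (word7 29) j (word7 (tbl7 29 j)) := by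
  intro j hj
  simp only [K7, List.mem_cons, List.not_mem_nil, or_false] at hj
  rcases hj with rfl | rfl | rfl | rfl | rfl | rfl | rfl
  exacts [⟨by decide, v7_29_0⟩, ⟨by decide, v7_29_2⟩, ⟨by decide, v7_29_3⟩, ⟨by decide, v7_29_1⟩, ⟨by decide, v7_29_4⟩, ⟨by decide, v7_29_5⟩, ⟨by decide, v7_29_6⟩]
theorem row7_30 : ∀ j ∈ K7, tbl7 30 j < 56 ∧ V cs (par cs K6) (word7 30) j (word7 (tbl7 30 j)) := by
  intro j hj
  simp only [K7, List.mem_cons, List.not_mem_nil, or_false] at hj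
  rcases hj with rfl | rfl | rfl | rfl | rfl | rfl | rfl
  exacts [⟨by decide, v7_30_0⟩, ⟨by decide, v7_30_2⟩, ⟨by decide, v7_30_3⟩, ⟨by decide, v7_30_1⟩, ⟨by decide, v7_30_4⟩, ⟨by decide, v7_30_5⟩, ⟨by decide, v7_30_6⟩]
theorem row7_31 : ∀ j ∈ K7, tbl7 31 j < 56 ∧ V cs (par cs K6) (word7 31) j (word7 (tbl7 31 j)) := by
  intro j hj
  simp only [K7, List.mem_cons, List.not_mem_nil, or_false] at hj
  rcases hj with rfl | rfl | rfl | rfl | rfl | rfl | rfl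
  exacts [⟨by decide, v7_31_0⟩, ⟨by decide, v7_31_2⟩, ⟨by decide, v7_31_3⟩, ⟨by decide, v7_31_1⟩, ⟨by decide, v7_31_4⟩, ⟨by decide, v7_31_5⟩, ⟨by decide, v7_31_6⟩]
theorem row7_32 : ∀ j ∈ K7, tbl7 32 j < 56 ∧ V cs (par cs K6) (word7 32) j (word7 (tbl7 32 j)) := by
  intro j hj
  simp only [K7, List.mem_cons, List.not_mem_nil, or_false] at hj
  rcases hj with rfl | rfl | rfl | rfl | rfl | rfl | rfl
  exacts [⟨by decide, v7_32_0⟩, ⟨by decide, v7_32_2⟩, ⟨by decide, v7_32_3⟩, ⟨by decide, v7_32_1⟩, ⟨by decide, v7_32_4⟩, ⟨by decide, v7_32_5⟩, ⟨by decide, v7_32_6⟩]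
theorem row7_33 : ∀ j ∈ K7, tbl7 33 j < 56 ∧ V cs (par cs K6) (word7 33) j (word7 (tbl7 33 j)) := by
  intro j hj
  simp only [K7, List.mem_cons, List.not_mem_nil, or_false] at hj
  rcases hj with rfl | rfl | rfl | rfl | rfl | rfl | rfl
  exacts [⟨by decide, v7_33_0⟩, ⟨by decide, v7_33_2⟩, ⟨by decide, v7_33_3⟩, ⟨by decide, v7_33_1⟩, ⟨by decide, v7_33_4⟩, ⟨by decide, v7_33_5⟩, ⟨by decide, v7_33_6⟩]
theorem row7_34 : ∀ j ∈ K7, tbl7 34 j < 56 ∧ V cs (par cs K6) (word7 34) j (word7 (tbl7 34 j)) := by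
  intro j hj
  simp only [K7, List.mem_cons, List.not_mem_nil, or_false] at hj
  rcases hj with rfl | rfl | rfl | rfl | rfl | rfl | rfl
  exacts [⟨by decide, v7_34_0⟩, ⟨by decide, v7_34_2⟩, ⟨by decide, v7_34_3⟩, ⟨by decide, v7_34_1⟩, ⟨by decide, v7_34_4⟩, ⟨by decide, v7_34_5⟩, ⟨by decide, v7_34_6⟩]
theorem row7_35 : ∀ j ∈ K7, tbl7 35 j < 56 ∧ V cs (par cs K6) (word7 35) j (word7 (tbl7 35 j)) := by
  intro j hj
  simp only [K7, List.mem_cons, List.not_mem_nil, or_false] at hj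
  rcases hj with rfl | rfl | rfl | rfl | rfl | rfl | rfl
  exacts [⟨by decide, v7_35_0⟩, ⟨by decide, v7_35_2⟩, ⟨by decide, v7_35_3⟩, ⟨by decide, v7_35_1⟩, ⟨by decide, v7_35_4⟩, ⟨by decide, v7_35_5⟩, ⟨by decide, v7_35_6⟩]
theorem row7_36 : ∀ j ∈ K7, tbl7 36 j < 56 ∧ V cs (par cs K6) (word7 36) j (word7 (tbl7 36 j)) := by
  intro j hj
  simp only [K7, List.mem_cons, List.not_mem_nil, or_false] at hj
  rcases hj with rfl | rfl | rfl | rfl | rfl | rfl | rfl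
  exacts [⟨by decide, v7_36_0⟩, ⟨by decide, v7_36_2⟩, ⟨by decide, v7_36_3⟩, ⟨by decide, v7_36_1⟩, ⟨by decide, v7_36_4⟩, ⟨by decide, v7_36_5⟩, ⟨by decide, v7_36_6⟩]
theorem row7_37 : ∀ j ∈ K7, tbl7 37 j < 56 ∧ V cs (par cs K6) (word7 37) j (word7 (tbl7 37 j)) := by
  intro j hj
  simp only [K7, List.mem_cons, List.not_mem_nil, or_false] at hj
  rcases hj with rfl | rfl | rfl | rfl | rfl | rfl | rfl
  exacts [⟨by decide, v7_37_0⟩, ⟨by decide, v7_37_2⟩, ⟨by decide, v7_37_3⟩, ⟨by decide, v7_37_1⟩, ⟨by decide, v7_37_4⟩, ⟨by decide, v7_37_5⟩, ⟨by decide, v7_37_6⟩]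
theorem row7_38 : ∀ j ∈ K7, tbl7 38 j < 56 ∧ V cs (par cs K6) (word7 38) j (word7 (tbl7 38 j)) := by
  intro j hj
  simp only [K7, List.mem_cons, List.not_mem_nil, or_false] at hj
  rcases hj with rfl | rfl | rfl | rfl | rfl | rfl | rfl
  exacts [⟨by decide, v7_38_0⟩, ⟨by decide, v7_38_2⟩, ⟨by decide, v7_38_3⟩, ⟨by decide, v7_38_1⟩, ⟨by decide, v7_38_4⟩, ⟨by decide, v7_38_5⟩, ⟨by decide, v7_38_6⟩]
theorem row7_39 : ∀ j ∈ K7, tbl7 39 j < 56 ∧ V cs (par cs K6) (word7 39) j (word7 (tbl7 39 j)) := by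
  intro j hj
  simp only [K7, List.mem_cons, List.not_mem_nil, or_false] at hj
  rcases hj with rfl | rfl | rfl | rfl | rfl | rfl | rfl
  exacts [⟨by decide, v7_39_0⟩, ⟨by decide, v7_39_2⟩, ⟨by decide, v7_39_3⟩, ⟨by decide, v7_39_1⟩, ⟨by decide, v7_39_4⟩, ⟨by decide, v7_39_5⟩, ⟨by decide, v7_39_6⟩]
theorem row7_40 : ∀ j ∈ K7, tbl7 40 j < 56 ∧ V cs (par cs K6) (word7 40) j (word7 (tbl7 40 j)) := by
  intro j hj
  simp only [K7, List.mem_cons, List.not_mem_nil, or_false] at hj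
  rcases hj with rfl | rfl | rfl | rfl | rfl | rfl | rfl
  exacts [⟨by decide, v7_40_0⟩, ⟨by decide, v7_40_2⟩, ⟨by decide, v7_40_3⟩, ⟨by decide, v7_40_1⟩, ⟨by decide, v7_40_4⟩, ⟨by decide, v7_40_5⟩, ⟨by decide, v7_40_6⟩]
theorem row7_41 : ∀ j ∈ K7, tbl7 41 j < 56 ∧ V cs (par cs K6) (word7 41) j (word7 (tbl7 41 j)) := by
  intro j hj
  simp only [K7, List.mem_cons, List.not_mem_nil, or_false] at hj
  rcases hj with rfl | rfl | rfl | rfl | rfl | rfl | rfl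
  exacts [⟨by decide, v7_41_0⟩, ⟨by decide, v7_41_2⟩, ⟨by decide, v7_41_3⟩, ⟨by decide, v7_41_1⟩, ⟨by decide, v7_41_4⟩, ⟨by decide, v7_41_5⟩, ⟨by decide, v7_41_6⟩]
theorem row7_42 : ∀ j ∈ K7, tbl7 42 j < 56 ∧ V cs (par cs K6) (word7 42) j (word7 (tbl7 42 j)) := by
  intro j hj
  simp only [K7, List.mem_cons, List.not_mem_nil, or_false] at hj
  rcases hj with rfl | rfl | rfl | rfl | rfl | rfl | rfl
  exacts [⟨by decide, v7_42_0⟩, ⟨by decide, v7_42_2⟩, ⟨by decide, v7_42_3⟩, ⟨by decide, v7_42_1⟩, ⟨by decide, v7_42_4⟩, ⟨by decide, v7_42_5⟩, ⟨by decide, v7_42_6⟩]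
theorem row7_43 : ∀ j ∈ K7, tbl7 43 j < 56 ∧ V cs (par cs K6) (word7 43) j (word7 (tbl7 43 j)) := by
  intro j hj
  simp only [K7, List.mem_cons, List.not_mem_nil, or_false] at hj
  rcases hj with rfl | rfl | rfl | rfl | rfl | rfl | rfl
  exacts [⟨by decide, v7_43_0⟩, ⟨by decide, v7_43_2⟩, ⟨by decide, v7_43_3⟩, ⟨by decide, v7_43_1⟩, ⟨by decide, v7_43_4⟩, ⟨by decide, v7_43_5⟩, ⟨by decide, v7_43_6⟩]
theorem row7_44 : ∀ j ∈ K7, tbl7 44 j < 56 ∧ V cs (par cs K6) (word7 44) j (word7 (tbl7 44 j)) := by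
  intro j hj
  simp only [K7, List.mem_cons, List.not_mem_nil, or_false] at hj
  rcases hj with rfl | rfl | rfl | rfl | rfl | rfl | rfl
  exacts [⟨by decide, v7_44_0⟩, ⟨by decide, v7_44_2⟩, ⟨by decide, v7_44_3⟩, ⟨by decide, v7_44_1⟩, ⟨by decide, v7_44_4⟩, ⟨by decide, v7_44_5⟩, ⟨by decide, v7_44_6⟩]
theorem row7_45 : ∀ j ∈ K7, tbl7 45 j < 56 ∧ V cs (par cs K6) (word7 45) j (word7 (tbl7 45 j)) := by
  intro j hj
  simp only [K7, List.mem_cons, List.not_mem_nil, or_false] at hj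
  rcases hj with rfl | rfl | rfl | rfl | rfl | rfl | rfl
  exacts [⟨by decide, v7_45_0⟩, ⟨by decide, v7_45_2⟩, ⟨by decide, v7_45_3⟩, ⟨by decide, v7_45_1⟩, ⟨by decide, v7_45_4⟩, ⟨by decide, v7_45_5⟩, ⟨by decide, v7_45_6⟩]
theorem row7_46 : ∀ j ∈ K7, tbl7 46 j < 56 ∧ V cs (par cs K6) (word7 46) j (word7 (tbl7 46 j)) := by
  intro j hj
  simp only [K7, List.mem_cons, List.not_mem_nil, or_false] at hj
  rcases hj with rfl | rfl | rfl | rfl | rfl | rfl | rfl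
  exacts [⟨by decide, v7_46_0⟩, ⟨by decide, v7_46_2⟩, ⟨by decide, v7_46_3⟩, ⟨by decide, v7_46_1⟩, ⟨by decide, v7_46_4⟩, ⟨by decide, v7_46_5⟩, ⟨by decide, v7_46_6⟩]
theorem row7_47 : ∀ j ∈ K7, tbl7 47 j < 56 ∧ V cs (par cs K6) (word7 47) j (word7 (tbl7 47 j)) := by
  intro j hj
  simp only [K7, List.mem_cons, List.not_mem_nil, or_false] at hj
  rcases hj with rfl | rfl | rfl | rfl | rfl | rfl | rfl
  exacts [⟨by decide, v7_47_0⟩, ⟨by decide, v7_47_2⟩, ⟨by decide, v7_47_3⟩, ⟨by decide, v7_47_1⟩, ⟨by decide, v7_47_4⟩, ⟨by decide, v7_47_5⟩, ⟨by decide, v7_47_6⟩]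
theorem row7_48 : ∀ j ∈ K7, tbl7 48 j < 56 ∧ V cs (par cs K6) (word7 48) j (word7 (tbl7 48 j)) := by
  intro j hj
  simp only [K7, List.mem_cons, List.not_mem_nil, or_false] at hj
  rcases hj with rfl | rfl | rfl | rfl | rfl | rfl | rfl
  exacts [⟨by decide, v7_48_0⟩, ⟨by decide, v7_48_2⟩, ⟨by decide, v7_48_3⟩, ⟨by decide, v7_48_1⟩, ⟨by decide, v7_48_4⟩, ⟨by decide, v7_48_5⟩, ⟨by decide, v7_48_6⟩]
theorem row7_49 : ∀ j ∈ K7, tbl7 49 j < 56 ∧ V cs (par cs K6) (word7 49) j (word7 (tbl7 49 j)) := by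
  intro j hj
  simp only [K7, List.mem_cons, List.not_mem_nil, or_false] at hj
  rcases hj with rfl | rfl | rfl | rfl | rfl | rfl | rfl
  exacts [⟨by decide, v7_49_0⟩, ⟨by decide, v7_49_2⟩, ⟨by decide, v7_49_3⟩, ⟨by decide, v7_49_1⟩, ⟨by decide, v7_49_4⟩, ⟨by decide, v7_49_5⟩, ⟨by decide, v7_49_6⟩]
theorem row7_50 : ∀ j ∈ K7, tbl7 50 j < 56 ∧ V cs (par cs K6) (word7 50) j (word7 (tbl7 50 j)) := by
  intro j hj
  simp only [K7, List.mem_cons, List.not_mem_nil, or_false] at hj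
  rcases hj with rfl | rfl | rfl | rfl | rfl | rfl | rfl
  exacts [⟨by decide, v7_50_0⟩, ⟨by decide, v7_50_2⟩, ⟨by decide, v7_50_3⟩, ⟨by decide, v7_50_1⟩, ⟨by decide, v7_50_4⟩, ⟨by decide, v7_50_5⟩, ⟨by decide, v7_50_6⟩]
theorem row7_51 : ∀ j ∈ K7, tbl7 51 j < 56 ∧ V cs (par cs K6) (word7 51) j (word7 (tbl7 51 j)) := by
  intro j hj
  simp only [K7, List.mem_cons, List.not_mem_nil, or_false] at hj
  rcases hj with rfl | rfl | rfl | rfl | rfl | rfl | rfl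
  exacts [⟨by decide, v7_51_0⟩, ⟨by decide, v7_51_2⟩, ⟨by decide, v7_51_3⟩, ⟨by decide, v7_51_1⟩, ⟨by decide, v7_51_4⟩, ⟨by decide, v7_51_5⟩, ⟨by decide, v7_51_6⟩]
theorem row7_52 : ∀ j ∈ K7, tbl7 52 j < 56 ∧ V cs (par cs K6) (word7 52) j (word7 (tbl7 52 j)) := by
  intro j hj
  simp only [K7, List.mem_cons, List.not_mem_nil, or_false] at hj
  rcases hj with rfl | rfl | rfl | rfl | rfl | rfl | rfl
  exacts [⟨by decide, v7_52_0⟩, ⟨by decide, v7_52_2⟩, ⟨by decide, v7_52_3⟩, ⟨by decide, v7_52_1⟩, ⟨by decide, v7_52_4⟩, ⟨by decide, v7_52_5⟩, ⟨by decide, v7_52_6⟩]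
theorem row7_53 : ∀ j ∈ K7, tbl7 53 j < 56 ∧ V cs (par cs K6) (word7 53) j (word7 (tbl7 53 j)) := by
  intro j hj
  simp only [K7, List.mem_cons, List.not_mem_nil, or_false] at hj
  rcases hj with rfl | rfl | rfl | rfl | rfl | rfl | rfl
  exacts [⟨by decide, v7_53_0⟩, ⟨by decide, v7_53_2⟩, ⟨by decide, v7_53_3⟩, ⟨by decide, v7_53_1⟩, ⟨by decide, v7_53_4⟩, ⟨by decide, v7_53_5⟩, ⟨by decide, v7_53_6⟩]
theorem row7_54 : ∀ j ∈ K7, tbl7 54 j < 56 ∧ V cs (par cs K6) (word7 54) j (word7 (tbl7 54 j)) := by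
  intro j hj
  simp only [K7, List.mem_cons, List.not_mem_nil, or_false] at hj
  rcases hj with rfl | rfl | rfl | rfl | rfl | rfl | rfl
  exacts [⟨by decide, v7_54_0⟩, ⟨by decide, v7_54_2⟩, ⟨by decide, v7_54_3⟩, ⟨by decide, v7_54_1⟩, ⟨by decide, v7_54_4⟩, ⟨by decide, v7_54_5⟩, ⟨by decide, v7_54_6⟩]
theorem row7_55 : ∀ j ∈ K7, tbl7 55 j < 56 ∧ V cs (par cs K6) (word7 55) j (word7 (tbl7 55 j)) := by
  intro j hj
  simp only [K7, List.mem_cons, List.not_mem_nil, or_false] at hj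
  rcases hj with rfl | rfl | rfl | rfl | rfl | rfl | rfl
  exacts [⟨by decide, v7_55_0⟩, ⟨by decide, v7_55_2⟩, ⟨by decide, v7_55_3⟩, ⟨by decide, v7_55_1⟩, ⟨by decide, v7_55_4⟩, ⟨by decide, v7_55_5⟩, ⟨by decide, v7_55_6⟩]
theorem htbl7 : ∀ x < 56, ∀ j ∈ K7, tbl7 x j < 56 ∧ V cs (par cs K6) (word7 x) j (word7 (tbl7 x j)) := by
  intro x hx
  interval_cases x
  exacts [row7_0, row7_1, row7_2, row7_3, row7_4, row7_5, row7_6, row7_7, row7_8, row7_9, row7_10, row7_11, row7_12, row7_13, row7_14, row7_15, row7_16, row7_17, row7_18, row7_19, row7_20, row7_21, row7_22, row7_23, row7_24, row7_25, row7_26, row7_27, row7_28, row7_29, row7_30, row7_31, row7_32, row7_33, row7_34, row7_35, row7_36, row7_37, row7_38, row7_39, row7_40, row7_41, row7_42, row7_43, row7_44, row7_45, row7_46, row7_47, row7_48, row7_49, row7_50, row7_51, row7_52, row7_53, row7_54, row7_55]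
theorem pt7_0 : φ (cs.wordProd (word7 0)) p7 = ![0, 0, 0, 0, 0, 0, 1] := pt_base cs φ (by decide) _
theorem pt7_1 : φ (cs.wordProd (word7 1)) p7 = ![0, 0, 0, 0, 0, 1, -1] := pt_step A cs hA φ hφ (j := 6) (w := word7 0) (by decide) pt7_0 (by decide)
theorem pt7_2 : φ (cs.wordProd (word7 2)) p7 = ![0, 0, 0, 0, 1, -1, 0] := pt_step A cs hA φ hφ (j := 5) (w := word7 1) (by decide) pt7_1 (by decide)
theorem pt7_3 : φ (cs.wordProd (word7 3)) p7 = ![0, 0, 0, 1, -1, 0, 0] := pt_step A cs hA φ hφ (j := 4) (w := word7 2) (by decide) pt7_2 (by decide)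
theorem pt7_4 : φ (cs.wordProd (word7 4)) p7 = ![0, 1, 1, -1, 0, 0, 0] := pt_step A cs hA φ hφ (j := 3) (w := word7 3) (by decide) pt7_3 (by decide)
theorem pt7_5 : φ (cs.wordProd (word7 5)) p7 = ![1, 1, -1, 0, 0, 0, 0] := pt_step A cs hA φ hφ (j := 2) (w := word7 4) (by decide) pt7_4 (by decide)
theorem pt7_6 : φ (cs.wordProd (word7 6)) p7 = ![0, -1, 1, 0, 0, 0, 0] := pt_step A cs hA φ hφ (j := 1) (w := word7 4) (by decide) pt7_4 (by decide)
theorem pt7_7 : φ (cs.wordProd (word7 7)) p7 = ![-1, 1, 0, 0, 0, 0, 0] := pt_step A cs hA φ hφ (j := 0) (w := word7 5) (by decide) pt7_5 (by decide)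
theorem pt7_8 : φ (cs.wordProd (word7 8)) p7 = ![1, -1, -1, 1, 0, 0, 0] := pt_step A cs hA φ hφ (j := 1) (w := word7 5) (by decide) pt7_5 (by decide)
theorem pt7_9 : φ (cs.wordProd (word7 9)) p7 = ![-1, -1, 0, 1, 0, 0, 0] := pt_step A cs hA φ hφ (j := 1) (w := word7 7) (by decide) pt7_7 (by decide)
theorem pt7_10 : φ (cs.wordProd (word7 10)) p7 = ![1, 0, 0, -1, 1, 0, 0] := pt_step A cs hA φ hφ (j := 3) (w := word7 8) (by decide) pt7_8 (by decide)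
theorem pt7_11 : φ (cs.wordProd (word7 11)) p7 = ![-1, 0, 1, -1, 1, 0, 0] := pt_step A cs hA φ hφ (j := 3) (w := word7 9) (by decide) pt7_9 (by decide)
theorem pt7_12 : φ (cs.wordProd (word7 12)) p7 = ![1, 0, 0, 0, -1, 1, 0] := pt_step A cs hA φ hφ (j := 4) (w := word7 10) (by decide) pt7_10 (by decide)
theorem pt7_13 : φ (cs.wordProd (word7 13)) p7 = ![0, 0, -1, 0, 1, 0, 0] := pt_step A cs hA φ hφ (j := 2) (w := word7 11) (by decide) pt7_11 (by decide)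
theorem pt7_14 : φ (cs.wordProd (word7 14)) p7 = ![-1, 0, 1, 0, -1, 1, 0] := pt_step A cs hA φ hφ (j := 4) (w := word7 11) (by decide) pt7_11 (by decide)
theorem pt7_15 : φ (cs.wordProd (word7 15)) p7 = ![1, 0, 0, 0, 0, -1, 1] := pt_step A cs hA φ hφ (j := 5) (w := word7 12) (by decide) pt7_12 (by decide)
theorem pt7_16 : φ (cs.wordProd (word7 16)) p7 = ![0, 0, -1, 1, -1, 1, 0] := pt_step A cs hA φ hφ (j := 4) (w := word7 13) (by decide) pt7_13 (by decide)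
theorem pt7_17 : φ (cs.wordProd (word7 17)) p7 = ![-1, 0, 1, 0, 0, -1, 1] := pt_step A cs hA φ hφ (j := 5) (w := word7 14) (by decide) pt7_14 (by decide)
theorem pt7_18 : φ (cs.wordProd (word7 18)) p7 = ![1, 0, 0, 0, 0, 0, -1] := pt_step A cs hA φ hφ (j := 6) (w := word7 15) (by decide) pt7_15 (by decide)
theorem pt7_19 : φ (cs.wordProd (word7 19)) p7 = ![0, 1, 0, -1, 0, 1, 0] := pt_step A cs hA φ hφ (j := 3) (w := word7 16) (by decide) pt7_16 (by decide)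
theorem pt7_20 : φ (cs.wordProd (word7 20)) p7 = ![0, 0, -1, 1, 0, -1, 1] := pt_step A cs hA φ hφ (j := 5) (w := word7 16) (by decide) pt7_16 (by decide)
theorem pt7_21 : φ (cs.wordProd (word7 21)) p7 = ![-1, 0, 1, 0, 0, 0, -1] := pt_step A cs hA φ hφ (j := 6) (w := word7 17) (by decide) pt7_17 (by decide)
theorem pt7_22 : φ (cs.wordProd (word7 22)) p7 = ![0, -1, 0, 0, 0, 1, 0] := pt_step A cs hA φ hφ (j := 1) (w := word7 19) (by decide) pt7_19 (by decide)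
theorem pt7_23 : φ (cs.wordProd (word7 23)) p7 = ![0, 1, 0, -1, 1, -1, 1] := pt_step A cs hA φ hφ (j := 5) (w := word7 19) (by decide) pt7_19 (by decide)
theorem pt7_24 : φ (cs.wordProd (word7 24)) p7 = ![0, 0, -1, 1, 0, 0, -1] := pt_step A cs hA φ hφ (j := 6) (w := word7 20) (by decide) pt7_20 (by decide)
theorem pt7_25 : φ (cs.wordProd (word7 25)) p7 = ![0, -1, 0, 0, 1, -1, 1] := pt_step A cs hA φ hφ (j := 5) (w := word7 22) (by decide) pt7_22 (by decide)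
theorem pt7_26 : φ (cs.wordProd (word7 26)) p7 = ![0, 1, 0, 0, -1, 0, 1] := pt_step A cs hA φ hφ (j := 4) (w := word7 23) (by decide) pt7_23 (by decide)
theorem pt7_27 : φ (cs.wordProd (word7 27)) p7 = ![0, 1, 0, -1, 1, 0, -1] := pt_step A cs hA φ hφ (j := 6) (w := word7 23) (by decide) pt7_23 (by decide)
theorem pt7_28 : φ (cs.wordProd (word7 28)) p7 = ![0, -1, 0, 1, -1, 0, 1] := pt_step A cs hA φ hφ (j := 4) (w := word7 25) (by decide) pt7_25 (by decide)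
theorem pt7_29 : φ (cs.wordProd (word7 29)) p7 = ![0, -1, 0, 0, 1, 0, -1] := pt_step A cs hA φ hφ (j := 6) (w := word7 25) (by decide) pt7_25 (by decide)
theorem pt7_30 : φ (cs.wordProd (word7 30)) p7 = ![0, 1, 0, 0, -1, 1, -1] := pt_step A cs hA φ hφ (j := 6) (w := word7 26) (by decide) pt7_26 (by decide)
theorem pt7_31 : φ (cs.wordProd (word7 31)) p7 = ![0, 0, 1, -1, 0, 0, 1] := pt_step A cs hA φ hφ (j := 3) (w := word7 28) (by decide) pt7_28 (by decide)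
theorem pt7_32 : φ (cs.wordProd (word7 32)) p7 = ![0, -1, 0, 1, -1, 1, -1] := pt_step A cs hA φ hφ (j := 6) (w := word7 28) (by decide) pt7_28 (by decide)
theorem pt7_33 : φ (cs.wordProd (word7 33)) p7 = ![0, 1, 0, 0, 0, -1, 0] := pt_step A cs hA φ hφ (j := 5) (w := word7 30) (by decide) pt7_30 (by decide)
theorem pt7_34 : φ (cs.wordProd (word7 34)) p7 = ![1, 0, -1, 0, 0, 0, 1] := pt_step A cs hA φ hφ (j := 2) (w := word7 31) (by decide) pt7_31 (by decide)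
theorem pt7_35 : φ (cs.wordProd (word7 35)) p7 = ![0, 0, 1, -1, 0, 1, -1] := pt_step A cs hA φ hφ (j := 6) (w := word7 31) (by decide) pt7_31 (by decide)
theorem pt7_36 : φ (cs.wordProd (word7 36)) p7 = ![0, -1, 0, 1, 0, -1, 0] := pt_step A cs hA φ hφ (j := 5) (w := word7 32) (by decide) pt7_32 (by decide)
theorem pt7_37 : φ (cs.wordProd (word7 37)) p7 = ![-1, 0, 0, 0, 0, 0, 1] := pt_step A cs hA φ hφ (j := 0) (w := word7 34) (by decide) pt7_34 (by decide)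
theorem pt7_38 : φ (cs.wordProd (word7 38)) p7 = ![1, 0, -1, 0, 0, 1, -1] := pt_step A cs hA φ hφ (j := 6) (w := word7 34) (by decide) pt7_34 (by decide)
theorem pt7_39 : φ (cs.wordProd (word7 39)) p7 = ![0, 0, 1, -1, 1, -1, 0] := pt_step A cs hA φ hφ (j := 5) (w := word7 35) (by decide) pt7_35 (by decide)
theorem pt7_40 : φ (cs.wordProd (word7 40)) p7 = ![-1, 0, 0, 0, 0, 1, -1] := pt_step A cs hA φ hφ (j := 6) (w := word7 37) (by decide) pt7_37 (by decide)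
theorem pt7_41 : φ (cs.wordProd (word7 41)) p7 = ![1, 0, -1, 0, 1, -1, 0] := pt_step A cs hA φ hφ (j := 5) (w := word7 38) (by decide) pt7_38 (by decide)
theorem pt7_42 : φ (cs.wordProd (word7 42)) p7 = ![0, 0, 1, 0, -1, 0, 0] := pt_step A cs hA φ hφ (j := 4) (w := word7 39) (by decide) pt7_39 (by decide)
theorem pt7_43 : φ (cs.wordProd (word7 43)) p7 = ![-1, 0, 0, 0, 1, -1, 0] := pt_step A cs hA φ hφ (j := 5) (w := word7 40) (by decide) pt7_40 (by decide)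
theorem pt7_44 : φ (cs.wordProd (word7 44)) p7 = ![1, 0, -1, 1, -1, 0, 0] := pt_step A cs hA φ hφ (j := 4) (w := word7 41) (by decide) pt7_41 (by decide)
theorem pt7_45 : φ (cs.wordProd (word7 45)) p7 = ![-1, 0, 0, 1, -1, 0, 0] := pt_step A cs hA φ hφ (j := 4) (w := word7 43) (by decide) pt7_43 (by decide)
theorem pt7_46 : φ (cs.wordProd (word7 46)) p7 = ![1, 1, 0, -1, 0, 0, 0] := pt_step A cs hA φ hφ (j := 3) (w := word7 44) (by decide) pt7_44 (by decide)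
theorem pt7_47 : φ (cs.wordProd (word7 47)) p7 = ![-1, 1, 1, -1, 0, 0, 0] := pt_step A cs hA φ hφ (j := 3) (w := word7 45) (by decide) pt7_45 (by decide)
theorem pt7_48 : φ (cs.wordProd (word7 48)) p7 = ![1, -1, 0, 0, 0, 0, 0] := pt_step A cs hA φ hφ (j := 1) (w := word7 46) (by decide) pt7_46 (by decide)
theorem pt7_49 : φ (cs.wordProd (word7 49)) p7 = ![0, 1, -1, 0, 0, 0, 0] := pt_step A cs hA φ hφ (j := 2) (w := word7 47) (by decide) pt7_47 (by decide)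
theorem pt7_50 : φ (cs.wordProd (word7 50)) p7 = ![-1, -1, 1, 0, 0, 0, 0] := pt_step A cs hA φ hφ (j := 1) (w := word7 47) (by decide) pt7_47 (by decide)
theorem pt7_51 : φ (cs.wordProd (word7 51)) p7 = ![0, -1, -1, 1, 0, 0, 0] := pt_step A cs hA φ hφ (j := 1) (w := word7 49) (by decide) pt7_49 (by decide)
theorem pt7_52 : φ (cs.wordProd (word7 52)) p7 = ![0, 0, 0, -1, 1, 0, 0] := pt_step A cs hA φ hφ (j := 3) (w := word7 51) (by decide) pt7_51 (by decide)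
theorem pt7_53 : φ (cs.wordProd (word7 53)) p7 = ![0, 0, 0, 0, -1, 1, 0] := pt_step A cs hA φ hφ (j := 4) (w := word7 52) (by decide) pt7_52 (by decide)
theorem pt7_54 : φ (cs.wordProd (word7 54)) p7 = ![0, 0, 0, 0, 0, -1, 1] := pt_step A cs hA φ hφ (j := 5) (w := word7 53) (by decide) pt7_53 (by decide)
theorem pt7_55 : φ (cs.wordProd (word7 55)) p7 = ![0, 0, 0, 0, 0, 0, -1] := pt_step A cs hA φ hφ (j := 6) (w := word7 54) (by decide) pt7_54 (by decide)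
theorem key7_0 : key (φ (cs.wordProd (word7 0)) p7) = keys7.getD 0 0 := by rw [pt7_0]; decide
theorem key7_1 : key (φ (cs.wordProd (word7 1)) p7) = keys7.getD 1 0 := by rw [pt7_1]; decide
theorem key7_2 : key (φ (cs.wordProd (word7 2)) p7) = keys7.getD 2 0 := by rw [pt7_2]; decide
theorem key7_3 : key (φ (cs.wordProd (word7 3)) p7) = keys7.getD 3 0 := by rw [pt7_3]; decide
theorem key7_4 : key (φ (cs.wordProd (word7 4)) p7) = keys7.getD 4 0 := by rw [pt7_4]; decide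
theorem key7_5 : key (φ (cs.wordProd (word7 5)) p7) = keys7.getD 5 0 := by rw [pt7_5]; decide
theorem key7_6 : key (φ (cs.wordProd (word7 6)) p7) = keys7.getD 6 0 := by rw [pt7_6]; decide
theorem key7_7 : key (φ (cs.wordProd (word7 7)) p7) = keys7.getD 7 0 := by rw [pt7_7]; decide
theorem key7_8 : key (φ (cs.wordProd (word7 8)) p7) = keys7.getD 8 0 := by rw [pt7_8]; decide
theorem key7_9 : key (φ (cs.wordProd (word7 9)) p7) = keys7.getD 9 0 := by rw [pt7_9]; decide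
theorem key7_10 : key (φ (cs.wordProd (word7 10)) p7) = keys7.getD 10 0 := by rw [pt7_10]; decide
theorem key7_11 : key (φ (cs.wordProd (word7 11)) p7) = keys7.getD 11 0 := by rw [pt7_11]; decide
theorem key7_12 : key (φ (cs.wordProd (word7 12)) p7) = keys7.getD 12 0 := by rw [pt7_12]; decide
theorem key7_13 : key (φ (cs.wordProd (word7 13)) p7) = keys7.getD 13 0 := by rw [pt7_13]; decide
theorem key7_14 : key (φ (cs.wordProd (word7 14)) p7) = keys7.getD 14 0 := by rw [pt7_14]; decide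
theorem key7_15 : key (φ (cs.wordProd (word7 15)) p7) = keys7.getD 15 0 := by rw [pt7_15]; decide
theorem key7_16 : key (φ (cs.wordProd (word7 16)) p7) = keys7.getD 16 0 := by rw [pt7_16]; decide
theorem key7_17 : key (φ (cs.wordProd (word7 17)) p7) = keys7.getD 17 0 := by rw [pt7_17]; decide
theorem key7_18 : key (φ (cs.wordProd (word7 18)) p7) = keys7.getD 18 0 := by rw [pt7_18]; decide
theorem key7_19 : key (φ (cs.wordProd (word7 19)) p7) = keys7.getD 19 0 := by rw [pt7_19]; decide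
theorem key7_20 : key (φ (cs.wordProd (word7 20)) p7) = keys7.getD 20 0 := by rw [pt7_20]; decide
theorem key7_21 : key (φ (cs.wordProd (word7 21)) p7) = keys7.getD 21 0 := by rw [pt7_21]; decide
theorem key7_22 : key (φ (cs.wordProd (word7 22)) p7) = keys7.getD 22 0 := by rw [pt7_22]; decide
theorem key7_23 : key (φ (cs.wordProd (word7 23)) p7) = keys7.getD 23 0 := by rw [pt7_23]; decide
theorem key7_24 : key (φ (cs.wordProd (word7 24)) p7) = keys7.getD 24 0 := by rw [pt7_24]; decide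
theorem key7_25 : key (φ (cs.wordProd (word7 25)) p7) = keys7.getD 25 0 := by rw [pt7_25]; decide
theorem key7_26 : key (φ (cs.wordProd (word7 26)) p7) = keys7.getD 26 0 := by rw [pt7_26]; decide
theorem key7_27 : key (φ (cs.wordProd (word7 27)) p7) = keys7.getD 27 0 := by rw [pt7_27]; decide
theorem key7_28 : key (φ (cs.wordProd (word7 28)) p7) = keys7.getD 28 0 := by rw [pt7_28]; decide
theorem key7_29 : key (φ (cs.wordProd (word7 29)) p7) = keys7.getD 29 0 := by rw [pt7_29]; decide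
theorem key7_30 : key (φ (cs.wordProd (word7 30)) p7) = keys7.getD 30 0 := by rw [pt7_30]; decide
theorem key7_31 : key (φ (cs.wordProd (word7 31)) p7) = keys7.getD 31 0 := by rw [pt7_31]; decide
theorem key7_32 : key (φ (cs.wordProd (word7 32)) p7) = keys7.getD 32 0 := by rw [pt7_32]; decide
theorem key7_33 : key (φ (cs.wordProd (word7 33)) p7) = keys7.getD 33 0 := by rw [pt7_33]; decide
theorem key7_34 : key (φ (cs.wordProd (word7 34)) p7) = keys7.getD 34 0 := by rw [pt7_34]; decide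
theorem key7_35 : key (φ (cs.wordProd (word7 35)) p7) = keys7.getD 35 0 := by rw [pt7_35]; decide
theorem key7_36 : key (φ (cs.wordProd (word7 36)) p7) = keys7.getD 36 0 := by rw [pt7_36]; decide
theorem key7_37 : key (φ (cs.wordProd (word7 37)) p7) = keys7.getD 37 0 := by rw [pt7_37]; decide
theorem key7_38 : key (φ (cs.wordProd (word7 38)) p7) = keys7.getD 38 0 := by rw [pt7_38]; decide
theorem key7_39 : key (φ (cs.wordProd (word7 39)) p7) = keys7.getD 39 0 := by rw [pt7_39]; decide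
theorem key7_40 : key (φ (cs.wordProd (word7 40)) p7) = keys7.getD 40 0 := by rw [pt7_40]; decide
theorem key7_41 : key (φ (cs.wordProd (word7 41)) p7) = keys7.getD 41 0 := by rw [pt7_41]; decide
theorem key7_42 : key (φ (cs.wordProd (word7 42)) p7) = keys7.getD 42 0 := by rw [pt7_42]; decide
theorem key7_43 : key (φ (cs.wordProd (word7 43)) p7) = keys7.getD 43 0 := by rw [pt7_43]; decide
theorem key7_44 : key (φ (cs.wordProd (word7 44)) p7) = keys7.getD 44 0 := by rw [pt7_44]; decide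
theorem key7_45 : key (φ (cs.wordProd (word7 45)) p7) = keys7.getD 45 0 := by rw [pt7_45]; decide
theorem key7_46 : key (φ (cs.wordProd (word7 46)) p7) = keys7.getD 46 0 := by rw [pt7_46]; decide
theorem key7_47 : key (φ (cs.wordProd (word7 47)) p7) = keys7.getD 47 0 := by rw [pt7_47]; decide
theorem key7_48 : key (φ (cs.wordProd (word7 48)) p7) = keys7.getD 48 0 := by rw [pt7_48]; decide
theorem key7_49 : key (φ (cs.wordProd (word7 49)) p7) = keys7.getD 49 0 := by rw [pt7_49]; decide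
theorem key7_50 : key (φ (cs.wordProd (word7 50)) p7) = keys7.getD 50 0 := by rw [pt7_50]; decide
theorem key7_51 : key (φ (cs.wordProd (word7 51)) p7) = keys7.getD 51 0 := by rw [pt7_51]; decide
theorem key7_52 : key (φ (cs.wordProd (word7 52)) p7) = keys7.getD 52 0 := by rw [pt7_52]; decide
theorem key7_53 : key (φ (cs.wordProd (word7 53)) p7) = keys7.getD 53 0 := by rw [pt7_53]; decide
theorem key7_54 : key (φ (cs.wordProd (word7 54)) p7) = keys7.getD 54 0 := by rw [pt7_54]; decide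
theorem key7_55 : key (φ (cs.wordProd (word7 55)) p7) = keys7.getD 55 0 := by rw [pt7_55]; decide
theorem hkey7 : ∀ x < 56, key (φ (cs.wordProd (word7 x)) p7) = keys7.getD x 0 := by
  intro x hx
  interval_cases x
  exacts [key7_0, key7_1, key7_2, key7_3, key7_4, key7_5, key7_6, key7_7, key7_8, key7_9, key7_10, key7_11, key7_12, key7_13, key7_14, key7_15, key7_16, key7_17, key7_18, key7_19, key7_20, key7_21, key7_22, key7_23, key7_24, key7_25, key7_26, key7_27, key7_28, key7_29, key7_30, key7_31, key7_32, key7_33, key7_34, key7_35, key7_36, key7_37, key7_38, key7_39, key7_40, key7_41, key7_42, key7_43, key7_44, key7_45, key7_46, key7_47, key7_48, key7_49, key7_50, key7_51, key7_52, key7_53, key7_54, key7_55]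
theorem card7 : Nat.card (par cs K7) = 56 * Nat.card (par cs K6) :=
  link_card cs φ p7 K6 K7 56 word7 tbl7 (by decide) (by decide) (by decide) (by decide) htbl7
    (fix_of_refl A cs hA φ hφ K6 p7 (by decide))
    (hdist_of_keys cs φ p7 word7 56 key keys7 (by decide) (by decide) hkey7)

theorem card : Nat.card Mx.Group = 2903040 := by
  have h0 : Nat.card (par cs K0) = 1 := by rw [show K0 = [] from rfl, par_nil]; exact Subgroup.card_bot
  have htop : par cs K7 = ⊤ := par_top cs (by decide)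
  rw [← Subgroup.card_top (G := Mx.Group), ← htop, card7, card6, card5, card4, card3, card2, card1, h0]

end Cfsg.Agent.Lib.Helper25.Cox.E7
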