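import Mathlib
import Cfsg.Agent.Lib.Helper25.CoxE7Mat

set_option autoImplicit false
set_option maxRecDepth 100000

namespace Cfsg.Agent.Lib.Helper25.Cox.E7

open Cfsg.Agent.Lib.Helper25.Cox

noncomputable def Tset : Finset Mx.Group := {Mx.simple 3}
theorem Tset_card : Tset.card = 1 := Finset.card_singleton _
theorem mem_Tset {t : Mx.Group} : t ∈ Tset ↔ t = Mx.simple 3 := Finset.mem_singleton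
theorem Tset_refl : ∀ t ∈ Tset, ∃ (g : Mx.Group) (i : Fin 7), t = g * Mx.simple i * g⁻¹ := by
  intro t ht
  rw [mem_Tset] at ht
  exact ⟨1, 3, by rw [ht]; simp⟩
noncomputable def Hgen : Subgroup Mx.Group := Subgroup.closure (({cox} : Set Mx.Group) ∪ ↑Tset)
theorem cox_mem : cox ∈ Hgen := Subgroup.subset_closure (Or.inl rfl)
theorem t3_mem : Mx.simple 3 ∈ Hgen := Subgroup.subset_closure (Or.inr (Finset.mem_coe.mpr (mem_Tset.mpr (by simp))))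
def L0 : Matrix (Fin 7) (Fin 7) ℤ := !![-1, -1, -1, -2, -1, -1, -1; 0, -1, -1, -2, -1, -1, 0; 0, 0, -1, -1, -1, 0, 0; 0, 0, 1, 1, 0, 0, 0; 0, 1, 0, 1, 1, 0, 0; 1, 0, 1, 1, 1, 1, 0; 0, 1, 1, 1, 1, 1, 1]
noncomputable def e0 : Mx.Group := cox ^ 4
theorem m0 : e0 ∈ Hgen := Subgroup.pow_mem _ cox_mem _
theorem ψe0 : ψ e0 = L0 := by rw [e0, map_pow, ψ_cox, Cpow4]; decide
def L1 : Matrix (Fin 7) (Fin 7) ℤ := !![1, 0, 0, 0, 0, 0, 0; 0, 1, 0, 1, 0, 0, 0; 0, 0, 1, 1, 0, 0, 0; 0, 0, 0, -1, 0, 0, 0; 0, 0, 0, 1, 1, 0, 0; 0, 0, 0, 0, 0, 1, 0; 0, 0, 0, 0, 0, 0, 1]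
noncomputable def e1 : Mx.Group := Mx.simple 3
theorem m1 : e1 ∈ Hgen := t3_mem
theorem ψe1 : ψ e1 = L1 := by rw [e1, hψ]; decide
def L2 : Matrix (Fin 7) (Fin 7) ℤ := !![-1, -1, -1, -1, -1, -1, -1; 0, -1, -1, -1, -1, -1, 0; 0, 0, -1, -1, -1, 0, 0; 0, 0, 1, 0, 0, 0, 0; 0, 1, 0, 1, 1, 0, 0; 1, 0, 1, 1, 1, 1, 0; 0, 1, 1, 2, 1, 1, 1]
noncomputable def e2 : Mx.Group := e0 * e1
theorem m2 : e2 ∈ Hgen := Subgroup.mul_mem _ m0 m1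
theorem ψe2 : ψ e2 = L2 := by rw [e2, map_mul, ψe0, ψe1]; decide
def L3 : Matrix (Fin 7) (Fin 7) ℤ := !![0, 1, 1, 1, 1, 1, 0; 1, 1, 2, 2, 2, 1, 1; 1, 1, 1, 2, 1, 1, 1; -1, -1, -1, -1, -1, -1, -1; 0, 0, -1, -1, 0, 0, 0; 0, -1, 0, -1, -1, 0, 0; -1, 0, -1, -1, -1, -1, 0]
noncomputable def e3 : Mx.Group := cox ^ 14
theorem m3 : e3 ∈ Hgen := Subgroup.pow_mem _ cox_mem _
theorem ψe3 : ψ e3 = L3 := by rw [e3, map_pow, ψ_cox, Cpow14]; decide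
def L4 : Matrix (Fin 7) (Fin 7) ℤ := !![0, -1, -1, -1, -1, -1, -1; -1, 0, -1, -1, -1, -1, -1; 0, 0, 1, 0, 0, 0, 0; 1, 1, 1, 2, 1, 1, 1; 0, 0, 0, 0, 1, 0, 0; 0, 0, 0, 0, 0, 1, 0; -1, -1, -1, -1, -1, -1, 0]
noncomputable def e4 : Mx.Group := e2 * e3
theorem m4 : e4 ∈ Hgen := Subgroup.mul_mem _ m2 m3
theorem ψe4 : ψ e4 = L4 := by rw [e4, map_mul, ψe2, ψe3]; decide
def L5 : Matrix (Fin 7) (Fin 7) ℤ := !![0, -1, -1, -1, -1, -1, -1; 0, 1, 0, 1, 0, 0, 0; 1, 1, 2, 2, 1, 1, 1; -1, -1, -1, -2, -1, -1, -1; 1, 1, 1, 2, 2, 1, 1; 0, 0, 0, 0, 0, 1, 0; -1, -1, -1, -1, -1, -1, 0]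
noncomputable def e5 : Mx.Group := e1 * e4
theorem m5 : e5 ∈ Hgen := Subgroup.mul_mem _ m1 m4
theorem ψe5 : ψ e5 = L5 := by rw [e5, map_mul, ψe1, ψe4]; decide
def L6 : Matrix (Fin 7) (Fin 7) ℤ := !![0, -1, -1, -2, -1, -1, -1; 0, 1, 0, 0, 0, 0, 0; 1, 1, 2, 2, 1, 1, 1; -1, -1, -1, -1, -1, -1, -1; 1, 1, 1, 2, 2, 1, 1; 0, 0, 0, 0, 0, 1, 0; -1, -1, -1, -2, -1, -1, 0]
noncomputable def e6 : Mx.Group := e5 * e1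
theorem m6 : e6 ∈ Hgen := Subgroup.mul_mem _ m5 m1
theorem ψe6 : ψ e6 = L6 := by rw [e6, map_mul, ψe5, ψe1]; decide
def L7 : Matrix (Fin 7) (Fin 7) ℤ := !![1, 1, 1, 2, 1, 1, 1; 0, -1, -1, -2, -1, -1, 0; -1, -1, -2, -3, -2, -1, -1; 0, 0, 1, 1, 0, 0, 0; 0, 1, 0, 1, 1, 0, 0; 1, 0, 1, 1, 1, 1, 0; 0, 1, 1, 1, 1, 1, 1]
noncomputable def e7 : Mx.Group := e0 * e6
theorem m7 : e7 ∈ Hgen := Subgroup.mul_mem _ m0 m6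
theorem ψe7 : ψ e7 = L7 := by rw [e7, map_mul, ψe0, ψe6]; decide
def L8 : Matrix (Fin 7) (Fin 7) ℤ := !![-1, 0, 0, 0, 0, 0, 0; 0, 1, 0, 0, 0, 0, 0; 1, 0, 1, 0, 0, 0, 0; 0, 0, 0, 1, 0, 0, 0; 0, 0, 0, 0, 1, 0, 0; 0, 0, 0, 0, 0, 1, 0; 0, 0, 0, 0, 0, 0, 1]
noncomputable def e8 : Mx.Group := e7 * e3
theorem m8 : e8 ∈ Hgen := Subgroup.mul_mem _ m7 m3
theorem ψe8 : ψ e8 = L8 := by rw [e8, map_mul, ψe7, ψe3]; decide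
theorem simple0_mem : Mx.simple 0 ∈ Hgen := by
  have h : Mx.simple 0 = e8 := ψ_injective (by rw [hψ, ψe8]; decide)
  rw [h]; exact m8
def L9 : Matrix (Fin 7) (Fin 7) ℤ := !![-1, 0, -1, -1, -1, 0, 0; -1, -1, -1, -2, -1, -1, 0; 0, -1, -1, -1, -1, -1, 0; 0, 0, 0, 0, 0, 0, -1; 1, 1, 1, 1, 1, 1, 1; 0, 0, 1, 1, 0, 0, 0; 0, 1, 0, 1, 1, 0, 0]
noncomputable def e9 : Mx.Group := cox ^ 6
theorem m9 : e9 ∈ Hgen := Subgroup.pow_mem _ cox_mem _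
theorem ψe9 : ψ e9 = L9 := by rw [e9, map_pow, ψ_cox, Cpow6]; decide
def L10 : Matrix (Fin 7) (Fin 7) ℤ := !![-1, 0, -1, -1, -1, 0, 0; 0, 0, 0, 0, 0, 0, 1; -1, -2, -2, -3, -2, -2, -1; 1, 1, 1, 2, 1, 1, 0; 0, 0, 0, -1, 0, 0, 0; 0, 0, 1, 1, 0, 0, 0; 0, 1, 0, 1, 1, 0, 0]
noncomputable def e10 : Mx.Group := e9 * e6
theorem m10 : e10 ∈ Hgen := Subgroup.mul_mem _ m9 m6
theorem ψe10 : ψ e10 = L10 := by rw [e10, map_mul, ψe9, ψe6]; decide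
def L11 : Matrix (Fin 7) (Fin 7) ℤ := !![0, 0, 1, 1, 1, 0, 0; 1, 1, 1, 2, 2, 1, 1; 0, 1, 0, 1, 1, 1, 0; 0, -1, 0, -1, -1, 0, 0; -1, 0, -1, -1, -1, -1, 0; 0, -1, -1, -1, -1, -1, -1; 0, 0, 0, -1, 0, 0, 0]
noncomputable def e11 : Mx.Group := cox ^ 12
theorem m11 : e11 ∈ Hgen := Subgroup.pow_mem _ cox_mem _
theorem ψe11 : ψ e11 = L11 := by rw [e11, map_pow, ψ_cox, Cpow12]; decide
def L12 : Matrix (Fin 7) (Fin 7) ℤ := !![1, 0, 0, 0, 0, 0, 0; 0, 0, 0, -1, 0, 0, 0; 0, 1, 1, 1, 0, 0, 0; 0, -1, 0, 0, 0, 0, 0; 0, 1, 0, 1, 1, 0, 0; 0, 0, 0, 0, 0, 1, 0; 0, 0, 0, 0, 0, 0, 1]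
noncomputable def e12 : Mx.Group := e10 * e11
theorem m12 : e12 ∈ Hgen := Subgroup.mul_mem _ m10 m11
theorem ψe12 : ψ e12 = L12 := by rw [e12, map_mul, ψe10, ψe11]; decide
def L13 : Matrix (Fin 7) (Fin 7) ℤ := !![1, 0, 0, 0, 0, 0, 0; 0, -1, 0, -1, 0, 0, 0; 0, 0, 1, 1, 0, 0, 0; 0, 1, 0, 0, 0, 0, 0; 0, 0, 0, 1, 1, 0, 0; 0, 0, 0, 0, 0, 1, 0; 0, 0, 0, 0, 0, 0, 1]
noncomputable def e13 : Mx.Group := e1 * e12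
theorem m13 : e13 ∈ Hgen := Subgroup.mul_mem _ m1 m12
theorem ψe13 : ψ e13 = L13 := by rw [e13, map_mul, ψe1, ψe12]; decide
def L14 : Matrix (Fin 7) (Fin 7) ℤ := !![1, 0, 0, 0, 0, 0, 0; 0, -1, 0, 0, 0, 0, 0; 0, 0, 1, 0, 0, 0, 0; 0, 1, 0, 1, 0, 0, 0; 0, 0, 0, 0, 1, 0, 0; 0, 0, 0, 0, 0, 1, 0; 0, 0, 0, 0, 0, 0, 1]
noncomputable def e14 : Mx.Group := e13 * e1
theorem m14 : e14 ∈ Hgen := Subgroup.mul_mem _ m13 m1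
theorem ψe14 : ψ e14 = L14 := by rw [e14, map_mul, ψe13, ψe1]; decide
theorem simple1_mem : Mx.simple 1 ∈ Hgen := by
  have h : Mx.simple 1 = e14 := ψ_injective (by rw [hψ, ψe14]; decide)
  rw [h]; exact m14
def L15 : Matrix (Fin 7) (Fin 7) ℤ := !![0, -1, -1, -1, -1, -1, 0; -1, -1, -2, -2, -2, -1, -1; -1, -1, -1, -2, -1, -1, -1; 1, 1, 1, 1, 1, 1, 1; 0, 0, 1, 1, 0, 0, 0; 0, 1, 0, 1, 1, 0, 0; 1, 0, 1, 1, 1, 1, 0]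
noncomputable def e15 : Mx.Group := cox ^ 5
theorem m15 : e15 ∈ Hgen := Subgroup.pow_mem _ cox_mem _
theorem ψe15 : ψ e15 = L15 := by rw [e15, map_pow, ψ_cox, Cpow5]; decide
def L16 : Matrix (Fin 7) (Fin 7) ℤ := !![0, -1, -1, -2, -1, -1, 0; -1, -1, -2, -3, -2, -1, -1; -1, -1, -1, -1, -1, -1, -1; 1, 1, 1, 2, 1, 1, 1; 0, 0, 1, 0, 0, 0, 0; 0, 1, 0, 1, 1, 0, 0; 1, 0, 1, 1, 1, 1, 0]
noncomputable def e16 : Mx.Group := e15 * e1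
theorem m16 : e16 ∈ Hgen := Subgroup.mul_mem _ m15 m1
theorem ψe16 : ψ e16 = L16 := by rw [e16, map_mul, ψe15, ψe1]; decide
def L17 : Matrix (Fin 7) (Fin 7) ℤ := !![1, 1, 1, 2, 1, 1, 1; 0, 1, 1, 2, 1, 1, 0; 0, 0, 1, 1, 1, 0, 0; 0, 0, -1, -1, 0, 0, 0; 0, -1, 0, -1, -1, 0, 0; -1, 0, -1, -1, -1, -1, 0; 0, -1, -1, -1, -1, -1, -1]
noncomputable def e17 : Mx.Group := cox ^ 13
theorem m17 : e17 ∈ Hgen := Subgroup.pow_mem _ cox_mem _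
theorem ψe17 : ψ e17 = L17 := by rw [e17, map_pow, ψ_cox, Cpow13]; decide
def L18 : Matrix (Fin 7) (Fin 7) ℤ := !![1, 0, 1, 1, 0, 0, 0; 0, 1, 1, 1, 0, 0, 0; 0, 0, 0, -1, 0, 0, 0; 0, 0, -1, 0, 0, 0, 0; 0, 0, 1, 1, 1, 0, 0; 0, 0, 0, 0, 0, 1, 0; 0, 0, 0, 0, 0, 0, 1]
noncomputable def e18 : Mx.Group := e16 * e17
theorem m18 : e18 ∈ Hgen := Subgroup.mul_mem _ m16 m17
theorem ψe18 : ψ e18 = L18 := by rw [e18, map_mul, ψe16, ψe17]; decide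
def L19 : Matrix (Fin 7) (Fin 7) ℤ := !![1, 0, 1, 1, 0, 0, 0; 0, 1, 0, 1, 0, 0, 0; 0, 0, -1, -1, 0, 0, 0; 0, 0, 1, 0, 0, 0, 0; 0, 0, 0, 1, 1, 0, 0; 0, 0, 0, 0, 0, 1, 0; 0, 0, 0, 0, 0, 0, 1]
noncomputable def e19 : Mx.Group := e1 * e18
theorem m19 : e19 ∈ Hgen := Subgroup.mul_mem _ m1 m18
theorem ψe19 : ψ e19 = L19 := by rw [e19, map_mul, ψe1, ψe18]; decide
def L20 : Matrix (Fin 7) (Fin 7) ℤ := !![1, 0, 1, 0, 0, 0, 0; 0, 1, 0, 0, 0, 0, 0; 0, 0, -1, 0, 0, 0, 0; 0, 0, 1, 1, 0, 0, 0; 0, 0, 0, 0, 1, 0, 0; 0, 0, 0, 0, 0, 1, 0; 0, 0, 0, 0, 0, 0, 1]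
noncomputable def e20 : Mx.Group := e19 * e1
theorem m20 : e20 ∈ Hgen := Subgroup.mul_mem _ m19 m1
theorem ψe20 : ψ e20 = L20 := by rw [e20, map_mul, ψe19, ψe1]; decide
theorem simple2_mem : Mx.simple 2 ∈ Hgen := by
  have h : Mx.simple 2 = e20 := ψ_injective (by rw [hψ, ψe20]; decide)
  rw [h]; exact m20
theorem simple3_mem : Mx.simple 3 ∈ Hgen := by
  have h : Mx.simple 3 = e1 := ψ_injective (by rw [hψ, ψe1]; decide)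
  rw [h]; exact m1
def L21 : Matrix (Fin 7) (Fin 7) ℤ := !![-1, 0, -1, -1, -1, -1, -1; 0, -1, 0, -1, -1, -1, -1; 1, 0, 0, 0, 0, 0, 0; 0, 1, 1, 1, 1, 1, 1; 0, 0, 0, 1, 0, 0, 0; 0, 0, 0, 0, 1, 0, 0; 0, 0, 0, 0, 0, 1, 0]
noncomputable def e21 : Mx.Group := cox ^ 1
theorem m21 : e21 ∈ Hgen := Subgroup.pow_mem _ cox_mem _
theorem ψe21 : ψ e21 = L21 := by rw [e21, map_pow, ψ_cox, Cpow1]; decide
def L22 : Matrix (Fin 7) (Fin 7) ℤ := !![-1, 0, -1, -1, -1, -1, -1; 0, -1, 0, -1, -1, -1, -1; 1, 0, 0, 0, 0, 0, 0; 0, 1, 1, 2, 1, 1, 1; 0, 0, 0, -1, 0, 0, 0; 0, 0, 0, 1, 1, 0, 0; 0, 0, 0, 0, 0, 1, 0]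
noncomputable def e22 : Mx.Group := e21 * e1
theorem m22 : e22 ∈ Hgen := Subgroup.mul_mem _ m21 m1
theorem ψe22 : ψ e22 = L22 := by rw [e22, map_mul, ψe21, ψe1]; decide
def L23 : Matrix (Fin 7) (Fin 7) ℤ := !![0, 0, 1, 0, 0, 0, 0; 1, 0, 1, 1, 0, 0, 0; 0, 1, 0, 1, 0, 0, 0; 0, 0, 0, 0, 1, 0, 0; 0, 0, 0, 0, 0, 1, 0; 0, 0, 0, 0, 0, 0, 1; -1, -1, -1, -1, -1, -1, -1]
noncomputable def e23 : Mx.Group := cox ^ 17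
theorem m23 : e23 ∈ Hgen := Subgroup.pow_mem _ cox_mem _
theorem ψe23 : ψ e23 = L23 := by rw [e23, map_pow, ψ_cox, Cpow17]; decide
def L24 : Matrix (Fin 7) (Fin 7) ℤ := !![1, 0, 0, 0, 0, 0, 0; 0, 1, 0, 0, 0, 0, 0; 0, 0, 1, 0, 0, 0, 0; 0, 0, 0, 1, 1, 0, 0; 0, 0, 0, 0, -1, 0, 0; 0, 0, 0, 0, 1, 1, 0; 0, 0, 0, 0, 0, 0, 1]
noncomputable def e24 : Mx.Group := e22 * e23
theorem m24 : e24 ∈ Hgen := Subgroup.mul_mem _ m22 m23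
theorem ψe24 : ψ e24 = L24 := by rw [e24, map_mul, ψe22, ψe23]; decide
theorem simple4_mem : Mx.simple 4 ∈ Hgen := by
  have h : Mx.simple 4 = e24 := ψ_injective (by rw [hψ, ψe24]; decide)
  rw [h]; exact m24
def L25 : Matrix (Fin 7) (Fin 7) ℤ := !![0, -1, 0, -1, -1, -1, 0; 0, 0, -1, -1, -1, -1, 0; -1, 0, -1, -1, -1, -1, -1; 1, 0, 1, 1, 1, 1, 0; 0, 1, 1, 1, 1, 1, 1; 0, 0, 0, 1, 0, 0, 0; 0, 0, 0, 0, 1, 0, 0]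
noncomputable def e25 : Mx.Group := cox ^ 2
theorem m25 : e25 ∈ Hgen := Subgroup.pow_mem _ cox_mem _
theorem ψe25 : ψ e25 = L25 := by rw [e25, map_pow, ψ_cox, Cpow2]; decide
def L26 : Matrix (Fin 7) (Fin 7) ℤ := !![0, -1, 0, -1, -1, -1, 0; 0, 0, -1, -1, -1, -1, 0; -1, 0, -1, -1, -1, -1, -1; 1, 0, 1, 1, 1, 1, 0; 0, 1, 1, 2, 1, 1, 1; 0, 0, 0, -1, 0, 0, 0; 0, 0, 0, 1, 1, 0, 0]
noncomputable def e26 : Mx.Group := e25 * e1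
theorem m26 : e26 ∈ Hgen := Subgroup.mul_mem _ m25 m1
theorem ψe26 : ψ e26 = L26 := by rw [e26, map_mul, ψe25, ψe1]; decide
def L27 : Matrix (Fin 7) (Fin 7) ℤ := !![0, 1, 0, 1, 0, 0, 0; 0, 1, 1, 1, 1, 0, 0; 1, 0, 1, 1, 1, 0, 0; 0, 0, 0, 0, 0, 1, 0; 0, 0, 0, 0, 0, 0, 1; -1, -1, -1, -1, -1, -1, -1; 0, 0, -1, -1, 0, 0, 0]
noncomputable def e27 : Mx.Group := cox ^ 16
theorem m27 : e27 ∈ Hgen := Subgroup.pow_mem _ cox_mem _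
theorem ψe27 : ψ e27 = L27 := by rw [e27, map_pow, ψ_cox, Cpow16]; decide
def L28 : Matrix (Fin 7) (Fin 7) ℤ := !![1, 0, 0, 0, 0, 0, 0; 0, 1, 0, 0, 0, 0, 0; 0, 0, 1, 0, 0, 0, 0; 0, 0, 0, 1, 0, 0, 0; 0, 0, 0, 0, 1, 1, 0; 0, 0, 0, 0, 0, -1, 0; 0, 0, 0, 0, 0, 1, 1]
noncomputable def e28 : Mx.Group := e26 * e27
theorem m28 : e28 ∈ Hgen := Subgroup.mul_mem _ m26 m27
theorem ψe28 : ψ e28 = L28 := by rw [e28, map_mul, ψe26, ψe27]; decide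
theorem simple5_mem : Mx.simple 5 ∈ Hgen := by
  have h : Mx.simple 5 = e28 := ψ_injective (by rw [hψ, ψe28]; decide)
  rw [h]; exact m28
def L29 : Matrix (Fin 7) (Fin 7) ℤ := !![0, 0, -1, -1, -1, 0, 0; -1, -1, -1, -2, -2, -1, -1; 0, -1, 0, -1, -1, -1, 0; 0, 1, 0, 1, 1, 0, 0; 1, 0, 1, 1, 1, 1, 0; 0, 1, 1, 1, 1, 1, 1; 0, 0, 0, 1, 0, 0, 0]
noncomputable def e29 : Mx.Group := cox ^ 3
theorem m29 : e29 ∈ Hgen := Subgroup.pow_mem _ cox_mem _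
theorem ψe29 : ψ e29 = L29 := by rw [e29, map_pow, ψ_cox, Cpow3]; decide
def L30 : Matrix (Fin 7) (Fin 7) ℤ := !![0, 0, -1, -1, -1, 0, 0; -1, -1, -1, -2, -2, -1, -1; 0, -1, 0, -1, -1, -1, 0; 0, 1, 0, 1, 1, 0, 0; 1, 0, 1, 1, 1, 1, 0; 0, 1, 1, 2, 1, 1, 1; 0, 0, 0, -1, 0, 0, 0]
noncomputable def e30 : Mx.Group := e29 * e1
theorem m30 : e30 ∈ Hgen := Subgroup.mul_mem _ m29 m1
theorem ψe30 : ψ e30 = L30 := by rw [e30, map_mul, ψe29, ψe1]; decide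
def L31 : Matrix (Fin 7) (Fin 7) ℤ := !![1, 0, 1, 1, 1, 0, 0; 1, 1, 1, 2, 1, 1, 0; 0, 1, 1, 1, 1, 1, 0; 0, 0, 0, 0, 0, 0, 1; -1, -1, -1, -1, -1, -1, -1; 0, 0, -1, -1, 0, 0, 0; 0, -1, 0, -1, -1, 0, 0]
noncomputable def e31 : Mx.Group := cox ^ 15
theorem m31 : e31 ∈ Hgen := Subgroup.pow_mem _ cox_mem _
theorem ψe31 : ψ e31 = L31 := by rw [e31, map_pow, ψ_cox, Cpow15]; decide
def L32 : Matrix (Fin 7) (Fin 7) ℤ := !![1, 0, 0, 0, 0, 0, 0; 0, 1, 0, 0, 0, 0, 0; 0, 0, 1, 0, 0, 0, 0; 0, 0, 0, 1, 0, 0, 0; 0, 0, 0, 0, 1, 0, 0; 0, 0, 0, 0, 0, 1, 1; 0, 0, 0, 0, 0, 0, -1]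
noncomputable def e32 : Mx.Group := e30 * e31
theorem m32 : e32 ∈ Hgen := Subgroup.mul_mem _ m30 m31
theorem ψe32 : ψ e32 = L32 := by rw [e32, map_mul, ψe30, ψe31]; decide
theorem simple6_mem : Mx.simple 6 ∈ Hgen := by
  have h : Mx.simple 6 = e32 := ψ_injective (by rw [hψ, ψe32]; decide)
  rw [h]; exact m32
theorem Hgen_top : Hgen = ⊤ := by
  rw [eq_top_iff, ← cs.subgroup_closure_range_simple, Subgroup.closure_le]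
  rintro _ ⟨i, rfl⟩
  fin_cases i
  exacts [simple0_mem, simple1_mem, simple2_mem, simple3_mem, simple4_mem, simple5_mem, simple6_mem]
theorem gen_result : ∃ T : Finset Mx.Group, T.card = 1 ∧ (∀ t ∈ T, ∃ (g : Mx.Group) (i : Fin 7), t = g * Mx.simple i * g⁻¹) ∧
    Subgroup.closure (({((List.finRange 7).map Mx.simple).prod} : Set Mx.Group) ∪ ↑T) = ⊤ :=
  ⟨Tset, Tset_card, Tset_refl, Hgen_top⟩

end Cfsg.Agent.Lib.Helper25.Cox.E7
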