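import Mathlib
import Cfsg.Agent.Lib.Helper25.CoxeterAct

set_option autoImplicit false
set_option maxRecDepth 100000
set_option linter.unusedVariables false

namespace Cfsg.Agent.Lib.Helper25.Cox.E8

open Cfsg.Agent.Lib.Helper25.Cox

abbrev Mx : CoxeterMatrix (Fin 8) := CoxeterMatrix.E₈
abbrev cs : CoxeterSystem Mx Mx.Group := Mx.toCoxeterSystem
def A : Matrix (Fin 8) (Fin 8) ℤ := !![2, 0, -1, 0, 0, 0, 0, 0; 0, 2, 0, -1, 0, 0, 0, 0; -1, 0, 2, -1, 0, 0, 0, 0; 0, -1, -1, 2, -1, 0, 0, 0; 0, 0, 0, -1, 2, -1, 0, 0; 0, 0, 0, 0, -1, 2, -1, 0; 0, 0, 0, 0, 0, -1, 2, -1; 0, 0, 0, 0, 0, 0, -1, 2]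
theorem hA : ∀ i, A i i = 2 := by decide
theorem hcompat : Compat Mx A := compat_of_B (by decide)
noncomputable def φ : Mx.Group →* Equiv.Perm (Fin 8 → ℤ) := actHom A cs hA hcompat
theorem hφ (i : Fin 8) : φ (cs.simple i) = reflEquiv A hA i := actHom_simple A cs hA hcompat i
def key (v : Fin 8 → ℤ) : ℤ := v 0 + 100 * v 1 + 10000 * v 2 + 1000000 * v 3 + 100000000 * v 4 + 10000000000 * v 5 + 1000000000000 * v 6 + 100000000000000 * v 7

def K0 : List (Fin 8) := []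
-- link 1: K = [0], N = 2
def K1 : List (Fin 8) := [0]
def word1 : ℕ → List (Fin 8) := fun x => ([[], [0]] : List (List (Fin 8))).getD x []
def tbl1 : ℕ → Fin 8 → ℕ := fun x j => (([[1, 0, 0, 0, 0, 0, 0, 0], [0, 0, 0, 0, 0, 0, 0, 0]] : List (List ℕ)).getD x []).getD j.val 0
def p1 : Fin 8 → ℤ := ![1, 0, 0, 0, 0, 0, 0, 0]
def keys1 : List ℤ := [1, 9999]
theorem v1_0_0 : V cs (par cs K0) (word1 0) 0 (word1 1) := V_tree cs _ (by decide)
theorem v1_1_0 : V cs (par cs K0) (word1 1) 0 (word1 0) := V_symm cs v1_0_0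
theorem row1_0 : ∀ j ∈ K1, tbl1 0 j < 2 ∧ V cs (par cs K0) (word1 0) j (word1 (tbl1 0 j)) := by
  intro j hj
  simp only [K1, List.mem_cons, List.not_mem_nil, or_false] at hj
  subst hj
  exact ⟨by decide, v1_0_0⟩
theorem row1_1 : ∀ j ∈ K1, tbl1 1 j < 2 ∧ V cs (par cs K0) (word1 1) j (word1 (tbl1 1 j)) := by
  intro j hj
  simp only [K1, List.mem_cons, List.not_mem_nil, or_false] at hj
  subst hj
  exact ⟨by decide, v1_1_0⟩
theorem htbl1 : ∀ x < 2, ∀ j ∈ K1, tbl1 x j < 2 ∧ V cs (par cs K0) (word1 x) j (word1 (tbl1 x j)) := by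
  intro x hx
  interval_cases x
  exacts [row1_0, row1_1]
theorem pt1_0 : φ (cs.wordProd (word1 0)) p1 = ![1, 0, 0, 0, 0, 0, 0, 0] := pt_base cs φ (by decide) _
theorem pt1_1 : φ (cs.wordProd (word1 1)) p1 = ![-1, 0, 1, 0, 0, 0, 0, 0] := pt_step A cs hA φ hφ (j := 0) (w := word1 0) (by decide) pt1_0 (by decide)
theorem key1_0 : key (φ (cs.wordProd (word1 0)) p1) = keys1.getD 0 0 := by rw [pt1_0]; decide
theorem key1_1 : key (φ (cs.wordProd (word1 1)) p1) = keys1.getD 1 0 := by rw [pt1_1]; decide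
theorem hkey1 : ∀ x < 2, key (φ (cs.wordProd (word1 x)) p1) = keys1.getD x 0 := by
  intro x hx
  interval_cases x
  exacts [key1_0, key1_1]
theorem card1 : Nat.card (par cs K1) = 2 * Nat.card (par cs K0) :=
  link_card cs φ p1 K0 K1 2 word1 tbl1 (by decide) (by decide) (by decide) (by decide) htbl1
    (fix_of_refl A cs hA φ hφ K0 p1 (by decide))
    (hdist_of_keys cs φ p1 word1 2 key keys1 (by decide) (by decide) hkey1)

-- link 2: K = [0, 2], N = 3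
def K2 : List (Fin 8) := [0, 2]
def word2 : ℕ → List (Fin 8) := fun x => ([[], [2], [0, 2]] : List (List (Fin 8))).getD x []
def tbl2 : ℕ → Fin 8 → ℕ := fun x j => (([[0, 0, 1, 0, 0, 0, 0, 0], [2, 0, 0, 0, 0, 0, 0, 0], [1, 0, 2, 0, 0, 0, 0, 0]] : List (List ℕ)).getD x []).getD j.val 0
def p2 : Fin 8 → ℤ := ![0, 0, 1, 0, 0, 0, 0, 0]
def keys2 : List ℤ := [10000, 990001, 999999]
theorem v2_0_2 : V cs (par cs K1) (word2 0) 2 (word2 1) := V_tree cs _ (by decide)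
theorem v2_1_2 : V cs (par cs K1) (word2 1) 2 (word2 0) := V_symm cs v2_0_2
theorem v2_1_0 : V cs (par cs K1) (word2 1) 0 (word2 2) := V_tree cs _ (by decide)
theorem v2_2_0 : V cs (par cs K1) (word2 2) 0 (word2 1) := V_symm cs v2_1_0
theorem v2_0_0 : V cs (par cs K1) (word2 0) 0 (word2 0) := V_base cs (by decide) (simple_mem_par cs (by decide))
theorem v2_2_2 : V cs (par cs K1) (word2 2) 2 (word2 2) := V_ded3 cs (a := 2) (b := 0) (by decide) v2_2_0 v2_1_2 v2_0_0 v2_0_2 v2_1_0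
theorem row2_0 : ∀ j ∈ K2, tbl2 0 j < 3 ∧ V cs (par cs K1) (word2 0) j (word2 (tbl2 0 j)) := by
  intro j hj
  simp only [K2, List.mem_cons, List.not_mem_nil, or_false] at hj
  rcases hj with rfl | rfl
  exacts [⟨by decide, v2_0_0⟩, ⟨by decide, v2_0_2⟩]
theorem row2_1 : ∀ j ∈ K2, tbl2 1 j < 3 ∧ V cs (par cs K1) (word2 1) j (word2 (tbl2 1 j)) := by
  intro j hj
  simp only [K2, List.mem_cons, List.not_mem_nil, or_false] at hj
  rcases hj with rfl | rfl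
  exacts [⟨by decide, v2_1_0⟩, ⟨by decide, v2_1_2⟩]
theorem row2_2 : ∀ j ∈ K2, tbl2 2 j < 3 ∧ V cs (par cs K1) (word2 2) j (word2 (tbl2 2 j)) := by
  intro j hj
  simp only [K2, List.mem_cons, List.not_mem_nil, or_false] at hj
  rcases hj with rfl | rfl
  exacts [⟨by decide, v2_2_0⟩, ⟨by decide, v2_2_2⟩]
theorem htbl2 : ∀ x < 3, ∀ j ∈ K2, tbl2 x j < 3 ∧ V cs (par cs K1) (word2 x) j (word2 (tbl2 x j)) := by
  intro x hx
  interval_cases x
  exacts [row2_0, row2_1, row2_2]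
theorem pt2_0 : φ (cs.wordProd (word2 0)) p2 = ![0, 0, 1, 0, 0, 0, 0, 0] := pt_base cs φ (by decide) _
theorem pt2_1 : φ (cs.wordProd (word2 1)) p2 = ![1, 0, -1, 1, 0, 0, 0, 0] := pt_step A cs hA φ hφ (j := 2) (w := word2 0) (by decide) pt2_0 (by decide)
theorem pt2_2 : φ (cs.wordProd (word2 2)) p2 = ![-1, 0, 0, 1, 0, 0, 0, 0] := pt_step A cs hA φ hφ (j := 0) (w := word2 1) (by decide) pt2_1 (by decide)
theorem key2_0 : key (φ (cs.wordProd (word2 0)) p2) = keys2.getD 0 0 := by rw [pt2_0]; decide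
theorem key2_1 : key (φ (cs.wordProd (word2 1)) p2) = keys2.getD 1 0 := by rw [pt2_1]; decide
theorem key2_2 : key (φ (cs.wordProd (word2 2)) p2) = keys2.getD 2 0 := by rw [pt2_2]; decide
theorem hkey2 : ∀ x < 3, key (φ (cs.wordProd (word2 x)) p2) = keys2.getD x 0 := by
  intro x hx
  interval_cases x
  exacts [key2_0, key2_1, key2_2]
theorem card2 : Nat.card (par cs K2) = 3 * Nat.card (par cs K1) :=
  link_card cs φ p2 K1 K2 3 word2 tbl2 (by decide) (by decide) (by decide) (by decide) htbl2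
    (fix_of_refl A cs hA φ hφ K1 p2 (by decide))
    (hdist_of_keys cs φ p2 word2 3 key keys2 (by decide) (by decide) hkey2)

-- link 3: K = [0, 2, 3], N = 4
def K3 : List (Fin 8) := [0, 2, 3]
def word3 : ℕ → List (Fin 8) := fun x => ([[], [3], [2, 3], [0, 2, 3]] : List (List (Fin 8))).getD x []
def tbl3 : ℕ → Fin 8 → ℕ := fun x j => (([[0, 0, 0, 1, 0, 0, 0, 0], [1, 0, 2, 0, 0, 0, 0, 0], [3, 0, 1, 2, 0, 0, 0, 0], [2, 0, 3, 3, 0, 0, 0, 0]] : List (List ℕ)).getD x []).getD j.val 0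
def p3 : Fin 8 → ℤ := ![0, 0, 0, 1, 0, 0, 0, 0]
def keys3 : List ℤ := [1000000, 99010100, 99990101, 100000099]
theorem v3_0_3 : V cs (par cs K2) (word3 0) 3 (word3 1) := V_tree cs _ (by decide)
theorem v3_1_3 : V cs (par cs K2) (word3 1) 3 (word3 0) := V_symm cs v3_0_3
theorem v3_1_2 : V cs (par cs K2) (word3 1) 2 (word3 2) := V_tree cs _ (by decide)
theorem v3_2_2 : V cs (par cs K2) (word3 2) 2 (word3 1) := V_symm cs v3_1_2
theorem v3_2_0 : V cs (par cs K2) (word3 2) 0 (word3 3) := V_tree cs _ (by decide)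
theorem v3_3_0 : V cs (par cs K2) (word3 3) 0 (word3 2) := V_symm cs v3_2_0
theorem v3_0_0 : V cs (par cs K2) (word3 0) 0 (word3 0) := V_base cs (by decide) (simple_mem_par cs (by decide))
theorem v3_0_2 : V cs (par cs K2) (word3 0) 2 (word3 0) := V_base cs (by decide) (simple_mem_par cs (by decide))
theorem v3_1_0 : V cs (par cs K2) (word3 1) 0 (word3 1) := V_ded2 cs (a := 0) (b := 3) (by decide) v3_1_3 v3_0_0 v3_0_3
theorem v3_3_2 : V cs (par cs K2) (word3 3) 2 (word3 3) := V_ded3 cs (a := 2) (b := 0) (by decide) v3_3_0 v3_2_2 v3_1_0 v3_1_2 v3_2_0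
theorem v3_2_3 : V cs (par cs K2) (word3 2) 3 (word3 2) := V_ded3 cs (a := 3) (b := 2) (by decide) v3_2_2 v3_1_3 v3_0_2 v3_0_3 v3_1_2
theorem v3_3_3 : V cs (par cs K2) (word3 3) 3 (word3 3) := V_ded2 cs (a := 3) (b := 0) (by decide) v3_3_0 v3_2_3 v3_2_0
theorem row3_0 : ∀ j ∈ K3, tbl3 0 j < 4 ∧ V cs (par cs K2) (word3 0) j (word3 (tbl3 0 j)) := by
  intro j hj
  simp only [K3, List.mem_cons, List.not_mem_nil, or_false] at hj
  rcases hj with rfl | rfl | rfl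
  exacts [⟨by decide, v3_0_0⟩, ⟨by decide, v3_0_2⟩, ⟨by decide, v3_0_3⟩]
theorem row3_1 : ∀ j ∈ K3, tbl3 1 j < 4 ∧ V cs (par cs K2) (word3 1) j (word3 (tbl3 1 j)) := by
  intro j hj
  simp only [K3, List.mem_cons, List.not_mem_nil, or_false] at hj
  rcases hj with rfl | rfl | rfl
  exacts [⟨by decide, v3_1_0⟩, ⟨by decide, v3_1_2⟩, ⟨by decide, v3_1_3⟩]
theorem row3_2 : ∀ j ∈ K3, tbl3 2 j < 4 ∧ V cs (par cs K2) (word3 2) j (word3 (tbl3 2 j)) := by
  intro j hj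
  simp only [K3, List.mem_cons, List.not_mem_nil, or_false] at hj
  rcases hj with rfl | rfl | rfl
  exacts [⟨by decide, v3_2_0⟩, ⟨by decide, v3_2_2⟩, ⟨by decide, v3_2_3⟩]
theorem row3_3 : ∀ j ∈ K3, tbl3 3 j < 4 ∧ V cs (par cs K2) (word3 3) j (word3 (tbl3 3 j)) := by
  intro j hj
  simp only [K3, List.mem_cons, List.not_mem_nil, or_false] at hj
  rcases hj with rfl | rfl | rfl
  exacts [⟨by decide, v3_3_0⟩, ⟨by decide, v3_3_2⟩, ⟨by decide, v3_3_3⟩]
theorem htbl3 : ∀ x < 4, ∀ j ∈ K3, tbl3 x j < 4 ∧ V cs (par cs K2) (word3 x) j (word3 (tbl3 x j)) := by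
  intro x hx
  interval_cases x
  exacts [row3_0, row3_1, row3_2, row3_3]
theorem pt3_0 : φ (cs.wordProd (word3 0)) p3 = ![0, 0, 0, 1, 0, 0, 0, 0] := pt_base cs φ (by decide) _
theorem pt3_1 : φ (cs.wordProd (word3 1)) p3 = ![0, 1, 1, -1, 1, 0, 0, 0] := pt_step A cs hA φ hφ (j := 3) (w := word3 0) (by decide) pt3_0 (by decide)
theorem pt3_2 : φ (cs.wordProd (word3 2)) p3 = ![1, 1, -1, 0, 1, 0, 0, 0] := pt_step A cs hA φ hφ (j := 2) (w := word3 1) (by decide) pt3_1 (by decide)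
theorem pt3_3 : φ (cs.wordProd (word3 3)) p3 = ![-1, 1, 0, 0, 1, 0, 0, 0] := pt_step A cs hA φ hφ (j := 0) (w := word3 2) (by decide) pt3_2 (by decide)
theorem key3_0 : key (φ (cs.wordProd (word3 0)) p3) = keys3.getD 0 0 := by rw [pt3_0]; decide
theorem key3_1 : key (φ (cs.wordProd (word3 1)) p3) = keys3.getD 1 0 := by rw [pt3_1]; decide
theorem key3_2 : key (φ (cs.wordProd (word3 2)) p3) = keys3.getD 2 0 := by rw [pt3_2]; decide
theorem key3_3 : key (φ (cs.wordProd (word3 3)) p3) = keys3.getD 3 0 := by rw [pt3_3]; decide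
theorem hkey3 : ∀ x < 4, key (φ (cs.wordProd (word3 x)) p3) = keys3.getD x 0 := by
  intro x hx
  interval_cases x
  exacts [key3_0, key3_1, key3_2, key3_3]
theorem card3 : Nat.card (par cs K3) = 4 * Nat.card (par cs K2) :=
  link_card cs φ p3 K2 K3 4 word3 tbl3 (by decide) (by decide) (by decide) (by decide) htbl3
    (fix_of_refl A cs hA φ hφ K2 p3 (by decide))
    (hdist_of_keys cs φ p3 word3 4 key keys3 (by decide) (by decide) hkey3)

-- link 4: K = [0, 2, 3, 1], N = 5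
def K4 : List (Fin 8) := [0, 2, 3, 1]
def word4 : ℕ → List (Fin 8) := fun x => ([[], [1], [3, 1], [2, 3, 1], [0, 2, 3, 1]] : List (List (Fin 8))).getD x []
def tbl4 : ℕ → Fin 8 → ℕ := fun x j => (([[0, 1, 0, 0, 0, 0, 0, 0], [1, 0, 1, 2, 0, 0, 0, 0], [2, 2, 3, 1, 0, 0, 0, 0], [4, 3, 2, 3, 0, 0, 0, 0], [3, 4, 4, 4, 0, 0, 0, 0]] : List (List ℕ)).getD x []).getD j.val 0
def p4 : Fin 8 → ℤ := ![0, 1, 0, 0, 0, 0, 0, 0]
def keys4 : List ℤ := [100, 999900, 99010000, 99990001, 99999999]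
theorem v4_0_1 : V cs (par cs K3) (word4 0) 1 (word4 1) := V_tree cs _ (by decide)
theorem v4_1_1 : V cs (par cs K3) (word4 1) 1 (word4 0) := V_symm cs v4_0_1
theorem v4_1_3 : V cs (par cs K3) (word4 1) 3 (word4 2) := V_tree cs _ (by decide)
theorem v4_2_3 : V cs (par cs K3) (word4 2) 3 (word4 1) := V_symm cs v4_1_3
theorem v4_2_2 : V cs (par cs K3) (word4 2) 2 (word4 3) := V_tree cs _ (by decide)
theorem v4_3_2 : V cs (par cs K3) (word4 3) 2 (word4 2) := V_symm cs v4_2_2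
theorem v4_3_0 : V cs (par cs K3) (word4 3) 0 (word4 4) := V_tree cs _ (by decide)
theorem v4_4_0 : V cs (par cs K3) (word4 4) 0 (word4 3) := V_symm cs v4_3_0
theorem v4_0_0 : V cs (par cs K3) (word4 0) 0 (word4 0) := V_base cs (by decide) (simple_mem_par cs (by decide))
theorem v4_0_2 : V cs (par cs K3) (word4 0) 2 (word4 0) := V_base cs (by decide) (simple_mem_par cs (by decide))
theorem v4_0_3 : V cs (par cs K3) (word4 0) 3 (word4 0) := V_base cs (by decide) (simple_mem_par cs (by decide))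
theorem v4_1_0 : V cs (par cs K3) (word4 1) 0 (word4 1) := V_ded2 cs (a := 0) (b := 1) (by decide) v4_1_1 v4_0_0 v4_0_1
theorem v4_1_2 : V cs (par cs K3) (word4 1) 2 (word4 1) := V_ded2 cs (a := 2) (b := 1) (by decide) v4_1_1 v4_0_2 v4_0_1
theorem v4_3_3 : V cs (par cs K3) (word4 3) 3 (word4 3) := V_ded3 cs (a := 3) (b := 2) (by decide) v4_3_2 v4_2_3 v4_1_2 v4_1_3 v4_2_2
theorem v4_2_1 : V cs (par cs K3) (word4 2) 1 (word4 2) := V_ded3 cs (a := 1) (b := 3) (by decide) v4_2_3 v4_1_1 v4_0_3 v4_0_1 v4_1_3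
theorem v4_2_0 : V cs (par cs K3) (word4 2) 0 (word4 2) := V_ded2 cs (a := 0) (b := 3) (by decide) v4_2_3 v4_1_0 v4_1_3
theorem v4_4_2 : V cs (par cs K3) (word4 4) 2 (word4 4) := V_ded3 cs (a := 2) (b := 0) (by decide) v4_4_0 v4_3_2 v4_2_0 v4_2_2 v4_3_0
theorem v4_4_3 : V cs (par cs K3) (word4 4) 3 (word4 4) := V_ded2 cs (a := 3) (b := 0) (by decide) v4_4_0 v4_3_3 v4_3_0
theorem v4_3_1 : V cs (par cs K3) (word4 3) 1 (word4 3) := V_ded2 cs (a := 1) (b := 2) (by decide) v4_3_2 v4_2_1 v4_2_2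
theorem v4_4_1 : V cs (par cs K3) (word4 4) 1 (word4 4) := V_ded2 cs (a := 1) (b := 0) (by decide) v4_4_0 v4_3_1 v4_3_0
theorem row4_0 : ∀ j ∈ K4, tbl4 0 j < 5 ∧ V cs (par cs K3) (word4 0) j (word4 (tbl4 0 j)) := by
  intro j hj
  simp only [K4, List.mem_cons, List.not_mem_nil, or_false] at hj
  rcases hj with rfl | rfl | rfl | rfl
  exacts [⟨by decide, v4_0_0⟩, ⟨by decide, v4_0_2⟩, ⟨by decide, v4_0_3⟩, ⟨by decide, v4_0_1⟩]
theorem row4_1 : ∀ j ∈ K4, tbl4 1 j < 5 ∧ V cs (par cs K3) (word4 1) j (word4 (tbl4 1 j)) := by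
  intro j hj
  simp only [K4, List.mem_cons, List.not_mem_nil, or_false] at hj
  rcases hj with rfl | rfl | rfl | rfl
  exacts [⟨by decide, v4_1_0⟩, ⟨by decide, v4_1_2⟩, ⟨by decide, v4_1_3⟩, ⟨by decide, v4_1_1⟩]
theorem row4_2 : ∀ j ∈ K4, tbl4 2 j < 5 ∧ V cs (par cs K3) (word4 2) j (word4 (tbl4 2 j)) := by
  intro j hj
  simp only [K4, List.mem_cons, List.not_mem_nil, or_false] at hj
  rcases hj with rfl | rfl | rfl | rfl
  exacts [⟨by decide, v4_2_0⟩, ⟨by decide, v4_2_2⟩, ⟨by decide, v4_2_3⟩, ⟨by decide, v4_2_1⟩]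
theorem row4_3 : ∀ j ∈ K4, tbl4 3 j < 5 ∧ V cs (par cs K3) (word4 3) j (word4 (tbl4 3 j)) := by
  intro j hj
  simp only [K4, List.mem_cons, List.not_mem_nil, or_false] at hj
  rcases hj with rfl | rfl | rfl | rfl
  exacts [⟨by decide, v4_3_0⟩, ⟨by decide, v4_3_2⟩, ⟨by decide, v4_3_3⟩, ⟨by decide, v4_3_1⟩]
theorem row4_4 : ∀ j ∈ K4, tbl4 4 j < 5 ∧ V cs (par cs K3) (word4 4) j (word4 (tbl4 4 j)) := by
  intro j hj
  simp only [K4, List.mem_cons, List.not_mem_nil, or_false] at hj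
  rcases hj with rfl | rfl | rfl | rfl
  exacts [⟨by decide, v4_4_0⟩, ⟨by decide, v4_4_2⟩, ⟨by decide, v4_4_3⟩, ⟨by decide, v4_4_1⟩]
theorem htbl4 : ∀ x < 5, ∀ j ∈ K4, tbl4 x j < 5 ∧ V cs (par cs K3) (word4 x) j (word4 (tbl4 x j)) := by
  intro x hx
  interval_cases x
  exacts [row4_0, row4_1, row4_2, row4_3, row4_4]
theorem pt4_0 : φ (cs.wordProd (word4 0)) p4 = ![0, 1, 0, 0, 0, 0, 0, 0] := pt_base cs φ (by decide) _
theorem pt4_1 : φ (cs.wordProd (word4 1)) p4 = ![0, -1, 0, 1, 0, 0, 0, 0] := pt_step A cs hA φ hφ (j := 1) (w := word4 0) (by decide) pt4_0 (by decide)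
theorem pt4_2 : φ (cs.wordProd (word4 2)) p4 = ![0, 0, 1, -1, 1, 0, 0, 0] := pt_step A cs hA φ hφ (j := 3) (w := word4 1) (by decide) pt4_1 (by decide)
theorem pt4_3 : φ (cs.wordProd (word4 3)) p4 = ![1, 0, -1, 0, 1, 0, 0, 0] := pt_step A cs hA φ hφ (j := 2) (w := word4 2) (by decide) pt4_2 (by decide)
theorem pt4_4 : φ (cs.wordProd (word4 4)) p4 = ![-1, 0, 0, 0, 1, 0, 0, 0] := pt_step A cs hA φ hφ (j := 0) (w := word4 3) (by decide) pt4_3 (by decide)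
theorem key4_0 : key (φ (cs.wordProd (word4 0)) p4) = keys4.getD 0 0 := by rw [pt4_0]; decide
theorem key4_1 : key (φ (cs.wordProd (word4 1)) p4) = keys4.getD 1 0 := by rw [pt4_1]; decide
theorem key4_2 : key (φ (cs.wordProd (word4 2)) p4) = keys4.getD 2 0 := by rw [pt4_2]; decide
theorem key4_3 : key (φ (cs.wordProd (word4 3)) p4) = keys4.getD 3 0 := by rw [pt4_3]; decide
theorem key4_4 : key (φ (cs.wordProd (word4 4)) p4) = keys4.getD 4 0 := by rw [pt4_4]; decide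
theorem hkey4 : ∀ x < 5, key (φ (cs.wordProd (word4 x)) p4) = keys4.getD x 0 := by
  intro x hx
  interval_cases x
  exacts [key4_0, key4_1, key4_2, key4_3, key4_4]
theorem card4 : Nat.card (par cs K4) = 5 * Nat.card (par cs K3) :=
  link_card cs φ p4 K3 K4 5 word4 tbl4 (by decide) (by decide) (by decide) (by decide) htbl4
    (fix_of_refl A cs hA φ hφ K3 p4 (by decide))
    (hdist_of_keys cs φ p4 word4 5 key keys4 (by decide) (by decide) hkey4)

-- link 5: K = [0, 2, 3, 1, 4], N = 16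
def K5 : List (Fin 8) := [0, 2, 3, 1, 4]
def word5 : ℕ → List (Fin 8) := fun x => ([[], [4], [3, 4], [2, 3, 4], [1, 3, 4], [0, 2, 3, 4], [1, 2, 3, 4], [1, 0, 2, 3, 4], [3, 1, 2, 3, 4], [3, 1, 0, 2, 3, 4], [4, 3, 1, 2, 3, 4], [2, 3, 1, 0, 2, 3, 4], [4, 3, 1, 0, 2, 3, 4], [4, 2, 3, 1, 0, 2, 3, 4], [3, 4, 2, 3, 1, 0, 2, 3, 4], [1, 3, 4, 2, 3, 1, 0, 2, 3, 4]] : List (List (Fin 8))).getD x []
def tbl5 : ℕ → Fin 8 → ℕ := fun x j => (([[0, 0, 0, 0, 1, 0, 0, 0], [1, 1, 1, 2, 0, 0, 0, 0], [2, 4, 3, 1, 2, 0, 0, 0], [5, 6, 2, 3, 3, 0, 0, 0], [4, 2, 6, 4, 4, 0, 0, 0], [3, 7, 5, 5, 5, 0, 0, 0], [7, 3, 4, 8, 6, 0, 0, 0], [6, 5, 7, 9, 7, 0, 0, 0], [9, 8, 8, 6, 10, 0, 0, 0], [8, 9, 11, 7, 12, 0, 0, 0], [12, 10, 10, 10, 8, 0, 0, 0], [11, 11, 9, 11, 13, 0, 0, 0], [10, 12, 13, 12, 9, 0, 0, 0], [13, 13, 12, 14, 11, 0, 0, 0], [14, 15, 14, 13, 14, 0, 0, 0], [15, 14, 15, 15, 15, 0, 0, 0]] : List (List ℕ)).getD x []).getD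 j.val 0
def p5 : Fin 8 → ℤ := ![0, 0, 0, 0, 1, 0, 0, 0]
def keys5 : List ℤ := [100000000, 9901000000, 9999010100, 9999990101, 10000009900, 10000000099, 10000989901, 10000999899, 10099000001, 10099009999, 19900000001, 10099990000, 19900009999, 19900990000, 19999000100, 19999999900]
theorem v5_0_4 : V cs (par cs K4) (word5 0) 4 (word5 1) := V_tree cs _ (by decide)
theorem v5_1_4 : V cs (par cs K4) (word5 1) 4 (word5 0) := V_symm cs v5_0_4
theorem v5_1_3 : V cs (par cs K4) (word5 1) 3 (word5 2) := V_tree cs _ (by decide)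
theorem v5_2_3 : V cs (par cs K4) (word5 2) 3 (word5 1) := V_symm cs v5_1_3
theorem v5_2_2 : V cs (par cs K4) (word5 2) 2 (word5 3) := V_tree cs _ (by decide)
theorem v5_3_2 : V cs (par cs K4) (word5 3) 2 (word5 2) := V_symm cs v5_2_2
theorem v5_2_1 : V cs (par cs K4) (word5 2) 1 (word5 4) := V_tree cs _ (by decide)
theorem v5_4_1 : V cs (par cs K4) (word5 4) 1 (word5 2) := V_symm cs v5_2_1
theorem v5_3_0 : V cs (par cs K4) (word5 3) 0 (word5 5) := V_tree cs _ (by decide)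
theorem v5_5_0 : V cs (par cs K4) (word5 5) 0 (word5 3) := V_symm cs v5_3_0
theorem v5_3_1 : V cs (par cs K4) (word5 3) 1 (word5 6) := V_tree cs _ (by decide)
theorem v5_6_1 : V cs (par cs K4) (word5 6) 1 (word5 3) := V_symm cs v5_3_1
theorem v5_5_1 : V cs (par cs K4) (word5 5) 1 (word5 7) := V_tree cs _ (by decide)
theorem v5_7_1 : V cs (par cs K4) (word5 7) 1 (word5 5) := V_symm cs v5_5_1
theorem v5_6_3 : V cs (par cs K4) (word5 6) 3 (word5 8) := V_tree cs _ (by decide)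
theorem v5_8_3 : V cs (par cs K4) (word5 8) 3 (word5 6) := V_symm cs v5_6_3
theorem v5_7_3 : V cs (par cs K4) (word5 7) 3 (word5 9) := V_tree cs _ (by decide)
theorem v5_9_3 : V cs (par cs K4) (word5 9) 3 (word5 7) := V_symm cs v5_7_3
theorem v5_8_4 : V cs (par cs K4) (word5 8) 4 (word5 10) := V_tree cs _ (by decide)
theorem v5_10_4 : V cs (par cs K4) (word5 10) 4 (word5 8) := V_symm cs v5_8_4
theorem v5_9_2 : V cs (par cs K4) (word5 9) 2 (word5 11) := V_tree cs _ (by decide)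
theorem v5_11_2 : V cs (par cs K4) (word5 11) 2 (word5 9) := V_symm cs v5_9_2
theorem v5_9_4 : V cs (par cs K4) (word5 9) 4 (word5 12) := V_tree cs _ (by decide)
theorem v5_12_4 : V cs (par cs K4) (word5 12) 4 (word5 9) := V_symm cs v5_9_4
theorem v5_11_4 : V cs (par cs K4) (word5 11) 4 (word5 13) := V_tree cs _ (by decide)
theorem v5_13_4 : V cs (par cs K4) (word5 13) 4 (word5 11) := V_symm cs v5_11_4
theorem v5_13_3 : V cs (par cs K4) (word5 13) 3 (word5 14) := V_tree cs _ (by decide)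
theorem v5_14_3 : V cs (par cs K4) (word5 14) 3 (word5 13) := V_symm cs v5_13_3
theorem v5_14_1 : V cs (par cs K4) (word5 14) 1 (word5 15) := V_tree cs _ (by decide)
theorem v5_15_1 : V cs (par cs K4) (word5 15) 1 (word5 14) := V_symm cs v5_14_1
theorem v5_0_0 : V cs (par cs K4) (word5 0) 0 (word5 0) := V_base cs (by decide) (simple_mem_par cs (by decide))
theorem v5_0_2 : V cs (par cs K4) (word5 0) 2 (word5 0) := V_base cs (by decide) (simple_mem_par cs (by decide))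
theorem v5_0_3 : V cs (par cs K4) (word5 0) 3 (word5 0) := V_base cs (by decide) (simple_mem_par cs (by decide))
theorem v5_0_1 : V cs (par cs K4) (word5 0) 1 (word5 0) := V_base cs (by decide) (simple_mem_par cs (by decide))
theorem v5_7_0 : V cs (par cs K4) (word5 7) 0 (word5 6) := V_ded2 cs (a := 0) (b := 1) (by decide) v5_6_1 v5_3_0 v5_5_1
theorem v5_6_0 : V cs (par cs K4) (word5 6) 0 (word5 7) := V_symm cs v5_7_0
theorem v5_1_0 : V cs (par cs K4) (word5 1) 0 (word5 1) := V_ded2 cs (a := 0) (b := 4) (by decide) v5_1_4 v5_0_0 v5_0_4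
theorem v5_6_2 : V cs (par cs K4) (word5 6) 2 (word5 4) := V_ded2 cs (a := 2) (b := 1) (by decide) v5_4_1 v5_2_2 v5_3_1
theorem v5_4_2 : V cs (par cs K4) (word5 4) 2 (word5 6) := V_symm cs v5_6_2
theorem v5_1_2 : V cs (par cs K4) (word5 1) 2 (word5 1) := V_ded2 cs (a := 2) (b := 4) (by decide) v5_1_4 v5_0_2 v5_0_4
theorem v5_13_2 : V cs (par cs K4) (word5 13) 2 (word5 12) := V_ded2 cs (a := 2) (b := 4) (by decide) v5_12_4 v5_9_2 v5_11_4
theorem v5_12_2 : V cs (par cs K4) (word5 12) 2 (word5 13) := V_symm cs v5_13_2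
theorem v5_3_3 : V cs (par cs K4) (word5 3) 3 (word5 3) := V_ded3 cs (a := 3) (b := 2) (by decide) v5_3_2 v5_2_3 v5_1_2 v5_1_3 v5_2_2
theorem v5_8_1 : V cs (par cs K4) (word5 8) 1 (word5 8) := V_ded3 cs (a := 1) (b := 3) (by decide) v5_8_3 v5_6_1 v5_3_3 v5_3_1 v5_6_3
theorem v5_1_1 : V cs (par cs K4) (word5 1) 1 (word5 1) := V_ded2 cs (a := 1) (b := 4) (by decide) v5_1_4 v5_0_1 v5_0_4
theorem v5_10_1 : V cs (par cs K4) (word5 10) 1 (word5 10) := V_ded2 cs (a := 1) (b := 4) (by decide) v5_10_4 v5_8_1 v5_8_4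
theorem v5_2_4 : V cs (par cs K4) (word5 2) 4 (word5 2) := V_ded3 cs (a := 4) (b := 3) (by decide) v5_2_3 v5_1_4 v5_0_3 v5_0_4 v5_1_3
theorem v5_4_4 : V cs (par cs K4) (word5 4) 4 (word5 4) := V_ded2 cs (a := 4) (b := 1) (by decide) v5_4_1 v5_2_4 v5_2_1
theorem v5_2_0 : V cs (par cs K4) (word5 2) 0 (word5 2) := V_ded2 cs (a := 0) (b := 3) (by decide) v5_2_3 v5_1_0 v5_1_3
theorem v5_9_0 : V cs (par cs K4) (word5 9) 0 (word5 8) := V_ded2 cs (a := 0) (b := 3) (by decide) v5_8_3 v5_6_0 v5_7_3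
theorem v5_8_0 : V cs (par cs K4) (word5 8) 0 (word5 9) := V_symm cs v5_9_0
theorem v5_4_0 : V cs (par cs K4) (word5 4) 0 (word5 4) := V_ded2 cs (a := 0) (b := 1) (by decide) v5_4_1 v5_2_0 v5_2_1
theorem v5_12_0 : V cs (par cs K4) (word5 12) 0 (word5 10) := V_ded2 cs (a := 0) (b := 4) (by decide) v5_10_4 v5_8_0 v5_9_4
theorem v5_10_0 : V cs (par cs K4) (word5 10) 0 (word5 12) := V_symm cs v5_12_0
theorem v5_5_2 : V cs (par cs K4) (word5 5) 2 (word5 5) := V_ded3 cs (a := 2) (b := 0) (by decide) v5_5_0 v5_3_2 v5_2_0 v5_2_2 v5_3_0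
theorem v5_7_2 : V cs (par cs K4) (word5 7) 2 (word5 7) := V_ded3 cs (a := 2) (b := 0) (by decide) v5_7_0 v5_6_2 v5_4_0 v5_4_2 v5_6_0
theorem v5_5_3 : V cs (par cs K4) (word5 5) 3 (word5 5) := V_ded2 cs (a := 3) (b := 0) (by decide) v5_5_0 v5_3_3 v5_3_0
theorem v5_11_3 : V cs (par cs K4) (word5 11) 3 (word5 11) := V_ded3 cs (a := 3) (b := 2) (by decide) v5_11_2 v5_9_3 v5_7_2 v5_7_3 v5_9_2
theorem v5_4_3 : V cs (par cs K4) (word5 4) 3 (word5 4) := V_ded3 cs (a := 3) (b := 1) (by decide) v5_4_1 v5_2_3 v5_1_1 v5_1_3 v5_2_1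
theorem v5_9_1 : V cs (par cs K4) (word5 9) 1 (word5 9) := V_ded2 cs (a := 1) (b := 0) (by decide) v5_9_0 v5_8_1 v5_8_0
theorem v5_12_1 : V cs (par cs K4) (word5 12) 1 (word5 12) := V_ded2 cs (a := 1) (b := 0) (by decide) v5_12_0 v5_10_1 v5_10_0
theorem v5_11_1 : V cs (par cs K4) (word5 11) 1 (word5 11) := V_ded2 cs (a := 1) (b := 2) (by decide) v5_11_2 v5_9_1 v5_9_2
theorem v5_13_1 : V cs (par cs K4) (word5 13) 1 (word5 13) := V_ded2 cs (a := 1) (b := 2) (by decide) v5_13_2 v5_12_1 v5_12_2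
theorem v5_3_4 : V cs (par cs K4) (word5 3) 4 (word5 3) := V_ded2 cs (a := 4) (b := 2) (by decide) v5_3_2 v5_2_4 v5_2_2
theorem v5_6_4 : V cs (par cs K4) (word5 6) 4 (word5 6) := V_ded2 cs (a := 4) (b := 2) (by decide) v5_6_2 v5_4_4 v5_4_2
theorem v5_14_4 : V cs (par cs K4) (word5 14) 4 (word5 14) := V_ded3 cs (a := 4) (b := 3) (by decide) v5_14_3 v5_13_4 v5_11_3 v5_11_4 v5_13_3
theorem v5_15_4 : V cs (par cs K4) (word5 15) 4 (word5 15) := V_ded2 cs (a := 4) (b := 1) (by decide) v5_15_1 v5_14_4 v5_14_1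
theorem v5_8_2 : V cs (par cs K4) (word5 8) 2 (word5 8) := V_ded3 cs (a := 2) (b := 3) (by decide) v5_8_3 v5_6_2 v5_4_3 v5_4_2 v5_6_3
theorem v5_10_2 : V cs (par cs K4) (word5 10) 2 (word5 10) := V_ded2 cs (a := 2) (b := 4) (by decide) v5_10_4 v5_8_2 v5_8_4
theorem v5_15_3 : V cs (par cs K4) (word5 15) 3 (word5 15) := V_ded3 cs (a := 3) (b := 1) (by decide) v5_15_1 v5_14_3 v5_13_1 v5_13_3 v5_14_1
theorem v5_10_3 : V cs (par cs K4) (word5 10) 3 (word5 10) := V_ded3 cs (a := 3) (b := 4) (by decide) v5_10_4 v5_8_3 v5_6_4 v5_6_3 v5_8_4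
theorem v5_5_4 : V cs (par cs K4) (word5 5) 4 (word5 5) := V_ded2 cs (a := 4) (b := 0) (by decide) v5_5_0 v5_3_4 v5_3_0
theorem v5_7_4 : V cs (par cs K4) (word5 7) 4 (word5 7) := V_ded2 cs (a := 4) (b := 0) (by decide) v5_7_0 v5_6_4 v5_6_0
theorem v5_11_0 : V cs (par cs K4) (word5 11) 0 (word5 11) := V_ded3 cs (a := 0) (b := 2) (by decide) v5_11_2 v5_9_0 v5_8_2 v5_8_0 v5_9_2
theorem v5_13_0 : V cs (par cs K4) (word5 13) 0 (word5 13) := V_ded3 cs (a := 0) (b := 2) (by decide) v5_13_2 v5_12_0 v5_10_2 v5_10_0 v5_12_2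
theorem v5_14_0 : V cs (par cs K4) (word5 14) 0 (word5 14) := V_ded2 cs (a := 0) (b := 3) (by decide) v5_14_3 v5_13_0 v5_13_3
theorem v5_15_0 : V cs (par cs K4) (word5 15) 0 (word5 15) := V_ded2 cs (a := 0) (b := 1) (by decide) v5_15_1 v5_14_0 v5_14_1
theorem v5_12_3 : V cs (par cs K4) (word5 12) 3 (word5 12) := V_ded2 cs (a := 3) (b := 0) (by decide) v5_12_0 v5_10_3 v5_10_0
theorem v5_14_2 : V cs (par cs K4) (word5 14) 2 (word5 14) := V_ded3 cs (a := 2) (b := 3) (by decide) v5_14_3 v5_13_2 v5_12_3 v5_12_2 v5_13_3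
theorem v5_15_2 : V cs (par cs K4) (word5 15) 2 (word5 15) := V_ded2 cs (a := 2) (b := 1) (by decide) v5_15_1 v5_14_2 v5_14_1
theorem row5_0 : ∀ j ∈ K5, tbl5 0 j < 16 ∧ V cs (par cs K4) (word5 0) j (word5 (tbl5 0 j)) := by
  intro j hj
  simp only [K5, List.mem_cons, List.not_mem_nil, or_false] at hj
  rcases hj with rfl | rfl | rfl | rfl | rfl
  exacts [⟨by decide, v5_0_0⟩, ⟨by decide, v5_0_2⟩, ⟨by decide, v5_0_3⟩, ⟨by decide, v5_0_1⟩, ⟨by decide, v5_0_4⟩]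
theorem row5_1 : ∀ j ∈ K5, tbl5 1 j < 16 ∧ V cs (par cs K4) (word5 1) j (word5 (tbl5 1 j)) := by
  intro j hj
  simp only [K5, List.mem_cons, List.not_mem_nil, or_false] at hj
  rcases hj with rfl | rfl | rfl | rfl | rfl
  exacts [⟨by decide, v5_1_0⟩, ⟨by decide, v5_1_2⟩, ⟨by decide, v5_1_3⟩, ⟨by decide, v5_1_1⟩, ⟨by decide, v5_1_4⟩]
theorem row5_2 : ∀ j ∈ K5, tbl5 2 j < 16 ∧ V cs (par cs K4) (word5 2) j (word5 (tbl5 2 j)) := by
  intro j hj
  simp only [K5, List.mem_cons, List.not_mem_nil, or_false] at hj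
  rcases hj with rfl | rfl | rfl | rfl | rfl
  exacts [⟨by decide, v5_2_0⟩, ⟨by decide, v5_2_2⟩, ⟨by decide, v5_2_3⟩, ⟨by decide, v5_2_1⟩, ⟨by decide, v5_2_4⟩]
theorem row5_3 : ∀ j ∈ K5, tbl5 3 j < 16 ∧ V cs (par cs K4) (word5 3) j (word5 (tbl5 3 j)) := by
  intro j hj
  simp only [K5, List.mem_cons, List.not_mem_nil, or_false] at hj
  rcases hj with rfl | rfl | rfl | rfl | rfl
  exacts [⟨by decide, v5_3_0⟩, ⟨by decide, v5_3_2⟩, ⟨by decide, v5_3_3⟩, ⟨by decide, v5_3_1⟩, ⟨by decide, v5_3_4⟩]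
theorem row5_4 : ∀ j ∈ K5, tbl5 4 j < 16 ∧ V cs (par cs K4) (word5 4) j (word5 (tbl5 4 j)) := by
  intro j hj
  simp only [K5, List.mem_cons, List.not_mem_nil, or_false] at hj
  rcases hj with rfl | rfl | rfl | rfl | rfl
  exacts [⟨by decide, v5_4_0⟩, ⟨by decide, v5_4_2⟩, ⟨by decide, v5_4_3⟩, ⟨by decide, v5_4_1⟩, ⟨by decide, v5_4_4⟩]
theorem row5_5 : ∀ j ∈ K5, tbl5 5 j < 16 ∧ V cs (par cs K4) (word5 5) j (word5 (tbl5 5 j)) := by
  intro j hj
  simp only [K5, List.mem_cons, List.not_mem_nil, or_false] at hj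
  rcases hj with rfl | rfl | rfl | rfl | rfl
  exacts [⟨by decide, v5_5_0⟩, ⟨by decide, v5_5_2⟩, ⟨by decide, v5_5_3⟩, ⟨by decide, v5_5_1⟩, ⟨by decide, v5_5_4⟩]
theorem row5_6 : ∀ j ∈ K5, tbl5 6 j < 16 ∧ V cs (par cs K4) (word5 6) j (word5 (tbl5 6 j)) := by
  intro j hj
  simp only [K5, List.mem_cons, List.not_mem_nil, or_false] at hj
  rcases hj with rfl | rfl | rfl | rfl | rfl
  exacts [⟨by decide, v5_6_0⟩, ⟨by decide, v5_6_2⟩, ⟨by decide, v5_6_3⟩, ⟨by decide, v5_6_1⟩, ⟨by decide, v5_6_4⟩]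
theorem row5_7 : ∀ j ∈ K5, tbl5 7 j < 16 ∧ V cs (par cs K4) (word5 7) j (word5 (tbl5 7 j)) := by
  intro j hj
  simp only [K5, List.mem_cons, List.not_mem_nil, or_false] at hj
  rcases hj with rfl | rfl | rfl | rfl | rfl
  exacts [⟨by decide, v5_7_0⟩, ⟨by decide, v5_7_2⟩, ⟨by decide, v5_7_3⟩, ⟨by decide, v5_7_1⟩, ⟨by decide, v5_7_4⟩]
theorem row5_8 : ∀ j ∈ K5, tbl5 8 j < 16 ∧ V cs (par cs K4) (word5 8) j (word5 (tbl5 8 j)) := by
  intro j hj
  simp only [K5, List.mem_cons, List.not_mem_nil, or_false] at hj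
  rcases hj with rfl | rfl | rfl | rfl | rfl
  exacts [⟨by decide, v5_8_0⟩, ⟨by decide, v5_8_2⟩, ⟨by decide, v5_8_3⟩, ⟨by decide, v5_8_1⟩, ⟨by decide, v5_8_4⟩]
theorem row5_9 : ∀ j ∈ K5, tbl5 9 j < 16 ∧ V cs (par cs K4) (word5 9) j (word5 (tbl5 9 j)) := by
  intro j hj
  simp only [K5, List.mem_cons, List.not_mem_nil, or_false] at hj
  rcases hj with rfl | rfl | rfl | rfl | rfl
  exacts [⟨by decide, v5_9_0⟩, ⟨by decide, v5_9_2⟩, ⟨by decide, v5_9_3⟩, ⟨by decide, v5_9_1⟩, ⟨by decide, v5_9_4⟩]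
theorem row5_10 : ∀ j ∈ K5, tbl5 10 j < 16 ∧ V cs (par cs K4) (word5 10) j (word5 (tbl5 10 j)) := by
  intro j hj
  simp only [K5, List.mem_cons, List.not_mem_nil, or_false] at hj
  rcases hj with rfl | rfl | rfl | rfl | rfl
  exacts [⟨by decide, v5_10_0⟩, ⟨by decide, v5_10_2⟩, ⟨by decide, v5_10_3⟩, ⟨by decide, v5_10_1⟩, ⟨by decide, v5_10_4⟩]
theorem row5_11 : ∀ j ∈ K5, tbl5 11 j < 16 ∧ V cs (par cs K4) (word5 11) j (word5 (tbl5 11 j)) := by
  intro j hj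
  simp only [K5, List.mem_cons, List.not_mem_nil, or_false] at hj
  rcases hj with rfl | rfl | rfl | rfl | rfl
  exacts [⟨by decide, v5_11_0⟩, ⟨by decide, v5_11_2⟩, ⟨by decide, v5_11_3⟩, ⟨by decide, v5_11_1⟩, ⟨by decide, v5_11_4⟩]
theorem row5_12 : ∀ j ∈ K5, tbl5 12 j < 16 ∧ V cs (par cs K4) (word5 12) j (word5 (tbl5 12 j)) := by
  intro j hj
  simp only [K5, List.mem_cons, List.not_mem_nil, or_false] at hj
  rcases hj with rfl | rfl | rfl | rfl | rfl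
  exacts [⟨by decide, v5_12_0⟩, ⟨by decide, v5_12_2⟩, ⟨by decide, v5_12_3⟩, ⟨by decide, v5_12_1⟩, ⟨by decide, v5_12_4⟩]
theorem row5_13 : ∀ j ∈ K5, tbl5 13 j < 16 ∧ V cs (par cs K4) (word5 13) j (word5 (tbl5 13 j)) := by
  intro j hj
  simp only [K5, List.mem_cons, List.not_mem_nil, or_false] at hj
  rcases hj with rfl | rfl | rfl | rfl | rfl
  exacts [⟨by decide, v5_13_0⟩, ⟨by decide, v5_13_2⟩, ⟨by decide, v5_13_3⟩, ⟨by decide, v5_13_1⟩, ⟨by decide, v5_13_4⟩]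
theorem row5_14 : ∀ j ∈ K5, tbl5 14 j < 16 ∧ V cs (par cs K4) (word5 14) j (word5 (tbl5 14 j)) := by
  intro j hj
  simp only [K5, List.mem_cons, List.not_mem_nil, or_false] at hj
  rcases hj with rfl | rfl | rfl | rfl | rfl
  exacts [⟨by decide, v5_14_0⟩, ⟨by decide, v5_14_2⟩, ⟨by decide, v5_14_3⟩, ⟨by decide, v5_14_1⟩, ⟨by decide, v5_14_4⟩]
theorem row5_15 : ∀ j ∈ K5, tbl5 15 j < 16 ∧ V cs (par cs K4) (word5 15) j (word5 (tbl5 15 j)) := by
  intro j hj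
  simp only [K5, List.mem_cons, List.not_mem_nil, or_false] at hj
  rcases hj with rfl | rfl | rfl | rfl | rfl
  exacts [⟨by decide, v5_15_0⟩, ⟨by decide, v5_15_2⟩, ⟨by decide, v5_15_3⟩, ⟨by decide, v5_15_1⟩, ⟨by decide, v5_15_4⟩]
theorem htbl5 : ∀ x < 16, ∀ j ∈ K5, tbl5 x j < 16 ∧ V cs (par cs K4) (word5 x) j (word5 (tbl5 x j)) := by
  intro x hx
  interval_cases x
  exacts [row5_0, row5_1, row5_2, row5_3, row5_4, row5_5, row5_6, row5_7, row5_8, row5_9, row5_10, row5_11, row5_12, row5_13, row5_14, row5_15]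
theorem pt5_0 : φ (cs.wordProd (word5 0)) p5 = ![0, 0, 0, 0, 1, 0, 0, 0] := pt_base cs φ (by decide) _
theorem pt5_1 : φ (cs.wordProd (word5 1)) p5 = ![0, 0, 0, 1, -1, 1, 0, 0] := pt_step A cs hA φ hφ (j := 4) (w := word5 0) (by decide) pt5_0 (by decide)
theorem pt5_2 : φ (cs.wordProd (word5 2)) p5 = ![0, 1, 1, -1, 0, 1, 0, 0] := pt_step A cs hA φ hφ (j := 3) (w := word5 1) (by decide) pt5_1 (by decide)
theorem pt5_3 : φ (cs.wordProd (word5 3)) p5 = ![1, 1, -1, 0, 0, 1, 0, 0] := pt_step A cs hA φ hφ (j := 2) (w := word5 2) (by decide) pt5_2 (by decide)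
theorem pt5_4 : φ (cs.wordProd (word5 4)) p5 = ![0, -1, 1, 0, 0, 1, 0, 0] := pt_step A cs hA φ hφ (j := 1) (w := word5 2) (by decide) pt5_2 (by decide)
theorem pt5_5 : φ (cs.wordProd (word5 5)) p5 = ![-1, 1, 0, 0, 0, 1, 0, 0] := pt_step A cs hA φ hφ (j := 0) (w := word5 3) (by decide) pt5_3 (by decide)
theorem pt5_6 : φ (cs.wordProd (word5 6)) p5 = ![1, -1, -1, 1, 0, 1, 0, 0] := pt_step A cs hA φ hφ (j := 1) (w := word5 3) (by decide) pt5_3 (by decide)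
theorem pt5_7 : φ (cs.wordProd (word5 7)) p5 = ![-1, -1, 0, 1, 0, 1, 0, 0] := pt_step A cs hA φ hφ (j := 1) (w := word5 5) (by decide) pt5_5 (by decide)
theorem pt5_8 : φ (cs.wordProd (word5 8)) p5 = ![1, 0, 0, -1, 1, 1, 0, 0] := pt_step A cs hA φ hφ (j := 3) (w := word5 6) (by decide) pt5_6 (by decide)
theorem pt5_9 : φ (cs.wordProd (word5 9)) p5 = ![-1, 0, 1, -1, 1, 1, 0, 0] := pt_step A cs hA φ hφ (j := 3) (w := word5 7) (by decide) pt5_7 (by decide)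
theorem pt5_10 : φ (cs.wordProd (word5 10)) p5 = ![1, 0, 0, 0, -1, 2, 0, 0] := pt_step A cs hA φ hφ (j := 4) (w := word5 8) (by decide) pt5_8 (by decide)
theorem pt5_11 : φ (cs.wordProd (word5 11)) p5 = ![0, 0, -1, 0, 1, 1, 0, 0] := pt_step A cs hA φ hφ (j := 2) (w := word5 9) (by decide) pt5_9 (by decide)
theorem pt5_12 : φ (cs.wordProd (word5 12)) p5 = ![-1, 0, 1, 0, -1, 2, 0, 0] := pt_step A cs hA φ hφ (j := 4) (w := word5 9) (by decide) pt5_9 (by decide)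
theorem pt5_13 : φ (cs.wordProd (word5 13)) p5 = ![0, 0, -1, 1, -1, 2, 0, 0] := pt_step A cs hA φ hφ (j := 4) (w := word5 11) (by decide) pt5_11 (by decide)
theorem pt5_14 : φ (cs.wordProd (word5 14)) p5 = ![0, 1, 0, -1, 0, 2, 0, 0] := pt_step A cs hA φ hφ (j := 3) (w := word5 13) (by decide) pt5_13 (by decide)
theorem pt5_15 : φ (cs.wordProd (word5 15)) p5 = ![0, -1, 0, 0, 0, 2, 0, 0] := pt_step A cs hA φ hφ (j := 1) (w := word5 14) (by decide) pt5_14 (by decide)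
theorem key5_0 : key (φ (cs.wordProd (word5 0)) p5) = keys5.getD 0 0 := by rw [pt5_0]; decide
theorem key5_1 : key (φ (cs.wordProd (word5 1)) p5) = keys5.getD 1 0 := by rw [pt5_1]; decide
theorem key5_2 : key (φ (cs.wordProd (word5 2)) p5) = keys5.getD 2 0 := by rw [pt5_2]; decide
theorem key5_3 : key (φ (cs.wordProd (word5 3)) p5) = keys5.getD 3 0 := by rw [pt5_3]; decide
theorem key5_4 : key (φ (cs.wordProd (word5 4)) p5) = keys5.getD 4 0 := by rw [pt5_4]; decide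
theorem key5_5 : key (φ (cs.wordProd (word5 5)) p5) = keys5.getD 5 0 := by rw [pt5_5]; decide
theorem key5_6 : key (φ (cs.wordProd (word5 6)) p5) = keys5.getD 6 0 := by rw [pt5_6]; decide
theorem key5_7 : key (φ (cs.wordProd (word5 7)) p5) = keys5.getD 7 0 := by rw [pt5_7]; decide
theorem key5_8 : key (φ (cs.wordProd (word5 8)) p5) = keys5.getD 8 0 := by rw [pt5_8]; decide
theorem key5_9 : key (φ (cs.wordProd (word5 9)) p5) = keys5.getD 9 0 := by rw [pt5_9]; decide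
theorem key5_10 : key (φ (cs.wordProd (word5 10)) p5) = keys5.getD 10 0 := by rw [pt5_10]; decide
theorem key5_11 : key (φ (cs.wordProd (word5 11)) p5) = keys5.getD 11 0 := by rw [pt5_11]; decide
theorem key5_12 : key (φ (cs.wordProd (word5 12)) p5) = keys5.getD 12 0 := by rw [pt5_12]; decide
theorem key5_13 : key (φ (cs.wordProd (word5 13)) p5) = keys5.getD 13 0 := by rw [pt5_13]; decide
theorem key5_14 : key (φ (cs.wordProd (word5 14)) p5) = keys5.getD 14 0 := by rw [pt5_14]; decide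
theorem key5_15 : key (φ (cs.wordProd (word5 15)) p5) = keys5.getD 15 0 := by rw [pt5_15]; decide
theorem hkey5 : ∀ x < 16, key (φ (cs.wordProd (word5 x)) p5) = keys5.getD x 0 := by
  intro x hx
  interval_cases x
  exacts [key5_0, key5_1, key5_2, key5_3, key5_4, key5_5, key5_6, key5_7, key5_8, key5_9, key5_10, key5_11, key5_12, key5_13, key5_14, key5_15]
theorem card5 : Nat.card (par cs K5) = 16 * Nat.card (par cs K4) :=
  link_card cs φ p5 K4 K5 16 word5 tbl5 (by decide) (by decide) (by decide) (by decide) htbl5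
    (fix_of_refl A cs hA φ hφ K4 p5 (by decide))
    (hdist_of_keys cs φ p5 word5 16 key keys5 (by decide) (by decide) hkey5)

-- link 6: K = [0, 2, 3, 1, 4, 5], N = 27
def K6 : List (Fin 8) := [0, 2, 3, 1, 4, 5]
def word6 : ℕ → List (Fin 8) := fun x => ([[], [5], [4, 5], [3, 4, 5], [2, 3, 4, 5], [1, 3, 4, 5], [0, 2, 3, 4, 5], [1, 2, 3, 4, 5], [1, 0, 2, 3, 4, 5], [3, 1, 2, 3, 4, 5], [3, 1, 0, 2, 3, 4, 5], [4, 3, 1, 2, 3, 4, 5], [2, 3, 1, 0, 2, 3, 4, 5], [4, 3, 1, 0, 2, 3, 4, 5], [5, 4, 3, 1, 2, 3, 4, 5], [4, 2, 3, 1, 0, 2, 3, 4, 5], [5, 4, 3, 1, 0, 2, 3, 4, 5], [3, 4, 2, 3, 1, 0, 2, 3, 4, 5], [5, 4, 2, 3, 1, 0, 2, 3, 4, 5], [1, 3, 4, 2, 3, 1, 0, 2, 3, 4, 5], [5, 3, 4, 2, 3, 1, 0, 2, 3, 4, 5], [5, 1, 3, 4, 2, 3, 1, 0, 2, 3, 4, 5], [4, 5, 3, 4, 2, 3, 1, 0, 2, 3, 4, 5], [4, 5, 1, 3, 4, 2, 3, 1, 0, 2, 3, 4, 5], [3, 4, 5, 1, 3, 4, 2, 3, 1, 0, 2, 3, 4, 5], [2, 3, 4, 5, 1, 3, 4, 2, 3, 1, 0, 2, 3, 4, 5],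 [0, 2, 3, 4, 5, 1, 3, 4, 2, 3, 1, 0, 2, 3, 4, 5]] : List (List (Fin 8))).getD x []
def tbl6 : ℕ → Fin 8 → ℕ := fun x j => (([[0, 0, 0, 0, 0, 1, 0, 0], [1, 1, 1, 1, 2, 0, 0, 0], [2, 2, 2, 3, 1, 2, 0, 0], [3, 5, 4, 2, 3, 3, 0, 0], [6, 7, 3, 4, 4, 4, 0, 0], [5, 3, 7, 5, 5, 5, 0, 0], [4, 8, 6, 6, 6, 6, 0, 0], [8, 4, 5, 9, 7, 7, 0, 0], [7, 6, 8, 10, 8, 8, 0, 0], [10, 9, 9, 7, 11, 9, 0, 0], [9, 10, 12, 8, 13, 10, 0, 0], [13, 11, 11, 11, 9, 14, 0, 0], [12, 12, 10, 12, 15, 12, 0, 0], [11, 13, 15, 13, 10, 16, 0, 0], [16, 14, 14, 14, 14, 11, 0, 0], [15, 15, 13, 17, 12, 18, 0, 0], [14, 16, 18, 16, 16, 13, 0, 0], [17, 19, 17, 15, 17, 20, 0, 0], [18, 18, 16, 20, 18, 15, 0, 0], [19, 17, 19, 19, 19, 21, 0, 0], [20, 21, 20, 18, 22, 17, 0, 0], [21, 20, 21, 21, 23, 19, 0, 0], [22, 23, 22, 22, 20, 22, 0, 0], [23, 22, 23, 24, 21, 23, 0, 0], [24, 24, 25, 23, 24, 24, 0, 0], [26, 25, 24, 25, 25, 25, 0, 0], [25, 26, 26,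 26, 26, 26, 0, 0]] : List (List ℕ)).getD x []).getD j.val 0
def p6 : Fin 8 → ℤ := ![0, 0, 0, 0, 0, 1, 0, 0]
def keys6 : List ℤ := [10000000000, 990100000000, 999901000000, 999999010100, 999999990101, 1000000009900, 1000000000099, 1000000989901, 1000000999899, 1000099000001, 1000099009999, 1009900000001, 1000099990000, 1009900009999, 1990000000001, 1009900990000, 1990000009999, 1009999000100, 1990000990000, 1009999999900, 1990099000100, 1990099999900, 1999900000100, 1999900999900, 1999999010000, 1999999990001, 1999999999999]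
theorem v6_0_5 : V cs (par cs K5) (word6 0) 5 (word6 1) := V_tree cs _ (by decide)
theorem v6_1_5 : V cs (par cs K5) (word6 1) 5 (word6 0) := V_symm cs v6_0_5
theorem v6_1_4 : V cs (par cs K5) (word6 1) 4 (word6 2) := V_tree cs _ (by decide)
theorem v6_2_4 : V cs (par cs K5) (word6 2) 4 (word6 1) := V_symm cs v6_1_4
theorem v6_2_3 : V cs (par cs K5) (word6 2) 3 (word6 3) := V_tree cs _ (by decide)
theorem v6_3_3 : V cs (par cs K5) (word6 3) 3 (word6 2) := V_symm cs v6_2_3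
theorem v6_3_2 : V cs (par cs K5) (word6 3) 2 (word6 4) := V_tree cs _ (by decide)
theorem v6_4_2 : V cs (par cs K5) (word6 4) 2 (word6 3) := V_symm cs v6_3_2
theorem v6_3_1 : V cs (par cs K5) (word6 3) 1 (word6 5) := V_tree cs _ (by decide)
theorem v6_5_1 : V cs (par cs K5) (word6 5) 1 (word6 3) := V_symm cs v6_3_1
theorem v6_4_0 : V cs (par cs K5) (word6 4) 0 (word6 6) := V_tree cs _ (by decide)
theorem v6_6_0 : V cs (par cs K5) (word6 6) 0 (word6 4) := V_symm cs v6_4_0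
theorem v6_4_1 : V cs (par cs K5) (word6 4) 1 (word6 7) := V_tree cs _ (by decide)
theorem v6_7_1 : V cs (par cs K5) (word6 7) 1 (word6 4) := V_symm cs v6_4_1
theorem v6_6_1 : V cs (par cs K5) (word6 6) 1 (word6 8) := V_tree cs _ (by decide)
theorem v6_8_1 : V cs (par cs K5) (word6 8) 1 (word6 6) := V_symm cs v6_6_1
theorem v6_7_3 : V cs (par cs K5) (word6 7) 3 (word6 9) := V_tree cs _ (by decide)
theorem v6_9_3 : V cs (par cs K5) (word6 9) 3 (word6 7) := V_symm cs v6_7_3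
theorem v6_8_3 : V cs (par cs K5) (word6 8) 3 (word6 10) := V_tree cs _ (by decide)
theorem v6_10_3 : V cs (par cs K5) (word6 10) 3 (word6 8) := V_symm cs v6_8_3
theorem v6_9_4 : V cs (par cs K5) (word6 9) 4 (word6 11) := V_tree cs _ (by decide)
theorem v6_11_4 : V cs (par cs K5) (word6 11) 4 (word6 9) := V_symm cs v6_9_4
theorem v6_10_2 : V cs (par cs K5) (word6 10) 2 (word6 12) := V_tree cs _ (by decide)
theorem v6_12_2 : V cs (par cs K5) (word6 12) 2 (word6 10) := V_symm cs v6_10_2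
theorem v6_10_4 : V cs (par cs K5) (word6 10) 4 (word6 13) := V_tree cs _ (by decide)
theorem v6_13_4 : V cs (par cs K5) (word6 13) 4 (word6 10) := V_symm cs v6_10_4
theorem v6_11_5 : V cs (par cs K5) (word6 11) 5 (word6 14) := V_tree cs _ (by decide)
theorem v6_14_5 : V cs (par cs K5) (word6 14) 5 (word6 11) := V_symm cs v6_11_5
theorem v6_12_4 : V cs (par cs K5) (word6 12) 4 (word6 15) := V_tree cs _ (by decide)
theorem v6_15_4 : V cs (par cs K5) (word6 15) 4 (word6 12) := V_symm cs v6_12_4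
theorem v6_13_5 : V cs (par cs K5) (word6 13) 5 (word6 16) := V_tree cs _ (by decide)
theorem v6_16_5 : V cs (par cs K5) (word6 16) 5 (word6 13) := V_symm cs v6_13_5
theorem v6_15_3 : V cs (par cs K5) (word6 15) 3 (word6 17) := V_tree cs _ (by decide)
theorem v6_17_3 : V cs (par cs K5) (word6 17) 3 (word6 15) := V_symm cs v6_15_3
theorem v6_15_5 : V cs (par cs K5) (word6 15) 5 (word6 18) := V_tree cs _ (by decide)
theorem v6_18_5 : V cs (par cs K5) (word6 18) 5 (word6 15) := V_symm cs v6_15_5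
theorem v6_17_1 : V cs (par cs K5) (word6 17) 1 (word6 19) := V_tree cs _ (by decide)
theorem v6_19_1 : V cs (par cs K5) (word6 19) 1 (word6 17) := V_symm cs v6_17_1
theorem v6_17_5 : V cs (par cs K5) (word6 17) 5 (word6 20) := V_tree cs _ (by decide)
theorem v6_20_5 : V cs (par cs K5) (word6 20) 5 (word6 17) := V_symm cs v6_17_5
theorem v6_19_5 : V cs (par cs K5) (word6 19) 5 (word6 21) := V_tree cs _ (by decide)
theorem v6_21_5 : V cs (par cs K5) (word6 21) 5 (word6 19) := V_symm cs v6_19_5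
theorem v6_20_4 : V cs (par cs K5) (word6 20) 4 (word6 22) := V_tree cs _ (by decide)
theorem v6_22_4 : V cs (par cs K5) (word6 22) 4 (word6 20) := V_symm cs v6_20_4
theorem v6_21_4 : V cs (par cs K5) (word6 21) 4 (word6 23) := V_tree cs _ (by decide)
theorem v6_23_4 : V cs (par cs K5) (word6 23) 4 (word6 21) := V_symm cs v6_21_4
theorem v6_23_3 : V cs (par cs K5) (word6 23) 3 (word6 24) := V_tree cs _ (by decide)
theorem v6_24_3 : V cs (par cs K5) (word6 24) 3 (word6 23) := V_symm cs v6_23_3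
theorem v6_24_2 : V cs (par cs K5) (word6 24) 2 (word6 25) := V_tree cs _ (by decide)
theorem v6_25_2 : V cs (par cs K5) (word6 25) 2 (word6 24) := V_symm cs v6_24_2
theorem v6_25_0 : V cs (par cs K5) (word6 25) 0 (word6 26) := V_tree cs _ (by decide)
theorem v6_26_0 : V cs (par cs K5) (word6 26) 0 (word6 25) := V_symm cs v6_25_0
theorem v6_0_0 : V cs (par cs K5) (word6 0) 0 (word6 0) := V_base cs (by decide) (simple_mem_par cs (by decide))
theorem v6_0_2 : V cs (par cs K5) (word6 0) 2 (word6 0) := V_base cs (by decide) (simple_mem_par cs (by decide))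
theorem v6_0_3 : V cs (par cs K5) (word6 0) 3 (word6 0) := V_base cs (by decide) (simple_mem_par cs (by decide))
theorem v6_0_1 : V cs (par cs K5) (word6 0) 1 (word6 0) := V_base cs (by decide) (simple_mem_par cs (by decide))
theorem v6_0_4 : V cs (par cs K5) (word6 0) 4 (word6 0) := V_base cs (by decide) (simple_mem_par cs (by decide))
theorem v6_8_0 : V cs (par cs K5) (word6 8) 0 (word6 7) := V_ded2 cs (a := 0) (b := 1) (by decide) v6_7_1 v6_4_0 v6_6_1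
theorem v6_7_0 : V cs (par cs K5) (word6 7) 0 (word6 8) := V_symm cs v6_8_0
theorem v6_1_0 : V cs (par cs K5) (word6 1) 0 (word6 1) := V_ded2 cs (a := 0) (b := 5) (by decide) v6_1_5 v6_0_0 v6_0_5
theorem v6_7_2 : V cs (par cs K5) (word6 7) 2 (word6 5) := V_ded2 cs (a := 2) (b := 1) (by decide) v6_5_1 v6_3_2 v6_4_1
theorem v6_5_2 : V cs (par cs K5) (word6 5) 2 (word6 7) := V_symm cs v6_7_2
theorem v6_15_2 : V cs (par cs K5) (word6 15) 2 (word6 13) := V_ded2 cs (a := 2) (b := 4) (by decide) v6_13_4 v6_10_2 v6_12_4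
theorem v6_13_2 : V cs (par cs K5) (word6 13) 2 (word6 15) := V_symm cs v6_15_2
theorem v6_1_2 : V cs (par cs K5) (word6 1) 2 (word6 1) := V_ded2 cs (a := 2) (b := 5) (by decide) v6_1_5 v6_0_2 v6_0_5
theorem v6_18_2 : V cs (par cs K5) (word6 18) 2 (word6 16) := V_ded2 cs (a := 2) (b := 5) (by decide) v6_16_5 v6_13_2 v6_15_5
theorem v6_16_2 : V cs (par cs K5) (word6 16) 2 (word6 18) := V_symm cs v6_18_2
theorem v6_1_3 : V cs (par cs K5) (word6 1) 3 (word6 1) := V_ded2 cs (a := 3) (b := 5) (by decide) v6_1_5 v6_0_3 v6_0_5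
theorem v6_20_3 : V cs (par cs K5) (word6 20) 3 (word6 18) := V_ded2 cs (a := 3) (b := 5) (by decide) v6_18_5 v6_15_3 v6_17_5
theorem v6_18_3 : V cs (par cs K5) (word6 18) 3 (word6 20) := V_symm cs v6_20_3
theorem v6_1_1 : V cs (par cs K5) (word6 1) 1 (word6 1) := V_ded2 cs (a := 1) (b := 5) (by decide) v6_1_5 v6_0_1 v6_0_5
theorem v6_21_1 : V cs (par cs K5) (word6 21) 1 (word6 20) := V_ded2 cs (a := 1) (b := 5) (by decide) v6_20_5 v6_17_1 v6_19_5
theorem v6_20_1 : V cs (par cs K5) (word6 20) 1 (word6 21) := V_symm cs v6_21_1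
theorem v6_3_4 : V cs (par cs K5) (word6 3) 4 (word6 3) := V_ded3 cs (a := 4) (b := 3) (by decide) v6_3_3 v6_2_4 v6_1_3 v6_1_4 v6_2_3
theorem v6_5_4 : V cs (par cs K5) (word6 5) 4 (word6 5) := V_ded2 cs (a := 4) (b := 1) (by decide) v6_5_1 v6_3_4 v6_3_1
theorem v6_2_5 : V cs (par cs K5) (word6 2) 5 (word6 2) := V_ded3 cs (a := 5) (b := 4) (by decide) v6_2_4 v6_1_5 v6_0_4 v6_0_5 v6_1_4
theorem v6_10_0 : V cs (par cs K5) (word6 10) 0 (word6 9) := V_ded2 cs (a := 0) (b := 3) (by decide) v6_9_3 v6_7_0 v6_8_3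
theorem v6_9_0 : V cs (par cs K5) (word6 9) 0 (word6 10) := V_symm cs v6_10_0
theorem v6_2_0 : V cs (par cs K5) (word6 2) 0 (word6 2) := V_ded2 cs (a := 0) (b := 4) (by decide) v6_2_4 v6_1_0 v6_1_4
theorem v6_13_0 : V cs (par cs K5) (word6 13) 0 (word6 11) := V_ded2 cs (a := 0) (b := 4) (by decide) v6_11_4 v6_9_0 v6_10_4
theorem v6_11_0 : V cs (par cs K5) (word6 11) 0 (word6 13) := V_symm cs v6_13_0
theorem v6_16_0 : V cs (par cs K5) (word6 16) 0 (word6 14) := V_ded2 cs (a := 0) (b := 5) (by decide) v6_14_5 v6_11_0 v6_13_5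
theorem v6_14_0 : V cs (par cs K5) (word6 14) 0 (word6 16) := V_symm cs v6_16_0
theorem v6_2_2 : V cs (par cs K5) (word6 2) 2 (word6 2) := V_ded2 cs (a := 2) (b := 4) (by decide) v6_2_4 v6_1_2 v6_1_4
theorem v6_4_3 : V cs (par cs K5) (word6 4) 3 (word6 4) := V_ded3 cs (a := 3) (b := 2) (by decide) v6_4_2 v6_3_3 v6_2_2 v6_2_3 v6_3_2
theorem v6_9_1 : V cs (par cs K5) (word6 9) 1 (word6 9) := V_ded3 cs (a := 1) (b := 3) (by decide) v6_9_3 v6_7_1 v6_4_3 v6_4_1 v6_7_3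
theorem v6_2_1 : V cs (par cs K5) (word6 2) 1 (word6 2) := V_ded2 cs (a := 1) (b := 4) (by decide) v6_2_4 v6_1_1 v6_1_4
theorem v6_11_1 : V cs (par cs K5) (word6 11) 1 (word6 11) := V_ded2 cs (a := 1) (b := 4) (by decide) v6_11_4 v6_9_1 v6_9_4
theorem v6_23_1 : V cs (par cs K5) (word6 23) 1 (word6 22) := V_ded2 cs (a := 1) (b := 4) (by decide) v6_22_4 v6_20_1 v6_21_4
theorem v6_22_1 : V cs (par cs K5) (word6 22) 1 (word6 23) := V_symm cs v6_23_1
theorem v6_14_1 : V cs (par cs K5) (word6 14) 1 (word6 14) := V_ded2 cs (a := 1) (b := 5) (by decide) v6_14_5 v6_11_1 v6_11_5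
theorem v6_4_4 : V cs (par cs K5) (word6 4) 4 (word6 4) := V_ded2 cs (a := 4) (b := 2) (by decide) v6_4_2 v6_3_4 v6_3_2
theorem v6_7_4 : V cs (par cs K5) (word6 7) 4 (word6 7) := V_ded2 cs (a := 4) (b := 2) (by decide) v6_7_2 v6_5_4 v6_5_2
theorem v6_3_5 : V cs (par cs K5) (word6 3) 5 (word6 3) := V_ded2 cs (a := 5) (b := 3) (by decide) v6_3_3 v6_2_5 v6_2_3
theorem v6_5_5 : V cs (par cs K5) (word6 5) 5 (word6 5) := V_ded2 cs (a := 5) (b := 1) (by decide) v6_5_1 v6_3_5 v6_3_1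
theorem v6_3_0 : V cs (par cs K5) (word6 3) 0 (word6 3) := V_ded2 cs (a := 0) (b := 3) (by decide) v6_3_3 v6_2_0 v6_2_3
theorem v6_5_0 : V cs (par cs K5) (word6 5) 0 (word6 5) := V_ded2 cs (a := 0) (b := 1) (by decide) v6_5_1 v6_3_0 v6_3_1
theorem v6_6_2 : V cs (par cs K5) (word6 6) 2 (word6 6) := V_ded3 cs (a := 2) (b := 0) (by decide) v6_6_0 v6_4_2 v6_3_0 v6_3_2 v6_4_0
theorem v6_8_2 : V cs (par cs K5) (word6 8) 2 (word6 8) := V_ded3 cs (a := 2) (b := 0) (by decide) v6_8_0 v6_7_2 v6_5_0 v6_5_2 v6_7_0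
theorem v6_6_3 : V cs (par cs K5) (word6 6) 3 (word6 6) := V_ded2 cs (a := 3) (b := 0) (by decide) v6_6_0 v6_4_3 v6_4_0
theorem v6_12_3 : V cs (par cs K5) (word6 12) 3 (word6 12) := V_ded3 cs (a := 3) (b := 2) (by decide) v6_12_2 v6_10_3 v6_8_2 v6_8_3 v6_10_2
theorem v6_5_3 : V cs (par cs K5) (word6 5) 3 (word6 5) := V_ded3 cs (a := 3) (b := 1) (by decide) v6_5_1 v6_3_3 v6_2_1 v6_2_3 v6_3_1
theorem v6_11_3 : V cs (par cs K5) (word6 11) 3 (word6 11) := V_ded3 cs (a := 3) (b := 4) (by decide) v6_11_4 v6_9_3 v6_7_4 v6_7_3 v6_9_4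
theorem v6_14_3 : V cs (par cs K5) (word6 14) 3 (word6 14) := V_ded2 cs (a := 3) (b := 5) (by decide) v6_14_5 v6_11_3 v6_11_5
theorem v6_10_1 : V cs (par cs K5) (word6 10) 1 (word6 10) := V_ded2 cs (a := 1) (b := 0) (by decide) v6_10_0 v6_9_1 v6_9_0
theorem v6_13_1 : V cs (par cs K5) (word6 13) 1 (word6 13) := V_ded2 cs (a := 1) (b := 0) (by decide) v6_13_0 v6_11_1 v6_11_0
theorem v6_16_1 : V cs (par cs K5) (word6 16) 1 (word6 16) := V_ded2 cs (a := 1) (b := 0) (by decide) v6_16_0 v6_14_1 v6_14_0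
theorem v6_12_1 : V cs (par cs K5) (word6 12) 1 (word6 12) := V_ded2 cs (a := 1) (b := 2) (by decide) v6_12_2 v6_10_1 v6_10_2
theorem v6_15_1 : V cs (par cs K5) (word6 15) 1 (word6 15) := V_ded2 cs (a := 1) (b := 2) (by decide) v6_15_2 v6_13_1 v6_13_2
theorem v6_18_1 : V cs (par cs K5) (word6 18) 1 (word6 18) := V_ded2 cs (a := 1) (b := 2) (by decide) v6_18_2 v6_16_1 v6_16_2
theorem v6_6_4 : V cs (par cs K5) (word6 6) 4 (word6 6) := V_ded2 cs (a := 4) (b := 0) (by decide) v6_6_0 v6_4_4 v6_4_0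
theorem v6_8_4 : V cs (par cs K5) (word6 8) 4 (word6 8) := V_ded2 cs (a := 4) (b := 0) (by decide) v6_8_0 v6_7_4 v6_7_0
theorem v6_17_4 : V cs (par cs K5) (word6 17) 4 (word6 17) := V_ded3 cs (a := 4) (b := 3) (by decide) v6_17_3 v6_15_4 v6_12_3 v6_12_4 v6_15_3
theorem v6_19_4 : V cs (par cs K5) (word6 19) 4 (word6 19) := V_ded2 cs (a := 4) (b := 1) (by decide) v6_19_1 v6_17_4 v6_17_1
theorem v6_4_5 : V cs (par cs K5) (word6 4) 5 (word6 4) := V_ded2 cs (a := 5) (b := 2) (by decide) v6_4_2 v6_3_5 v6_3_2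
theorem v6_7_5 : V cs (par cs K5) (word6 7) 5 (word6 7) := V_ded2 cs (a := 5) (b := 2) (by decide) v6_7_2 v6_5_5 v6_5_2
theorem v6_9_5 : V cs (par cs K5) (word6 9) 5 (word6 9) := V_ded2 cs (a := 5) (b := 3) (by decide) v6_9_3 v6_7_5 v6_7_3
theorem v6_22_5 : V cs (par cs K5) (word6 22) 5 (word6 22) := V_ded3 cs (a := 5) (b := 4) (by decide) v6_22_4 v6_20_5 v6_17_4 v6_17_5 v6_20_4
theorem v6_23_5 : V cs (par cs K5) (word6 23) 5 (word6 23) := V_ded3 cs (a := 5) (b := 4) (by decide) v6_23_4 v6_21_5 v6_19_4 v6_19_5 v6_21_4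
theorem v6_9_2 : V cs (par cs K5) (word6 9) 2 (word6 9) := V_ded3 cs (a := 2) (b := 3) (by decide) v6_9_3 v6_7_2 v6_5_3 v6_5_2 v6_7_3
theorem v6_11_2 : V cs (par cs K5) (word6 11) 2 (word6 11) := V_ded2 cs (a := 2) (b := 4) (by decide) v6_11_4 v6_9_2 v6_9_4
theorem v6_14_2 : V cs (par cs K5) (word6 14) 2 (word6 14) := V_ded2 cs (a := 2) (b := 5) (by decide) v6_14_5 v6_11_2 v6_11_5
theorem v6_13_3 : V cs (par cs K5) (word6 13) 3 (word6 13) := V_ded2 cs (a := 3) (b := 0) (by decide) v6_13_0 v6_11_3 v6_11_0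
theorem v6_16_3 : V cs (par cs K5) (word6 16) 3 (word6 16) := V_ded2 cs (a := 3) (b := 0) (by decide) v6_16_0 v6_14_3 v6_14_0
theorem v6_19_3 : V cs (par cs K5) (word6 19) 3 (word6 19) := V_ded3 cs (a := 3) (b := 1) (by decide) v6_19_1 v6_17_3 v6_15_1 v6_15_3 v6_17_1
theorem v6_21_3 : V cs (par cs K5) (word6 21) 3 (word6 21) := V_ded3 cs (a := 3) (b := 1) (by decide) v6_21_1 v6_20_3 v6_18_1 v6_18_3 v6_20_1
theorem v6_24_4 : V cs (par cs K5) (word6 24) 4 (word6 24) := V_ded3 cs (a := 4) (b := 3) (by decide) v6_24_3 v6_23_4 v6_21_3 v6_21_4 v6_23_3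
theorem v6_14_4 : V cs (par cs K5) (word6 14) 4 (word6 14) := V_ded3 cs (a := 4) (b := 5) (by decide) v6_14_5 v6_11_4 v6_9_5 v6_9_4 v6_11_5
theorem v6_6_5 : V cs (par cs K5) (word6 6) 5 (word6 6) := V_ded2 cs (a := 5) (b := 0) (by decide) v6_6_0 v6_4_5 v6_4_0
theorem v6_8_5 : V cs (par cs K5) (word6 8) 5 (word6 8) := V_ded2 cs (a := 5) (b := 0) (by decide) v6_8_0 v6_7_5 v6_7_0
theorem v6_10_5 : V cs (par cs K5) (word6 10) 5 (word6 10) := V_ded2 cs (a := 5) (b := 0) (by decide) v6_10_0 v6_9_5 v6_9_0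
theorem v6_12_5 : V cs (par cs K5) (word6 12) 5 (word6 12) := V_ded2 cs (a := 5) (b := 2) (by decide) v6_12_2 v6_10_5 v6_10_2
theorem v6_24_5 : V cs (par cs K5) (word6 24) 5 (word6 24) := V_ded2 cs (a := 5) (b := 3) (by decide) v6_24_3 v6_23_5 v6_23_3
theorem v6_12_0 : V cs (par cs K5) (word6 12) 0 (word6 12) := V_ded3 cs (a := 0) (b := 2) (by decide) v6_12_2 v6_10_0 v6_9_2 v6_9_0 v6_10_2
theorem v6_15_0 : V cs (par cs K5) (word6 15) 0 (word6 15) := V_ded3 cs (a := 0) (b := 2) (by decide) v6_15_2 v6_13_0 v6_11_2 v6_11_0 v6_13_2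
theorem v6_18_0 : V cs (par cs K5) (word6 18) 0 (word6 18) := V_ded3 cs (a := 0) (b := 2) (by decide) v6_18_2 v6_16_0 v6_14_2 v6_14_0 v6_16_2
theorem v6_17_0 : V cs (par cs K5) (word6 17) 0 (word6 17) := V_ded2 cs (a := 0) (b := 3) (by decide) v6_17_3 v6_15_0 v6_15_3
theorem v6_20_0 : V cs (par cs K5) (word6 20) 0 (word6 20) := V_ded2 cs (a := 0) (b := 3) (by decide) v6_20_3 v6_18_0 v6_18_3
theorem v6_19_0 : V cs (par cs K5) (word6 19) 0 (word6 19) := V_ded2 cs (a := 0) (b := 1) (by decide) v6_19_1 v6_17_0 v6_17_1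
theorem v6_21_0 : V cs (par cs K5) (word6 21) 0 (word6 21) := V_ded2 cs (a := 0) (b := 1) (by decide) v6_21_1 v6_20_0 v6_20_1
theorem v6_22_0 : V cs (par cs K5) (word6 22) 0 (word6 22) := V_ded2 cs (a := 0) (b := 4) (by decide) v6_22_4 v6_20_0 v6_20_4
theorem v6_23_0 : V cs (par cs K5) (word6 23) 0 (word6 23) := V_ded2 cs (a := 0) (b := 4) (by decide) v6_23_4 v6_21_0 v6_21_4
theorem v6_17_2 : V cs (par cs K5) (word6 17) 2 (word6 17) := V_ded3 cs (a := 2) (b := 3) (by decide) v6_17_3 v6_15_2 v6_13_3 v6_13_2 v6_15_3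
theorem v6_20_2 : V cs (par cs K5) (word6 20) 2 (word6 20) := V_ded3 cs (a := 2) (b := 3) (by decide) v6_20_3 v6_18_2 v6_16_3 v6_16_2 v6_18_3
theorem v6_19_2 : V cs (par cs K5) (word6 19) 2 (word6 19) := V_ded2 cs (a := 2) (b := 1) (by decide) v6_19_1 v6_17_2 v6_17_1
theorem v6_21_2 : V cs (par cs K5) (word6 21) 2 (word6 21) := V_ded2 cs (a := 2) (b := 1) (by decide) v6_21_1 v6_20_2 v6_20_1
theorem v6_22_2 : V cs (par cs K5) (word6 22) 2 (word6 22) := V_ded2 cs (a := 2) (b := 4) (by decide) v6_22_4 v6_20_2 v6_20_4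
theorem v6_23_2 : V cs (par cs K5) (word6 23) 2 (word6 23) := V_ded2 cs (a := 2) (b := 4) (by decide) v6_23_4 v6_21_2 v6_21_4
theorem v6_25_3 : V cs (par cs K5) (word6 25) 3 (word6 25) := V_ded3 cs (a := 3) (b := 2) (by decide) v6_25_2 v6_24_3 v6_23_2 v6_23_3 v6_24_2
theorem v6_16_4 : V cs (par cs K5) (word6 16) 4 (word6 16) := V_ded2 cs (a := 4) (b := 0) (by decide) v6_16_0 v6_14_4 v6_14_0
theorem v6_18_4 : V cs (par cs K5) (word6 18) 4 (word6 18) := V_ded2 cs (a := 4) (b := 2) (by decide) v6_18_2 v6_16_4 v6_16_2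
theorem v6_25_4 : V cs (par cs K5) (word6 25) 4 (word6 25) := V_ded2 cs (a := 4) (b := 2) (by decide) v6_25_2 v6_24_4 v6_24_2
theorem v6_25_5 : V cs (par cs K5) (word6 25) 5 (word6 25) := V_ded2 cs (a := 5) (b := 2) (by decide) v6_25_2 v6_24_5 v6_24_2
theorem v6_24_0 : V cs (par cs K5) (word6 24) 0 (word6 24) := V_ded2 cs (a := 0) (b := 3) (by decide) v6_24_3 v6_23_0 v6_23_3
theorem v6_26_2 : V cs (par cs K5) (word6 26) 2 (word6 26) := V_ded3 cs (a := 2) (b := 0) (by decide) v6_26_0 v6_25_2 v6_24_0 v6_24_2 v6_25_0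
theorem v6_26_3 : V cs (par cs K5) (word6 26) 3 (word6 26) := V_ded2 cs (a := 3) (b := 0) (by decide) v6_26_0 v6_25_3 v6_25_0
theorem v6_22_3 : V cs (par cs K5) (word6 22) 3 (word6 22) := V_ded3 cs (a := 3) (b := 4) (by decide) v6_22_4 v6_20_3 v6_18_4 v6_18_3 v6_20_4
theorem v6_24_1 : V cs (par cs K5) (word6 24) 1 (word6 24) := V_ded3 cs (a := 1) (b := 3) (by decide) v6_24_3 v6_23_1 v6_22_3 v6_22_1 v6_23_3
theorem v6_26_4 : V cs (par cs K5) (word6 26) 4 (word6 26) := V_ded2 cs (a := 4) (b := 0) (by decide) v6_26_0 v6_25_4 v6_25_0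
theorem v6_26_5 : V cs (par cs K5) (word6 26) 5 (word6 26) := V_ded2 cs (a := 5) (b := 0) (by decide) v6_26_0 v6_25_5 v6_25_0
theorem v6_25_1 : V cs (par cs K5) (word6 25) 1 (word6 25) := V_ded2 cs (a := 1) (b := 2) (by decide) v6_25_2 v6_24_1 v6_24_2
theorem v6_26_1 : V cs (par cs K5) (word6 26) 1 (word6 26) := V_ded2 cs (a := 1) (b := 0) (by decide) v6_26_0 v6_25_1 v6_25_0
theorem row6_0 : ∀ j ∈ K6, tbl6 0 j < 27 ∧ V cs (par cs K5) (word6 0) j (word6 (tbl6 0 j)) := by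
  intro j hj
  simp only [K6, List.mem_cons, List.not_mem_nil, or_false] at hj
  rcases hj with rfl | rfl | rfl | rfl | rfl | rfl
  exacts [⟨by decide, v6_0_0⟩, ⟨by decide, v6_0_2⟩, ⟨by decide, v6_0_3⟩, ⟨by decide, v6_0_1⟩, ⟨by decide, v6_0_4⟩, ⟨by decide, v6_0_5⟩]
theorem row6_1 : ∀ j ∈ K6, tbl6 1 j < 27 ∧ V cs (par cs K5) (word6 1) j (word6 (tbl6 1 j)) := by
  intro j hj
  simp only [K6, List.mem_cons, List.not_mem_nil, or_false] at hj
  rcases hj with rfl | rfl | rfl | rfl | rfl | rfl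
  exacts [⟨by decide, v6_1_0⟩, ⟨by decide, v6_1_2⟩, ⟨by decide, v6_1_3⟩, ⟨by decide, v6_1_1⟩, ⟨by decide, v6_1_4⟩, ⟨by decide, v6_1_5⟩]
theorem row6_2 : ∀ j ∈ K6, tbl6 2 j < 27 ∧ V cs (par cs K5) (word6 2) j (word6 (tbl6 2 j)) := by
  intro j hj
  simp only [K6, List.mem_cons, List.not_mem_nil, or_false] at hj
  rcases hj with rfl | rfl | rfl | rfl | rfl | rfl
  exacts [⟨by decide, v6_2_0⟩, ⟨by decide, v6_2_2⟩, ⟨by decide, v6_2_3⟩, ⟨by decide, v6_2_1⟩, ⟨by decide, v6_2_4⟩, ⟨by decide, v6_2_5⟩]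
theorem row6_3 : ∀ j ∈ K6, tbl6 3 j < 27 ∧ V cs (par cs K5) (word6 3) j (word6 (tbl6 3 j)) := by
  intro j hj
  simp only [K6, List.mem_cons, List.not_mem_nil, or_false] at hj
  rcases hj with rfl | rfl | rfl | rfl | rfl | rfl
  exacts [⟨by decide, v6_3_0⟩, ⟨by decide, v6_3_2⟩, ⟨by decide, v6_3_3⟩, ⟨by decide, v6_3_1⟩, ⟨by decide, v6_3_4⟩, ⟨by decide, v6_3_5⟩]
theorem row6_4 : ∀ j ∈ K6, tbl6 4 j < 27 ∧ V cs (par cs K5) (word6 4) j (word6 (tbl6 4 j)) := by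
  intro j hj
  simp only [K6, List.mem_cons, List.not_mem_nil, or_false] at hj
  rcases hj with rfl | rfl | rfl | rfl | rfl | rfl
  exacts [⟨by decide, v6_4_0⟩, ⟨by decide, v6_4_2⟩, ⟨by decide, v6_4_3⟩, ⟨by decide, v6_4_1⟩, ⟨by decide, v6_4_4⟩, ⟨by decide, v6_4_5⟩]
theorem row6_5 : ∀ j ∈ K6, tbl6 5 j < 27 ∧ V cs (par cs K5) (word6 5) j (word6 (tbl6 5 j)) := by
  intro j hj
  simp only [K6, List.mem_cons, List.not_mem_nil, or_false] at hj
  rcases hj with rfl | rfl | rfl | rfl | rfl | rfl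
  exacts [⟨by decide, v6_5_0⟩, ⟨by decide, v6_5_2⟩, ⟨by decide, v6_5_3⟩, ⟨by decide, v6_5_1⟩, ⟨by decide, v6_5_4⟩, ⟨by decide, v6_5_5⟩]
theorem row6_6 : ∀ j ∈ K6, tbl6 6 j < 27 ∧ V cs (par cs K5) (word6 6) j (word6 (tbl6 6 j)) := by
  intro j hj
  simp only [K6, List.mem_cons, List.not_mem_nil, or_false] at hj
  rcases hj with rfl | rfl | rfl | rfl | rfl | rfl
  exacts [⟨by decide, v6_6_0⟩, ⟨by decide, v6_6_2⟩, ⟨by decide, v6_6_3⟩, ⟨by decide, v6_6_1⟩, ⟨by decide, v6_6_4⟩, ⟨by decide, v6_6_5⟩]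
theorem row6_7 : ∀ j ∈ K6, tbl6 7 j < 27 ∧ V cs (par cs K5) (word6 7) j (word6 (tbl6 7 j)) := by
  intro j hj
  simp only [K6, List.mem_cons, List.not_mem_nil, or_false] at hj
  rcases hj with rfl | rfl | rfl | rfl | rfl | rfl
  exacts [⟨by decide, v6_7_0⟩, ⟨by decide, v6_7_2⟩, ⟨by decide, v6_7_3⟩, ⟨by decide, v6_7_1⟩, ⟨by decide, v6_7_4⟩, ⟨by decide, v6_7_5⟩]
theorem row6_8 : ∀ j ∈ K6, tbl6 8 j < 27 ∧ V cs (par cs K5) (word6 8) j (word6 (tbl6 8 j)) := by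
  intro j hj
  simp only [K6, List.mem_cons, List.not_mem_nil, or_false] at hj
  rcases hj with rfl | rfl | rfl | rfl | rfl | rfl
  exacts [⟨by decide, v6_8_0⟩, ⟨by decide, v6_8_2⟩, ⟨by decide, v6_8_3⟩, ⟨by decide, v6_8_1⟩, ⟨by decide, v6_8_4⟩, ⟨by decide, v6_8_5⟩]
theorem row6_9 : ∀ j ∈ K6, tbl6 9 j < 27 ∧ V cs (par cs K5) (word6 9) j (word6 (tbl6 9 j)) := by
  intro j hj
  simp only [K6, List.mem_cons, List.not_mem_nil, or_false] at hj
  rcases hj with rfl | rfl | rfl | rfl | rfl | rfl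
  exacts [⟨by decide, v6_9_0⟩, ⟨by decide, v6_9_2⟩, ⟨by decide, v6_9_3⟩, ⟨by decide, v6_9_1⟩, ⟨by decide, v6_9_4⟩, ⟨by decide, v6_9_5⟩]
theorem row6_10 : ∀ j ∈ K6, tbl6 10 j < 27 ∧ V cs (par cs K5) (word6 10) j (word6 (tbl6 10 j)) := by
  intro j hj
  simp only [K6, List.mem_cons, List.not_mem_nil, or_false] at hj
  rcases hj with rfl | rfl | rfl | rfl | rfl | rfl
  exacts [⟨by decide, v6_10_0⟩, ⟨by decide, v6_10_2⟩, ⟨by decide, v6_10_3⟩, ⟨by decide, v6_10_1⟩, ⟨by decide, v6_10_4⟩, ⟨by decide, v6_10_5⟩]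
theorem row6_11 : ∀ j ∈ K6, tbl6 11 j < 27 ∧ V cs (par cs K5) (word6 11) j (word6 (tbl6 11 j)) := by
  intro j hj
  simp only [K6, List.mem_cons, List.not_mem_nil, or_false] at hj
  rcases hj with rfl | rfl | rfl | rfl | rfl | rfl
  exacts [⟨by decide, v6_11_0⟩, ⟨by decide, v6_11_2⟩, ⟨by decide, v6_11_3⟩, ⟨by decide, v6_11_1⟩, ⟨by decide, v6_11_4⟩, ⟨by decide, v6_11_5⟩]
theorem row6_12 : ∀ j ∈ K6, tbl6 12 j < 27 ∧ V cs (par cs K5) (word6 12) j (word6 (tbl6 12 j)) := by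
  intro j hj
  simp only [K6, List.mem_cons, List.not_mem_nil, or_false] at hj
  rcases hj with rfl | rfl | rfl | rfl | rfl | rfl
  exacts [⟨by decide, v6_12_0⟩, ⟨by decide, v6_12_2⟩, ⟨by decide, v6_12_3⟩, ⟨by decide, v6_12_1⟩, ⟨by decide, v6_12_4⟩, ⟨by decide, v6_12_5⟩]
theorem row6_13 : ∀ j ∈ K6, tbl6 13 j < 27 ∧ V cs (par cs K5) (word6 13) j (word6 (tbl6 13 j)) := by
  intro j hj
  simp only [K6, List.mem_cons, List.not_mem_nil, or_false] at hj
  rcases hj with rfl | rfl | rfl | rfl | rfl | rfl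
  exacts [⟨by decide, v6_13_0⟩, ⟨by decide, v6_13_2⟩, ⟨by decide, v6_13_3⟩, ⟨by decide, v6_13_1⟩, ⟨by decide, v6_13_4⟩, ⟨by decide, v6_13_5⟩]
theorem row6_14 : ∀ j ∈ K6, tbl6 14 j < 27 ∧ V cs (par cs K5) (word6 14) j (word6 (tbl6 14 j)) := by
  intro j hj
  simp only [K6, List.mem_cons, List.not_mem_nil, or_false] at hj
  rcases hj with rfl | rfl | rfl | rfl | rfl | rfl
  exacts [⟨by decide, v6_14_0⟩, ⟨by decide, v6_14_2⟩, ⟨by decide, v6_14_3⟩, ⟨by decide, v6_14_1⟩, ⟨by decide, v6_14_4⟩, ⟨by decide, v6_14_5⟩]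
theorem row6_15 : ∀ j ∈ K6, tbl6 15 j < 27 ∧ V cs (par cs K5) (word6 15) j (word6 (tbl6 15 j)) := by
  intro j hj
  simp only [K6, List.mem_cons, List.not_mem_nil, or_false] at hj
  rcases hj with rfl | rfl | rfl | rfl | rfl | rfl
  exacts [⟨by decide, v6_15_0⟩, ⟨by decide, v6_15_2⟩, ⟨by decide, v6_15_3⟩, ⟨by decide, v6_15_1⟩, ⟨by decide, v6_15_4⟩, ⟨by decide, v6_15_5⟩]
theorem row6_16 : ∀ j ∈ K6, tbl6 16 j < 27 ∧ V cs (par cs K5) (word6 16) j (word6 (tbl6 16 j)) := by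
  intro j hj
  simp only [K6, List.mem_cons, List.not_mem_nil, or_false] at hj
  rcases hj with rfl | rfl | rfl | rfl | rfl | rfl
  exacts [⟨by decide, v6_16_0⟩, ⟨by decide, v6_16_2⟩, ⟨by decide, v6_16_3⟩, ⟨by decide, v6_16_1⟩, ⟨by decide, v6_16_4⟩, ⟨by decide, v6_16_5⟩]
theorem row6_17 : ∀ j ∈ K6, tbl6 17 j < 27 ∧ V cs (par cs K5) (word6 17) j (word6 (tbl6 17 j)) := by
  intro j hj
  simp only [K6, List.mem_cons, List.not_mem_nil, or_false] at hj
  rcases hj with rfl | rfl | rfl | rfl | rfl | rfl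
  exacts [⟨by decide, v6_17_0⟩, ⟨by decide, v6_17_2⟩, ⟨by decide, v6_17_3⟩, ⟨by decide, v6_17_1⟩, ⟨by decide, v6_17_4⟩, ⟨by decide, v6_17_5⟩]
theorem row6_18 : ∀ j ∈ K6, tbl6 18 j < 27 ∧ V cs (par cs K5) (word6 18) j (word6 (tbl6 18 j)) := by
  intro j hj
  simp only [K6, List.mem_cons, List.not_mem_nil, or_false] at hj
  rcases hj with rfl | rfl | rfl | rfl | rfl | rfl
  exacts [⟨by decide, v6_18_0⟩, ⟨by decide, v6_18_2⟩, ⟨by decide, v6_18_3⟩, ⟨by decide, v6_18_1⟩, ⟨by decide, v6_18_4⟩, ⟨by decide, v6_18_5⟩]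
theorem row6_19 : ∀ j ∈ K6, tbl6 19 j < 27 ∧ V cs (par cs K5) (word6 19) j (word6 (tbl6 19 j)) := by
  intro j hj
  simp only [K6, List.mem_cons, List.not_mem_nil, or_false] at hj
  rcases hj with rfl | rfl | rfl | rfl | rfl | rfl
  exacts [⟨by decide, v6_19_0⟩, ⟨by decide, v6_19_2⟩, ⟨by decide, v6_19_3⟩, ⟨by decide, v6_19_1⟩, ⟨by decide, v6_19_4⟩, ⟨by decide, v6_19_5⟩]
theorem row6_20 : ∀ j ∈ K6, tbl6 20 j < 27 ∧ V cs (par cs K5) (word6 20) j (word6 (tbl6 20 j)) := by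
  intro j hj
  simp only [K6, List.mem_cons, List.not_mem_nil, or_false] at hj
  rcases hj with rfl | rfl | rfl | rfl | rfl | rfl
  exacts [⟨by decide, v6_20_0⟩, ⟨by decide, v6_20_2⟩, ⟨by decide, v6_20_3⟩, ⟨by decide, v6_20_1⟩, ⟨by decide, v6_20_4⟩, ⟨by decide, v6_20_5⟩]
theorem row6_21 : ∀ j ∈ K6, tbl6 21 j < 27 ∧ V cs (par cs K5) (word6 21) j (word6 (tbl6 21 j)) := by
  intro j hj
  simp only [K6, List.mem_cons, List.not_mem_nil, or_false] at hj
  rcases hj with rfl | rfl | rfl | rfl | rfl | rfl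
  exacts [⟨by decide, v6_21_0⟩, ⟨by decide, v6_21_2⟩, ⟨by decide, v6_21_3⟩, ⟨by decide, v6_21_1⟩, ⟨by decide, v6_21_4⟩, ⟨by decide, v6_21_5⟩]
theorem row6_22 : ∀ j ∈ K6, tbl6 22 j < 27 ∧ V cs (par cs K5) (word6 22) j (word6 (tbl6 22 j)) := by
  intro j hj
  simp only [K6, List.mem_cons, List.not_mem_nil, or_false] at hj
  rcases hj with rfl | rfl | rfl | rfl | rfl | rfl
  exacts [⟨by decide, v6_22_0⟩, ⟨by decide, v6_22_2⟩, ⟨by decide, v6_22_3⟩, ⟨by decide, v6_22_1⟩, ⟨by decide, v6_22_4⟩, ⟨by decide, v6_22_5⟩]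
theorem row6_23 : ∀ j ∈ K6, tbl6 23 j < 27 ∧ V cs (par cs K5) (word6 23) j (word6 (tbl6 23 j)) := by
  intro j hj
  simp only [K6, List.mem_cons, List.not_mem_nil, or_false] at hj
  rcases hj with rfl | rfl | rfl | rfl | rfl | rfl
  exacts [⟨by decide, v6_23_0⟩, ⟨by decide, v6_23_2⟩, ⟨by decide, v6_23_3⟩, ⟨by decide, v6_23_1⟩, ⟨by decide, v6_23_4⟩, ⟨by decide, v6_23_5⟩]
theorem row6_24 : ∀ j ∈ K6, tbl6 24 j < 27 ∧ V cs (par cs K5) (word6 24) j (word6 (tbl6 24 j)) := by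
  intro j hj
  simp only [K6, List.mem_cons, List.not_mem_nil, or_false] at hj
  rcases hj with rfl | rfl | rfl | rfl | rfl | rfl
  exacts [⟨by decide, v6_24_0⟩, ⟨by decide, v6_24_2⟩, ⟨by decide, v6_24_3⟩, ⟨by decide, v6_24_1⟩, ⟨by decide, v6_24_4⟩, ⟨by decide, v6_24_5⟩]
theorem row6_25 : ∀ j ∈ K6, tbl6 25 j < 27 ∧ V cs (par cs K5) (word6 25) j (word6 (tbl6 25 j)) := by
  intro j hj
  simp only [K6, List.mem_cons, List.not_mem_nil, or_false] at hj
  rcases hj with rfl | rfl | rfl | rfl | rfl | rfl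
  exacts [⟨by decide, v6_25_0⟩, ⟨by decide, v6_25_2⟩, ⟨by decide, v6_25_3⟩, ⟨by decide, v6_25_1⟩, ⟨by decide, v6_25_4⟩, ⟨by decide, v6_25_5⟩]
theorem row6_26 : ∀ j ∈ K6, tbl6 26 j < 27 ∧ V cs (par cs K5) (word6 26) j (word6 (tbl6 26 j)) := by
  intro j hj
  simp only [K6, List.mem_cons, List.not_mem_nil, or_false] at hj
  rcases hj with rfl | rfl | rfl | rfl | rfl | rfl
  exacts [⟨by decide, v6_26_0⟩, ⟨by decide, v6_26_2⟩, ⟨by decide, v6_26_3⟩, ⟨by decide, v6_26_1⟩, ⟨by decide, v6_26_4⟩, ⟨by decide, v6_26_5⟩]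
theorem htbl6 : ∀ x < 27, ∀ j ∈ K6, tbl6 x j < 27 ∧ V cs (par cs K5) (word6 x) j (word6 (tbl6 x j)) := by
  intro x hx
  interval_cases x
  exacts [row6_0, row6_1, row6_2, row6_3, row6_4, row6_5, row6_6, row6_7, row6_8, row6_9, row6_10, row6_11, row6_12, row6_13, row6_14, row6_15, row6_16, row6_17, row6_18, row6_19, row6_20, row6_21, row6_22, row6_23, row6_24, row6_25, row6_26]
theorem pt6_0 : φ (cs.wordProd (word6 0)) p6 = ![0, 0, 0, 0, 0, 1, 0, 0] := pt_base cs φ (by decide) _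
theorem pt6_1 : φ (cs.wordProd (word6 1)) p6 = ![0, 0, 0, 0, 1, -1, 1, 0] := pt_step A cs hA φ hφ (j := 5) (w := word6 0) (by decide) pt6_0 (by decide)
theorem pt6_2 : φ (cs.wordProd (word6 2)) p6 = ![0, 0, 0, 1, -1, 0, 1, 0] := pt_step A cs hA φ hφ (j := 4) (w := word6 1) (by decide) pt6_1 (by decide)
theorem pt6_3 : φ (cs.wordProd (word6 3)) p6 = ![0, 1, 1, -1, 0, 0, 1, 0] := pt_step A cs hA φ hφ (j := 3) (w := word6 2) (by decide) pt6_2 (by decide)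
theorem pt6_4 : φ (cs.wordProd (word6 4)) p6 = ![1, 1, -1, 0, 0, 0, 1, 0] := pt_step A cs hA φ hφ (j := 2) (w := word6 3) (by decide) pt6_3 (by decide)
theorem pt6_5 : φ (cs.wordProd (word6 5)) p6 = ![0, -1, 1, 0, 0, 0, 1, 0] := pt_step A cs hA φ hφ (j := 1) (w := word6 3) (by decide) pt6_3 (by decide)
theorem pt6_6 : φ (cs.wordProd (word6 6)) p6 = ![-1, 1, 0, 0, 0, 0, 1, 0] := pt_step A cs hA φ hφ (j := 0) (w := word6 4) (by decide) pt6_4 (by decide)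
theorem pt6_7 : φ (cs.wordProd (word6 7)) p6 = ![1, -1, -1, 1, 0, 0, 1, 0] := pt_step A cs hA φ hφ (j := 1) (w := word6 4) (by decide) pt6_4 (by decide)
theorem pt6_8 : φ (cs.wordProd (word6 8)) p6 = ![-1, -1, 0, 1, 0, 0, 1, 0] := pt_step A cs hA φ hφ (j := 1) (w := word6 6) (by decide) pt6_6 (by decide)
theorem pt6_9 : φ (cs.wordProd (word6 9)) p6 = ![1, 0, 0, -1, 1, 0, 1, 0] := pt_step A cs hA φ hφ (j := 3) (w := word6 7) (by decide) pt6_7 (by decide)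
theorem pt6_10 : φ (cs.wordProd (word6 10)) p6 = ![-1, 0, 1, -1, 1, 0, 1, 0] := pt_step A cs hA φ hφ (j := 3) (w := word6 8) (by decide) pt6_8 (by decide)
theorem pt6_11 : φ (cs.wordProd (word6 11)) p6 = ![1, 0, 0, 0, -1, 1, 1, 0] := pt_step A cs hA φ hφ (j := 4) (w := word6 9) (by decide) pt6_9 (by decide)
theorem pt6_12 : φ (cs.wordProd (word6 12)) p6 = ![0, 0, -1, 0, 1, 0, 1, 0] := pt_step A cs hA φ hφ (j := 2) (w := word6 10) (by decide) pt6_10 (by decide)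
theorem pt6_13 : φ (cs.wordProd (word6 13)) p6 = ![-1, 0, 1, 0, -1, 1, 1, 0] := pt_step A cs hA φ hφ (j := 4) (w := word6 10) (by decide) pt6_10 (by decide)
theorem pt6_14 : φ (cs.wordProd (word6 14)) p6 = ![1, 0, 0, 0, 0, -1, 2, 0] := pt_step A cs hA φ hφ (j := 5) (w := word6 11) (by decide) pt6_11 (by decide)
theorem pt6_15 : φ (cs.wordProd (word6 15)) p6 = ![0, 0, -1, 1, -1, 1, 1, 0] := pt_step A cs hA φ hφ (j := 4) (w := word6 12) (by decide) pt6_12 (by decide)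
theorem pt6_16 : φ (cs.wordProd (word6 16)) p6 = ![-1, 0, 1, 0, 0, -1, 2, 0] := pt_step A cs hA φ hφ (j := 5) (w := word6 13) (by decide) pt6_13 (by decide)
theorem pt6_17 : φ (cs.wordProd (word6 17)) p6 = ![0, 1, 0, -1, 0, 1, 1, 0] := pt_step A cs hA φ hφ (j := 3) (w := word6 15) (by decide) pt6_15 (by decide)
theorem pt6_18 : φ (cs.wordProd (word6 18)) p6 = ![0, 0, -1, 1, 0, -1, 2, 0] := pt_step A cs hA φ hφ (j := 5) (w := word6 15) (by decide) pt6_15 (by decide)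
theorem pt6_19 : φ (cs.wordProd (word6 19)) p6 = ![0, -1, 0, 0, 0, 1, 1, 0] := pt_step A cs hA φ hφ (j := 1) (w := word6 17) (by decide) pt6_17 (by decide)
theorem pt6_20 : φ (cs.wordProd (word6 20)) p6 = ![0, 1, 0, -1, 1, -1, 2, 0] := pt_step A cs hA φ hφ (j := 5) (w := word6 17) (by decide) pt6_17 (by decide)
theorem pt6_21 : φ (cs.wordProd (word6 21)) p6 = ![0, -1, 0, 0, 1, -1, 2, 0] := pt_step A cs hA φ hφ (j := 5) (w := word6 19) (by decide) pt6_19 (by decide)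
theorem pt6_22 : φ (cs.wordProd (word6 22)) p6 = ![0, 1, 0, 0, -1, 0, 2, 0] := pt_step A cs hA φ hφ (j := 4) (w := word6 20) (by decide) pt6_20 (by decide)
theorem pt6_23 : φ (cs.wordProd (word6 23)) p6 = ![0, -1, 0, 1, -1, 0, 2, 0] := pt_step A cs hA φ hφ (j := 4) (w := word6 21) (by decide) pt6_21 (by decide)
theorem pt6_24 : φ (cs.wordProd (word6 24)) p6 = ![0, 0, 1, -1, 0, 0, 2, 0] := pt_step A cs hA φ hφ (j := 3) (w := word6 23) (by decide) pt6_23 (by decide)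
theorem pt6_25 : φ (cs.wordProd (word6 25)) p6 = ![1, 0, -1, 0, 0, 0, 2, 0] := pt_step A cs hA φ hφ (j := 2) (w := word6 24) (by decide) pt6_24 (by decide)
theorem pt6_26 : φ (cs.wordProd (word6 26)) p6 = ![-1, 0, 0, 0, 0, 0, 2, 0] := pt_step A cs hA φ hφ (j := 0) (w := word6 25) (by decide) pt6_25 (by decide)
theorem key6_0 : key (φ (cs.wordProd (word6 0)) p6) = keys6.getD 0 0 := by rw [pt6_0]; decide
theorem key6_1 : key (φ (cs.wordProd (word6 1)) p6) = keys6.getD 1 0 := by rw [pt6_1]; decide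
theorem key6_2 : key (φ (cs.wordProd (word6 2)) p6) = keys6.getD 2 0 := by rw [pt6_2]; decide
theorem key6_3 : key (φ (cs.wordProd (word6 3)) p6) = keys6.getD 3 0 := by rw [pt6_3]; decide
theorem key6_4 : key (φ (cs.wordProd (word6 4)) p6) = keys6.getD 4 0 := by rw [pt6_4]; decide
theorem key6_5 : key (φ (cs.wordProd (word6 5)) p6) = keys6.getD 5 0 := by rw [pt6_5]; decide
theorem key6_6 : key (φ (cs.wordProd (word6 6)) p6) = keys6.getD 6 0 := by rw [pt6_6]; decide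
theorem key6_7 : key (φ (cs.wordProd (word6 7)) p6) = keys6.getD 7 0 := by rw [pt6_7]; decide
theorem key6_8 : key (φ (cs.wordProd (word6 8)) p6) = keys6.getD 8 0 := by rw [pt6_8]; decide
theorem key6_9 : key (φ (cs.wordProd (word6 9)) p6) = keys6.getD 9 0 := by rw [pt6_9]; decide
theorem key6_10 : key (φ (cs.wordProd (word6 10)) p6) = keys6.getD 10 0 := by rw [pt6_10]; decide
theorem key6_11 : key (φ (cs.wordProd (word6 11)) p6) = keys6.getD 11 0 := by rw [pt6_11]; decide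
theorem key6_12 : key (φ (cs.wordProd (word6 12)) p6) = keys6.getD 12 0 := by rw [pt6_12]; decide
theorem key6_13 : key (φ (cs.wordProd (word6 13)) p6) = keys6.getD 13 0 := by rw [pt6_13]; decide
theorem key6_14 : key (φ (cs.wordProd (word6 14)) p6) = keys6.getD 14 0 := by rw [pt6_14]; decide
theorem key6_15 : key (φ (cs.wordProd (word6 15)) p6) = keys6.getD 15 0 := by rw [pt6_15]; decide
theorem key6_16 : key (φ (cs.wordProd (word6 16)) p6) = keys6.getD 16 0 := by rw [pt6_16]; decide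
theorem key6_17 : key (φ (cs.wordProd (word6 17)) p6) = keys6.getD 17 0 := by rw [pt6_17]; decide
theorem key6_18 : key (φ (cs.wordProd (word6 18)) p6) = keys6.getD 18 0 := by rw [pt6_18]; decide
theorem key6_19 : key (φ (cs.wordProd (word6 19)) p6) = keys6.getD 19 0 := by rw [pt6_19]; decide
theorem key6_20 : key (φ (cs.wordProd (word6 20)) p6) = keys6.getD 20 0 := by rw [pt6_20]; decide
theorem key6_21 : key (φ (cs.wordProd (word6 21)) p6) = keys6.getD 21 0 := by rw [pt6_21]; decide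
theorem key6_22 : key (φ (cs.wordProd (word6 22)) p6) = keys6.getD 22 0 := by rw [pt6_22]; decide
theorem key6_23 : key (φ (cs.wordProd (word6 23)) p6) = keys6.getD 23 0 := by rw [pt6_23]; decide
theorem key6_24 : key (φ (cs.wordProd (word6 24)) p6) = keys6.getD 24 0 := by rw [pt6_24]; decide
theorem key6_25 : key (φ (cs.wordProd (word6 25)) p6) = keys6.getD 25 0 := by rw [pt6_25]; decide
theorem key6_26 : key (φ (cs.wordProd (word6 26)) p6) = keys6.getD 26 0 := by rw [pt6_26]; decide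
theorem hkey6 : ∀ x < 27, key (φ (cs.wordProd (word6 x)) p6) = keys6.getD x 0 := by
  intro x hx
  interval_cases x
  exacts [key6_0, key6_1, key6_2, key6_3, key6_4, key6_5, key6_6, key6_7, key6_8, key6_9, key6_10, key6_11, key6_12, key6_13, key6_14, key6_15, key6_16, key6_17, key6_18, key6_19, key6_20, key6_21, key6_22, key6_23, key6_24, key6_25, key6_26]
theorem card6 : Nat.card (par cs K6) = 27 * Nat.card (par cs K5) :=
  link_card cs φ p6 K5 K6 27 word6 tbl6 (by decide) (by decide) (by decide) (by decide) htbl6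
    (fix_of_refl A cs hA φ hφ K5 p6 (by decide))
    (hdist_of_keys cs φ p6 word6 27 key keys6 (by decide) (by decide) hkey6)

-- link 7: K = [0, 2, 3, 1, 4, 5, 6], N = 56
def K7 : List (Fin 8) := [0, 2, 3, 1, 4, 5, 6]
def word7 : ℕ → List (Fin 8) := fun x => ([[], [6], [5, 6], [4, 5, 6], [3, 4, 5, 6], [2, 3, 4, 5, 6], [1, 3, 4, 5, 6], [0, 2, 3, 4, 5, 6], [1, 2, 3, 4, 5, 6], [1, 0, 2, 3, 4, 5, 6], [3, 1, 2, 3, 4, 5, 6], [3, 1, 0, 2, 3, 4, 5, 6], [4, 3, 1, 2, 3, 4, 5, 6], [2, 3, 1, 0, 2, 3, 4, 5, 6], [4, 3, 1, 0, 2, 3, 4, 5, 6], [5, 4, 3, 1, 2, 3, 4, 5, 6], [4, 2, 3, 1, 0, 2, 3, 4, 5, 6], [5, 4, 3, 1, 0, 2, 3, 4, 5, 6], [6, 5, 4, 3, 1, 2, 3, 4, 5, 6], [3, 4, 2, 3, 1, 0, 2, 3, 4, 5, 6], [5, 4, 2, 3, 1, 0, 2, 3, 4, 5, 6], [6, 5, 4, 3, 1, 0, 2, 3, 4, 5, 6], [1, 3, 4, 2, 3, 1, 0, 2, 3, 4, 5, 6], [5, 3, 4, 2, 3, 1, 0, 2, 3, 4, 5, 6], [6, 5, 4, 2, 3, 1, 0, 2, 3, 4, 5, 6], [5, 1, 3, 4, 2, 3, 1, 0, 2, 3,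 4, 5, 6], [4, 5, 3, 4, 2, 3, 1, 0, 2, 3, 4, 5, 6], [6, 5, 3, 4, 2, 3, 1, 0, 2, 3, 4, 5, 6], [4, 5, 1, 3, 4, 2, 3, 1, 0, 2, 3, 4, 5, 6], [6, 5, 1, 3, 4, 2, 3, 1, 0, 2, 3, 4, 5, 6], [6, 4, 5, 3, 4, 2, 3, 1, 0, 2, 3, 4, 5, 6], [3, 4, 5, 1, 3, 4, 2, 3, 1, 0, 2, 3, 4, 5, 6], [6, 4, 5, 1, 3, 4, 2, 3, 1, 0, 2, 3, 4, 5, 6], [5, 6, 4, 5, 3, 4, 2, 3, 1, 0, 2, 3, 4, 5, 6], [2, 3, 4, 5, 1, 3, 4, 2, 3, 1, 0, 2, 3, 4, 5, 6], [6, 3, 4, 5, 1, 3, 4, 2, 3, 1, 0, 2, 3, 4, 5, 6], [5, 6, 4, 5, 1, 3, 4, 2, 3, 1, 0, 2, 3, 4, 5, 6], [0, 2, 3, 4, 5, 1, 3, 4, 2, 3, 1, 0, 2, 3, 4, 5, 6], [6, 2, 3, 4, 5, 1, 3, 4, 2, 3, 1, 0, 2, 3, 4, 5, 6], [5, 6, 3, 4, 5, 1, 3, 4, 2, 3, 1, 0, 2, 3, 4, 5, 6], [6, 0, 2, 3, 4, 5, 1, 3, 4, 2, 3, 1, 0, 2, 3, 4, 5, 6], [5, 6, 2, 3, 4, 5, 1, 3, 4, 2, 3, 1, 0, 2, 3, 4, 5, 6], [4, 5, 6, 3, 4, 5, 1, 3, 4, 2, 3, 1, 0, 2, 3, 4, 5, 6], [5, 6, 0, 2, 3, 4, 5, 1, 3, 4, 2, 3, 1, 0, 2, 3, 4, 5, 6], [4, 5,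 6, 2, 3, 4, 5, 1, 3, 4, 2, 3, 1, 0, 2, 3, 4, 5, 6], [4, 5, 6, 0, 2, 3, 4, 5, 1, 3, 4, 2, 3, 1, 0, 2, 3, 4, 5, 6], [3, 4, 5, 6, 2, 3, 4, 5, 1, 3, 4, 2, 3, 1, 0, 2, 3, 4, 5, 6], [3, 4, 5, 6, 0, 2, 3, 4, 5, 1, 3, 4, 2, 3, 1, 0, 2, 3, 4, 5, 6], [1, 3, 4, 5, 6, 2, 3, 4, 5, 1, 3, 4, 2, 3, 1, 0, 2, 3, 4, 5, 6], [2, 3, 4, 5, 6, 0, 2, 3, 4, 5, 1, 3, 4, 2, 3, 1, 0, 2, 3, 4, 5, 6], [1, 3, 4, 5, 6, 0, 2, 3, 4, 5, 1, 3, 4, 2, 3, 1, 0, 2, 3, 4, 5, 6], [1, 2, 3, 4, 5, 6, 0, 2, 3, 4, 5, 1, 3, 4, 2, 3, 1, 0, 2, 3, 4, 5, 6], [3, 1, 2, 3, 4, 5, 6, 0, 2, 3, 4, 5, 1, 3, 4, 2, 3, 1, 0, 2, 3, 4, 5, 6], [4, 3, 1, 2, 3, 4, 5, 6, 0, 2, 3, 4, 5, 1, 3, 4, 2, 3, 1, 0, 2, 3, 4, 5, 6], [5, 4, 3, 1, 2, 3, 4, 5, 6, 0, 2, 3, 4, 5, 1, 3, 4, 2, 3, 1, 0, 2, 3, 4, 5, 6], [6, 5, 4, 3, 1, 2, 3, 4, 5, 6, 0, 2, 3, 4, 5, 1, 3, 4, 2, 3, 1, 0, 2, 3, 4, 5, 6]] : List (List (Fin 8))).getD x []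
def tbl7 : ℕ → Fin 8 → ℕ := fun x j => (([[0, 0, 0, 0, 0, 0, 1, 0], [1, 1, 1, 1, 1, 2, 0, 0], [2, 2, 2, 2, 3, 1, 2, 0], [3, 3, 3, 4, 2, 3, 3, 0], [4, 6, 5, 3, 4, 4, 4, 0], [7, 8, 4, 5, 5, 5, 5, 0], [6, 4, 8, 6, 6, 6, 6, 0], [5, 9, 7, 7, 7, 7, 7, 0], [9, 5, 6, 10, 8, 8, 8, 0], [8, 7, 9, 11, 9, 9, 9, 0], [11, 10, 10, 8, 12, 10, 10, 0], [10, 11, 13, 9, 14, 11, 11, 0], [14, 12, 12, 12, 10, 15, 12, 0], [13, 13, 11, 13, 16, 13, 13, 0], [12, 14, 16, 14, 11, 17, 14, 0], [17, 15, 15, 15, 15, 12, 18, 0], [16, 16, 14, 19, 13, 20, 16, 0], [15, 17, 20, 17, 17, 14, 21, 0], [21, 18, 18, 18, 18, 18, 15, 0], [19, 22, 19, 16, 19, 23, 19, 0], [20, 20, 17, 23, 20, 16, 24, 0], [18, 21, 24, 21, 21, 21, 17, 0], [22, 19, 22, 22, 22, 25, 22, 0], [23, 25, 23, 20, 26, 19, 27, 0], [24, 24, 21, 27, 24, 24, 20, 0], [25, 23, 25, 25, 28, 22, 29, 0], [26, 28, 26, 26, 23, 26, 30, 0], [27, 29, 27, 24, 30, 27, 23, 0], [28, 26, 28,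 31, 25, 28, 32, 0], [29, 27, 29, 29, 32, 29, 25, 0], [30, 32, 30, 30, 27, 33, 26, 0], [31, 31, 34, 28, 31, 31, 35, 0], [32, 30, 32, 35, 29, 36, 28, 0], [33, 36, 33, 33, 33, 30, 33, 0], [37, 34, 31, 34, 34, 34, 38, 0], [35, 35, 38, 32, 35, 39, 31, 0], [36, 33, 36, 39, 36, 32, 36, 0], [34, 37, 37, 37, 37, 37, 40, 0], [40, 38, 35, 38, 38, 41, 34, 0], [39, 39, 41, 36, 42, 35, 39, 0], [38, 40, 40, 40, 40, 43, 37, 0], [43, 41, 39, 41, 44, 38, 41, 0], [42, 42, 44, 42, 39, 42, 42, 0], [41, 43, 43, 43, 45, 40, 43, 0], [45, 44, 42, 46, 41, 44, 44, 0], [44, 45, 45, 47, 43, 45, 45, 0], [47, 48, 46, 44, 46, 46, 46, 0], [46, 50, 49, 45, 47, 47, 47, 0], [50, 46, 48, 48, 48, 48, 48, 0], [49, 51, 47, 49, 49, 49, 49, 0], [48, 47, 51, 50, 50, 50, 50, 0], [51, 49, 50, 52, 51, 51, 51, 0], [52, 52, 52, 51, 53, 52, 52, 0], [53, 53, 53, 53, 52, 54, 53, 0], [54, 54, 54, 54, 54, 53, 55, 0], [55, 55, 55, 55, 55, 55, 54,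 0]] : List (List ℕ)).getD x []).getD j.val 0
def p7 : Fin 8 → ℤ := ![0, 0, 0, 0, 0, 0, 1, 0]
def keys7 : List ℤ := [1000000000000, 99010000000000, 99990100000000, 99999901000000, 99999999010100, 99999999990101, 100000000009900, 100000000000099, 100000000989901, 100000000999899, 100000099000001, 100000099009999, 100009900000001, 100000099990000, 100009900009999, 100990000000001, 100009900990000, 100990000009999, 199000000000001, 100009999000100, 100990000990000, 199000000009999, 100009999999900, 100990099000100, 199000000990000, 100990099999900, 100999900000100, 199000099000100, 100999900999900, 199000099999900, 199009900000100, 100999999010000, 199009900999900, 199990000000100, 100999999990001, 199009999010000, 199990000999900, 100999999999999, 199009999990001, 199990099010000, 199009999999999, 199990099990001, 199999900010000, 199990099999999, 199999900990001, 199999900999999, 199999999000101,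 199999999010099, 199999999999901, 199999999990100, 200000000009899, 200000000989900, 200000099000000, 200009900000000, 200990000000000, 299000000000000]
theorem v7_0_6 : V cs (par cs K6) (word7 0) 6 (word7 1) := V_tree cs _ (by decide)
theorem v7_1_6 : V cs (par cs K6) (word7 1) 6 (word7 0) := V_symm cs v7_0_6
theorem v7_1_5 : V cs (par cs K6) (word7 1) 5 (word7 2) := V_tree cs _ (by decide)
theorem v7_2_5 : V cs (par cs K6) (word7 2) 5 (word7 1) := V_symm cs v7_1_5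
theorem v7_2_4 : V cs (par cs K6) (word7 2) 4 (word7 3) := V_tree cs _ (by decide)
theorem v7_3_4 : V cs (par cs K6) (word7 3) 4 (word7 2) := V_symm cs v7_2_4
theorem v7_3_3 : V cs (par cs K6) (word7 3) 3 (word7 4) := V_tree cs _ (by decide)
theorem v7_4_3 : V cs (par cs K6) (word7 4) 3 (word7 3) := V_symm cs v7_3_3
theorem v7_4_2 : V cs (par cs K6) (word7 4) 2 (word7 5) := V_tree cs _ (by decide)
theorem v7_5_2 : V cs (par cs K6) (word7 5) 2 (word7 4) := V_symm cs v7_4_2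
theorem v7_4_1 : V cs (par cs K6) (word7 4) 1 (word7 6) := V_tree cs _ (by decide)
theorem v7_6_1 : V cs (par cs K6) (word7 6) 1 (word7 4) := V_symm cs v7_4_1
theorem v7_5_0 : V cs (par cs K6) (word7 5) 0 (word7 7) := V_tree cs _ (by decide)
theorem v7_7_0 : V cs (par cs K6) (word7 7) 0 (word7 5) := V_symm cs v7_5_0
theorem v7_5_1 : V cs (par cs K6) (word7 5) 1 (word7 8) := V_tree cs _ (by decide)
theorem v7_8_1 : V cs (par cs K6) (word7 8) 1 (word7 5) := V_symm cs v7_5_1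
theorem v7_7_1 : V cs (par cs K6) (word7 7) 1 (word7 9) := V_tree cs _ (by decide)
theorem v7_9_1 : V cs (par cs K6) (word7 9) 1 (word7 7) := V_symm cs v7_7_1
theorem v7_8_3 : V cs (par cs K6) (word7 8) 3 (word7 10) := V_tree cs _ (by decide)
theorem v7_10_3 : V cs (par cs K6) (word7 10) 3 (word7 8) := V_symm cs v7_8_3
theorem v7_9_3 : V cs (par cs K6) (word7 9) 3 (word7 11) := V_tree cs _ (by decide)
theorem v7_11_3 : V cs (par cs K6) (word7 11) 3 (word7 9) := V_symm cs v7_9_3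
theorem v7_10_4 : V cs (par cs K6) (word7 10) 4 (word7 12) := V_tree cs _ (by decide)
theorem v7_12_4 : V cs (par cs K6) (word7 12) 4 (word7 10) := V_symm cs v7_10_4
theorem v7_11_2 : V cs (par cs K6) (word7 11) 2 (word7 13) := V_tree cs _ (by decide)
theorem v7_13_2 : V cs (par cs K6) (word7 13) 2 (word7 11) := V_symm cs v7_11_2
theorem v7_11_4 : V cs (par cs K6) (word7 11) 4 (word7 14) := V_tree cs _ (by decide)
theorem v7_14_4 : V cs (par cs K6) (word7 14) 4 (word7 11) := V_symm cs v7_11_4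
theorem v7_12_5 : V cs (par cs K6) (word7 12) 5 (word7 15) := V_tree cs _ (by decide)
theorem v7_15_5 : V cs (par cs K6) (word7 15) 5 (word7 12) := V_symm cs v7_12_5
theorem v7_13_4 : V cs (par cs K6) (word7 13) 4 (word7 16) := V_tree cs _ (by decide)
theorem v7_16_4 : V cs (par cs K6) (word7 16) 4 (word7 13) := V_symm cs v7_13_4
theorem v7_14_5 : V cs (par cs K6) (word7 14) 5 (word7 17) := V_tree cs _ (by decide)
theorem v7_17_5 : V cs (par cs K6) (word7 17) 5 (word7 14) := V_symm cs v7_14_5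
theorem v7_15_6 : V cs (par cs K6) (word7 15) 6 (word7 18) := V_tree cs _ (by decide)
theorem v7_18_6 : V cs (par cs K6) (word7 18) 6 (word7 15) := V_symm cs v7_15_6
theorem v7_16_3 : V cs (par cs K6) (word7 16) 3 (word7 19) := V_tree cs _ (by decide)
theorem v7_19_3 : V cs (par cs K6) (word7 19) 3 (word7 16) := V_symm cs v7_16_3
theorem v7_16_5 : V cs (par cs K6) (word7 16) 5 (word7 20) := V_tree cs _ (by decide)
theorem v7_20_5 : V cs (par cs K6) (word7 20) 5 (word7 16) := V_symm cs v7_16_5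
theorem v7_17_6 : V cs (par cs K6) (word7 17) 6 (word7 21) := V_tree cs _ (by decide)
theorem v7_21_6 : V cs (par cs K6) (word7 21) 6 (word7 17) := V_symm cs v7_17_6
theorem v7_19_1 : V cs (par cs K6) (word7 19) 1 (word7 22) := V_tree cs _ (by decide)
theorem v7_22_1 : V cs (par cs K6) (word7 22) 1 (word7 19) := V_symm cs v7_19_1
theorem v7_19_5 : V cs (par cs K6) (word7 19) 5 (word7 23) := V_tree cs _ (by decide)
theorem v7_23_5 : V cs (par cs K6) (word7 23) 5 (word7 19) := V_symm cs v7_19_5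
theorem v7_20_6 : V cs (par cs K6) (word7 20) 6 (word7 24) := V_tree cs _ (by decide)
theorem v7_24_6 : V cs (par cs K6) (word7 24) 6 (word7 20) := V_symm cs v7_20_6
theorem v7_22_5 : V cs (par cs K6) (word7 22) 5 (word7 25) := V_tree cs _ (by decide)
theorem v7_25_5 : V cs (par cs K6) (word7 25) 5 (word7 22) := V_symm cs v7_22_5
theorem v7_23_4 : V cs (par cs K6) (word7 23) 4 (word7 26) := V_tree cs _ (by decide)
theorem v7_26_4 : V cs (par cs K6) (word7 26) 4 (word7 23) := V_symm cs v7_23_4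
theorem v7_23_6 : V cs (par cs K6) (word7 23) 6 (word7 27) := V_tree cs _ (by decide)
theorem v7_27_6 : V cs (par cs K6) (word7 27) 6 (word7 23) := V_symm cs v7_23_6
theorem v7_25_4 : V cs (par cs K6) (word7 25) 4 (word7 28) := V_tree cs _ (by decide)
theorem v7_28_4 : V cs (par cs K6) (word7 28) 4 (word7 25) := V_symm cs v7_25_4
theorem v7_25_6 : V cs (par cs K6) (word7 25) 6 (word7 29) := V_tree cs _ (by decide)
theorem v7_29_6 : V cs (par cs K6) (word7 29) 6 (word7 25) := V_symm cs v7_25_6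
theorem v7_26_6 : V cs (par cs K6) (word7 26) 6 (word7 30) := V_tree cs _ (by decide)
theorem v7_30_6 : V cs (par cs K6) (word7 30) 6 (word7 26) := V_symm cs v7_26_6
theorem v7_28_3 : V cs (par cs K6) (word7 28) 3 (word7 31) := V_tree cs _ (by decide)
theorem v7_31_3 : V cs (par cs K6) (word7 31) 3 (word7 28) := V_symm cs v7_28_3
theorem v7_28_6 : V cs (par cs K6) (word7 28) 6 (word7 32) := V_tree cs _ (by decide)
theorem v7_32_6 : V cs (par cs K6) (word7 32) 6 (word7 28) := V_symm cs v7_28_6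
theorem v7_30_5 : V cs (par cs K6) (word7 30) 5 (word7 33) := V_tree cs _ (by decide)
theorem v7_33_5 : V cs (par cs K6) (word7 33) 5 (word7 30) := V_symm cs v7_30_5
theorem v7_31_2 : V cs (par cs K6) (word7 31) 2 (word7 34) := V_tree cs _ (by decide)
theorem v7_34_2 : V cs (par cs K6) (word7 34) 2 (word7 31) := V_symm cs v7_31_2
theorem v7_31_6 : V cs (par cs K6) (word7 31) 6 (word7 35) := V_tree cs _ (by decide)
theorem v7_35_6 : V cs (par cs K6) (word7 35) 6 (word7 31) := V_symm cs v7_31_6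
theorem v7_32_5 : V cs (par cs K6) (word7 32) 5 (word7 36) := V_tree cs _ (by decide)
theorem v7_36_5 : V cs (par cs K6) (word7 36) 5 (word7 32) := V_symm cs v7_32_5
theorem v7_34_0 : V cs (par cs K6) (word7 34) 0 (word7 37) := V_tree cs _ (by decide)
theorem v7_37_0 : V cs (par cs K6) (word7 37) 0 (word7 34) := V_symm cs v7_34_0
theorem v7_34_6 : V cs (par cs K6) (word7 34) 6 (word7 38) := V_tree cs _ (by decide)
theorem v7_38_6 : V cs (par cs K6) (word7 38) 6 (word7 34) := V_symm cs v7_34_6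
theorem v7_35_5 : V cs (par cs K6) (word7 35) 5 (word7 39) := V_tree cs _ (by decide)
theorem v7_39_5 : V cs (par cs K6) (word7 39) 5 (word7 35) := V_symm cs v7_35_5
theorem v7_37_6 : V cs (par cs K6) (word7 37) 6 (word7 40) := V_tree cs _ (by decide)
theorem v7_40_6 : V cs (par cs K6) (word7 40) 6 (word7 37) := V_symm cs v7_37_6
theorem v7_38_5 : V cs (par cs K6) (word7 38) 5 (word7 41) := V_tree cs _ (by decide)
theorem v7_41_5 : V cs (par cs K6) (word7 41) 5 (word7 38) := V_symm cs v7_38_5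
theorem v7_39_4 : V cs (par cs K6) (word7 39) 4 (word7 42) := V_tree cs _ (by decide)
theorem v7_42_4 : V cs (par cs K6) (word7 42) 4 (word7 39) := V_symm cs v7_39_4
theorem v7_40_5 : V cs (par cs K6) (word7 40) 5 (word7 43) := V_tree cs _ (by decide)
theorem v7_43_5 : V cs (par cs K6) (word7 43) 5 (word7 40) := V_symm cs v7_40_5
theorem v7_41_4 : V cs (par cs K6) (word7 41) 4 (word7 44) := V_tree cs _ (by decide)
theorem v7_44_4 : V cs (par cs K6) (word7 44) 4 (word7 41) := V_symm cs v7_41_4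
theorem v7_43_4 : V cs (par cs K6) (word7 43) 4 (word7 45) := V_tree cs _ (by decide)
theorem v7_45_4 : V cs (par cs K6) (word7 45) 4 (word7 43) := V_symm cs v7_43_4
theorem v7_44_3 : V cs (par cs K6) (word7 44) 3 (word7 46) := V_tree cs _ (by decide)
theorem v7_46_3 : V cs (par cs K6) (word7 46) 3 (word7 44) := V_symm cs v7_44_3
theorem v7_45_3 : V cs (par cs K6) (word7 45) 3 (word7 47) := V_tree cs _ (by decide)
theorem v7_47_3 : V cs (par cs K6) (word7 47) 3 (word7 45) := V_symm cs v7_45_3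
theorem v7_46_1 : V cs (par cs K6) (word7 46) 1 (word7 48) := V_tree cs _ (by decide)
theorem v7_48_1 : V cs (par cs K6) (word7 48) 1 (word7 46) := V_symm cs v7_46_1
theorem v7_47_2 : V cs (par cs K6) (word7 47) 2 (word7 49) := V_tree cs _ (by decide)
theorem v7_49_2 : V cs (par cs K6) (word7 49) 2 (word7 47) := V_symm cs v7_47_2
theorem v7_47_1 : V cs (par cs K6) (word7 47) 1 (word7 50) := V_tree cs _ (by decide)
theorem v7_50_1 : V cs (par cs K6) (word7 50) 1 (word7 47) := V_symm cs v7_47_1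
theorem v7_49_1 : V cs (par cs K6) (word7 49) 1 (word7 51) := V_tree cs _ (by decide)
theorem v7_51_1 : V cs (par cs K6) (word7 51) 1 (word7 49) := V_symm cs v7_49_1
theorem v7_51_3 : V cs (par cs K6) (word7 51) 3 (word7 52) := V_tree cs _ (by decide)
theorem v7_52_3 : V cs (par cs K6) (word7 52) 3 (word7 51) := V_symm cs v7_51_3
theorem v7_52_4 : V cs (par cs K6) (word7 52) 4 (word7 53) := V_tree cs _ (by decide)
theorem v7_53_4 : V cs (par cs K6) (word7 53) 4 (word7 52) := V_symm cs v7_52_4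
theorem v7_53_5 : V cs (par cs K6) (word7 53) 5 (word7 54) := V_tree cs _ (by decide)
theorem v7_54_5 : V cs (par cs K6) (word7 54) 5 (word7 53) := V_symm cs v7_53_5
theorem v7_54_6 : V cs (par cs K6) (word7 54) 6 (word7 55) := V_tree cs _ (by decide)
theorem v7_55_6 : V cs (par cs K6) (word7 55) 6 (word7 54) := V_symm cs v7_54_6
theorem v7_0_0 : V cs (par cs K6) (word7 0) 0 (word7 0) := V_base cs (by decide) (simple_mem_par cs (by decide))
theorem v7_0_2 : V cs (par cs K6) (word7 0) 2 (word7 0) := V_base cs (by decide) (simple_mem_par cs (by decide))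
theorem v7_0_3 : V cs (par cs K6) (word7 0) 3 (word7 0) := V_base cs (by decide) (simple_mem_par cs (by decide))
theorem v7_0_1 : V cs (par cs K6) (word7 0) 1 (word7 0) := V_base cs (by decide) (simple_mem_par cs (by decide))
theorem v7_0_4 : V cs (par cs K6) (word7 0) 4 (word7 0) := V_base cs (by decide) (simple_mem_par cs (by decide))
theorem v7_0_5 : V cs (par cs K6) (word7 0) 5 (word7 0) := V_base cs (by decide) (simple_mem_par cs (by decide))
theorem v7_9_0 : V cs (par cs K6) (word7 9) 0 (word7 8) := V_ded2 cs (a := 0) (b := 1) (by decide) v7_8_1 v7_5_0 v7_7_1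
theorem v7_8_0 : V cs (par cs K6) (word7 8) 0 (word7 9) := V_symm cs v7_9_0
theorem v7_1_0 : V cs (par cs K6) (word7 1) 0 (word7 1) := V_ded2 cs (a := 0) (b := 6) (by decide) v7_1_6 v7_0_0 v7_0_6
theorem v7_40_0 : V cs (par cs K6) (word7 40) 0 (word7 38) := V_ded2 cs (a := 0) (b := 6) (by decide) v7_38_6 v7_34_0 v7_37_6
theorem v7_38_0 : V cs (par cs K6) (word7 38) 0 (word7 40) := V_symm cs v7_40_0
theorem v7_8_2 : V cs (par cs K6) (word7 8) 2 (word7 6) := V_ded2 cs (a := 2) (b := 1) (by decide) v7_6_1 v7_4_2 v7_5_1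
theorem v7_6_2 : V cs (par cs K6) (word7 6) 2 (word7 8) := V_symm cs v7_8_2
theorem v7_51_2 : V cs (par cs K6) (word7 51) 2 (word7 50) := V_ded2 cs (a := 2) (b := 1) (by decide) v7_50_1 v7_47_2 v7_49_1
theorem v7_50_2 : V cs (par cs K6) (word7 50) 2 (word7 51) := V_symm cs v7_51_2
theorem v7_16_2 : V cs (par cs K6) (word7 16) 2 (word7 14) := V_ded2 cs (a := 2) (b := 4) (by decide) v7_14_4 v7_11_2 v7_13_4
theorem v7_14_2 : V cs (par cs K6) (word7 14) 2 (word7 16) := V_symm cs v7_16_2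
theorem v7_20_2 : V cs (par cs K6) (word7 20) 2 (word7 17) := V_ded2 cs (a := 2) (b := 5) (by decide) v7_17_5 v7_14_2 v7_16_5
theorem v7_17_2 : V cs (par cs K6) (word7 17) 2 (word7 20) := V_symm cs v7_20_2
theorem v7_1_2 : V cs (par cs K6) (word7 1) 2 (word7 1) := V_ded2 cs (a := 2) (b := 6) (by decide) v7_1_6 v7_0_2 v7_0_6
theorem v7_24_2 : V cs (par cs K6) (word7 24) 2 (word7 21) := V_ded2 cs (a := 2) (b := 6) (by decide) v7_21_6 v7_17_2 v7_20_6
theorem v7_21_2 : V cs (par cs K6) (word7 21) 2 (word7 24) := V_symm cs v7_24_2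
theorem v7_38_2 : V cs (par cs K6) (word7 38) 2 (word7 35) := V_ded2 cs (a := 2) (b := 6) (by decide) v7_35_6 v7_31_2 v7_34_6
theorem v7_35_2 : V cs (par cs K6) (word7 35) 2 (word7 38) := V_symm cs v7_38_2
theorem v7_23_3 : V cs (par cs K6) (word7 23) 3 (word7 20) := V_ded2 cs (a := 3) (b := 5) (by decide) v7_20_5 v7_16_3 v7_19_5
theorem v7_20_3 : V cs (par cs K6) (word7 20) 3 (word7 23) := V_symm cs v7_23_3
theorem v7_1_3 : V cs (par cs K6) (word7 1) 3 (word7 1) := V_ded2 cs (a := 3) (b := 6) (by decide) v7_1_6 v7_0_3 v7_0_6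
theorem v7_27_3 : V cs (par cs K6) (word7 27) 3 (word7 24) := V_ded2 cs (a := 3) (b := 6) (by decide) v7_24_6 v7_20_3 v7_23_6
theorem v7_24_3 : V cs (par cs K6) (word7 24) 3 (word7 27) := V_symm cs v7_27_3
theorem v7_35_3 : V cs (par cs K6) (word7 35) 3 (word7 32) := V_ded2 cs (a := 3) (b := 6) (by decide) v7_32_6 v7_28_3 v7_31_6
theorem v7_32_3 : V cs (par cs K6) (word7 32) 3 (word7 35) := V_symm cs v7_35_3
theorem v7_25_1 : V cs (par cs K6) (word7 25) 1 (word7 23) := V_ded2 cs (a := 1) (b := 5) (by decide) v7_23_5 v7_19_1 v7_22_5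
theorem v7_23_1 : V cs (par cs K6) (word7 23) 1 (word7 25) := V_symm cs v7_25_1
theorem v7_1_1 : V cs (par cs K6) (word7 1) 1 (word7 1) := V_ded2 cs (a := 1) (b := 6) (by decide) v7_1_6 v7_0_1 v7_0_6
theorem v7_29_1 : V cs (par cs K6) (word7 29) 1 (word7 27) := V_ded2 cs (a := 1) (b := 6) (by decide) v7_27_6 v7_23_1 v7_25_6
theorem v7_27_1 : V cs (par cs K6) (word7 27) 1 (word7 29) := V_symm cs v7_29_1
theorem v7_1_4 : V cs (par cs K6) (word7 1) 4 (word7 1) := V_ded2 cs (a := 4) (b := 6) (by decide) v7_1_6 v7_0_4 v7_0_6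
theorem v7_30_4 : V cs (par cs K6) (word7 30) 4 (word7 27) := V_ded2 cs (a := 4) (b := 6) (by decide) v7_27_6 v7_23_4 v7_26_6
theorem v7_27_4 : V cs (par cs K6) (word7 27) 4 (word7 30) := V_symm cs v7_30_4
theorem v7_32_4 : V cs (par cs K6) (word7 32) 4 (word7 29) := V_ded2 cs (a := 4) (b := 6) (by decide) v7_29_6 v7_25_4 v7_28_6
theorem v7_29_4 : V cs (par cs K6) (word7 29) 4 (word7 32) := V_symm cs v7_32_4
theorem v7_3_5 : V cs (par cs K6) (word7 3) 5 (word7 3) := V_ded3 cs (a := 5) (b := 4) (by decide) v7_3_4 v7_2_5 v7_1_4 v7_1_5 v7_2_4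
theorem v7_2_6 : V cs (par cs K6) (word7 2) 6 (word7 2) := V_ded3 cs (a := 6) (b := 5) (by decide) v7_2_5 v7_1_6 v7_0_5 v7_0_6 v7_1_5
theorem v7_11_0 : V cs (par cs K6) (word7 11) 0 (word7 10) := V_ded2 cs (a := 0) (b := 3) (by decide) v7_10_3 v7_8_0 v7_9_3
theorem v7_10_0 : V cs (par cs K6) (word7 10) 0 (word7 11) := V_symm cs v7_11_0
theorem v7_14_0 : V cs (par cs K6) (word7 14) 0 (word7 12) := V_ded2 cs (a := 0) (b := 4) (by decide) v7_12_4 v7_10_0 v7_11_4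
theorem v7_12_0 : V cs (par cs K6) (word7 12) 0 (word7 14) := V_symm cs v7_14_0
theorem v7_2_0 : V cs (par cs K6) (word7 2) 0 (word7 2) := V_ded2 cs (a := 0) (b := 5) (by decide) v7_2_5 v7_1_0 v7_1_5
theorem v7_17_0 : V cs (par cs K6) (word7 17) 0 (word7 15) := V_ded2 cs (a := 0) (b := 5) (by decide) v7_15_5 v7_12_0 v7_14_5
theorem v7_15_0 : V cs (par cs K6) (word7 15) 0 (word7 17) := V_symm cs v7_17_0
theorem v7_43_0 : V cs (par cs K6) (word7 43) 0 (word7 41) := V_ded2 cs (a := 0) (b := 5) (by decide) v7_41_5 v7_38_0 v7_40_5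
theorem v7_41_0 : V cs (par cs K6) (word7 41) 0 (word7 43) := V_symm cs v7_43_0
theorem v7_21_0 : V cs (par cs K6) (word7 21) 0 (word7 18) := V_ded2 cs (a := 0) (b := 6) (by decide) v7_18_6 v7_15_0 v7_17_6
theorem v7_18_0 : V cs (par cs K6) (word7 18) 0 (word7 21) := V_symm cs v7_21_0
theorem v7_2_2 : V cs (par cs K6) (word7 2) 2 (word7 2) := V_ded2 cs (a := 2) (b := 5) (by decide) v7_2_5 v7_1_2 v7_1_5
theorem v7_41_2 : V cs (par cs K6) (word7 41) 2 (word7 39) := V_ded2 cs (a := 2) (b := 5) (by decide) v7_39_5 v7_35_2 v7_38_5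
theorem v7_39_2 : V cs (par cs K6) (word7 39) 2 (word7 41) := V_symm cs v7_41_2
theorem v7_2_3 : V cs (par cs K6) (word7 2) 3 (word7 2) := V_ded2 cs (a := 3) (b := 5) (by decide) v7_2_5 v7_1_3 v7_1_5
theorem v7_39_3 : V cs (par cs K6) (word7 39) 3 (word7 36) := V_ded2 cs (a := 3) (b := 5) (by decide) v7_36_5 v7_32_3 v7_35_5
theorem v7_36_3 : V cs (par cs K6) (word7 36) 3 (word7 39) := V_symm cs v7_39_3
theorem v7_28_1 : V cs (par cs K6) (word7 28) 1 (word7 26) := V_ded2 cs (a := 1) (b := 4) (by decide) v7_26_4 v7_23_1 v7_25_4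
theorem v7_26_1 : V cs (par cs K6) (word7 26) 1 (word7 28) := V_symm cs v7_28_1
theorem v7_32_1 : V cs (par cs K6) (word7 32) 1 (word7 30) := V_ded2 cs (a := 1) (b := 4) (by decide) v7_30_4 v7_27_1 v7_29_4
theorem v7_30_1 : V cs (par cs K6) (word7 30) 1 (word7 32) := V_symm cs v7_32_1
theorem v7_2_1 : V cs (par cs K6) (word7 2) 1 (word7 2) := V_ded2 cs (a := 1) (b := 5) (by decide) v7_2_5 v7_1_1 v7_1_5
theorem v7_36_1 : V cs (par cs K6) (word7 36) 1 (word7 33) := V_ded2 cs (a := 1) (b := 5) (by decide) v7_33_5 v7_30_1 v7_32_5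
theorem v7_33_1 : V cs (par cs K6) (word7 33) 1 (word7 36) := V_symm cs v7_36_1
theorem v7_4_4 : V cs (par cs K6) (word7 4) 4 (word7 4) := V_ded3 cs (a := 4) (b := 3) (by decide) v7_4_3 v7_3_4 v7_2_3 v7_2_4 v7_3_3
theorem v7_6_4 : V cs (par cs K6) (word7 6) 4 (word7 6) := V_ded2 cs (a := 4) (b := 1) (by decide) v7_6_1 v7_4_4 v7_4_1
theorem v7_4_5 : V cs (par cs K6) (word7 4) 5 (word7 4) := V_ded2 cs (a := 5) (b := 3) (by decide) v7_4_3 v7_3_5 v7_3_3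
theorem v7_6_5 : V cs (par cs K6) (word7 6) 5 (word7 6) := V_ded2 cs (a := 5) (b := 1) (by decide) v7_6_1 v7_4_5 v7_4_1
theorem v7_3_6 : V cs (par cs K6) (word7 3) 6 (word7 3) := V_ded2 cs (a := 6) (b := 4) (by decide) v7_3_4 v7_2_6 v7_2_4
theorem v7_3_0 : V cs (par cs K6) (word7 3) 0 (word7 3) := V_ded2 cs (a := 0) (b := 4) (by decide) v7_3_4 v7_2_0 v7_2_4
theorem v7_45_0 : V cs (par cs K6) (word7 45) 0 (word7 44) := V_ded2 cs (a := 0) (b := 4) (by decide) v7_44_4 v7_41_0 v7_43_4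
theorem v7_44_0 : V cs (par cs K6) (word7 44) 0 (word7 45) := V_symm cs v7_45_0
theorem v7_3_2 : V cs (par cs K6) (word7 3) 2 (word7 3) := V_ded2 cs (a := 2) (b := 4) (by decide) v7_3_4 v7_2_2 v7_2_4
theorem v7_44_2 : V cs (par cs K6) (word7 44) 2 (word7 42) := V_ded2 cs (a := 2) (b := 4) (by decide) v7_42_4 v7_39_2 v7_41_4
theorem v7_42_2 : V cs (par cs K6) (word7 42) 2 (word7 44) := V_symm cs v7_44_2
theorem v7_5_3 : V cs (par cs K6) (word7 5) 3 (word7 5) := V_ded3 cs (a := 3) (b := 2) (by decide) v7_5_2 v7_4_3 v7_3_2 v7_3_3 v7_4_2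
theorem v7_10_1 : V cs (par cs K6) (word7 10) 1 (word7 10) := V_ded3 cs (a := 1) (b := 3) (by decide) v7_10_3 v7_8_1 v7_5_3 v7_5_1 v7_8_3
theorem v7_3_1 : V cs (par cs K6) (word7 3) 1 (word7 3) := V_ded2 cs (a := 1) (b := 4) (by decide) v7_3_4 v7_2_1 v7_2_4
theorem v7_12_1 : V cs (par cs K6) (word7 12) 1 (word7 12) := V_ded2 cs (a := 1) (b := 4) (by decide) v7_12_4 v7_10_1 v7_10_4
theorem v7_15_1 : V cs (par cs K6) (word7 15) 1 (word7 15) := V_ded2 cs (a := 1) (b := 5) (by decide) v7_15_5 v7_12_1 v7_12_5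
theorem v7_18_1 : V cs (par cs K6) (word7 18) 1 (word7 18) := V_ded2 cs (a := 1) (b := 6) (by decide) v7_18_6 v7_15_1 v7_15_6
theorem v7_5_4 : V cs (par cs K6) (word7 5) 4 (word7 5) := V_ded2 cs (a := 4) (b := 2) (by decide) v7_5_2 v7_4_4 v7_4_2
theorem v7_8_4 : V cs (par cs K6) (word7 8) 4 (word7 8) := V_ded2 cs (a := 4) (b := 2) (by decide) v7_8_2 v7_6_4 v7_6_2
theorem v7_5_5 : V cs (par cs K6) (word7 5) 5 (word7 5) := V_ded2 cs (a := 5) (b := 2) (by decide) v7_5_2 v7_4_5 v7_4_2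
theorem v7_8_5 : V cs (par cs K6) (word7 8) 5 (word7 8) := V_ded2 cs (a := 5) (b := 2) (by decide) v7_8_2 v7_6_5 v7_6_2
theorem v7_10_5 : V cs (par cs K6) (word7 10) 5 (word7 10) := V_ded2 cs (a := 5) (b := 3) (by decide) v7_10_3 v7_8_5 v7_8_3
theorem v7_4_6 : V cs (par cs K6) (word7 4) 6 (word7 4) := V_ded2 cs (a := 6) (b := 3) (by decide) v7_4_3 v7_3_6 v7_3_3
theorem v7_6_6 : V cs (par cs K6) (word7 6) 6 (word7 6) := V_ded2 cs (a := 6) (b := 1) (by decide) v7_6_1 v7_4_6 v7_4_1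
theorem v7_4_0 : V cs (par cs K6) (word7 4) 0 (word7 4) := V_ded2 cs (a := 0) (b := 3) (by decide) v7_4_3 v7_3_0 v7_3_3
theorem v7_47_0 : V cs (par cs K6) (word7 47) 0 (word7 46) := V_ded2 cs (a := 0) (b := 3) (by decide) v7_46_3 v7_44_0 v7_45_3
theorem v7_46_0 : V cs (par cs K6) (word7 46) 0 (word7 47) := V_symm cs v7_47_0
theorem v7_6_0 : V cs (par cs K6) (word7 6) 0 (word7 6) := V_ded2 cs (a := 0) (b := 1) (by decide) v7_6_1 v7_4_0 v7_4_1
theorem v7_50_0 : V cs (par cs K6) (word7 50) 0 (word7 48) := V_ded2 cs (a := 0) (b := 1) (by decide) v7_48_1 v7_46_0 v7_47_1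
theorem v7_48_0 : V cs (par cs K6) (word7 48) 0 (word7 50) := V_symm cs v7_50_0
theorem v7_7_2 : V cs (par cs K6) (word7 7) 2 (word7 7) := V_ded3 cs (a := 2) (b := 0) (by decide) v7_7_0 v7_5_2 v7_4_0 v7_4_2 v7_5_0
theorem v7_9_2 : V cs (par cs K6) (word7 9) 2 (word7 9) := V_ded3 cs (a := 2) (b := 0) (by decide) v7_9_0 v7_8_2 v7_6_0 v7_6_2 v7_8_0
theorem v7_7_3 : V cs (par cs K6) (word7 7) 3 (word7 7) := V_ded2 cs (a := 3) (b := 0) (by decide) v7_7_0 v7_5_3 v7_5_0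
theorem v7_13_3 : V cs (par cs K6) (word7 13) 3 (word7 13) := V_ded3 cs (a := 3) (b := 2) (by decide) v7_13_2 v7_11_3 v7_9_2 v7_9_3 v7_11_2
theorem v7_6_3 : V cs (par cs K6) (word7 6) 3 (word7 6) := V_ded3 cs (a := 3) (b := 1) (by decide) v7_6_1 v7_4_3 v7_3_1 v7_3_3 v7_4_1
theorem v7_12_3 : V cs (par cs K6) (word7 12) 3 (word7 12) := V_ded3 cs (a := 3) (b := 4) (by decide) v7_12_4 v7_10_3 v7_8_4 v7_8_3 v7_10_4
theorem v7_15_3 : V cs (par cs K6) (word7 15) 3 (word7 15) := V_ded2 cs (a := 3) (b := 5) (by decide) v7_15_5 v7_12_3 v7_12_5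
theorem v7_18_3 : V cs (par cs K6) (word7 18) 3 (word7 18) := V_ded2 cs (a := 3) (b := 6) (by decide) v7_18_6 v7_15_3 v7_15_6
theorem v7_11_1 : V cs (par cs K6) (word7 11) 1 (word7 11) := V_ded2 cs (a := 1) (b := 0) (by decide) v7_11_0 v7_10_1 v7_10_0
theorem v7_14_1 : V cs (par cs K6) (word7 14) 1 (word7 14) := V_ded2 cs (a := 1) (b := 0) (by decide) v7_14_0 v7_12_1 v7_12_0
theorem v7_17_1 : V cs (par cs K6) (word7 17) 1 (word7 17) := V_ded2 cs (a := 1) (b := 0) (by decide) v7_17_0 v7_15_1 v7_15_0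
theorem v7_21_1 : V cs (par cs K6) (word7 21) 1 (word7 21) := V_ded2 cs (a := 1) (b := 0) (by decide) v7_21_0 v7_18_1 v7_18_0
theorem v7_13_1 : V cs (par cs K6) (word7 13) 1 (word7 13) := V_ded2 cs (a := 1) (b := 2) (by decide) v7_13_2 v7_11_1 v7_11_2
theorem v7_16_1 : V cs (par cs K6) (word7 16) 1 (word7 16) := V_ded2 cs (a := 1) (b := 2) (by decide) v7_16_2 v7_14_1 v7_14_2
theorem v7_20_1 : V cs (par cs K6) (word7 20) 1 (word7 20) := V_ded2 cs (a := 1) (b := 2) (by decide) v7_20_2 v7_17_1 v7_17_2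
theorem v7_24_1 : V cs (par cs K6) (word7 24) 1 (word7 24) := V_ded2 cs (a := 1) (b := 2) (by decide) v7_24_2 v7_21_1 v7_21_2
theorem v7_7_4 : V cs (par cs K6) (word7 7) 4 (word7 7) := V_ded2 cs (a := 4) (b := 0) (by decide) v7_7_0 v7_5_4 v7_5_0
theorem v7_9_4 : V cs (par cs K6) (word7 9) 4 (word7 9) := V_ded2 cs (a := 4) (b := 0) (by decide) v7_9_0 v7_8_4 v7_8_0
theorem v7_19_4 : V cs (par cs K6) (word7 19) 4 (word7 19) := V_ded3 cs (a := 4) (b := 3) (by decide) v7_19_3 v7_16_4 v7_13_3 v7_13_4 v7_16_3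
theorem v7_22_4 : V cs (par cs K6) (word7 22) 4 (word7 22) := V_ded2 cs (a := 4) (b := 1) (by decide) v7_22_1 v7_19_4 v7_19_1
theorem v7_15_4 : V cs (par cs K6) (word7 15) 4 (word7 15) := V_ded3 cs (a := 4) (b := 5) (by decide) v7_15_5 v7_12_4 v7_10_5 v7_10_4 v7_12_5
theorem v7_18_4 : V cs (par cs K6) (word7 18) 4 (word7 18) := V_ded2 cs (a := 4) (b := 6) (by decide) v7_18_6 v7_15_4 v7_15_6
theorem v7_7_5 : V cs (par cs K6) (word7 7) 5 (word7 7) := V_ded2 cs (a := 5) (b := 0) (by decide) v7_7_0 v7_5_5 v7_5_0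
theorem v7_9_5 : V cs (par cs K6) (word7 9) 5 (word7 9) := V_ded2 cs (a := 5) (b := 0) (by decide) v7_9_0 v7_8_5 v7_8_0
theorem v7_11_5 : V cs (par cs K6) (word7 11) 5 (word7 11) := V_ded2 cs (a := 5) (b := 0) (by decide) v7_11_0 v7_10_5 v7_10_0
theorem v7_13_5 : V cs (par cs K6) (word7 13) 5 (word7 13) := V_ded2 cs (a := 5) (b := 2) (by decide) v7_13_2 v7_11_5 v7_11_2
theorem v7_26_5 : V cs (par cs K6) (word7 26) 5 (word7 26) := V_ded3 cs (a := 5) (b := 4) (by decide) v7_26_4 v7_23_5 v7_19_4 v7_19_5 v7_23_4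
theorem v7_28_5 : V cs (par cs K6) (word7 28) 5 (word7 28) := V_ded3 cs (a := 5) (b := 4) (by decide) v7_28_4 v7_25_5 v7_22_4 v7_22_5 v7_25_4
theorem v7_5_6 : V cs (par cs K6) (word7 5) 6 (word7 5) := V_ded2 cs (a := 6) (b := 2) (by decide) v7_5_2 v7_4_6 v7_4_2
theorem v7_8_6 : V cs (par cs K6) (word7 8) 6 (word7 8) := V_ded2 cs (a := 6) (b := 2) (by decide) v7_8_2 v7_6_6 v7_6_2
theorem v7_10_6 : V cs (par cs K6) (word7 10) 6 (word7 10) := V_ded2 cs (a := 6) (b := 3) (by decide) v7_10_3 v7_8_6 v7_8_3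
theorem v7_12_6 : V cs (par cs K6) (word7 12) 6 (word7 12) := V_ded2 cs (a := 6) (b := 4) (by decide) v7_12_4 v7_10_6 v7_10_4
theorem v7_33_6 : V cs (par cs K6) (word7 33) 6 (word7 33) := V_ded3 cs (a := 6) (b := 5) (by decide) v7_33_5 v7_30_6 v7_26_5 v7_26_6 v7_30_5
theorem v7_36_6 : V cs (par cs K6) (word7 36) 6 (word7 36) := V_ded3 cs (a := 6) (b := 5) (by decide) v7_36_5 v7_32_6 v7_28_5 v7_28_6 v7_32_5
theorem v7_10_2 : V cs (par cs K6) (word7 10) 2 (word7 10) := V_ded3 cs (a := 2) (b := 3) (by decide) v7_10_3 v7_8_2 v7_6_3 v7_6_2 v7_8_3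
theorem v7_12_2 : V cs (par cs K6) (word7 12) 2 (word7 12) := V_ded2 cs (a := 2) (b := 4) (by decide) v7_12_4 v7_10_2 v7_10_4
theorem v7_15_2 : V cs (par cs K6) (word7 15) 2 (word7 15) := V_ded2 cs (a := 2) (b := 5) (by decide) v7_15_5 v7_12_2 v7_12_5
theorem v7_18_2 : V cs (par cs K6) (word7 18) 2 (word7 18) := V_ded2 cs (a := 2) (b := 6) (by decide) v7_18_6 v7_15_2 v7_15_6
theorem v7_14_3 : V cs (par cs K6) (word7 14) 3 (word7 14) := V_ded2 cs (a := 3) (b := 0) (by decide) v7_14_0 v7_12_3 v7_12_0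
theorem v7_17_3 : V cs (par cs K6) (word7 17) 3 (word7 17) := V_ded2 cs (a := 3) (b := 0) (by decide) v7_17_0 v7_15_3 v7_15_0
theorem v7_21_3 : V cs (par cs K6) (word7 21) 3 (word7 21) := V_ded2 cs (a := 3) (b := 0) (by decide) v7_21_0 v7_18_3 v7_18_0
theorem v7_22_3 : V cs (par cs K6) (word7 22) 3 (word7 22) := V_ded3 cs (a := 3) (b := 1) (by decide) v7_22_1 v7_19_3 v7_16_1 v7_16_3 v7_19_1
theorem v7_25_3 : V cs (par cs K6) (word7 25) 3 (word7 25) := V_ded3 cs (a := 3) (b := 1) (by decide) v7_25_1 v7_23_3 v7_20_1 v7_20_3 v7_23_1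
theorem v7_29_3 : V cs (par cs K6) (word7 29) 3 (word7 29) := V_ded3 cs (a := 3) (b := 1) (by decide) v7_29_1 v7_27_3 v7_24_1 v7_24_3 v7_27_1
theorem v7_17_4 : V cs (par cs K6) (word7 17) 4 (word7 17) := V_ded2 cs (a := 4) (b := 0) (by decide) v7_17_0 v7_15_4 v7_15_0
theorem v7_21_4 : V cs (par cs K6) (word7 21) 4 (word7 21) := V_ded2 cs (a := 4) (b := 0) (by decide) v7_21_0 v7_18_4 v7_18_0
theorem v7_20_4 : V cs (par cs K6) (word7 20) 4 (word7 20) := V_ded2 cs (a := 4) (b := 2) (by decide) v7_20_2 v7_17_4 v7_17_2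
theorem v7_24_4 : V cs (par cs K6) (word7 24) 4 (word7 24) := V_ded2 cs (a := 4) (b := 2) (by decide) v7_24_2 v7_21_4 v7_21_2
theorem v7_31_4 : V cs (par cs K6) (word7 31) 4 (word7 31) := V_ded3 cs (a := 4) (b := 3) (by decide) v7_31_3 v7_28_4 v7_25_3 v7_25_4 v7_28_3
theorem v7_35_4 : V cs (par cs K6) (word7 35) 4 (word7 35) := V_ded3 cs (a := 4) (b := 3) (by decide) v7_35_3 v7_32_4 v7_29_3 v7_29_4 v7_32_3
theorem v7_31_5 : V cs (par cs K6) (word7 31) 5 (word7 31) := V_ded2 cs (a := 5) (b := 3) (by decide) v7_31_3 v7_28_5 v7_28_3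
theorem v7_42_5 : V cs (par cs K6) (word7 42) 5 (word7 42) := V_ded3 cs (a := 5) (b := 4) (by decide) v7_42_4 v7_39_5 v7_35_4 v7_35_5 v7_39_4
theorem v7_18_5 : V cs (par cs K6) (word7 18) 5 (word7 18) := V_ded3 cs (a := 5) (b := 6) (by decide) v7_18_6 v7_15_5 v7_12_6 v7_12_5 v7_15_6
theorem v7_7_6 : V cs (par cs K6) (word7 7) 6 (word7 7) := V_ded2 cs (a := 6) (b := 0) (by decide) v7_7_0 v7_5_6 v7_5_0
theorem v7_9_6 : V cs (par cs K6) (word7 9) 6 (word7 9) := V_ded2 cs (a := 6) (b := 0) (by decide) v7_9_0 v7_8_6 v7_8_0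
theorem v7_11_6 : V cs (par cs K6) (word7 11) 6 (word7 11) := V_ded2 cs (a := 6) (b := 0) (by decide) v7_11_0 v7_10_6 v7_10_0
theorem v7_14_6 : V cs (par cs K6) (word7 14) 6 (word7 14) := V_ded2 cs (a := 6) (b := 0) (by decide) v7_14_0 v7_12_6 v7_12_0
theorem v7_13_6 : V cs (par cs K6) (word7 13) 6 (word7 13) := V_ded2 cs (a := 6) (b := 2) (by decide) v7_13_2 v7_11_6 v7_11_2
theorem v7_16_6 : V cs (par cs K6) (word7 16) 6 (word7 16) := V_ded2 cs (a := 6) (b := 2) (by decide) v7_16_2 v7_14_6 v7_14_2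
theorem v7_19_6 : V cs (par cs K6) (word7 19) 6 (word7 19) := V_ded2 cs (a := 6) (b := 3) (by decide) v7_19_3 v7_16_6 v7_16_3
theorem v7_39_6 : V cs (par cs K6) (word7 39) 6 (word7 39) := V_ded2 cs (a := 6) (b := 3) (by decide) v7_39_3 v7_36_6 v7_36_3
theorem v7_22_6 : V cs (par cs K6) (word7 22) 6 (word7 22) := V_ded2 cs (a := 6) (b := 1) (by decide) v7_22_1 v7_19_6 v7_19_1
theorem v7_42_6 : V cs (par cs K6) (word7 42) 6 (word7 42) := V_ded2 cs (a := 6) (b := 4) (by decide) v7_42_4 v7_39_6 v7_39_4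
theorem v7_13_0 : V cs (par cs K6) (word7 13) 0 (word7 13) := V_ded3 cs (a := 0) (b := 2) (by decide) v7_13_2 v7_11_0 v7_10_2 v7_10_0 v7_11_2
theorem v7_16_0 : V cs (par cs K6) (word7 16) 0 (word7 16) := V_ded3 cs (a := 0) (b := 2) (by decide) v7_16_2 v7_14_0 v7_12_2 v7_12_0 v7_14_2
theorem v7_20_0 : V cs (par cs K6) (word7 20) 0 (word7 20) := V_ded3 cs (a := 0) (b := 2) (by decide) v7_20_2 v7_17_0 v7_15_2 v7_15_0 v7_17_2
theorem v7_24_0 : V cs (par cs K6) (word7 24) 0 (word7 24) := V_ded3 cs (a := 0) (b := 2) (by decide) v7_24_2 v7_21_0 v7_18_2 v7_18_0 v7_21_2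
theorem v7_19_0 : V cs (par cs K6) (word7 19) 0 (word7 19) := V_ded2 cs (a := 0) (b := 3) (by decide) v7_19_3 v7_16_0 v7_16_3
theorem v7_23_0 : V cs (par cs K6) (word7 23) 0 (word7 23) := V_ded2 cs (a := 0) (b := 3) (by decide) v7_23_3 v7_20_0 v7_20_3
theorem v7_27_0 : V cs (par cs K6) (word7 27) 0 (word7 27) := V_ded2 cs (a := 0) (b := 3) (by decide) v7_27_3 v7_24_0 v7_24_3
theorem v7_22_0 : V cs (par cs K6) (word7 22) 0 (word7 22) := V_ded2 cs (a := 0) (b := 1) (by decide) v7_22_1 v7_19_0 v7_19_1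
theorem v7_25_0 : V cs (par cs K6) (word7 25) 0 (word7 25) := V_ded2 cs (a := 0) (b := 1) (by decide) v7_25_1 v7_23_0 v7_23_1
theorem v7_29_0 : V cs (par cs K6) (word7 29) 0 (word7 29) := V_ded2 cs (a := 0) (b := 1) (by decide) v7_29_1 v7_27_0 v7_27_1
theorem v7_26_0 : V cs (par cs K6) (word7 26) 0 (word7 26) := V_ded2 cs (a := 0) (b := 4) (by decide) v7_26_4 v7_23_0 v7_23_4
theorem v7_28_0 : V cs (par cs K6) (word7 28) 0 (word7 28) := V_ded2 cs (a := 0) (b := 4) (by decide) v7_28_4 v7_25_0 v7_25_4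
theorem v7_30_0 : V cs (par cs K6) (word7 30) 0 (word7 30) := V_ded2 cs (a := 0) (b := 4) (by decide) v7_30_4 v7_27_0 v7_27_4
theorem v7_32_0 : V cs (par cs K6) (word7 32) 0 (word7 32) := V_ded2 cs (a := 0) (b := 4) (by decide) v7_32_4 v7_29_0 v7_29_4
theorem v7_33_0 : V cs (par cs K6) (word7 33) 0 (word7 33) := V_ded2 cs (a := 0) (b := 5) (by decide) v7_33_5 v7_30_0 v7_30_5
theorem v7_36_0 : V cs (par cs K6) (word7 36) 0 (word7 36) := V_ded2 cs (a := 0) (b := 5) (by decide) v7_36_5 v7_32_0 v7_32_5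
theorem v7_19_2 : V cs (par cs K6) (word7 19) 2 (word7 19) := V_ded3 cs (a := 2) (b := 3) (by decide) v7_19_3 v7_16_2 v7_14_3 v7_14_2 v7_16_3
theorem v7_23_2 : V cs (par cs K6) (word7 23) 2 (word7 23) := V_ded3 cs (a := 2) (b := 3) (by decide) v7_23_3 v7_20_2 v7_17_3 v7_17_2 v7_20_3
theorem v7_27_2 : V cs (par cs K6) (word7 27) 2 (word7 27) := V_ded3 cs (a := 2) (b := 3) (by decide) v7_27_3 v7_24_2 v7_21_3 v7_21_2 v7_24_3
theorem v7_22_2 : V cs (par cs K6) (word7 22) 2 (word7 22) := V_ded2 cs (a := 2) (b := 1) (by decide) v7_22_1 v7_19_2 v7_19_1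
theorem v7_25_2 : V cs (par cs K6) (word7 25) 2 (word7 25) := V_ded2 cs (a := 2) (b := 1) (by decide) v7_25_1 v7_23_2 v7_23_1
theorem v7_29_2 : V cs (par cs K6) (word7 29) 2 (word7 29) := V_ded2 cs (a := 2) (b := 1) (by decide) v7_29_1 v7_27_2 v7_27_1
theorem v7_26_2 : V cs (par cs K6) (word7 26) 2 (word7 26) := V_ded2 cs (a := 2) (b := 4) (by decide) v7_26_4 v7_23_2 v7_23_4
theorem v7_28_2 : V cs (par cs K6) (word7 28) 2 (word7 28) := V_ded2 cs (a := 2) (b := 4) (by decide) v7_28_4 v7_25_2 v7_25_4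
theorem v7_30_2 : V cs (par cs K6) (word7 30) 2 (word7 30) := V_ded2 cs (a := 2) (b := 4) (by decide) v7_30_4 v7_27_2 v7_27_4
theorem v7_32_2 : V cs (par cs K6) (word7 32) 2 (word7 32) := V_ded2 cs (a := 2) (b := 4) (by decide) v7_32_4 v7_29_2 v7_29_4
theorem v7_33_2 : V cs (par cs K6) (word7 33) 2 (word7 33) := V_ded2 cs (a := 2) (b := 5) (by decide) v7_33_5 v7_30_2 v7_30_5
theorem v7_36_2 : V cs (par cs K6) (word7 36) 2 (word7 36) := V_ded2 cs (a := 2) (b := 5) (by decide) v7_36_5 v7_32_2 v7_32_5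
theorem v7_34_3 : V cs (par cs K6) (word7 34) 3 (word7 34) := V_ded3 cs (a := 3) (b := 2) (by decide) v7_34_2 v7_31_3 v7_28_2 v7_28_3 v7_31_2
theorem v7_38_3 : V cs (par cs K6) (word7 38) 3 (word7 38) := V_ded3 cs (a := 3) (b := 2) (by decide) v7_38_2 v7_35_3 v7_32_2 v7_32_3 v7_35_2
theorem v7_41_3 : V cs (par cs K6) (word7 41) 3 (word7 41) := V_ded3 cs (a := 3) (b := 2) (by decide) v7_41_2 v7_39_3 v7_36_2 v7_36_3 v7_39_2
theorem v7_26_3 : V cs (par cs K6) (word7 26) 3 (word7 26) := V_ded3 cs (a := 3) (b := 4) (by decide) v7_26_4 v7_23_3 v7_20_4 v7_20_3 v7_23_4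
theorem v7_30_3 : V cs (par cs K6) (word7 30) 3 (word7 30) := V_ded3 cs (a := 3) (b := 4) (by decide) v7_30_4 v7_27_3 v7_24_4 v7_24_3 v7_27_4
theorem v7_33_3 : V cs (par cs K6) (word7 33) 3 (word7 33) := V_ded2 cs (a := 3) (b := 5) (by decide) v7_33_5 v7_30_3 v7_30_5
theorem v7_31_1 : V cs (par cs K6) (word7 31) 1 (word7 31) := V_ded3 cs (a := 1) (b := 3) (by decide) v7_31_3 v7_28_1 v7_26_3 v7_26_1 v7_28_3
theorem v7_35_1 : V cs (par cs K6) (word7 35) 1 (word7 35) := V_ded3 cs (a := 1) (b := 3) (by decide) v7_35_3 v7_32_1 v7_30_3 v7_30_1 v7_32_3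
theorem v7_39_1 : V cs (par cs K6) (word7 39) 1 (word7 39) := V_ded3 cs (a := 1) (b := 3) (by decide) v7_39_3 v7_36_1 v7_33_3 v7_33_1 v7_36_3
theorem v7_42_1 : V cs (par cs K6) (word7 42) 1 (word7 42) := V_ded2 cs (a := 1) (b := 4) (by decide) v7_42_4 v7_39_1 v7_39_4
theorem v7_34_4 : V cs (par cs K6) (word7 34) 4 (word7 34) := V_ded2 cs (a := 4) (b := 2) (by decide) v7_34_2 v7_31_4 v7_31_2
theorem v7_38_4 : V cs (par cs K6) (word7 38) 4 (word7 38) := V_ded2 cs (a := 4) (b := 2) (by decide) v7_38_2 v7_35_4 v7_35_2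
theorem v7_46_4 : V cs (par cs K6) (word7 46) 4 (word7 46) := V_ded3 cs (a := 4) (b := 3) (by decide) v7_46_3 v7_44_4 v7_41_3 v7_41_4 v7_44_3
theorem v7_48_4 : V cs (par cs K6) (word7 48) 4 (word7 48) := V_ded2 cs (a := 4) (b := 1) (by decide) v7_48_1 v7_46_4 v7_46_1
theorem v7_21_5 : V cs (par cs K6) (word7 21) 5 (word7 21) := V_ded2 cs (a := 5) (b := 0) (by decide) v7_21_0 v7_18_5 v7_18_0
theorem v7_24_5 : V cs (par cs K6) (word7 24) 5 (word7 24) := V_ded2 cs (a := 5) (b := 2) (by decide) v7_24_2 v7_21_5 v7_21_2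
theorem v7_34_5 : V cs (par cs K6) (word7 34) 5 (word7 34) := V_ded2 cs (a := 5) (b := 2) (by decide) v7_34_2 v7_31_5 v7_31_2
theorem v7_44_5 : V cs (par cs K6) (word7 44) 5 (word7 44) := V_ded2 cs (a := 5) (b := 2) (by decide) v7_44_2 v7_42_5 v7_42_2
theorem v7_27_5 : V cs (par cs K6) (word7 27) 5 (word7 27) := V_ded2 cs (a := 5) (b := 3) (by decide) v7_27_3 v7_24_5 v7_24_3
theorem v7_46_5 : V cs (par cs K6) (word7 46) 5 (word7 46) := V_ded2 cs (a := 5) (b := 3) (by decide) v7_46_3 v7_44_5 v7_44_3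
theorem v7_29_5 : V cs (par cs K6) (word7 29) 5 (word7 29) := V_ded2 cs (a := 5) (b := 1) (by decide) v7_29_1 v7_27_5 v7_27_1
theorem v7_48_5 : V cs (par cs K6) (word7 48) 5 (word7 48) := V_ded2 cs (a := 5) (b := 1) (by decide) v7_48_1 v7_46_5 v7_46_1
theorem v7_41_6 : V cs (par cs K6) (word7 41) 6 (word7 41) := V_ded2 cs (a := 6) (b := 2) (by decide) v7_41_2 v7_39_6 v7_39_2
theorem v7_44_6 : V cs (par cs K6) (word7 44) 6 (word7 44) := V_ded2 cs (a := 6) (b := 2) (by decide) v7_44_2 v7_42_6 v7_42_2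
theorem v7_46_6 : V cs (par cs K6) (word7 46) 6 (word7 46) := V_ded2 cs (a := 6) (b := 3) (by decide) v7_46_3 v7_44_6 v7_44_3
theorem v7_48_6 : V cs (par cs K6) (word7 48) 6 (word7 48) := V_ded2 cs (a := 6) (b := 1) (by decide) v7_48_1 v7_46_6 v7_46_1
theorem v7_31_0 : V cs (par cs K6) (word7 31) 0 (word7 31) := V_ded2 cs (a := 0) (b := 3) (by decide) v7_31_3 v7_28_0 v7_28_3
theorem v7_35_0 : V cs (par cs K6) (word7 35) 0 (word7 35) := V_ded2 cs (a := 0) (b := 3) (by decide) v7_35_3 v7_32_0 v7_32_3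
theorem v7_39_0 : V cs (par cs K6) (word7 39) 0 (word7 39) := V_ded2 cs (a := 0) (b := 3) (by decide) v7_39_3 v7_36_0 v7_36_3
theorem v7_42_0 : V cs (par cs K6) (word7 42) 0 (word7 42) := V_ded2 cs (a := 0) (b := 4) (by decide) v7_42_4 v7_39_0 v7_39_4
theorem v7_37_2 : V cs (par cs K6) (word7 37) 2 (word7 37) := V_ded3 cs (a := 2) (b := 0) (by decide) v7_37_0 v7_34_2 v7_31_0 v7_31_2 v7_34_0
theorem v7_40_2 : V cs (par cs K6) (word7 40) 2 (word7 40) := V_ded3 cs (a := 2) (b := 0) (by decide) v7_40_0 v7_38_2 v7_35_0 v7_35_2 v7_38_0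
theorem v7_43_2 : V cs (par cs K6) (word7 43) 2 (word7 43) := V_ded3 cs (a := 2) (b := 0) (by decide) v7_43_0 v7_41_2 v7_39_0 v7_39_2 v7_41_0
theorem v7_45_2 : V cs (par cs K6) (word7 45) 2 (word7 45) := V_ded3 cs (a := 2) (b := 0) (by decide) v7_45_0 v7_44_2 v7_42_0 v7_42_2 v7_44_0
theorem v7_37_3 : V cs (par cs K6) (word7 37) 3 (word7 37) := V_ded2 cs (a := 3) (b := 0) (by decide) v7_37_0 v7_34_3 v7_34_0
theorem v7_40_3 : V cs (par cs K6) (word7 40) 3 (word7 40) := V_ded2 cs (a := 3) (b := 0) (by decide) v7_40_0 v7_38_3 v7_38_0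
theorem v7_43_3 : V cs (par cs K6) (word7 43) 3 (word7 43) := V_ded2 cs (a := 3) (b := 0) (by decide) v7_43_0 v7_41_3 v7_41_0
theorem v7_49_3 : V cs (par cs K6) (word7 49) 3 (word7 49) := V_ded3 cs (a := 3) (b := 2) (by decide) v7_49_2 v7_47_3 v7_45_2 v7_45_3 v7_47_2
theorem v7_34_1 : V cs (par cs K6) (word7 34) 1 (word7 34) := V_ded2 cs (a := 1) (b := 2) (by decide) v7_34_2 v7_31_1 v7_31_2
theorem v7_38_1 : V cs (par cs K6) (word7 38) 1 (word7 38) := V_ded2 cs (a := 1) (b := 2) (by decide) v7_38_2 v7_35_1 v7_35_2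
theorem v7_41_1 : V cs (par cs K6) (word7 41) 1 (word7 41) := V_ded2 cs (a := 1) (b := 2) (by decide) v7_41_2 v7_39_1 v7_39_2
theorem v7_44_1 : V cs (par cs K6) (word7 44) 1 (word7 44) := V_ded2 cs (a := 1) (b := 2) (by decide) v7_44_2 v7_42_1 v7_42_2
theorem v7_52_1 : V cs (par cs K6) (word7 52) 1 (word7 52) := V_ded3 cs (a := 1) (b := 3) (by decide) v7_52_3 v7_51_1 v7_49_3 v7_49_1 v7_51_3
theorem v7_53_1 : V cs (par cs K6) (word7 53) 1 (word7 53) := V_ded2 cs (a := 1) (b := 4) (by decide) v7_53_4 v7_52_1 v7_52_4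
theorem v7_54_1 : V cs (par cs K6) (word7 54) 1 (word7 54) := V_ded2 cs (a := 1) (b := 5) (by decide) v7_54_5 v7_53_1 v7_53_5
theorem v7_55_1 : V cs (par cs K6) (word7 55) 1 (word7 55) := V_ded2 cs (a := 1) (b := 6) (by decide) v7_55_6 v7_54_1 v7_54_6
theorem v7_37_4 : V cs (par cs K6) (word7 37) 4 (word7 37) := V_ded2 cs (a := 4) (b := 0) (by decide) v7_37_0 v7_34_4 v7_34_0
theorem v7_40_4 : V cs (par cs K6) (word7 40) 4 (word7 40) := V_ded2 cs (a := 4) (b := 0) (by decide) v7_40_0 v7_38_4 v7_38_0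
theorem v7_47_4 : V cs (par cs K6) (word7 47) 4 (word7 47) := V_ded2 cs (a := 4) (b := 0) (by decide) v7_47_0 v7_46_4 v7_46_0
theorem v7_50_4 : V cs (par cs K6) (word7 50) 4 (word7 50) := V_ded2 cs (a := 4) (b := 0) (by decide) v7_50_0 v7_48_4 v7_48_0
theorem v7_49_4 : V cs (par cs K6) (word7 49) 4 (word7 49) := V_ded2 cs (a := 4) (b := 2) (by decide) v7_49_2 v7_47_4 v7_47_2
theorem v7_51_4 : V cs (par cs K6) (word7 51) 4 (word7 51) := V_ded2 cs (a := 4) (b := 2) (by decide) v7_51_2 v7_50_4 v7_50_2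
theorem v7_33_4 : V cs (par cs K6) (word7 33) 4 (word7 33) := V_ded3 cs (a := 4) (b := 5) (by decide) v7_33_5 v7_30_4 v7_27_5 v7_27_4 v7_30_5
theorem v7_36_4 : V cs (par cs K6) (word7 36) 4 (word7 36) := V_ded3 cs (a := 4) (b := 5) (by decide) v7_36_5 v7_32_4 v7_29_5 v7_29_4 v7_32_5
theorem v7_37_5 : V cs (par cs K6) (word7 37) 5 (word7 37) := V_ded2 cs (a := 5) (b := 0) (by decide) v7_37_0 v7_34_5 v7_34_0
theorem v7_45_5 : V cs (par cs K6) (word7 45) 5 (word7 45) := V_ded2 cs (a := 5) (b := 0) (by decide) v7_45_0 v7_44_5 v7_44_0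
theorem v7_47_5 : V cs (par cs K6) (word7 47) 5 (word7 47) := V_ded2 cs (a := 5) (b := 0) (by decide) v7_47_0 v7_46_5 v7_46_0
theorem v7_50_5 : V cs (par cs K6) (word7 50) 5 (word7 50) := V_ded2 cs (a := 5) (b := 0) (by decide) v7_50_0 v7_48_5 v7_48_0
theorem v7_49_5 : V cs (par cs K6) (word7 49) 5 (word7 49) := V_ded2 cs (a := 5) (b := 2) (by decide) v7_49_2 v7_47_5 v7_47_2
theorem v7_51_5 : V cs (par cs K6) (word7 51) 5 (word7 51) := V_ded2 cs (a := 5) (b := 2) (by decide) v7_51_2 v7_50_5 v7_50_2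
theorem v7_52_5 : V cs (par cs K6) (word7 52) 5 (word7 52) := V_ded2 cs (a := 5) (b := 3) (by decide) v7_52_3 v7_51_5 v7_51_3
theorem v7_43_6 : V cs (par cs K6) (word7 43) 6 (word7 43) := V_ded2 cs (a := 6) (b := 0) (by decide) v7_43_0 v7_41_6 v7_41_0
theorem v7_45_6 : V cs (par cs K6) (word7 45) 6 (word7 45) := V_ded2 cs (a := 6) (b := 0) (by decide) v7_45_0 v7_44_6 v7_44_0
theorem v7_47_6 : V cs (par cs K6) (word7 47) 6 (word7 47) := V_ded2 cs (a := 6) (b := 0) (by decide) v7_47_0 v7_46_6 v7_46_0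
theorem v7_50_6 : V cs (par cs K6) (word7 50) 6 (word7 50) := V_ded2 cs (a := 6) (b := 0) (by decide) v7_50_0 v7_48_6 v7_48_0
theorem v7_49_6 : V cs (par cs K6) (word7 49) 6 (word7 49) := V_ded2 cs (a := 6) (b := 2) (by decide) v7_49_2 v7_47_6 v7_47_2
theorem v7_51_6 : V cs (par cs K6) (word7 51) 6 (word7 51) := V_ded2 cs (a := 6) (b := 2) (by decide) v7_51_2 v7_50_6 v7_50_2
theorem v7_52_6 : V cs (par cs K6) (word7 52) 6 (word7 52) := V_ded2 cs (a := 6) (b := 3) (by decide) v7_52_3 v7_51_6 v7_51_3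
theorem v7_53_6 : V cs (par cs K6) (word7 53) 6 (word7 53) := V_ded2 cs (a := 6) (b := 4) (by decide) v7_53_4 v7_52_6 v7_52_4
theorem v7_48_3 : V cs (par cs K6) (word7 48) 3 (word7 48) := V_ded3 cs (a := 3) (b := 1) (by decide) v7_48_1 v7_46_3 v7_44_1 v7_44_3 v7_46_1
theorem v7_42_3 : V cs (par cs K6) (word7 42) 3 (word7 42) := V_ded3 cs (a := 3) (b := 4) (by decide) v7_42_4 v7_39_3 v7_36_4 v7_36_3 v7_39_4
theorem v7_53_3 : V cs (par cs K6) (word7 53) 3 (word7 53) := V_ded3 cs (a := 3) (b := 4) (by decide) v7_53_4 v7_52_3 v7_51_4 v7_51_3 v7_52_4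
theorem v7_54_3 : V cs (par cs K6) (word7 54) 3 (word7 54) := V_ded2 cs (a := 3) (b := 5) (by decide) v7_54_5 v7_53_3 v7_53_5
theorem v7_55_3 : V cs (par cs K6) (word7 55) 3 (word7 55) := V_ded2 cs (a := 3) (b := 6) (by decide) v7_55_6 v7_54_3 v7_54_6
theorem v7_37_1 : V cs (par cs K6) (word7 37) 1 (word7 37) := V_ded2 cs (a := 1) (b := 0) (by decide) v7_37_0 v7_34_1 v7_34_0
theorem v7_40_1 : V cs (par cs K6) (word7 40) 1 (word7 40) := V_ded2 cs (a := 1) (b := 0) (by decide) v7_40_0 v7_38_1 v7_38_0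
theorem v7_43_1 : V cs (par cs K6) (word7 43) 1 (word7 43) := V_ded2 cs (a := 1) (b := 0) (by decide) v7_43_0 v7_41_1 v7_41_0
theorem v7_45_1 : V cs (par cs K6) (word7 45) 1 (word7 45) := V_ded2 cs (a := 1) (b := 0) (by decide) v7_45_0 v7_44_1 v7_44_0
theorem v7_54_4 : V cs (par cs K6) (word7 54) 4 (word7 54) := V_ded3 cs (a := 4) (b := 5) (by decide) v7_54_5 v7_53_4 v7_52_5 v7_52_4 v7_53_5
theorem v7_55_4 : V cs (par cs K6) (word7 55) 4 (word7 55) := V_ded2 cs (a := 4) (b := 6) (by decide) v7_55_6 v7_54_4 v7_54_6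
theorem v7_55_5 : V cs (par cs K6) (word7 55) 5 (word7 55) := V_ded3 cs (a := 5) (b := 6) (by decide) v7_55_6 v7_54_5 v7_53_6 v7_53_5 v7_54_6
theorem v7_46_2 : V cs (par cs K6) (word7 46) 2 (word7 46) := V_ded3 cs (a := 2) (b := 3) (by decide) v7_46_3 v7_44_2 v7_42_3 v7_42_2 v7_44_3
theorem v7_48_2 : V cs (par cs K6) (word7 48) 2 (word7 48) := V_ded2 cs (a := 2) (b := 1) (by decide) v7_48_1 v7_46_2 v7_46_1
theorem v7_50_3 : V cs (par cs K6) (word7 50) 3 (word7 50) := V_ded2 cs (a := 3) (b := 0) (by decide) v7_50_0 v7_48_3 v7_48_0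
theorem v7_49_0 : V cs (par cs K6) (word7 49) 0 (word7 49) := V_ded3 cs (a := 0) (b := 2) (by decide) v7_49_2 v7_47_0 v7_46_2 v7_46_0 v7_47_2
theorem v7_51_0 : V cs (par cs K6) (word7 51) 0 (word7 51) := V_ded3 cs (a := 0) (b := 2) (by decide) v7_51_2 v7_50_0 v7_48_2 v7_48_0 v7_50_2
theorem v7_52_0 : V cs (par cs K6) (word7 52) 0 (word7 52) := V_ded2 cs (a := 0) (b := 3) (by decide) v7_52_3 v7_51_0 v7_51_3
theorem v7_53_0 : V cs (par cs K6) (word7 53) 0 (word7 53) := V_ded2 cs (a := 0) (b := 4) (by decide) v7_53_4 v7_52_0 v7_52_4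
theorem v7_54_0 : V cs (par cs K6) (word7 54) 0 (word7 54) := V_ded2 cs (a := 0) (b := 5) (by decide) v7_54_5 v7_53_0 v7_53_5
theorem v7_55_0 : V cs (par cs K6) (word7 55) 0 (word7 55) := V_ded2 cs (a := 0) (b := 6) (by decide) v7_55_6 v7_54_0 v7_54_6
theorem v7_52_2 : V cs (par cs K6) (word7 52) 2 (word7 52) := V_ded3 cs (a := 2) (b := 3) (by decide) v7_52_3 v7_51_2 v7_50_3 v7_50_2 v7_51_3
theorem v7_53_2 : V cs (par cs K6) (word7 53) 2 (word7 53) := V_ded2 cs (a := 2) (b := 4) (by decide) v7_53_4 v7_52_2 v7_52_4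
theorem v7_54_2 : V cs (par cs K6) (word7 54) 2 (word7 54) := V_ded2 cs (a := 2) (b := 5) (by decide) v7_54_5 v7_53_2 v7_53_5
theorem v7_55_2 : V cs (par cs K6) (word7 55) 2 (word7 55) := V_ded2 cs (a := 2) (b := 6) (by decide) v7_55_6 v7_54_2 v7_54_6
theorem row7_0 : ∀ j ∈ K7, tbl7 0 j < 56 ∧ V cs (par cs K6) (word7 0) j (word7 (tbl7 0 j)) := by
  intro j hj
  simp only [K7, List.mem_cons, List.not_mem_nil, or_false] at hj
  rcases hj with rfl | rfl | rfl | rfl | rfl | rfl | rfl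
  exacts [⟨by decide, v7_0_0⟩, ⟨by decide, v7_0_2⟩, ⟨by decide, v7_0_3⟩, ⟨by decide, v7_0_1⟩, ⟨by decide, v7_0_4⟩, ⟨by decide, v7_0_5⟩, ⟨by decide, v7_0_6⟩]
theorem row7_1 : ∀ j ∈ K7, tbl7 1 j < 56 ∧ V cs (par cs K6) (word7 1) j (word7 (tbl7 1 j)) := by
  intro j hj
  simp only [K7, List.mem_cons, List.not_mem_nil, or_false] at hj
  rcases hj with rfl | rfl | rfl | rfl | rfl | rfl | rfl
  exacts [⟨by decide, v7_1_0⟩, ⟨by decide, v7_1_2⟩, ⟨by decide, v7_1_3⟩, ⟨by decide, v7_1_1⟩, ⟨by decide, v7_1_4⟩, ⟨by decide, v7_1_5⟩, ⟨by decide, v7_1_6⟩]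
theorem row7_2 : ∀ j ∈ K7, tbl7 2 j < 56 ∧ V cs (par cs K6) (word7 2) j (word7 (tbl7 2 j)) := by
  intro j hj
  simp only [K7, List.mem_cons, List.not_mem_nil, or_false] at hj
  rcases hj with rfl | rfl | rfl | rfl | rfl | rfl | rfl
  exacts [⟨by decide, v7_2_0⟩, ⟨by decide, v7_2_2⟩, ⟨by decide, v7_2_3⟩, ⟨by decide, v7_2_1⟩, ⟨by decide, v7_2_4⟩, ⟨by decide, v7_2_5⟩, ⟨by decide, v7_2_6⟩]
theorem row7_3 : ∀ j ∈ K7, tbl7 3 j < 56 ∧ V cs (par cs K6) (word7 3) j (word7 (tbl7 3 j)) := by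
  intro j hj
  simp only [K7, List.mem_cons, List.not_mem_nil, or_false] at hj
  rcases hj with rfl | rfl | rfl | rfl | rfl | rfl | rfl
  exacts [⟨by decide, v7_3_0⟩, ⟨by decide, v7_3_2⟩, ⟨by decide, v7_3_3⟩, ⟨by decide, v7_3_1⟩, ⟨by decide, v7_3_4⟩, ⟨by decide, v7_3_5⟩, ⟨by decide, v7_3_6⟩]
theorem row7_4 : ∀ j ∈ K7, tbl7 4 j < 56 ∧ V cs (par cs K6) (word7 4) j (word7 (tbl7 4 j)) := by
  intro j hj
  simp only [K7, List.mem_cons, List.not_mem_nil, or_false] at hj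
  rcases hj with rfl | rfl | rfl | rfl | rfl | rfl | rfl
  exacts [⟨by decide, v7_4_0⟩, ⟨by decide, v7_4_2⟩, ⟨by decide, v7_4_3⟩, ⟨by decide, v7_4_1⟩, ⟨by decide, v7_4_4⟩, ⟨by decide, v7_4_5⟩, ⟨by decide, v7_4_6⟩]
theorem row7_5 : ∀ j ∈ K7, tbl7 5 j < 56 ∧ V cs (par cs K6) (word7 5) j (word7 (tbl7 5 j)) := by
  intro j hj
  simp only [K7, List.mem_cons, List.not_mem_nil, or_false] at hj
  rcases hj with rfl | rfl | rfl | rfl | rfl | rfl | rfl
  exacts [⟨by decide, v7_5_0⟩, ⟨by decide, v7_5_2⟩, ⟨by decide, v7_5_3⟩, ⟨by decide, v7_5_1⟩, ⟨by decide, v7_5_4⟩, ⟨by decide, v7_5_5⟩, ⟨by decide, v7_5_6⟩]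
theorem row7_6 : ∀ j ∈ K7, tbl7 6 j < 56 ∧ V cs (par cs K6) (word7 6) j (word7 (tbl7 6 j)) := by
  intro j hj
  simp only [K7, List.mem_cons, List.not_mem_nil, or_false] at hj
  rcases hj with rfl | rfl | rfl | rfl | rfl | rfl | rfl
  exacts [⟨by decide, v7_6_0⟩, ⟨by decide, v7_6_2⟩, ⟨by decide, v7_6_3⟩, ⟨by decide, v7_6_1⟩, ⟨by decide, v7_6_4⟩, ⟨by decide, v7_6_5⟩, ⟨by decide, v7_6_6⟩]
theorem row7_7 : ∀ j ∈ K7, tbl7 7 j < 56 ∧ V cs (par cs K6) (word7 7) j (word7 (tbl7 7 j)) := by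
  intro j hj
  simp only [K7, List.mem_cons, List.not_mem_nil, or_false] at hj
  rcases hj with rfl | rfl | rfl | rfl | rfl | rfl | rfl
  exacts [⟨by decide, v7_7_0⟩, ⟨by decide, v7_7_2⟩, ⟨by decide, v7_7_3⟩, ⟨by decide, v7_7_1⟩, ⟨by decide, v7_7_4⟩, ⟨by decide, v7_7_5⟩, ⟨by decide, v7_7_6⟩]
theorem row7_8 : ∀ j ∈ K7, tbl7 8 j < 56 ∧ V cs (par cs K6) (word7 8) j (word7 (tbl7 8 j)) := by
  intro j hj
  simp only [K7, List.mem_cons, List.not_mem_nil, or_false] at hj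
  rcases hj with rfl | rfl | rfl | rfl | rfl | rfl | rfl
  exacts [⟨by decide, v7_8_0⟩, ⟨by decide, v7_8_2⟩, ⟨by decide, v7_8_3⟩, ⟨by decide, v7_8_1⟩, ⟨by decide, v7_8_4⟩, ⟨by decide, v7_8_5⟩, ⟨by decide, v7_8_6⟩]
theorem row7_9 : ∀ j ∈ K7, tbl7 9 j < 56 ∧ V cs (par cs K6) (word7 9) j (word7 (tbl7 9 j)) := by
  intro j hj
  simp only [K7, List.mem_cons, List.not_mem_nil, or_false] at hj
  rcases hj with rfl | rfl | rfl | rfl | rfl | rfl | rfl
  exacts [⟨by decide, v7_9_0⟩, ⟨by decide, v7_9_2⟩, ⟨by decide, v7_9_3⟩, ⟨by decide, v7_9_1⟩, ⟨by decide, v7_9_4⟩, ⟨by decide, v7_9_5⟩, ⟨by decide, v7_9_6⟩]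
theorem row7_10 : ∀ j ∈ K7, tbl7 10 j < 56 ∧ V cs (par cs K6) (word7 10) j (word7 (tbl7 10 j)) := by
  intro j hj
  simp only [K7, List.mem_cons, List.not_mem_nil, or_false] at hj
  rcases hj with rfl | rfl | rfl | rfl | rfl | rfl | rfl
  exacts [⟨by decide, v7_10_0⟩, ⟨by decide, v7_10_2⟩, ⟨by decide, v7_10_3⟩, ⟨by decide, v7_10_1⟩, ⟨by decide, v7_10_4⟩, ⟨by decide, v7_10_5⟩, ⟨by decide, v7_10_6⟩]
theorem row7_11 : ∀ j ∈ K7, tbl7 11 j < 56 ∧ V cs (par cs K6) (word7 11) j (word7 (tbl7 11 j)) := by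
  intro j hj
  simp only [K7, List.mem_cons, List.not_mem_nil, or_false] at hj
  rcases hj with rfl | rfl | rfl | rfl | rfl | rfl | rfl
  exacts [⟨by decide, v7_11_0⟩, ⟨by decide, v7_11_2⟩, ⟨by decide, v7_11_3⟩, ⟨by decide, v7_11_1⟩, ⟨by decide, v7_11_4⟩, ⟨by decide, v7_11_5⟩, ⟨by decide, v7_11_6⟩]
theorem row7_12 : ∀ j ∈ K7, tbl7 12 j < 56 ∧ V cs (par cs K6) (word7 12) j (word7 (tbl7 12 j)) := by
  intro j hj
  simp only [K7, List.mem_cons, List.not_mem_nil, or_false] at hj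
  rcases hj with rfl | rfl | rfl | rfl | rfl | rfl | rfl
  exacts [⟨by decide, v7_12_0⟩, ⟨by decide, v7_12_2⟩, ⟨by decide, v7_12_3⟩, ⟨by decide, v7_12_1⟩, ⟨by decide, v7_12_4⟩, ⟨by decide, v7_12_5⟩, ⟨by decide, v7_12_6⟩]
theorem row7_13 : ∀ j ∈ K7, tbl7 13 j < 56 ∧ V cs (par cs K6) (word7 13) j (word7 (tbl7 13 j)) := by
  intro j hj
  simp only [K7, List.mem_cons, List.not_mem_nil, or_false] at hj
  rcases hj with rfl | rfl | rfl | rfl | rfl | rfl | rfl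
  exacts [⟨by decide, v7_13_0⟩, ⟨by decide, v7_13_2⟩, ⟨by decide, v7_13_3⟩, ⟨by decide, v7_13_1⟩, ⟨by decide, v7_13_4⟩, ⟨by decide, v7_13_5⟩, ⟨by decide, v7_13_6⟩]
theorem row7_14 : ∀ j ∈ K7, tbl7 14 j < 56 ∧ V cs (par cs K6) (word7 14) j (word7 (tbl7 14 j)) := by
  intro j hj
  simp only [K7, List.mem_cons, List.not_mem_nil, or_false] at hj
  rcases hj with rfl | rfl | rfl | rfl | rfl | rfl | rfl
  exacts [⟨by decide, v7_14_0⟩, ⟨by decide, v7_14_2⟩, ⟨by decide, v7_14_3⟩, ⟨by decide, v7_14_1⟩, ⟨by decide, v7_14_4⟩, ⟨by decide, v7_14_5⟩, ⟨by decide, v7_14_6⟩]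
theorem row7_15 : ∀ j ∈ K7, tbl7 15 j < 56 ∧ V cs (par cs K6) (word7 15) j (word7 (tbl7 15 j)) := by
  intro j hj
  simp only [K7, List.mem_cons, List.not_mem_nil, or_false] at hj
  rcases hj with rfl | rfl | rfl | rfl | rfl | rfl | rfl
  exacts [⟨by decide, v7_15_0⟩, ⟨by decide, v7_15_2⟩, ⟨by decide, v7_15_3⟩, ⟨by decide, v7_15_1⟩, ⟨by decide, v7_15_4⟩, ⟨by decide, v7_15_5⟩, ⟨by decide, v7_15_6⟩]
theorem row7_16 : ∀ j ∈ K7, tbl7 16 j < 56 ∧ V cs (par cs K6) (word7 16) j (word7 (tbl7 16 j)) := by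
  intro j hj
  simp only [K7, List.mem_cons, List.not_mem_nil, or_false] at hj
  rcases hj with rfl | rfl | rfl | rfl | rfl | rfl | rfl
  exacts [⟨by decide, v7_16_0⟩, ⟨by decide, v7_16_2⟩, ⟨by decide, v7_16_3⟩, ⟨by decide, v7_16_1⟩, ⟨by decide, v7_16_4⟩, ⟨by decide, v7_16_5⟩, ⟨by decide, v7_16_6⟩]
theorem row7_17 : ∀ j ∈ K7, tbl7 17 j < 56 ∧ V cs (par cs K6) (word7 17) j (word7 (tbl7 17 j)) := by
  intro j hj
  simp only [K7, List.mem_cons, List.not_mem_nil, or_false] at hj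
  rcases hj with rfl | rfl | rfl | rfl | rfl | rfl | rfl
  exacts [⟨by decide, v7_17_0⟩, ⟨by decide, v7_17_2⟩, ⟨by decide, v7_17_3⟩, ⟨by decide, v7_17_1⟩, ⟨by decide, v7_17_4⟩, ⟨by decide, v7_17_5⟩, ⟨by decide, v7_17_6⟩]
theorem row7_18 : ∀ j ∈ K7, tbl7 18 j < 56 ∧ V cs (par cs K6) (word7 18) j (word7 (tbl7 18 j)) := by
  intro j hj
  simp only [K7, List.mem_cons, List.not_mem_nil, or_false] at hj
  rcases hj with rfl | rfl | rfl | rfl | rfl | rfl | rfl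
  exacts [⟨by decide, v7_18_0⟩, ⟨by decide, v7_18_2⟩, ⟨by decide, v7_18_3⟩, ⟨by decide, v7_18_1⟩, ⟨by decide, v7_18_4⟩, ⟨by decide, v7_18_5⟩, ⟨by decide, v7_18_6⟩]
theorem row7_19 : ∀ j ∈ K7, tbl7 19 j < 56 ∧ V cs (par cs K6) (word7 19) j (word7 (tbl7 19 j)) := by
  intro j hj
  simp only [K7, List.mem_cons, List.not_mem_nil, or_false] at hj
  rcases hj with rfl | rfl | rfl | rfl | rfl | rfl | rfl
  exacts [⟨by decide, v7_19_0⟩, ⟨by decide, v7_19_2⟩, ⟨by decide, v7_19_3⟩, ⟨by decide, v7_19_1⟩, ⟨by decide, v7_19_4⟩, ⟨by decide, v7_19_5⟩, ⟨by decide, v7_19_6⟩]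
theorem row7_20 : ∀ j ∈ K7, tbl7 20 j < 56 ∧ V cs (par cs K6) (word7 20) j (word7 (tbl7 20 j)) := by
  intro j hj
  simp only [K7, List.mem_cons, List.not_mem_nil, or_false] at hj
  rcases hj with rfl | rfl | rfl | rfl | rfl | rfl | rfl
  exacts [⟨by decide, v7_20_0⟩, ⟨by decide, v7_20_2⟩, ⟨by decide, v7_20_3⟩, ⟨by decide, v7_20_1⟩, ⟨by decide, v7_20_4⟩, ⟨by decide, v7_20_5⟩, ⟨by decide, v7_20_6⟩]
theorem row7_21 : ∀ j ∈ K7, tbl7 21 j < 56 ∧ V cs (par cs K6) (word7 21) j (word7 (tbl7 21 j)) := by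
  intro j hj
  simp only [K7, List.mem_cons, List.not_mem_nil, or_false] at hj
  rcases hj with rfl | rfl | rfl | rfl | rfl | rfl | rfl
  exacts [⟨by decide, v7_21_0⟩, ⟨by decide, v7_21_2⟩, ⟨by decide, v7_21_3⟩, ⟨by decide, v7_21_1⟩, ⟨by decide, v7_21_4⟩, ⟨by decide, v7_21_5⟩, ⟨by decide, v7_21_6⟩]
theorem row7_22 : ∀ j ∈ K7, tbl7 22 j < 56 ∧ V cs (par cs K6) (word7 22) j (word7 (tbl7 22 j)) := by
  intro j hj
  simp only [K7, List.mem_cons, List.not_mem_nil, or_false] at hj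
  rcases hj with rfl | rfl | rfl | rfl | rfl | rfl | rfl
  exacts [⟨by decide, v7_22_0⟩, ⟨by decide, v7_22_2⟩, ⟨by decide, v7_22_3⟩, ⟨by decide, v7_22_1⟩, ⟨by decide, v7_22_4⟩, ⟨by decide, v7_22_5⟩, ⟨by decide, v7_22_6⟩]
theorem row7_23 : ∀ j ∈ K7, tbl7 23 j < 56 ∧ V cs (par cs K6) (word7 23) j (word7 (tbl7 23 j)) := by
  intro j hj
  simp only [K7, List.mem_cons, List.not_mem_nil, or_false] at hj
  rcases hj with rfl | rfl | rfl | rfl | rfl | rfl | rfl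
  exacts [⟨by decide, v7_23_0⟩, ⟨by decide, v7_23_2⟩, ⟨by decide, v7_23_3⟩, ⟨by decide, v7_23_1⟩, ⟨by decide, v7_23_4⟩, ⟨by decide, v7_23_5⟩, ⟨by decide, v7_23_6⟩]
theorem row7_24 : ∀ j ∈ K7, tbl7 24 j < 56 ∧ V cs (par cs K6) (word7 24) j (word7 (tbl7 24 j)) := by
  intro j hj
  simp only [K7, List.mem_cons, List.not_mem_nil, or_false] at hj
  rcases hj with rfl | rfl | rfl | rfl | rfl | rfl | rfl
  exacts [⟨by decide, v7_24_0⟩, ⟨by decide, v7_24_2⟩, ⟨by decide, v7_24_3⟩, ⟨by decide, v7_24_1⟩, ⟨by decide, v7_24_4⟩, ⟨by decide, v7_24_5⟩, ⟨by decide, v7_24_6⟩]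
theorem row7_25 : ∀ j ∈ K7, tbl7 25 j < 56 ∧ V cs (par cs K6) (word7 25) j (word7 (tbl7 25 j)) := by
  intro j hj
  simp only [K7, List.mem_cons, List.not_mem_nil, or_false] at hj
  rcases hj with rfl | rfl | rfl | rfl | rfl | rfl | rfl
  exacts [⟨by decide, v7_25_0⟩, ⟨by decide, v7_25_2⟩, ⟨by decide, v7_25_3⟩, ⟨by decide, v7_25_1⟩, ⟨by decide, v7_25_4⟩, ⟨by decide, v7_25_5⟩, ⟨by decide, v7_25_6⟩]
theorem row7_26 : ∀ j ∈ K7, tbl7 26 j < 56 ∧ V cs (par cs K6) (word7 26) j (word7 (tbl7 26 j)) := by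
  intro j hj
  simp only [K7, List.mem_cons, List.not_mem_nil, or_false] at hj
  rcases hj with rfl | rfl | rfl | rfl | rfl | rfl | rfl
  exacts [⟨by decide, v7_26_0⟩, ⟨by decide, v7_26_2⟩, ⟨by decide, v7_26_3⟩, ⟨by decide, v7_26_1⟩, ⟨by decide, v7_26_4⟩, ⟨by decide, v7_26_5⟩, ⟨by decide, v7_26_6⟩]
theorem row7_27 : ∀ j ∈ K7, tbl7 27 j < 56 ∧ V cs (par cs K6) (word7 27) j (word7 (tbl7 27 j)) := by
  intro j hj
  simp only [K7, List.mem_cons, List.not_mem_nil, or_false] at hj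
  rcases hj with rfl | rfl | rfl | rfl | rfl | rfl | rfl
  exacts [⟨by decide, v7_27_0⟩, ⟨by decide, v7_27_2⟩, ⟨by decide, v7_27_3⟩, ⟨by decide, v7_27_1⟩, ⟨by decide, v7_27_4⟩, ⟨by decide, v7_27_5⟩, ⟨by decide, v7_27_6⟩]
theorem row7_28 : ∀ j ∈ K7, tbl7 28 j < 56 ∧ V cs (par cs K6) (word7 28) j (word7 (tbl7 28 j)) := by
  intro j hj
  simp only [K7, List.mem_cons, List.not_mem_nil, or_false] at hj
  rcases hj with rfl | rfl | rfl | rfl | rfl | rfl | rfl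
  exacts [⟨by decide, v7_28_0⟩, ⟨by decide, v7_28_2⟩, ⟨by decide, v7_28_3⟩, ⟨by decide, v7_28_1⟩, ⟨by decide, v7_28_4⟩, ⟨by decide, v7_28_5⟩, ⟨by decide, v7_28_6⟩]
theorem row7_29 : ∀ j ∈ K7, tbl7 29 j < 56 ∧ V cs (par cs K6) (word7 29) j (word7 (tbl7 29 j)) := by
  intro j hj
  simp only [K7, List.mem_cons, List.not_mem_nil, or_false] at hj
  rcases hj with rfl | rfl | rfl | rfl | rfl | rfl | rfl
  exacts [⟨by decide, v7_29_0⟩, ⟨by decide, v7_29_2⟩, ⟨by decide, v7_29_3⟩, ⟨by decide, v7_29_1⟩, ⟨by decide, v7_29_4⟩, ⟨by decide, v7_29_5⟩, ⟨by decide, v7_29_6⟩]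
theorem row7_30 : ∀ j ∈ K7, tbl7 30 j < 56 ∧ V cs (par cs K6) (word7 30) j (word7 (tbl7 30 j)) := by
  intro j hj
  simp only [K7, List.mem_cons, List.not_mem_nil, or_false] at hj
  rcases hj with rfl | rfl | rfl | rfl | rfl | rfl | rfl
  exacts [⟨by decide, v7_30_0⟩, ⟨by decide, v7_30_2⟩, ⟨by decide, v7_30_3⟩, ⟨by decide, v7_30_1⟩, ⟨by decide, v7_30_4⟩, ⟨by decide, v7_30_5⟩, ⟨by decide, v7_30_6⟩]
theorem row7_31 : ∀ j ∈ K7, tbl7 31 j < 56 ∧ V cs (par cs K6) (word7 31) j (word7 (tbl7 31 j)) := by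
  intro j hj
  simp only [K7, List.mem_cons, List.not_mem_nil, or_false] at hj
  rcases hj with rfl | rfl | rfl | rfl | rfl | rfl | rfl
  exacts [⟨by decide, v7_31_0⟩, ⟨by decide, v7_31_2⟩, ⟨by decide, v7_31_3⟩, ⟨by decide, v7_31_1⟩, ⟨by decide, v7_31_4⟩, ⟨by decide, v7_31_5⟩, ⟨by decide, v7_31_6⟩]
theorem row7_32 : ∀ j ∈ K7, tbl7 32 j < 56 ∧ V cs (par cs K6) (word7 32) j (word7 (tbl7 32 j)) := by
  intro j hj
  simp only [K7, List.mem_cons, List.not_mem_nil, or_false] at hj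
  rcases hj with rfl | rfl | rfl | rfl | rfl | rfl | rfl
  exacts [⟨by decide, v7_32_0⟩, ⟨by decide, v7_32_2⟩, ⟨by decide, v7_32_3⟩, ⟨by decide, v7_32_1⟩, ⟨by decide, v7_32_4⟩, ⟨by decide, v7_32_5⟩, ⟨by decide, v7_32_6⟩]
theorem row7_33 : ∀ j ∈ K7, tbl7 33 j < 56 ∧ V cs (par cs K6) (word7 33) j (word7 (tbl7 33 j)) := by
  intro j hj
  simp only [K7, List.mem_cons, List.not_mem_nil, or_false] at hj
  rcases hj with rfl | rfl | rfl | rfl | rfl | rfl | rfl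
  exacts [⟨by decide, v7_33_0⟩, ⟨by decide, v7_33_2⟩, ⟨by decide, v7_33_3⟩, ⟨by decide, v7_33_1⟩, ⟨by decide, v7_33_4⟩, ⟨by decide, v7_33_5⟩, ⟨by decide, v7_33_6⟩]
theorem row7_34 : ∀ j ∈ K7, tbl7 34 j < 56 ∧ V cs (par cs K6) (word7 34) j (word7 (tbl7 34 j)) := by
  intro j hj
  simp only [K7, List.mem_cons, List.not_mem_nil, or_false] at hj
  rcases hj with rfl | rfl | rfl | rfl | rfl | rfl | rfl
  exacts [⟨by decide, v7_34_0⟩, ⟨by decide, v7_34_2⟩, ⟨by decide, v7_34_3⟩, ⟨by decide, v7_34_1⟩, ⟨by decide, v7_34_4⟩, ⟨by decide, v7_34_5⟩, ⟨by decide, v7_34_6⟩]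
theorem row7_35 : ∀ j ∈ K7, tbl7 35 j < 56 ∧ V cs (par cs K6) (word7 35) j (word7 (tbl7 35 j)) := by
  intro j hj
  simp only [K7, List.mem_cons, List.not_mem_nil, or_false] at hj
  rcases hj with rfl | rfl | rfl | rfl | rfl | rfl | rfl
  exacts [⟨by decide, v7_35_0⟩, ⟨by decide, v7_35_2⟩, ⟨by decide, v7_35_3⟩, ⟨by decide, v7_35_1⟩, ⟨by decide, v7_35_4⟩, ⟨by decide, v7_35_5⟩, ⟨by decide, v7_35_6⟩]
theorem row7_36 : ∀ j ∈ K7, tbl7 36 j < 56 ∧ V cs (par cs K6) (word7 36) j (word7 (tbl7 36 j)) := by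
  intro j hj
  simp only [K7, List.mem_cons, List.not_mem_nil, or_false] at hj
  rcases hj with rfl | rfl | rfl | rfl | rfl | rfl | rfl
  exacts [⟨by decide, v7_36_0⟩, ⟨by decide, v7_36_2⟩, ⟨by decide, v7_36_3⟩, ⟨by decide, v7_36_1⟩, ⟨by decide, v7_36_4⟩, ⟨by decide, v7_36_5⟩, ⟨by decide, v7_36_6⟩]
theorem row7_37 : ∀ j ∈ K7, tbl7 37 j < 56 ∧ V cs (par cs K6) (word7 37) j (word7 (tbl7 37 j)) := by
  intro j hj
  simp only [K7, List.mem_cons, List.not_mem_nil, or_false] at hj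
  rcases hj with rfl | rfl | rfl | rfl | rfl | rfl | rfl
  exacts [⟨by decide, v7_37_0⟩, ⟨by decide, v7_37_2⟩, ⟨by decide, v7_37_3⟩, ⟨by decide, v7_37_1⟩, ⟨by decide, v7_37_4⟩, ⟨by decide, v7_37_5⟩, ⟨by decide, v7_37_6⟩]
theorem row7_38 : ∀ j ∈ K7, tbl7 38 j < 56 ∧ V cs (par cs K6) (word7 38) j (word7 (tbl7 38 j)) := by
  intro j hj
  simp only [K7, List.mem_cons, List.not_mem_nil, or_false] at hj
  rcases hj with rfl | rfl | rfl | rfl | rfl | rfl | rfl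
  exacts [⟨by decide, v7_38_0⟩, ⟨by decide, v7_38_2⟩, ⟨by decide, v7_38_3⟩, ⟨by decide, v7_38_1⟩, ⟨by decide, v7_38_4⟩, ⟨by decide, v7_38_5⟩, ⟨by decide, v7_38_6⟩]
theorem row7_39 : ∀ j ∈ K7, tbl7 39 j < 56 ∧ V cs (par cs K6) (word7 39) j (word7 (tbl7 39 j)) := by
  intro j hj
  simp only [K7, List.mem_cons, List.not_mem_nil, or_false] at hj
  rcases hj with rfl | rfl | rfl | rfl | rfl | rfl | rfl
  exacts [⟨by decide, v7_39_0⟩, ⟨by decide, v7_39_2⟩, ⟨by decide, v7_39_3⟩, ⟨by decide, v7_39_1⟩, ⟨by decide, v7_39_4⟩, ⟨by decide, v7_39_5⟩, ⟨by decide, v7_39_6⟩]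
theorem row7_40 : ∀ j ∈ K7, tbl7 40 j < 56 ∧ V cs (par cs K6) (word7 40) j (word7 (tbl7 40 j)) := by
  intro j hj
  simp only [K7, List.mem_cons, List.not_mem_nil, or_false] at hj
  rcases hj with rfl | rfl | rfl | rfl | rfl | rfl | rfl
  exacts [⟨by decide, v7_40_0⟩, ⟨by decide, v7_40_2⟩, ⟨by decide, v7_40_3⟩, ⟨by decide, v7_40_1⟩, ⟨by decide, v7_40_4⟩, ⟨by decide, v7_40_5⟩, ⟨by decide, v7_40_6⟩]
theorem row7_41 : ∀ j ∈ K7, tbl7 41 j < 56 ∧ V cs (par cs K6) (word7 41) j (word7 (tbl7 41 j)) := by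
  intro j hj
  simp only [K7, List.mem_cons, List.not_mem_nil, or_false] at hj
  rcases hj with rfl | rfl | rfl | rfl | rfl | rfl | rfl
  exacts [⟨by decide, v7_41_0⟩, ⟨by decide, v7_41_2⟩, ⟨by decide, v7_41_3⟩, ⟨by decide, v7_41_1⟩, ⟨by decide, v7_41_4⟩, ⟨by decide, v7_41_5⟩, ⟨by decide, v7_41_6⟩]
theorem row7_42 : ∀ j ∈ K7, tbl7 42 j < 56 ∧ V cs (par cs K6) (word7 42) j (word7 (tbl7 42 j)) := by
  intro j hj
  simp only [K7, List.mem_cons, List.not_mem_nil, or_false] at hj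
  rcases hj with rfl | rfl | rfl | rfl | rfl | rfl | rfl
  exacts [⟨by decide, v7_42_0⟩, ⟨by decide, v7_42_2⟩, ⟨by decide, v7_42_3⟩, ⟨by decide, v7_42_1⟩, ⟨by decide, v7_42_4⟩, ⟨by decide, v7_42_5⟩, ⟨by decide, v7_42_6⟩]
theorem row7_43 : ∀ j ∈ K7, tbl7 43 j < 56 ∧ V cs (par cs K6) (word7 43) j (word7 (tbl7 43 j)) := by
  intro j hj
  simp only [K7, List.mem_cons, List.not_mem_nil, or_false] at hj
  rcases hj with rfl | rfl | rfl | rfl | rfl | rfl | rfl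
  exacts [⟨by decide, v7_43_0⟩, ⟨by decide, v7_43_2⟩, ⟨by decide, v7_43_3⟩, ⟨by decide, v7_43_1⟩, ⟨by decide, v7_43_4⟩, ⟨by decide, v7_43_5⟩, ⟨by decide, v7_43_6⟩]
theorem row7_44 : ∀ j ∈ K7, tbl7 44 j < 56 ∧ V cs (par cs K6) (word7 44) j (word7 (tbl7 44 j)) := by
  intro j hj
  simp only [K7, List.mem_cons, List.not_mem_nil, or_false] at hj
  rcases hj with rfl | rfl | rfl | rfl | rfl | rfl | rfl
  exacts [⟨by decide, v7_44_0⟩, ⟨by decide, v7_44_2⟩, ⟨by decide, v7_44_3⟩, ⟨by decide, v7_44_1⟩, ⟨by decide, v7_44_4⟩, ⟨by decide, v7_44_5⟩, ⟨by decide, v7_44_6⟩]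
theorem row7_45 : ∀ j ∈ K7, tbl7 45 j < 56 ∧ V cs (par cs K6) (word7 45) j (word7 (tbl7 45 j)) := by
  intro j hj
  simp only [K7, List.mem_cons, List.not_mem_nil, or_false] at hj
  rcases hj with rfl | rfl | rfl | rfl | rfl | rfl | rfl
  exacts [⟨by decide, v7_45_0⟩, ⟨by decide, v7_45_2⟩, ⟨by decide, v7_45_3⟩, ⟨by decide, v7_45_1⟩, ⟨by decide, v7_45_4⟩, ⟨by decide, v7_45_5⟩, ⟨by decide, v7_45_6⟩]
theorem row7_46 : ∀ j ∈ K7, tbl7 46 j < 56 ∧ V cs (par cs K6) (word7 46) j (word7 (tbl7 46 j)) := by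
  intro j hj
  simp only [K7, List.mem_cons, List.not_mem_nil, or_false] at hj
  rcases hj with rfl | rfl | rfl | rfl | rfl | rfl | rfl
  exacts [⟨by decide, v7_46_0⟩, ⟨by decide, v7_46_2⟩, ⟨by decide, v7_46_3⟩, ⟨by decide, v7_46_1⟩, ⟨by decide, v7_46_4⟩, ⟨by decide, v7_46_5⟩, ⟨by decide, v7_46_6⟩]
theorem row7_47 : ∀ j ∈ K7, tbl7 47 j < 56 ∧ V cs (par cs K6) (word7 47) j (word7 (tbl7 47 j)) := by
  intro j hj
  simp only [K7, List.mem_cons, List.not_mem_nil, or_false] at hj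
  rcases hj with rfl | rfl | rfl | rfl | rfl | rfl | rfl
  exacts [⟨by decide, v7_47_0⟩, ⟨by decide, v7_47_2⟩, ⟨by decide, v7_47_3⟩, ⟨by decide, v7_47_1⟩, ⟨by decide, v7_47_4⟩, ⟨by decide, v7_47_5⟩, ⟨by decide, v7_47_6⟩]
theorem row7_48 : ∀ j ∈ K7, tbl7 48 j < 56 ∧ V cs (par cs K6) (word7 48) j (word7 (tbl7 48 j)) := by
  intro j hj
  simp only [K7, List.mem_cons, List.not_mem_nil, or_false] at hj
  rcases hj with rfl | rfl | rfl | rfl | rfl | rfl | rfl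
  exacts [⟨by decide, v7_48_0⟩, ⟨by decide, v7_48_2⟩, ⟨by decide, v7_48_3⟩, ⟨by decide, v7_48_1⟩, ⟨by decide, v7_48_4⟩, ⟨by decide, v7_48_5⟩, ⟨by decide, v7_48_6⟩]
theorem row7_49 : ∀ j ∈ K7, tbl7 49 j < 56 ∧ V cs (par cs K6) (word7 49) j (word7 (tbl7 49 j)) := by
  intro j hj
  simp only [K7, List.mem_cons, List.not_mem_nil, or_false] at hj
  rcases hj with rfl | rfl | rfl | rfl | rfl | rfl | rfl
  exacts [⟨by decide, v7_49_0⟩, ⟨by decide, v7_49_2⟩, ⟨by decide, v7_49_3⟩, ⟨by decide, v7_49_1⟩, ⟨by decide, v7_49_4⟩, ⟨by decide, v7_49_5⟩, ⟨by decide, v7_49_6⟩]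
theorem row7_50 : ∀ j ∈ K7, tbl7 50 j < 56 ∧ V cs (par cs K6) (word7 50) j (word7 (tbl7 50 j)) := by
  intro j hj
  simp only [K7, List.mem_cons, List.not_mem_nil, or_false] at hj
  rcases hj with rfl | rfl | rfl | rfl | rfl | rfl | rfl
  exacts [⟨by decide, v7_50_0⟩, ⟨by decide, v7_50_2⟩, ⟨by decide, v7_50_3⟩, ⟨by decide, v7_50_1⟩, ⟨by decide, v7_50_4⟩, ⟨by decide, v7_50_5⟩, ⟨by decide, v7_50_6⟩]
theorem row7_51 : ∀ j ∈ K7, tbl7 51 j < 56 ∧ V cs (par cs K6) (word7 51) j (word7 (tbl7 51 j)) := by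
  intro j hj
  simp only [K7, List.mem_cons, List.not_mem_nil, or_false] at hj
  rcases hj with rfl | rfl | rfl | rfl | rfl | rfl | rfl
  exacts [⟨by decide, v7_51_0⟩, ⟨by decide, v7_51_2⟩, ⟨by decide, v7_51_3⟩, ⟨by decide, v7_51_1⟩, ⟨by decide, v7_51_4⟩, ⟨by decide, v7_51_5⟩, ⟨by decide, v7_51_6⟩]
theorem row7_52 : ∀ j ∈ K7, tbl7 52 j < 56 ∧ V cs (par cs K6) (word7 52) j (word7 (tbl7 52 j)) := by
  intro j hj
  simp only [K7, List.mem_cons, List.not_mem_nil, or_false] at hj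
  rcases hj with rfl | rfl | rfl | rfl | rfl | rfl | rfl
  exacts [⟨by decide, v7_52_0⟩, ⟨by decide, v7_52_2⟩, ⟨by decide, v7_52_3⟩, ⟨by decide, v7_52_1⟩, ⟨by decide, v7_52_4⟩, ⟨by decide, v7_52_5⟩, ⟨by decide, v7_52_6⟩]
theorem row7_53 : ∀ j ∈ K7, tbl7 53 j < 56 ∧ V cs (par cs K6) (word7 53) j (word7 (tbl7 53 j)) := by
  intro j hj
  simp only [K7, List.mem_cons, List.not_mem_nil, or_false] at hj
  rcases hj with rfl | rfl | rfl | rfl | rfl | rfl | rfl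
  exacts [⟨by decide, v7_53_0⟩, ⟨by decide, v7_53_2⟩, ⟨by decide, v7_53_3⟩, ⟨by decide, v7_53_1⟩, ⟨by decide, v7_53_4⟩, ⟨by decide, v7_53_5⟩, ⟨by decide, v7_53_6⟩]
theorem row7_54 : ∀ j ∈ K7, tbl7 54 j < 56 ∧ V cs (par cs K6) (word7 54) j (word7 (tbl7 54 j)) := by
  intro j hj
  simp only [K7, List.mem_cons, List.not_mem_nil, or_false] at hj
  rcases hj with rfl | rfl | rfl | rfl | rfl | rfl | rfl
  exacts [⟨by decide, v7_54_0⟩, ⟨by decide, v7_54_2⟩, ⟨by decide, v7_54_3⟩, ⟨by decide, v7_54_1⟩, ⟨by decide, v7_54_4⟩, ⟨by decide, v7_54_5⟩, ⟨by decide, v7_54_6⟩]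
theorem row7_55 : ∀ j ∈ K7, tbl7 55 j < 56 ∧ V cs (par cs K6) (word7 55) j (word7 (tbl7 55 j)) := by
  intro j hj
  simp only [K7, List.mem_cons, List.not_mem_nil, or_false] at hj
  rcases hj with rfl | rfl | rfl | rfl | rfl | rfl | rfl
  exacts [⟨by decide, v7_55_0⟩, ⟨by decide, v7_55_2⟩, ⟨by decide, v7_55_3⟩, ⟨by decide, v7_55_1⟩, ⟨by decide, v7_55_4⟩, ⟨by decide, v7_55_5⟩, ⟨by decide, v7_55_6⟩]
theorem htbl7 : ∀ x < 56, ∀ j ∈ K7, tbl7 x j < 56 ∧ V cs (par cs K6) (word7 x) j (word7 (tbl7 x j)) := by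
  intro x hx
  interval_cases x
  exacts [row7_0, row7_1, row7_2, row7_3, row7_4, row7_5, row7_6, row7_7, row7_8, row7_9, row7_10, row7_11, row7_12, row7_13, row7_14, row7_15, row7_16, row7_17, row7_18, row7_19, row7_20, row7_21, row7_22, row7_23, row7_24, row7_25, row7_26, row7_27, row7_28, row7_29, row7_30, row7_31, row7_32, row7_33, row7_34, row7_35, row7_36, row7_37, row7_38, row7_39, row7_40, row7_41, row7_42, row7_43, row7_44, row7_45, row7_46, row7_47, row7_48, row7_49, row7_50, row7_51, row7_52, row7_53, row7_54, row7_55]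
theorem pt7_0 : φ (cs.wordProd (word7 0)) p7 = ![0, 0, 0, 0, 0, 0, 1, 0] := pt_base cs φ (by decide) _
theorem pt7_1 : φ (cs.wordProd (word7 1)) p7 = ![0, 0, 0, 0, 0, 1, -1, 1] := pt_step A cs hA φ hφ (j := 6) (w := word7 0) (by decide) pt7_0 (by decide)
theorem pt7_2 : φ (cs.wordProd (word7 2)) p7 = ![0, 0, 0, 0, 1, -1, 0, 1] := pt_step A cs hA φ hφ (j := 5) (w := word7 1) (by decide) pt7_1 (by decide)
theorem pt7_3 : φ (cs.wordProd (word7 3)) p7 = ![0, 0, 0, 1, -1, 0, 0, 1] := pt_step A cs hA φ hφ (j := 4) (w := word7 2) (by decide) pt7_2 (by decide)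
theorem pt7_4 : φ (cs.wordProd (word7 4)) p7 = ![0, 1, 1, -1, 0, 0, 0, 1] := pt_step A cs hA φ hφ (j := 3) (w := word7 3) (by decide) pt7_3 (by decide)
theorem pt7_5 : φ (cs.wordProd (word7 5)) p7 = ![1, 1, -1, 0, 0, 0, 0, 1] := pt_step A cs hA φ hφ (j := 2) (w := word7 4) (by decide) pt7_4 (by decide)
theorem pt7_6 : φ (cs.wordProd (word7 6)) p7 = ![0, -1, 1, 0, 0, 0, 0, 1] := pt_step A cs hA φ hφ (j := 1) (w := word7 4) (by decide) pt7_4 (by decide)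
theorem pt7_7 : φ (cs.wordProd (word7 7)) p7 = ![-1, 1, 0, 0, 0, 0, 0, 1] := pt_step A cs hA φ hφ (j := 0) (w := word7 5) (by decide) pt7_5 (by decide)
theorem pt7_8 : φ (cs.wordProd (word7 8)) p7 = ![1, -1, -1, 1, 0, 0, 0, 1] := pt_step A cs hA φ hφ (j := 1) (w := word7 5) (by decide) pt7_5 (by decide)
theorem pt7_9 : φ (cs.wordProd (word7 9)) p7 = ![-1, -1, 0, 1, 0, 0, 0, 1] := pt_step A cs hA φ hφ (j := 1) (w := word7 7) (by decide) pt7_7 (by decide)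
theorem pt7_10 : φ (cs.wordProd (word7 10)) p7 = ![1, 0, 0, -1, 1, 0, 0, 1] := pt_step A cs hA φ hφ (j := 3) (w := word7 8) (by decide) pt7_8 (by decide)
theorem pt7_11 : φ (cs.wordProd (word7 11)) p7 = ![-1, 0, 1, -1, 1, 0, 0, 1] := pt_step A cs hA φ hφ (j := 3) (w := word7 9) (by decide) pt7_9 (by decide)
theorem pt7_12 : φ (cs.wordProd (word7 12)) p7 = ![1, 0, 0, 0, -1, 1, 0, 1] := pt_step A cs hA φ hφ (j := 4) (w := word7 10) (by decide) pt7_10 (by decide)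
theorem pt7_13 : φ (cs.wordProd (word7 13)) p7 = ![0, 0, -1, 0, 1, 0, 0, 1] := pt_step A cs hA φ hφ (j := 2) (w := word7 11) (by decide) pt7_11 (by decide)
theorem pt7_14 : φ (cs.wordProd (word7 14)) p7 = ![-1, 0, 1, 0, -1, 1, 0, 1] := pt_step A cs hA φ hφ (j := 4) (w := word7 11) (by decide) pt7_11 (by decide)
theorem pt7_15 : φ (cs.wordProd (word7 15)) p7 = ![1, 0, 0, 0, 0, -1, 1, 1] := pt_step A cs hA φ hφ (j := 5) (w := word7 12) (by decide) pt7_12 (by decide)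
theorem pt7_16 : φ (cs.wordProd (word7 16)) p7 = ![0, 0, -1, 1, -1, 1, 0, 1] := pt_step A cs hA φ hφ (j := 4) (w := word7 13) (by decide) pt7_13 (by decide)
theorem pt7_17 : φ (cs.wordProd (word7 17)) p7 = ![-1, 0, 1, 0, 0, -1, 1, 1] := pt_step A cs hA φ hφ (j := 5) (w := word7 14) (by decide) pt7_14 (by decide)
theorem pt7_18 : φ (cs.wordProd (word7 18)) p7 = ![1, 0, 0, 0, 0, 0, -1, 2] := pt_step A cs hA φ hφ (j := 6) (w := word7 15) (by decide) pt7_15 (by decide)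
theorem pt7_19 : φ (cs.wordProd (word7 19)) p7 = ![0, 1, 0, -1, 0, 1, 0, 1] := pt_step A cs hA φ hφ (j := 3) (w := word7 16) (by decide) pt7_16 (by decide)
theorem pt7_20 : φ (cs.wordProd (word7 20)) p7 = ![0, 0, -1, 1, 0, -1, 1, 1] := pt_step A cs hA φ hφ (j := 5) (w := word7 16) (by decide) pt7_16 (by decide)
theorem pt7_21 : φ (cs.wordProd (word7 21)) p7 = ![-1, 0, 1, 0, 0, 0, -1, 2] := pt_step A cs hA φ hφ (j := 6) (w := word7 17) (by decide) pt7_17 (by decide)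
theorem pt7_22 : φ (cs.wordProd (word7 22)) p7 = ![0, -1, 0, 0, 0, 1, 0, 1] := pt_step A cs hA φ hφ (j := 1) (w := word7 19) (by decide) pt7_19 (by decide)
theorem pt7_23 : φ (cs.wordProd (word7 23)) p7 = ![0, 1, 0, -1, 1, -1, 1, 1] := pt_step A cs hA φ hφ (j := 5) (w := word7 19) (by decide) pt7_19 (by decide)
theorem pt7_24 : φ (cs.wordProd (word7 24)) p7 = ![0, 0, -1, 1, 0, 0, -1, 2] := pt_step A cs hA φ hφ (j := 6) (w := word7 20) (by decide) pt7_20 (by decide)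
theorem pt7_25 : φ (cs.wordProd (word7 25)) p7 = ![0, -1, 0, 0, 1, -1, 1, 1] := pt_step A cs hA φ hφ (j := 5) (w := word7 22) (by decide) pt7_22 (by decide)
theorem pt7_26 : φ (cs.wordProd (word7 26)) p7 = ![0, 1, 0, 0, -1, 0, 1, 1] := pt_step A cs hA φ hφ (j := 4) (w := word7 23) (by decide) pt7_23 (by decide)
theorem pt7_27 : φ (cs.wordProd (word7 27)) p7 = ![0, 1, 0, -1, 1, 0, -1, 2] := pt_step A cs hA φ hφ (j := 6) (w := word7 23) (by decide) pt7_23 (by decide)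
theorem pt7_28 : φ (cs.wordProd (word7 28)) p7 = ![0, -1, 0, 1, -1, 0, 1, 1] := pt_step A cs hA φ hφ (j := 4) (w := word7 25) (by decide) pt7_25 (by decide)
theorem pt7_29 : φ (cs.wordProd (word7 29)) p7 = ![0, -1, 0, 0, 1, 0, -1, 2] := pt_step A cs hA φ hφ (j := 6) (w := word7 25) (by decide) pt7_25 (by decide)
theorem pt7_30 : φ (cs.wordProd (word7 30)) p7 = ![0, 1, 0, 0, -1, 1, -1, 2] := pt_step A cs hA φ hφ (j := 6) (w := word7 26) (by decide) pt7_26 (by decide)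
theorem pt7_31 : φ (cs.wordProd (word7 31)) p7 = ![0, 0, 1, -1, 0, 0, 1, 1] := pt_step A cs hA φ hφ (j := 3) (w := word7 28) (by decide) pt7_28 (by decide)
theorem pt7_32 : φ (cs.wordProd (word7 32)) p7 = ![0, -1, 0, 1, -1, 1, -1, 2] := pt_step A cs hA φ hφ (j := 6) (w := word7 28) (by decide) pt7_28 (by decide)
theorem pt7_33 : φ (cs.wordProd (word7 33)) p7 = ![0, 1, 0, 0, 0, -1, 0, 2] := pt_step A cs hA φ hφ (j := 5) (w := word7 30) (by decide) pt7_30 (by decide)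
theorem pt7_34 : φ (cs.wordProd (word7 34)) p7 = ![1, 0, -1, 0, 0, 0, 1, 1] := pt_step A cs hA φ hφ (j := 2) (w := word7 31) (by decide) pt7_31 (by decide)
theorem pt7_35 : φ (cs.wordProd (word7 35)) p7 = ![0, 0, 1, -1, 0, 1, -1, 2] := pt_step A cs hA φ hφ (j := 6) (w := word7 31) (by decide) pt7_31 (by decide)
theorem pt7_36 : φ (cs.wordProd (word7 36)) p7 = ![0, -1, 0, 1, 0, -1, 0, 2] := pt_step A cs hA φ hφ (j := 5) (w := word7 32) (by decide) pt7_32 (by decide)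
theorem pt7_37 : φ (cs.wordProd (word7 37)) p7 = ![-1, 0, 0, 0, 0, 0, 1, 1] := pt_step A cs hA φ hφ (j := 0) (w := word7 34) (by decide) pt7_34 (by decide)
theorem pt7_38 : φ (cs.wordProd (word7 38)) p7 = ![1, 0, -1, 0, 0, 1, -1, 2] := pt_step A cs hA φ hφ (j := 6) (w := word7 34) (by decide) pt7_34 (by decide)
theorem pt7_39 : φ (cs.wordProd (word7 39)) p7 = ![0, 0, 1, -1, 1, -1, 0, 2] := pt_step A cs hA φ hφ (j := 5) (w := word7 35) (by decide) pt7_35 (by decide)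
theorem pt7_40 : φ (cs.wordProd (word7 40)) p7 = ![-1, 0, 0, 0, 0, 1, -1, 2] := pt_step A cs hA φ hφ (j := 6) (w := word7 37) (by decide) pt7_37 (by decide)
theorem pt7_41 : φ (cs.wordProd (word7 41)) p7 = ![1, 0, -1, 0, 1, -1, 0, 2] := pt_step A cs hA φ hφ (j := 5) (w := word7 38) (by decide) pt7_38 (by decide)
theorem pt7_42 : φ (cs.wordProd (word7 42)) p7 = ![0, 0, 1, 0, -1, 0, 0, 2] := pt_step A cs hA φ hφ (j := 4) (w := word7 39) (by decide) pt7_39 (by decide)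
theorem pt7_43 : φ (cs.wordProd (word7 43)) p7 = ![-1, 0, 0, 0, 1, -1, 0, 2] := pt_step A cs hA φ hφ (j := 5) (w := word7 40) (by decide) pt7_40 (by decide)
theorem pt7_44 : φ (cs.wordProd (word7 44)) p7 = ![1, 0, -1, 1, -1, 0, 0, 2] := pt_step A cs hA φ hφ (j := 4) (w := word7 41) (by decide) pt7_41 (by decide)
theorem pt7_45 : φ (cs.wordProd (word7 45)) p7 = ![-1, 0, 0, 1, -1, 0, 0, 2] := pt_step A cs hA φ hφ (j := 4) (w := word7 43) (by decide) pt7_43 (by decide)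
theorem pt7_46 : φ (cs.wordProd (word7 46)) p7 = ![1, 1, 0, -1, 0, 0, 0, 2] := pt_step A cs hA φ hφ (j := 3) (w := word7 44) (by decide) pt7_44 (by decide)
theorem pt7_47 : φ (cs.wordProd (word7 47)) p7 = ![-1, 1, 1, -1, 0, 0, 0, 2] := pt_step A cs hA φ hφ (j := 3) (w := word7 45) (by decide) pt7_45 (by decide)
theorem pt7_48 : φ (cs.wordProd (word7 48)) p7 = ![1, -1, 0, 0, 0, 0, 0, 2] := pt_step A cs hA φ hφ (j := 1) (w := word7 46) (by decide) pt7_46 (by decide)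
theorem pt7_49 : φ (cs.wordProd (word7 49)) p7 = ![0, 1, -1, 0, 0, 0, 0, 2] := pt_step A cs hA φ hφ (j := 2) (w := word7 47) (by decide) pt7_47 (by decide)
theorem pt7_50 : φ (cs.wordProd (word7 50)) p7 = ![-1, -1, 1, 0, 0, 0, 0, 2] := pt_step A cs hA φ hφ (j := 1) (w := word7 47) (by decide) pt7_47 (by decide)
theorem pt7_51 : φ (cs.wordProd (word7 51)) p7 = ![0, -1, -1, 1, 0, 0, 0, 2] := pt_step A cs hA φ hφ (j := 1) (w := word7 49) (by decide) pt7_49 (by decide)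
theorem pt7_52 : φ (cs.wordProd (word7 52)) p7 = ![0, 0, 0, -1, 1, 0, 0, 2] := pt_step A cs hA φ hφ (j := 3) (w := word7 51) (by decide) pt7_51 (by decide)
theorem pt7_53 : φ (cs.wordProd (word7 53)) p7 = ![0, 0, 0, 0, -1, 1, 0, 2] := pt_step A cs hA φ hφ (j := 4) (w := word7 52) (by decide) pt7_52 (by decide)
theorem pt7_54 : φ (cs.wordProd (word7 54)) p7 = ![0, 0, 0, 0, 0, -1, 1, 2] := pt_step A cs hA φ hφ (j := 5) (w := word7 53) (by decide) pt7_53 (by decide)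
theorem pt7_55 : φ (cs.wordProd (word7 55)) p7 = ![0, 0, 0, 0, 0, 0, -1, 3] := pt_step A cs hA φ hφ (j := 6) (w := word7 54) (by decide) pt7_54 (by decide)
theorem key7_0 : key (φ (cs.wordProd (word7 0)) p7) = keys7.getD 0 0 := by rw [pt7_0]; decide
theorem key7_1 : key (φ (cs.wordProd (word7 1)) p7) = keys7.getD 1 0 := by rw [pt7_1]; decide
theorem key7_2 : key (φ (cs.wordProd (word7 2)) p7) = keys7.getD 2 0 := by rw [pt7_2]; decide
theorem key7_3 : key (φ (cs.wordProd (word7 3)) p7) = keys7.getD 3 0 := by rw [pt7_3]; decide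
theorem key7_4 : key (φ (cs.wordProd (word7 4)) p7) = keys7.getD 4 0 := by rw [pt7_4]; decide
theorem key7_5 : key (φ (cs.wordProd (word7 5)) p7) = keys7.getD 5 0 := by rw [pt7_5]; decide
theorem key7_6 : key (φ (cs.wordProd (word7 6)) p7) = keys7.getD 6 0 := by rw [pt7_6]; decide
theorem key7_7 : key (φ (cs.wordProd (word7 7)) p7) = keys7.getD 7 0 := by rw [pt7_7]; decide
theorem key7_8 : key (φ (cs.wordProd (word7 8)) p7) = keys7.getD 8 0 := by rw [pt7_8]; decide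
theorem key7_9 : key (φ (cs.wordProd (word7 9)) p7) = keys7.getD 9 0 := by rw [pt7_9]; decide
theorem key7_10 : key (φ (cs.wordProd (word7 10)) p7) = keys7.getD 10 0 := by rw [pt7_10]; decide
theorem key7_11 : key (φ (cs.wordProd (word7 11)) p7) = keys7.getD 11 0 := by rw [pt7_11]; decide
theorem key7_12 : key (φ (cs.wordProd (word7 12)) p7) = keys7.getD 12 0 := by rw [pt7_12]; decide
theorem key7_13 : key (φ (cs.wordProd (word7 13)) p7) = keys7.getD 13 0 := by rw [pt7_13]; decide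
theorem key7_14 : key (φ (cs.wordProd (word7 14)) p7) = keys7.getD 14 0 := by rw [pt7_14]; decide
theorem key7_15 : key (φ (cs.wordProd (word7 15)) p7) = keys7.getD 15 0 := by rw [pt7_15]; decide
theorem key7_16 : key (φ (cs.wordProd (word7 16)) p7) = keys7.getD 16 0 := by rw [pt7_16]; decide
theorem key7_17 : key (φ (cs.wordProd (word7 17)) p7) = keys7.getD 17 0 := by rw [pt7_17]; decide
theorem key7_18 : key (φ (cs.wordProd (word7 18)) p7) = keys7.getD 18 0 := by rw [pt7_18]; decide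
theorem key7_19 : key (φ (cs.wordProd (word7 19)) p7) = keys7.getD 19 0 := by rw [pt7_19]; decide
theorem key7_20 : key (φ (cs.wordProd (word7 20)) p7) = keys7.getD 20 0 := by rw [pt7_20]; decide
theorem key7_21 : key (φ (cs.wordProd (word7 21)) p7) = keys7.getD 21 0 := by rw [pt7_21]; decide
theorem key7_22 : key (φ (cs.wordProd (word7 22)) p7) = keys7.getD 22 0 := by rw [pt7_22]; decide
theorem key7_23 : key (φ (cs.wordProd (word7 23)) p7) = keys7.getD 23 0 := by rw [pt7_23]; decide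
theorem key7_24 : key (φ (cs.wordProd (word7 24)) p7) = keys7.getD 24 0 := by rw [pt7_24]; decide
theorem key7_25 : key (φ (cs.wordProd (word7 25)) p7) = keys7.getD 25 0 := by rw [pt7_25]; decide
theorem key7_26 : key (φ (cs.wordProd (word7 26)) p7) = keys7.getD 26 0 := by rw [pt7_26]; decide
theorem key7_27 : key (φ (cs.wordProd (word7 27)) p7) = keys7.getD 27 0 := by rw [pt7_27]; decide
theorem key7_28 : key (φ (cs.wordProd (word7 28)) p7) = keys7.getD 28 0 := by rw [pt7_28]; decide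
theorem key7_29 : key (φ (cs.wordProd (word7 29)) p7) = keys7.getD 29 0 := by rw [pt7_29]; decide
theorem key7_30 : key (φ (cs.wordProd (word7 30)) p7) = keys7.getD 30 0 := by rw [pt7_30]; decide
theorem key7_31 : key (φ (cs.wordProd (word7 31)) p7) = keys7.getD 31 0 := by rw [pt7_31]; decide
theorem key7_32 : key (φ (cs.wordProd (word7 32)) p7) = keys7.getD 32 0 := by rw [pt7_32]; decide
theorem key7_33 : key (φ (cs.wordProd (word7 33)) p7) = keys7.getD 33 0 := by rw [pt7_33]; decide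
theorem key7_34 : key (φ (cs.wordProd (word7 34)) p7) = keys7.getD 34 0 := by rw [pt7_34]; decide
theorem key7_35 : key (φ (cs.wordProd (word7 35)) p7) = keys7.getD 35 0 := by rw [pt7_35]; decide
theorem key7_36 : key (φ (cs.wordProd (word7 36)) p7) = keys7.getD 36 0 := by rw [pt7_36]; decide
theorem key7_37 : key (φ (cs.wordProd (word7 37)) p7) = keys7.getD 37 0 := by rw [pt7_37]; decide
theorem key7_38 : key (φ (cs.wordProd (word7 38)) p7) = keys7.getD 38 0 := by rw [pt7_38]; decide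
theorem key7_39 : key (φ (cs.wordProd (word7 39)) p7) = keys7.getD 39 0 := by rw [pt7_39]; decide
theorem key7_40 : key (φ (cs.wordProd (word7 40)) p7) = keys7.getD 40 0 := by rw [pt7_40]; decide
theorem key7_41 : key (φ (cs.wordProd (word7 41)) p7) = keys7.getD 41 0 := by rw [pt7_41]; decide
theorem key7_42 : key (φ (cs.wordProd (word7 42)) p7) = keys7.getD 42 0 := by rw [pt7_42]; decide
theorem key7_43 : key (φ (cs.wordProd (word7 43)) p7) = keys7.getD 43 0 := by rw [pt7_43]; decide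
theorem key7_44 : key (φ (cs.wordProd (word7 44)) p7) = keys7.getD 44 0 := by rw [pt7_44]; decide
theorem key7_45 : key (φ (cs.wordProd (word7 45)) p7) = keys7.getD 45 0 := by rw [pt7_45]; decide
theorem key7_46 : key (φ (cs.wordProd (word7 46)) p7) = keys7.getD 46 0 := by rw [pt7_46]; decide
theorem key7_47 : key (φ (cs.wordProd (word7 47)) p7) = keys7.getD 47 0 := by rw [pt7_47]; decide
theorem key7_48 : key (φ (cs.wordProd (word7 48)) p7) = keys7.getD 48 0 := by rw [pt7_48]; decide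
theorem key7_49 : key (φ (cs.wordProd (word7 49)) p7) = keys7.getD 49 0 := by rw [pt7_49]; decide
theorem key7_50 : key (φ (cs.wordProd (word7 50)) p7) = keys7.getD 50 0 := by rw [pt7_50]; decide
theorem key7_51 : key (φ (cs.wordProd (word7 51)) p7) = keys7.getD 51 0 := by rw [pt7_51]; decide
theorem key7_52 : key (φ (cs.wordProd (word7 52)) p7) = keys7.getD 52 0 := by rw [pt7_52]; decide
theorem key7_53 : key (φ (cs.wordProd (word7 53)) p7) = keys7.getD 53 0 := by rw [pt7_53]; decide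
theorem key7_54 : key (φ (cs.wordProd (word7 54)) p7) = keys7.getD 54 0 := by rw [pt7_54]; decide
theorem key7_55 : key (φ (cs.wordProd (word7 55)) p7) = keys7.getD 55 0 := by rw [pt7_55]; decide
theorem hkey7 : ∀ x < 56, key (φ (cs.wordProd (word7 x)) p7) = keys7.getD x 0 := by
  intro x hx
  interval_cases x
  exacts [key7_0, key7_1, key7_2, key7_3, key7_4, key7_5, key7_6, key7_7, key7_8, key7_9, key7_10, key7_11, key7_12, key7_13, key7_14, key7_15, key7_16, key7_17, key7_18, key7_19, key7_20, key7_21, key7_22, key7_23, key7_24, key7_25, key7_26, key7_27, key7_28, key7_29, key7_30, key7_31, key7_32, key7_33, key7_34, key7_35, key7_36, key7_37, key7_38, key7_39, key7_40, key7_41, key7_42, key7_43, key7_44, key7_45, key7_46, key7_47, key7_48, key7_49, key7_50, key7_51, key7_52, key7_53, key7_54, key7_55]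
theorem card7 : Nat.card (par cs K7) = 56 * Nat.card (par cs K6) :=
  link_card cs φ p7 K6 K7 56 word7 tbl7 (by decide) (by decide) (by decide) (by decide) htbl7
    (fix_of_refl A cs hA φ hφ K6 p7 (by decide))
    (hdist_of_keys cs φ p7 word7 56 key keys7 (by decide) (by decide) hkey7)

-- link 8: K = [0, 2, 3, 1, 4, 5, 6, 7], N = 240
def K8 : List (Fin 8) := [0, 2, 3, 1, 4, 5, 6, 7]
def word8 : ℕ → List (Fin 8) := fun x => ([[], [7], [6, 7], [5, 6, 7], [4, 5, 6, 7], [3, 4, 5, 6, 7], [2, 3, 4, 5, 6, 7], [1, 3, 4, 5, 6, 7], [0, 2, 3, 4, 5, 6, 7], [1, 2, 3, 4, 5, 6, 7], [1, 0, 2, 3, 4, 5, 6, 7], [3, 1, 2, 3, 4, 5, 6, 7], [3, 1, 0, 2, 3, 4, 5, 6, 7], [4, 3, 1, 2, 3, 4, 5, 6, 7], [2, 3, 1, 0, 2, 3, 4, 5, 6, 7], [4, 3, 1, 0, 2, 3, 4, 5, 6, 7], [5, 4, 3, 1, 2, 3, 4, 5, 6, 7], [4, 2, 3, 1, 0, 2, 3, 4, 5, 6, 7], [5, 4, 3, 1, 0, 2, 3, 4, 5, 6, 7], [6, 5, 4, 3, 1, 2, 3, 4, 5, 6, 7], [3, 4, 2, 3, 1, 0, 2,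 3, 4, 5, 6, 7], [5, 4, 2, 3, 1, 0, 2, 3, 4, 5, 6, 7], [6, 5, 4, 3, 1, 0, 2, 3, 4, 5, 6, 7], [7, 6, 5, 4, 3, 1, 2, 3, 4, 5, 6, 7], [1, 3, 4, 2, 3, 1, 0, 2, 3, 4, 5, 6, 7], [5, 3, 4, 2, 3, 1, 0, 2, 3, 4, 5, 6, 7], [6, 5, 4, 2, 3, 1, 0, 2, 3, 4, 5, 6, 7], [7, 6, 5, 4, 3, 1, 0, 2, 3, 4, 5, 6, 7], [5, 1, 3, 4, 2, 3, 1, 0, 2, 3, 4, 5, 6, 7], [4, 5, 3, 4, 2, 3, 1, 0, 2, 3, 4, 5, 6, 7], [6, 5, 3, 4, 2, 3, 1, 0, 2, 3, 4, 5, 6, 7], [7, 6, 5, 4, 2, 3, 1, 0, 2, 3, 4, 5, 6, 7], [4, 5, 1, 3, 4, 2, 3, 1, 0, 2, 3, 4, 5, 6, 7], [6, 5, 1, 3, 4, 2, 3, 1, 0, 2, 3, 4, 5, 6, 7], [6, 4, 5, 3, 4, 2, 3, 1, 0, 2, 3, 4, 5, 6, 7], [7, 6, 5, 3, 4, 2, 3, 1, 0, 2, 3, 4, 5, 6, 7], [3, 4, 5, 1, 3, 4, 2, 3, 1, 0, 2, 3, 4, 5, 6, 7], [6, 4, 5, 1, 3, 4, 2, 3, 1, 0, 2, 3, 4, 5, 6, 7], [7, 6, 5, 1, 3, 4, 2, 3, 1, 0, 2, 3, 4, 5, 6, 7], [5, 6, 4, 5, 3, 4, 2, 3, 1, 0, 2, 3, 4, 5, 6, 7], [7, 6, 4, 5, 3, 4, 2, 3, 1, 0, 2, 3, 4, 5, 6, 7],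 [2, 3, 4, 5, 1, 3, 4, 2, 3, 1, 0, 2, 3, 4, 5, 6, 7], [6, 3, 4, 5, 1, 3, 4, 2, 3, 1, 0, 2, 3, 4, 5, 6, 7], [5, 6, 4, 5, 1, 3, 4, 2, 3, 1, 0, 2, 3, 4, 5, 6, 7], [7, 6, 4, 5, 1, 3, 4, 2, 3, 1, 0, 2, 3, 4, 5, 6, 7], [7, 5, 6, 4, 5, 3, 4, 2, 3, 1, 0, 2, 3, 4, 5, 6, 7], [0, 2, 3, 4, 5, 1, 3, 4, 2, 3, 1, 0, 2, 3, 4, 5, 6, 7], [6, 2, 3, 4, 5, 1, 3, 4, 2, 3, 1, 0, 2, 3, 4, 5, 6, 7], [5, 6, 3, 4, 5, 1, 3, 4, 2, 3, 1, 0, 2, 3, 4, 5, 6, 7], [7, 6, 3, 4, 5, 1, 3, 4, 2, 3, 1, 0, 2, 3, 4, 5, 6, 7], [7, 5, 6, 4, 5, 1, 3, 4, 2, 3, 1, 0, 2, 3, 4, 5, 6, 7], [6, 7, 5, 6, 4, 5, 3, 4, 2, 3, 1, 0, 2, 3, 4, 5, 6, 7], [6, 0, 2, 3, 4, 5, 1, 3, 4, 2, 3, 1, 0, 2, 3, 4, 5, 6, 7], [5, 6, 2, 3, 4, 5, 1, 3, 4, 2, 3, 1, 0, 2, 3, 4, 5, 6, 7], [7, 6, 2, 3, 4, 5, 1, 3, 4, 2, 3, 1, 0, 2, 3, 4, 5, 6, 7], [4, 5, 6, 3, 4, 5, 1, 3, 4, 2, 3, 1, 0, 2, 3, 4, 5, 6, 7], [7, 5, 6, 3, 4, 5, 1, 3, 4, 2, 3, 1, 0, 2, 3, 4, 5, 6, 7], [6, 7, 5, 6,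 4, 5, 1, 3, 4, 2, 3, 1, 0, 2, 3, 4, 5, 6, 7], [5, 6, 0, 2, 3, 4, 5, 1, 3, 4, 2, 3, 1, 0, 2, 3, 4, 5, 6, 7], [7, 6, 0, 2, 3, 4, 5, 1, 3, 4, 2, 3, 1, 0, 2, 3, 4, 5, 6, 7], [4, 5, 6, 2, 3, 4, 5, 1, 3, 4, 2, 3, 1, 0, 2, 3, 4, 5, 6, 7], [7, 5, 6, 2, 3, 4, 5, 1, 3, 4, 2, 3, 1, 0, 2, 3, 4, 5, 6, 7], [7, 4, 5, 6, 3, 4, 5, 1, 3, 4, 2, 3, 1, 0, 2, 3, 4, 5, 6, 7], [6, 7, 5, 6, 3, 4, 5, 1, 3, 4, 2, 3, 1, 0, 2, 3, 4, 5, 6, 7], [4, 5, 6, 0, 2, 3, 4, 5, 1, 3, 4, 2, 3, 1, 0, 2, 3, 4, 5, 6, 7], [7, 5, 6, 0, 2, 3, 4, 5, 1, 3, 4, 2, 3, 1, 0, 2, 3, 4, 5, 6, 7], [3, 4, 5, 6, 2, 3, 4, 5, 1, 3, 4, 2, 3, 1, 0, 2, 3, 4, 5, 6, 7], [7, 4, 5, 6, 2, 3, 4, 5, 1, 3, 4, 2, 3, 1, 0, 2, 3, 4, 5, 6, 7], [6, 7, 5, 6, 2, 3, 4, 5, 1, 3, 4, 2, 3, 1, 0, 2, 3, 4, 5, 6, 7], [6, 7, 4, 5, 6, 3, 4, 5, 1, 3, 4, 2, 3, 1, 0, 2, 3, 4, 5, 6, 7], [3, 4, 5, 6, 0, 2, 3, 4, 5, 1, 3, 4, 2, 3, 1, 0, 2, 3, 4, 5, 6, 7], [7, 4, 5, 6, 0, 2, 3, 4, 5, 1,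 3, 4, 2, 3, 1, 0, 2, 3, 4, 5, 6, 7], [6, 7, 5, 6, 0, 2, 3, 4, 5, 1, 3, 4, 2, 3, 1, 0, 2, 3, 4, 5, 6, 7], [1, 3, 4, 5, 6, 2, 3, 4, 5, 1, 3, 4, 2, 3, 1, 0, 2, 3, 4, 5, 6, 7], [7, 3, 4, 5, 6, 2, 3, 4, 5, 1, 3, 4, 2, 3, 1, 0, 2, 3, 4, 5, 6, 7], [6, 7, 4, 5, 6, 2, 3, 4, 5, 1, 3, 4, 2, 3, 1, 0, 2, 3, 4, 5, 6, 7], [5, 6, 7, 4, 5, 6, 3, 4, 5, 1, 3, 4, 2, 3, 1, 0, 2, 3, 4, 5, 6, 7], [2, 3, 4, 5, 6, 0, 2, 3, 4, 5, 1, 3, 4, 2, 3, 1, 0, 2, 3, 4, 5, 6, 7], [1, 3, 4, 5, 6, 0, 2, 3, 4, 5, 1, 3, 4, 2, 3, 1, 0, 2, 3, 4, 5, 6, 7], [7, 3, 4, 5, 6, 0, 2, 3, 4, 5, 1, 3, 4, 2, 3, 1, 0, 2, 3, 4, 5, 6, 7], [6, 7, 4, 5, 6, 0, 2, 3, 4, 5, 1, 3, 4, 2, 3, 1, 0, 2, 3, 4, 5, 6, 7], [7, 1, 3, 4, 5, 6, 2, 3, 4, 5, 1, 3, 4, 2, 3, 1, 0, 2, 3, 4, 5, 6, 7], [6, 7, 3, 4, 5, 6, 2, 3, 4, 5, 1, 3, 4, 2, 3, 1, 0, 2, 3, 4, 5, 6, 7], [5, 6, 7, 4, 5, 6, 2, 3, 4, 5, 1, 3, 4, 2, 3, 1, 0, 2, 3, 4, 5, 6, 7], [1, 2, 3, 4, 5, 6, 0, 2, 3, 4, 5,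 1, 3, 4, 2, 3, 1, 0, 2, 3, 4, 5, 6, 7], [7, 2, 3, 4, 5, 6, 0, 2, 3, 4, 5, 1, 3, 4, 2, 3, 1, 0, 2, 3, 4, 5, 6, 7], [7, 1, 3, 4, 5, 6, 0, 2, 3, 4, 5, 1, 3, 4, 2, 3, 1, 0, 2, 3, 4, 5, 6, 7], [6, 7, 3, 4, 5, 6, 0, 2, 3, 4, 5, 1, 3, 4, 2, 3, 1, 0, 2, 3, 4, 5, 6, 7], [5, 6, 7, 4, 5, 6, 0, 2, 3, 4, 5, 1, 3, 4, 2, 3, 1, 0, 2, 3, 4, 5, 6, 7], [6, 7, 1, 3, 4, 5, 6, 2, 3, 4, 5, 1, 3, 4, 2, 3, 1, 0, 2, 3, 4, 5, 6, 7], [5, 6, 7, 3, 4, 5, 6, 2, 3, 4, 5, 1, 3, 4, 2, 3, 1, 0, 2, 3, 4, 5, 6, 7], [3, 1, 2, 3, 4, 5, 6, 0, 2, 3, 4, 5, 1, 3, 4, 2, 3, 1, 0, 2, 3, 4, 5, 6, 7], [7, 1, 2, 3, 4, 5, 6, 0, 2, 3, 4, 5, 1, 3, 4, 2, 3, 1, 0, 2, 3, 4, 5, 6, 7], [6, 7, 2, 3, 4, 5, 6, 0, 2, 3, 4, 5, 1, 3, 4, 2, 3, 1, 0, 2, 3, 4, 5, 6, 7], [6, 7, 1, 3, 4, 5, 6, 0, 2, 3, 4, 5, 1, 3, 4, 2, 3, 1, 0, 2, 3, 4, 5, 6, 7], [5, 6, 7, 3, 4, 5, 6, 0, 2, 3, 4, 5, 1, 3, 4, 2, 3, 1, 0, 2, 3, 4, 5, 6, 7], [5, 6, 7, 1, 3, 4, 5, 6, 2, 3, 4, 5, 1,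 3, 4, 2, 3, 1, 0, 2, 3, 4, 5, 6, 7], [4, 5, 6, 7, 3, 4, 5, 6, 2, 3, 4, 5, 1, 3, 4, 2, 3, 1, 0, 2, 3, 4, 5, 6, 7], [4, 3, 1, 2, 3, 4, 5, 6, 0, 2, 3, 4, 5, 1, 3, 4, 2, 3, 1, 0, 2, 3, 4, 5, 6, 7], [7, 3, 1, 2, 3, 4, 5, 6, 0, 2, 3, 4, 5, 1, 3, 4, 2, 3, 1, 0, 2, 3, 4, 5, 6, 7], [6, 7, 1, 2, 3, 4, 5, 6, 0, 2, 3, 4, 5, 1, 3, 4, 2, 3, 1, 0, 2, 3, 4, 5, 6, 7], [5, 6, 7, 2, 3, 4, 5, 6, 0, 2, 3, 4, 5, 1, 3, 4, 2, 3, 1, 0, 2, 3, 4, 5, 6, 7], [5, 6, 7, 1, 3, 4, 5, 6, 0, 2, 3, 4, 5, 1, 3, 4, 2, 3, 1, 0, 2, 3, 4, 5, 6, 7], [4, 5, 6, 7, 3, 4, 5, 6, 0, 2, 3, 4, 5, 1, 3, 4, 2, 3, 1, 0, 2, 3, 4, 5, 6, 7], [4, 5, 6, 7, 1, 3, 4, 5, 6, 2, 3, 4, 5, 1, 3, 4, 2, 3, 1, 0, 2, 3, 4, 5, 6, 7], [5, 4, 3, 1, 2, 3, 4, 5, 6, 0, 2, 3, 4, 5, 1, 3, 4, 2, 3, 1, 0, 2, 3, 4, 5, 6, 7], [7, 4, 3, 1, 2, 3, 4, 5, 6, 0, 2, 3, 4, 5, 1, 3, 4, 2, 3, 1, 0, 2, 3, 4, 5, 6, 7], [6, 7, 3, 1, 2, 3, 4, 5, 6, 0, 2, 3, 4, 5, 1, 3, 4, 2, 3, 1, 0, 2,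 3, 4, 5, 6, 7], [5, 6, 7, 1, 2, 3, 4, 5, 6, 0, 2, 3, 4, 5, 1, 3, 4, 2, 3, 1, 0, 2, 3, 4, 5, 6, 7], [4, 5, 6, 7, 2, 3, 4, 5, 6, 0, 2, 3, 4, 5, 1, 3, 4, 2, 3, 1, 0, 2, 3, 4, 5, 6, 7], [4, 5, 6, 7, 1, 3, 4, 5, 6, 0, 2, 3, 4, 5, 1, 3, 4, 2, 3, 1, 0, 2, 3, 4, 5, 6, 7], [3, 4, 5, 6, 7, 1, 3, 4, 5, 6, 2, 3, 4, 5, 1, 3, 4, 2, 3, 1, 0, 2, 3, 4, 5, 6, 7], [6, 5, 4, 3, 1, 2, 3, 4, 5, 6, 0, 2, 3, 4, 5, 1, 3, 4, 2, 3, 1, 0, 2, 3, 4, 5, 6, 7], [7, 5, 4, 3, 1, 2, 3, 4, 5, 6, 0, 2, 3, 4, 5, 1, 3, 4, 2, 3, 1, 0, 2, 3, 4, 5, 6, 7], [6, 7, 4, 3, 1, 2, 3, 4, 5, 6, 0, 2, 3, 4, 5, 1, 3, 4, 2, 3, 1, 0, 2, 3, 4, 5, 6, 7], [5, 6, 7, 3, 1, 2, 3, 4, 5, 6, 0, 2, 3, 4, 5, 1, 3, 4, 2, 3, 1, 0, 2, 3, 4, 5, 6, 7], [4, 5, 6, 7, 1, 2, 3, 4, 5, 6, 0, 2, 3, 4, 5, 1, 3, 4, 2, 3, 1, 0, 2, 3, 4, 5, 6, 7], [3, 4, 5, 6, 7, 2, 3, 4, 5, 6, 0, 2, 3, 4, 5, 1, 3, 4, 2, 3, 1, 0, 2, 3, 4, 5, 6, 7], [3, 4, 5, 6, 7, 1, 3, 4, 5, 6, 0, 2, 3, 4,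 5, 1, 3, 4, 2, 3, 1, 0, 2, 3, 4, 5, 6, 7], [2, 3, 4, 5, 6, 7, 1, 3, 4, 5, 6, 2, 3, 4, 5, 1, 3, 4, 2, 3, 1, 0, 2, 3, 4, 5, 6, 7], [7, 6, 5, 4, 3, 1, 2, 3, 4, 5, 6, 0, 2, 3, 4, 5, 1, 3, 4, 2, 3, 1, 0, 2, 3, 4, 5, 6, 7], [6, 7, 5, 4, 3, 1, 2, 3, 4, 5, 6, 0, 2, 3, 4, 5, 1, 3, 4, 2, 3, 1, 0, 2, 3, 4, 5, 6, 7], [5, 6, 7, 4, 3, 1, 2, 3, 4, 5, 6, 0, 2, 3, 4, 5, 1, 3, 4, 2, 3, 1, 0, 2, 3, 4, 5, 6, 7], [4, 5, 6, 7, 3, 1, 2, 3, 4, 5, 6, 0, 2, 3, 4, 5, 1, 3, 4, 2, 3, 1, 0, 2, 3, 4, 5, 6, 7], [3, 4, 5, 6, 7, 1, 2, 3, 4, 5, 6, 0, 2, 3, 4, 5, 1, 3, 4, 2, 3, 1, 0, 2, 3, 4, 5, 6, 7], [1, 3, 4, 5, 6, 7, 2, 3, 4, 5, 6, 0, 2, 3, 4, 5, 1, 3, 4, 2, 3, 1, 0, 2, 3, 4, 5, 6, 7], [2, 3, 4, 5, 6, 7, 1, 3, 4, 5, 6, 0, 2, 3, 4, 5, 1, 3, 4, 2, 3, 1, 0, 2, 3, 4, 5, 6, 7], [0, 2, 3, 4, 5, 6, 7, 1, 3, 4, 5, 6, 2, 3, 4, 5, 1, 3, 4, 2, 3, 1, 0, 2, 3, 4, 5, 6, 7], [6, 7, 6, 5, 4, 3, 1, 2, 3, 4, 5, 6, 0, 2, 3, 4, 5, 1, 3, 4, 2, 3,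 1, 0, 2, 3, 4, 5, 6, 7], [5, 6, 7, 5, 4, 3, 1, 2, 3, 4, 5, 6, 0, 2, 3, 4, 5, 1, 3, 4, 2, 3, 1, 0, 2, 3, 4, 5, 6, 7], [4, 5, 6, 7, 4, 3, 1, 2, 3, 4, 5, 6, 0, 2, 3, 4, 5, 1, 3, 4, 2, 3, 1, 0, 2, 3, 4, 5, 6, 7], [3, 4, 5, 6, 7, 3, 1, 2, 3, 4, 5, 6, 0, 2, 3, 4, 5, 1, 3, 4, 2, 3, 1, 0, 2, 3, 4, 5, 6, 7], [2, 3, 4, 5, 6, 7, 1, 2, 3, 4, 5, 6, 0, 2, 3, 4, 5, 1, 3, 4, 2, 3, 1, 0, 2, 3, 4, 5, 6, 7], [1, 3, 4, 5, 6, 7, 1, 2, 3, 4, 5, 6, 0, 2, 3, 4, 5, 1, 3, 4, 2, 3, 1, 0, 2, 3, 4, 5, 6, 7], [0, 2, 3, 4, 5, 6, 7, 1, 3, 4, 5, 6, 0, 2, 3, 4, 5, 1, 3, 4, 2, 3, 1, 0, 2, 3, 4, 5, 6, 7], [5, 6, 7, 6, 5, 4, 3, 1, 2, 3, 4, 5, 6, 0, 2, 3, 4, 5, 1, 3, 4, 2, 3, 1, 0, 2, 3, 4, 5, 6, 7], [4, 5, 6, 7, 5, 4, 3, 1, 2, 3, 4, 5, 6, 0, 2, 3, 4, 5, 1, 3, 4, 2, 3, 1, 0, 2, 3, 4, 5, 6, 7], [3, 4, 5, 6, 7, 4, 3, 1, 2, 3, 4, 5, 6, 0, 2, 3, 4, 5, 1, 3, 4, 2, 3, 1, 0, 2, 3, 4, 5, 6, 7], [2, 3, 4, 5, 6, 7, 3, 1, 2, 3, 4, 5, 6, 0, 2,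 3, 4, 5, 1, 3, 4, 2, 3, 1, 0, 2, 3, 4, 5, 6, 7], [1, 3, 4, 5, 6, 7, 3, 1, 2, 3, 4, 5, 6, 0, 2, 3, 4, 5, 1, 3, 4, 2, 3, 1, 0, 2, 3, 4, 5, 6, 7], [0, 2, 3, 4, 5, 6, 7, 1, 2, 3, 4, 5, 6, 0, 2, 3, 4, 5, 1, 3, 4, 2, 3, 1, 0, 2, 3, 4, 5, 6, 7], [1, 2, 3, 4, 5, 6, 7, 1, 2, 3, 4, 5, 6, 0, 2, 3, 4, 5, 1, 3, 4, 2, 3, 1, 0, 2, 3, 4, 5, 6, 7], [4, 5, 6, 7, 6, 5, 4, 3, 1, 2, 3, 4, 5, 6, 0, 2, 3, 4, 5, 1, 3, 4, 2, 3, 1, 0, 2, 3, 4, 5, 6, 7], [3, 4, 5, 6, 7, 5, 4, 3, 1, 2, 3, 4, 5, 6, 0, 2, 3, 4, 5, 1, 3, 4, 2, 3, 1, 0, 2, 3, 4, 5, 6, 7], [2, 3, 4, 5, 6, 7, 4, 3, 1, 2, 3, 4, 5, 6, 0, 2, 3, 4, 5, 1, 3, 4, 2, 3, 1, 0, 2, 3, 4, 5, 6, 7], [1, 3, 4, 5, 6, 7, 4, 3, 1, 2, 3, 4, 5, 6, 0, 2, 3, 4, 5, 1, 3, 4, 2, 3, 1, 0, 2, 3, 4, 5, 6, 7], [0, 2, 3, 4, 5, 6, 7, 3, 1, 2, 3, 4, 5, 6, 0, 2, 3, 4, 5, 1, 3, 4, 2, 3, 1, 0, 2, 3, 4, 5, 6, 7], [1, 2, 3, 4, 5, 6, 7, 3, 1, 2, 3, 4, 5, 6, 0, 2, 3, 4, 5, 1, 3, 4, 2, 3, 1, 0, 2, 3,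 4, 5, 6, 7], [1, 0, 2, 3, 4, 5, 6, 7, 1, 2, 3, 4, 5, 6, 0, 2, 3, 4, 5, 1, 3, 4, 2, 3, 1, 0, 2, 3, 4, 5, 6, 7], [3, 4, 5, 6, 7, 6, 5, 4, 3, 1, 2, 3, 4, 5, 6, 0, 2, 3, 4, 5, 1, 3, 4, 2, 3, 1, 0, 2, 3, 4, 5, 6, 7], [2, 3, 4, 5, 6, 7, 5, 4, 3, 1, 2, 3, 4, 5, 6, 0, 2, 3, 4, 5, 1, 3, 4, 2, 3, 1, 0, 2, 3, 4, 5, 6, 7], [1, 3, 4, 5, 6, 7, 5, 4, 3, 1, 2, 3, 4, 5, 6, 0, 2, 3, 4, 5, 1, 3, 4, 2, 3, 1, 0, 2, 3, 4, 5, 6, 7], [0, 2, 3, 4, 5, 6, 7, 4, 3, 1, 2, 3, 4, 5, 6, 0, 2, 3, 4, 5, 1, 3, 4, 2, 3, 1, 0, 2, 3, 4, 5, 6, 7], [1, 2, 3, 4, 5, 6, 7, 4, 3, 1, 2, 3, 4, 5, 6, 0, 2, 3, 4, 5, 1, 3, 4, 2, 3, 1, 0, 2, 3, 4, 5, 6, 7], [1, 0, 2, 3, 4, 5, 6, 7, 3, 1, 2, 3, 4, 5, 6, 0, 2, 3, 4, 5, 1, 3, 4, 2, 3, 1, 0, 2, 3, 4, 5, 6, 7], [3, 1, 2, 3, 4, 5, 6, 7, 3, 1, 2, 3, 4, 5, 6, 0, 2, 3, 4, 5, 1, 3, 4, 2, 3, 1, 0, 2, 3, 4, 5, 6, 7], [2, 3, 4, 5, 6, 7, 6, 5, 4, 3, 1, 2, 3, 4, 5, 6, 0, 2, 3, 4, 5, 1, 3, 4, 2, 3, 1, 0, 2, 3,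 4, 5, 6, 7], [1, 3, 4, 5, 6, 7, 6, 5, 4, 3, 1, 2, 3, 4, 5, 6, 0, 2, 3, 4, 5, 1, 3, 4, 2, 3, 1, 0, 2, 3, 4, 5, 6, 7], [0, 2, 3, 4, 5, 6, 7, 5, 4, 3, 1, 2, 3, 4, 5, 6, 0, 2, 3, 4, 5, 1, 3, 4, 2, 3, 1, 0, 2, 3, 4, 5, 6, 7], [1, 2, 3, 4, 5, 6, 7, 5, 4, 3, 1, 2, 3, 4, 5, 6, 0, 2, 3, 4, 5, 1, 3, 4, 2, 3, 1, 0, 2, 3, 4, 5, 6, 7], [1, 0, 2, 3, 4, 5, 6, 7, 4, 3, 1, 2, 3, 4, 5, 6, 0, 2, 3, 4, 5, 1, 3, 4, 2, 3, 1, 0, 2, 3, 4, 5, 6, 7], [3, 1, 2, 3, 4, 5, 6, 7, 4, 3, 1, 2, 3, 4, 5, 6, 0, 2, 3, 4, 5, 1, 3, 4, 2, 3, 1, 0, 2, 3, 4, 5, 6, 7], [3, 1, 0, 2, 3, 4, 5, 6, 7, 3, 1, 2, 3, 4, 5, 6, 0, 2, 3, 4, 5, 1, 3, 4, 2, 3, 1, 0, 2, 3, 4, 5, 6, 7], [0, 2, 3, 4, 5, 6, 7, 6, 5, 4, 3, 1, 2, 3, 4, 5, 6, 0, 2, 3, 4, 5, 1, 3, 4, 2, 3, 1, 0, 2, 3, 4, 5, 6, 7], [1, 2, 3, 4, 5, 6, 7, 6, 5, 4, 3, 1, 2, 3, 4, 5, 6, 0, 2, 3, 4, 5, 1, 3, 4, 2, 3, 1, 0, 2, 3, 4, 5, 6, 7], [1, 0, 2, 3, 4, 5, 6, 7, 5, 4, 3, 1, 2, 3, 4, 5, 6, 0, 2,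 3, 4, 5, 1, 3, 4, 2, 3, 1, 0, 2, 3, 4, 5, 6, 7], [3, 1, 2, 3, 4, 5, 6, 7, 5, 4, 3, 1, 2, 3, 4, 5, 6, 0, 2, 3, 4, 5, 1, 3, 4, 2, 3, 1, 0, 2, 3, 4, 5, 6, 7], [3, 1, 0, 2, 3, 4, 5, 6, 7, 4, 3, 1, 2, 3, 4, 5, 6, 0, 2, 3, 4, 5, 1, 3, 4, 2, 3, 1, 0, 2, 3, 4, 5, 6, 7], [4, 3, 1, 2, 3, 4, 5, 6, 7, 4, 3, 1, 2, 3, 4, 5, 6, 0, 2, 3, 4, 5, 1, 3, 4, 2, 3, 1, 0, 2, 3, 4, 5, 6, 7], [2, 3, 1, 0, 2, 3, 4, 5, 6, 7, 3, 1, 2, 3, 4, 5, 6, 0, 2, 3, 4, 5, 1, 3, 4, 2, 3, 1, 0, 2, 3, 4, 5, 6, 7], [1, 0, 2, 3, 4, 5, 6, 7, 6, 5, 4, 3, 1, 2, 3, 4, 5, 6, 0, 2, 3, 4, 5, 1, 3, 4, 2, 3, 1, 0, 2, 3, 4, 5, 6, 7], [3, 1, 2, 3, 4, 5, 6, 7, 6, 5, 4, 3, 1, 2, 3, 4, 5, 6, 0, 2, 3, 4, 5, 1, 3, 4, 2, 3, 1, 0, 2, 3, 4, 5, 6, 7], [3, 1, 0, 2, 3, 4, 5, 6, 7, 5, 4, 3, 1, 2, 3, 4, 5, 6, 0, 2, 3, 4, 5, 1, 3, 4, 2, 3, 1, 0, 2, 3, 4, 5, 6, 7], [4, 3, 1, 2, 3, 4, 5, 6, 7, 5, 4, 3, 1, 2, 3, 4, 5, 6, 0, 2, 3, 4, 5, 1, 3, 4, 2, 3, 1, 0, 2, 3, 4,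 5, 6, 7], [2, 3, 1, 0, 2, 3, 4, 5, 6, 7, 4, 3, 1, 2, 3, 4, 5, 6, 0, 2, 3, 4, 5, 1, 3, 4, 2, 3, 1, 0, 2, 3, 4, 5, 6, 7], [4, 3, 1, 0, 2, 3, 4, 5, 6, 7, 4, 3, 1, 2, 3, 4, 5, 6, 0, 2, 3, 4, 5, 1, 3, 4, 2, 3, 1, 0, 2, 3, 4, 5, 6, 7], [3, 1, 0, 2, 3, 4, 5, 6, 7, 6, 5, 4, 3, 1, 2, 3, 4, 5, 6, 0, 2, 3, 4, 5, 1, 3, 4, 2, 3, 1, 0, 2, 3, 4, 5, 6, 7], [4, 3, 1, 2, 3, 4, 5, 6, 7, 6, 5, 4, 3, 1, 2, 3, 4, 5, 6, 0, 2, 3, 4, 5, 1, 3, 4, 2, 3, 1, 0, 2, 3, 4, 5, 6, 7], [2, 3, 1, 0, 2, 3, 4, 5, 6, 7, 5, 4, 3, 1, 2, 3, 4, 5, 6, 0, 2, 3, 4, 5, 1, 3, 4, 2, 3, 1, 0, 2, 3, 4, 5, 6, 7], [4, 3, 1, 0, 2, 3, 4, 5, 6, 7, 5, 4, 3, 1, 2, 3, 4, 5, 6, 0, 2, 3, 4, 5, 1, 3, 4, 2, 3, 1, 0, 2, 3, 4, 5, 6, 7], [5, 4, 3, 1, 2, 3, 4, 5, 6, 7, 5, 4, 3, 1, 2, 3, 4, 5, 6, 0, 2, 3, 4, 5, 1, 3, 4, 2, 3, 1, 0, 2, 3, 4, 5, 6, 7], [4, 2, 3, 1, 0, 2, 3, 4, 5, 6, 7, 4, 3, 1, 2, 3, 4, 5, 6, 0, 2, 3, 4, 5, 1, 3, 4, 2, 3, 1, 0, 2, 3, 4, 5, 6, 7],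 [2, 3, 1, 0, 2, 3, 4, 5, 6, 7, 6, 5, 4, 3, 1, 2, 3, 4, 5, 6, 0, 2, 3, 4, 5, 1, 3, 4, 2, 3, 1, 0, 2, 3, 4, 5, 6, 7], [4, 3, 1, 0, 2, 3, 4, 5, 6, 7, 6, 5, 4, 3, 1, 2, 3, 4, 5, 6, 0, 2, 3, 4, 5, 1, 3, 4, 2, 3, 1, 0, 2, 3, 4, 5, 6, 7], [5, 4, 3, 1, 2, 3, 4, 5, 6, 7, 6, 5, 4, 3, 1, 2, 3, 4, 5, 6, 0, 2, 3, 4, 5, 1, 3, 4, 2, 3, 1, 0, 2, 3, 4, 5, 6, 7], [4, 2, 3, 1, 0, 2, 3, 4, 5, 6, 7, 5, 4, 3, 1, 2, 3, 4, 5, 6, 0, 2, 3, 4, 5, 1, 3, 4, 2, 3, 1, 0, 2, 3, 4, 5, 6, 7], [5, 4, 3, 1, 0, 2, 3, 4, 5, 6, 7, 5, 4, 3, 1, 2, 3, 4, 5, 6, 0, 2, 3, 4, 5, 1, 3, 4, 2, 3, 1, 0, 2, 3, 4, 5, 6, 7], [3, 4, 2, 3, 1, 0, 2, 3, 4, 5, 6, 7, 4, 3, 1, 2, 3, 4, 5, 6, 0, 2, 3, 4, 5, 1, 3, 4, 2, 3, 1, 0, 2, 3, 4, 5, 6, 7], [4, 2, 3, 1, 0, 2, 3, 4, 5, 6, 7, 6, 5, 4, 3, 1, 2, 3, 4, 5, 6, 0, 2, 3, 4, 5, 1, 3, 4, 2, 3, 1, 0, 2, 3, 4, 5, 6, 7], [5, 4, 3, 1, 0, 2, 3, 4, 5, 6, 7, 6, 5, 4, 3, 1, 2, 3, 4, 5, 6, 0, 2, 3, 4, 5, 1, 3, 4, 2, 3,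 1, 0, 2, 3, 4, 5, 6, 7], [6, 5, 4, 3, 1, 2, 3, 4, 5, 6, 7, 6, 5, 4, 3, 1, 2, 3, 4, 5, 6, 0, 2, 3, 4, 5, 1, 3, 4, 2, 3, 1, 0, 2, 3, 4, 5, 6, 7], [3, 4, 2, 3, 1, 0, 2, 3, 4, 5, 6, 7, 5, 4, 3, 1, 2, 3, 4, 5, 6, 0, 2, 3, 4, 5, 1, 3, 4, 2, 3, 1, 0, 2, 3, 4, 5, 6, 7], [5, 4, 2, 3, 1, 0, 2, 3, 4, 5, 6, 7, 5, 4, 3, 1, 2, 3, 4, 5, 6, 0, 2, 3, 4, 5, 1, 3, 4, 2, 3, 1, 0, 2, 3, 4, 5, 6, 7], [1, 3, 4, 2, 3, 1, 0, 2, 3, 4, 5, 6, 7, 4, 3, 1, 2, 3, 4, 5, 6, 0, 2, 3, 4, 5, 1, 3, 4, 2, 3, 1, 0, 2, 3, 4, 5, 6, 7], [3, 4, 2, 3, 1, 0, 2, 3, 4, 5, 6, 7, 6, 5, 4, 3, 1, 2, 3, 4, 5, 6, 0, 2, 3, 4, 5, 1, 3, 4, 2, 3, 1, 0, 2, 3, 4, 5, 6, 7], [5, 4, 2, 3, 1, 0, 2, 3, 4, 5, 6, 7, 6, 5, 4, 3, 1, 2, 3, 4, 5, 6, 0, 2, 3, 4, 5, 1, 3, 4, 2, 3, 1, 0, 2, 3, 4, 5, 6, 7], [6, 5, 4, 3, 1, 0, 2, 3, 4, 5, 6, 7, 6, 5, 4, 3, 1, 2, 3, 4, 5, 6, 0, 2, 3, 4, 5, 1, 3, 4, 2, 3, 1, 0, 2, 3, 4, 5, 6, 7], [1, 3, 4, 2, 3, 1, 0, 2, 3, 4, 5, 6, 7,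 5, 4, 3, 1, 2, 3, 4, 5, 6, 0, 2, 3, 4, 5, 1, 3, 4, 2, 3, 1, 0, 2, 3, 4, 5, 6, 7], [5, 3, 4, 2, 3, 1, 0, 2, 3, 4, 5, 6, 7, 5, 4, 3, 1, 2, 3, 4, 5, 6, 0, 2, 3, 4, 5, 1, 3, 4, 2, 3, 1, 0, 2, 3, 4, 5, 6, 7], [1, 3, 4, 2, 3, 1, 0, 2, 3, 4, 5, 6, 7, 6, 5, 4, 3, 1, 2, 3, 4, 5, 6, 0, 2, 3, 4, 5, 1, 3, 4, 2, 3, 1, 0, 2, 3, 4, 5, 6, 7], [5, 3, 4, 2, 3, 1, 0, 2, 3, 4, 5, 6, 7, 6, 5, 4, 3, 1, 2, 3, 4, 5, 6, 0, 2, 3, 4, 5, 1, 3, 4, 2, 3, 1, 0, 2, 3, 4, 5, 6, 7], [6, 5, 4, 2, 3, 1, 0, 2, 3, 4, 5, 6, 7, 6, 5, 4, 3, 1, 2, 3, 4, 5, 6, 0, 2, 3, 4, 5, 1, 3, 4, 2, 3, 1, 0, 2, 3, 4, 5, 6, 7], [5, 1, 3, 4, 2, 3, 1, 0, 2, 3, 4, 5, 6, 7, 5, 4, 3, 1, 2, 3, 4, 5, 6, 0, 2, 3, 4, 5, 1, 3, 4, 2, 3, 1, 0, 2, 3, 4, 5, 6, 7], [4, 5, 3, 4, 2, 3, 1, 0, 2, 3, 4, 5, 6, 7, 5, 4, 3, 1, 2, 3, 4, 5, 6, 0, 2, 3, 4, 5, 1, 3, 4, 2, 3, 1, 0, 2, 3, 4, 5, 6, 7], [5, 1, 3, 4, 2, 3, 1, 0, 2, 3, 4, 5, 6, 7, 6, 5, 4, 3, 1, 2, 3, 4, 5, 6, 0, 2,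 3, 4, 5, 1, 3, 4, 2, 3, 1, 0, 2, 3, 4, 5, 6, 7], [4, 5, 3, 4, 2, 3, 1, 0, 2, 3, 4, 5, 6, 7, 6, 5, 4, 3, 1, 2, 3, 4, 5, 6, 0, 2, 3, 4, 5, 1, 3, 4, 2, 3, 1, 0, 2, 3, 4, 5, 6, 7], [6, 5, 3, 4, 2, 3, 1, 0, 2, 3, 4, 5, 6, 7, 6, 5, 4, 3, 1, 2, 3, 4, 5, 6, 0, 2, 3, 4, 5, 1, 3, 4, 2, 3, 1, 0, 2, 3, 4, 5, 6, 7], [4, 5, 1, 3, 4, 2, 3, 1, 0, 2, 3, 4, 5, 6, 7, 5, 4, 3, 1, 2, 3, 4, 5, 6, 0, 2, 3, 4, 5, 1, 3, 4, 2, 3, 1, 0, 2, 3, 4, 5, 6, 7], [4, 5, 1, 3, 4, 2, 3, 1, 0, 2, 3, 4, 5, 6, 7, 6, 5, 4, 3, 1, 2, 3, 4, 5, 6, 0, 2, 3, 4, 5, 1, 3, 4, 2, 3, 1, 0, 2, 3, 4, 5, 6, 7], [6, 5, 1, 3, 4, 2, 3, 1, 0, 2, 3, 4, 5, 6, 7, 6, 5, 4, 3, 1, 2, 3, 4, 5, 6, 0, 2, 3, 4, 5, 1, 3, 4, 2, 3, 1, 0, 2, 3, 4, 5, 6, 7], [6, 4, 5, 3, 4, 2, 3, 1, 0, 2, 3, 4, 5, 6, 7, 6, 5, 4, 3, 1, 2, 3, 4, 5, 6, 0, 2, 3, 4, 5, 1, 3, 4, 2, 3, 1, 0, 2, 3, 4, 5, 6, 7], [3, 4, 5, 1, 3, 4, 2, 3, 1, 0, 2, 3, 4, 5, 6, 7, 5, 4, 3, 1, 2, 3, 4, 5, 6, 0, 2,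 3, 4, 5, 1, 3, 4, 2, 3, 1, 0, 2, 3, 4, 5, 6, 7], [3, 4, 5, 1, 3, 4, 2, 3, 1, 0, 2, 3, 4, 5, 6, 7, 6, 5, 4, 3, 1, 2, 3, 4, 5, 6, 0, 2, 3, 4, 5, 1, 3, 4, 2, 3, 1, 0, 2, 3, 4, 5, 6, 7], [6, 4, 5, 1, 3, 4, 2, 3, 1, 0, 2, 3, 4, 5, 6, 7, 6, 5, 4, 3, 1, 2, 3, 4, 5, 6, 0, 2, 3, 4, 5, 1, 3, 4, 2, 3, 1, 0, 2, 3, 4, 5, 6, 7], [5, 6, 4, 5, 3, 4, 2, 3, 1, 0, 2, 3, 4, 5, 6, 7, 6, 5, 4, 3, 1, 2, 3, 4, 5, 6, 0, 2, 3, 4, 5, 1, 3, 4, 2, 3, 1, 0, 2, 3, 4, 5, 6, 7], [2, 3, 4, 5, 1, 3, 4, 2, 3, 1, 0, 2, 3, 4, 5, 6, 7, 5, 4, 3, 1, 2, 3, 4, 5, 6, 0, 2, 3, 4, 5, 1, 3, 4, 2, 3, 1, 0, 2, 3, 4, 5, 6, 7], [2, 3, 4, 5, 1, 3, 4, 2, 3, 1, 0, 2, 3, 4, 5, 6, 7, 6, 5, 4, 3, 1, 2, 3, 4, 5, 6, 0, 2, 3, 4, 5, 1, 3, 4, 2, 3, 1, 0, 2, 3, 4, 5, 6, 7], [6, 3, 4, 5, 1, 3, 4, 2, 3, 1, 0, 2, 3, 4, 5, 6, 7, 6, 5, 4, 3, 1, 2, 3, 4, 5, 6, 0, 2, 3, 4, 5, 1, 3, 4, 2, 3, 1, 0, 2, 3, 4, 5, 6, 7], [5, 6, 4, 5, 1, 3, 4, 2, 3, 1, 0, 2, 3, 4, 5, 6,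 7, 6, 5, 4, 3, 1, 2, 3, 4, 5, 6, 0, 2, 3, 4, 5, 1, 3, 4, 2, 3, 1, 0, 2, 3, 4, 5, 6, 7], [0, 2, 3, 4, 5, 1, 3, 4, 2, 3, 1, 0, 2, 3, 4, 5, 6, 7, 5, 4, 3, 1, 2, 3, 4, 5, 6, 0, 2, 3, 4, 5, 1, 3, 4, 2, 3, 1, 0, 2, 3, 4, 5, 6, 7], [0, 2, 3, 4, 5, 1, 3, 4, 2, 3, 1, 0, 2, 3, 4, 5, 6, 7, 6, 5, 4, 3, 1, 2, 3, 4, 5, 6, 0, 2, 3, 4, 5, 1, 3, 4, 2, 3, 1, 0, 2, 3, 4, 5, 6, 7], [6, 2, 3, 4, 5, 1, 3, 4, 2, 3, 1, 0, 2, 3, 4, 5, 6, 7, 6, 5, 4, 3, 1, 2, 3, 4, 5, 6, 0, 2, 3, 4, 5, 1, 3, 4, 2, 3, 1, 0, 2, 3, 4, 5, 6, 7], [5, 6, 3, 4, 5, 1, 3, 4, 2, 3, 1, 0, 2, 3, 4, 5, 6, 7, 6, 5, 4, 3, 1, 2, 3, 4, 5, 6, 0, 2, 3, 4, 5, 1, 3, 4, 2, 3, 1, 0, 2, 3, 4, 5, 6, 7], [6, 0, 2, 3, 4, 5, 1, 3, 4, 2, 3, 1, 0, 2, 3, 4, 5, 6, 7, 6, 5, 4, 3, 1, 2, 3, 4, 5, 6, 0, 2, 3, 4, 5, 1, 3, 4, 2, 3, 1, 0, 2, 3, 4, 5, 6, 7], [5, 6, 2, 3, 4, 5, 1, 3, 4, 2, 3, 1, 0, 2, 3, 4, 5, 6, 7, 6, 5, 4, 3, 1, 2, 3, 4, 5, 6, 0, 2, 3, 4, 5, 1, 3, 4, 2, 3, 1,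 0, 2, 3, 4, 5, 6, 7], [4, 5, 6, 3, 4, 5, 1, 3, 4, 2, 3, 1, 0, 2, 3, 4, 5, 6, 7, 6, 5, 4, 3, 1, 2, 3, 4, 5, 6, 0, 2, 3, 4, 5, 1, 3, 4, 2, 3, 1, 0, 2, 3, 4, 5, 6, 7], [5, 6, 0, 2, 3, 4, 5, 1, 3, 4, 2, 3, 1, 0, 2, 3, 4, 5, 6, 7, 6, 5, 4, 3, 1, 2, 3, 4, 5, 6, 0, 2, 3, 4, 5, 1, 3, 4, 2, 3, 1, 0, 2, 3, 4, 5, 6, 7], [4, 5, 6, 2, 3, 4, 5, 1, 3, 4, 2, 3, 1, 0, 2, 3, 4, 5, 6, 7, 6, 5, 4, 3, 1, 2, 3, 4, 5, 6, 0, 2, 3, 4, 5, 1, 3, 4, 2, 3, 1, 0, 2, 3, 4, 5, 6, 7], [4, 5, 6, 0, 2, 3, 4, 5, 1, 3, 4, 2, 3, 1, 0, 2, 3, 4, 5, 6, 7, 6, 5, 4, 3, 1, 2, 3, 4, 5, 6, 0, 2, 3, 4, 5, 1, 3, 4, 2, 3, 1, 0, 2, 3, 4, 5, 6, 7], [3, 4, 5, 6, 2, 3, 4, 5, 1, 3, 4, 2, 3, 1, 0, 2, 3, 4, 5, 6, 7, 6, 5, 4, 3, 1, 2, 3, 4, 5, 6, 0, 2, 3, 4, 5, 1, 3, 4, 2, 3, 1, 0, 2, 3, 4, 5, 6, 7], [3, 4, 5, 6, 0, 2, 3, 4, 5, 1, 3, 4, 2, 3, 1, 0, 2, 3, 4, 5, 6, 7, 6, 5, 4, 3, 1, 2, 3, 4, 5, 6, 0, 2, 3, 4, 5, 1, 3, 4, 2, 3, 1, 0, 2, 3, 4, 5, 6, 7],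 [1, 3, 4, 5, 6, 2, 3, 4, 5, 1, 3, 4, 2, 3, 1, 0, 2, 3, 4, 5, 6, 7, 6, 5, 4, 3, 1, 2, 3, 4, 5, 6, 0, 2, 3, 4, 5, 1, 3, 4, 2, 3, 1, 0, 2, 3, 4, 5, 6, 7], [2, 3, 4, 5, 6, 0, 2, 3, 4, 5, 1, 3, 4, 2, 3, 1, 0, 2, 3, 4, 5, 6, 7, 6, 5, 4, 3, 1, 2, 3, 4, 5, 6, 0, 2, 3, 4, 5, 1, 3, 4, 2, 3, 1, 0, 2, 3, 4, 5, 6, 7], [1, 3, 4, 5, 6, 0, 2, 3, 4, 5, 1, 3, 4, 2, 3, 1, 0, 2, 3, 4, 5, 6, 7, 6, 5, 4, 3, 1, 2, 3, 4, 5, 6, 0, 2, 3, 4, 5, 1, 3, 4, 2, 3, 1, 0, 2, 3, 4, 5, 6, 7], [1, 2, 3, 4, 5, 6, 0, 2, 3, 4, 5, 1, 3, 4, 2, 3, 1, 0, 2, 3, 4, 5, 6, 7, 6, 5, 4, 3, 1, 2, 3, 4, 5, 6, 0, 2, 3, 4, 5, 1, 3, 4, 2, 3, 1, 0, 2, 3, 4, 5, 6, 7], [3, 1, 2, 3, 4, 5, 6, 0, 2, 3, 4, 5, 1, 3, 4, 2, 3, 1, 0, 2, 3, 4, 5, 6, 7, 6, 5, 4, 3, 1, 2, 3, 4, 5, 6, 0, 2, 3, 4, 5, 1, 3, 4, 2, 3, 1, 0, 2, 3, 4, 5, 6, 7], [4, 3, 1, 2, 3, 4, 5, 6, 0, 2, 3, 4, 5, 1, 3, 4, 2, 3, 1, 0, 2, 3, 4, 5, 6, 7, 6, 5, 4, 3, 1, 2, 3, 4, 5, 6, 0, 2, 3, 4, 5, 1,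 3, 4, 2, 3, 1, 0, 2, 3, 4, 5, 6, 7], [5, 4, 3, 1, 2, 3, 4, 5, 6, 0, 2, 3, 4, 5, 1, 3, 4, 2, 3, 1, 0, 2, 3, 4, 5, 6, 7, 6, 5, 4, 3, 1, 2, 3, 4, 5, 6, 0, 2, 3, 4, 5, 1, 3, 4, 2, 3, 1, 0, 2, 3, 4, 5, 6, 7], [6, 5, 4, 3, 1, 2, 3, 4, 5, 6, 0, 2, 3, 4, 5, 1, 3, 4, 2, 3, 1, 0, 2, 3, 4, 5, 6, 7, 6, 5, 4, 3, 1, 2, 3, 4, 5, 6, 0, 2, 3, 4, 5, 1, 3, 4, 2, 3, 1, 0, 2, 3, 4, 5, 6, 7], [7, 6, 5, 4, 3, 1, 2, 3, 4, 5, 6, 0, 2, 3, 4, 5, 1, 3, 4, 2, 3, 1, 0, 2, 3, 4, 5, 6, 7, 6, 5, 4, 3, 1, 2, 3, 4, 5, 6, 0, 2, 3, 4, 5, 1, 3, 4, 2, 3, 1, 0, 2, 3, 4, 5, 6, 7]] : List (List (Fin 8))).getD x []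
def tbl8 : ℕ → Fin 8 → ℕ := fun x j => (([[0, 0, 0, 0, 0, 0, 0, 1], [1, 1, 1, 1, 1, 1, 2, 0], [2, 2, 2, 2, 2, 3, 1, 2], [3, 3, 3, 3, 4, 2, 3, 3], [4, 4, 4, 5, 3, 4, 4, 4], [5, 7, 6, 4, 5, 5, 5, 5], [8, 9, 5, 6, 6, 6, 6, 6], [7, 5, 9, 7, 7, 7, 7, 7], [6, 10, 8, 8, 8, 8, 8, 8], [10, 6, 7, 11, 9, 9, 9, 9], [9, 8, 10, 12, 10, 10, 10, 10], [12, 11, 11, 9, 13, 11, 11, 11], [11, 12, 14, 10, 15, 12, 12, 12], [15, 13, 13, 13, 11, 16, 13, 13], [14, 14, 12, 14, 17, 14, 14, 14], [13, 15, 17, 15, 12, 18, 15, 15], [18, 16, 16, 16, 16, 13, 19, 16], [17, 17, 15, 20, 14, 21, 17, 17], [16, 18, 21, 18, 18, 15, 22, 18], [22, 19, 19, 19, 19, 19, 16, 23], [20, 24, 20, 17, 20, 25, 20, 20], [21, 21, 18, 25, 21, 17, 26, 21], [19, 22, 26, 22, 22, 22, 18, 27], [27, 23, 23, 23, 23, 23, 23, 19], [24, 20, 24, 24, 24, 28, 24, 24], [25, 28, 25, 21, 29, 20, 30, 25], [26, 26, 22, 30, 26, 26, 21, 31], [23, 27, 31, 27, 27, 27, 27,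 22], [28, 25, 28, 28, 32, 24, 33, 28], [29, 32, 29, 29, 25, 29, 34, 29], [30, 33, 30, 26, 34, 30, 25, 35], [31, 31, 27, 35, 31, 31, 31, 26], [32, 29, 32, 36, 28, 32, 37, 32], [33, 30, 33, 33, 37, 33, 28, 38], [34, 37, 34, 34, 30, 39, 29, 40], [35, 38, 35, 31, 40, 35, 35, 30], [36, 36, 41, 32, 36, 36, 42, 36], [37, 34, 37, 42, 33, 43, 32, 44], [38, 35, 38, 38, 44, 38, 38, 33], [39, 43, 39, 39, 39, 34, 39, 45], [40, 44, 40, 40, 35, 45, 40, 34], [46, 41, 36, 41, 41, 41, 47, 41], [42, 42, 47, 37, 42, 48, 36, 49], [43, 39, 43, 48, 43, 37, 43, 50], [44, 40, 44, 49, 38, 50, 44, 37], [45, 50, 45, 45, 45, 40, 51, 39], [41, 46, 46, 46, 46, 46, 52, 46], [52, 47, 42, 47, 47, 53, 41, 54], [48, 48, 53, 43, 55, 42, 48, 56], [49, 49, 54, 44, 49, 56, 49, 42], [50, 45, 50, 56, 50, 44, 57, 43], [51, 57, 51, 51, 51, 51, 45, 51], [47, 52, 52, 52, 52, 58, 46, 59], [58, 53, 48, 53, 60, 47, 53, 61], [59, 54, 49, 54, 54,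 61, 54, 47], [55, 55, 60, 55, 48, 55, 55, 62], [56, 56, 61, 50, 62, 49, 63, 48], [57, 51, 57, 63, 57, 57, 50, 57], [53, 58, 58, 58, 64, 52, 58, 65], [54, 59, 59, 59, 59, 65, 59, 52], [64, 60, 55, 66, 53, 60, 60, 67], [65, 61, 56, 61, 67, 54, 68, 53], [62, 62, 67, 62, 56, 62, 69, 55], [63, 63, 68, 57, 69, 63, 56, 63], [60, 64, 64, 70, 58, 64, 64, 71], [61, 65, 65, 65, 71, 59, 72, 58], [70, 73, 66, 60, 66, 66, 66, 74], [71, 67, 62, 74, 61, 67, 75, 60], [72, 68, 63, 68, 75, 68, 61, 68], [69, 69, 75, 69, 63, 76, 62, 69], [66, 78, 77, 64, 70, 70, 70, 79], [67, 71, 71, 79, 65, 71, 80, 64], [68, 72, 72, 72, 80, 72, 65, 72], [78, 66, 73, 73, 73, 73, 73, 81], [79, 81, 74, 67, 74, 74, 82, 66], [80, 75, 69, 82, 68, 83, 67, 75], [76, 76, 83, 76, 76, 69, 76, 76], [77, 84, 70, 77, 77, 77, 77, 85], [73, 70, 84, 78, 78, 78, 78, 86], [74, 86, 85, 71, 79, 79, 87, 70], [75, 80, 80, 87, 72, 88, 71, 80], [86, 74, 81,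 81, 81, 81, 89, 73], [87, 89, 82, 75, 82, 90, 74, 82], [88, 83, 76, 90, 83, 75, 83, 83], [84, 77, 78, 91, 84, 84, 84, 92], [85, 92, 79, 85, 85, 85, 93, 77], [81, 79, 92, 86, 86, 86, 94, 78], [82, 94, 93, 80, 87, 95, 79, 87], [83, 88, 88, 95, 88, 80, 88, 88], [94, 82, 89, 89, 89, 96, 81, 89], [95, 96, 90, 83, 97, 82, 90, 90], [91, 91, 91, 84, 98, 91, 91, 99], [92, 85, 86, 99, 92, 92, 100, 84], [93, 100, 87, 93, 93, 101, 85, 93], [89, 87, 100, 94, 94, 102, 86, 94], [90, 102, 101, 88, 103, 87, 95, 95], [102, 90, 96, 96, 104, 89, 96, 96], [103, 104, 97, 97, 90, 97, 97, 97], [98, 98, 98, 98, 91, 105, 98, 106], [99, 99, 99, 92, 106, 99, 107, 91], [100, 93, 94, 107, 100, 108, 92, 100], [101, 108, 95, 101, 109, 93, 101, 101], [96, 95, 108, 102, 110, 94, 102, 102], [97, 110, 109, 103, 95, 103, 103, 103], [110, 97, 104, 111, 96, 104, 104, 104], [105, 105, 105, 105, 105, 98, 112, 113], [106, 106, 106, 106,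 99, 113, 114, 98], [107, 107, 107, 100, 114, 115, 99, 107], [108, 101, 102, 115, 116, 100, 108, 108], [109, 116, 103, 117, 101, 109, 109, 109], [104, 103, 116, 118, 102, 110, 110, 110], [118, 111, 119, 104, 111, 111, 111, 111], [112, 112, 112, 112, 112, 112, 105, 120], [113, 113, 113, 113, 113, 106, 121, 105], [114, 114, 114, 114, 107, 122, 106, 114], [115, 115, 115, 108, 123, 107, 115, 115], [116, 109, 110, 124, 108, 116, 116, 116], [117, 125, 117, 109, 117, 117, 117, 117], [111, 118, 126, 110, 118, 118, 118, 118], [127, 119, 111, 119, 119, 119, 119, 119], [120, 120, 120, 120, 120, 120, 128, 112], [121, 121, 121, 121, 121, 129, 113, 128], [122, 122, 122, 122, 130, 114, 129, 122], [123, 123, 123, 131, 115, 130, 123, 123], [124, 133, 132, 116, 131, 124, 124, 124], [125, 117, 125, 133, 125, 125, 125, 125], [134, 126, 118, 132, 126, 126, 126, 126], [119, 127, 134, 127, 127, 127, 127, 127], [128, 128,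 128, 128, 128, 135, 120, 121], [129, 129, 129, 129, 136, 121, 122, 135], [130, 130, 130, 137, 122, 123, 136, 130], [131, 139, 138, 123, 124, 137, 131, 131], [140, 141, 124, 126, 138, 132, 132, 132], [133, 124, 141, 125, 139, 133, 133, 133], [126, 134, 127, 140, 134, 134, 134, 134], [135, 135, 135, 135, 142, 128, 135, 129], [136, 136, 136, 143, 129, 136, 130, 142], [137, 145, 144, 130, 137, 131, 143, 137], [146, 147, 131, 138, 132, 144, 138, 138], [139, 131, 147, 139, 133, 145, 139, 139], [132, 148, 140, 134, 146, 140, 140, 140], [148, 132, 133, 141, 147, 141, 141, 141], [142, 142, 142, 149, 135, 142, 142, 136], [143, 151, 150, 136, 143, 143, 137, 149], [152, 153, 137, 144, 144, 138, 150, 144], [145, 137, 153, 145, 145, 139, 151, 145], [138, 154, 146, 146, 140, 152, 146, 146], [154, 138, 139, 155, 141, 153, 147, 147], [141, 140, 148, 148, 154, 148, 148, 148], [149, 157, 156, 142, 149, 149, 149,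 143], [158, 159, 143, 150, 150, 150, 144, 156], [151, 143, 159, 151, 151, 151, 145, 157], [144, 160, 152, 152, 152, 146, 158, 152], [160, 144, 145, 161, 153, 147, 159, 153], [147, 146, 154, 162, 148, 160, 154, 154], [162, 155, 155, 147, 155, 161, 155, 155], [163, 164, 149, 156, 156, 156, 156, 150], [157, 149, 164, 157, 157, 157, 157, 151], [150, 165, 158, 158, 158, 158, 152, 163], [165, 150, 151, 166, 159, 159, 153, 164], [153, 152, 160, 167, 160, 154, 165, 160], [167, 161, 161, 153, 168, 155, 166, 161], [155, 162, 169, 154, 162, 167, 162, 162], [156, 170, 163, 163, 163, 163, 163, 158], [170, 156, 157, 171, 164, 164, 164, 159], [159, 158, 165, 172, 165, 165, 160, 170], [172, 166, 166, 159, 173, 166, 161, 171], [161, 167, 174, 160, 175, 162, 172, 167], [175, 168, 168, 168, 161, 168, 173, 168], [169, 169, 162, 169, 169, 174, 169, 169], [164, 163, 170, 176, 170, 170, 170, 165], [176, 171, 171, 164,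 177, 171, 171, 166], [166, 172, 178, 165, 179, 172, 167, 176], [179, 173, 173, 173, 166, 180, 168, 177], [174, 174, 167, 174, 181, 169, 178, 174], [168, 175, 181, 175, 167, 175, 179, 175], [171, 176, 182, 170, 183, 176, 176, 172], [183, 177, 177, 177, 171, 184, 177, 173], [178, 178, 172, 178, 185, 178, 174, 182], [173, 179, 185, 179, 172, 186, 175, 183], [186, 180, 180, 180, 180, 173, 180, 184], [181, 181, 175, 187, 174, 181, 185, 181], [182, 182, 176, 182, 188, 182, 182, 178], [177, 183, 188, 183, 176, 189, 183, 179], [189, 184, 184, 184, 184, 177, 190, 180], [185, 185, 179, 191, 178, 192, 181, 188], [180, 186, 192, 186, 186, 179, 186, 189], [187, 193, 187, 181, 187, 187, 191, 187], [188, 188, 183, 194, 182, 195, 188, 185], [184, 189, 195, 189, 189, 183, 196, 186], [196, 190, 190, 190, 190, 190, 184, 190], [191, 197, 191, 185, 191, 198, 187, 194], [192, 192, 186, 198, 192, 185, 192, 195], [193,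 187, 193, 193, 193, 193, 197, 193], [194, 199, 194, 188, 194, 200, 194, 191], [195, 195, 189, 200, 195, 188, 201, 192], [190, 196, 201, 196, 196, 196, 189, 196], [197, 191, 197, 197, 197, 202, 193, 199], [198, 202, 198, 192, 203, 191, 198, 200], [199, 194, 199, 199, 199, 204, 199, 197], [200, 204, 200, 195, 205, 194, 206, 198], [201, 201, 196, 206, 201, 201, 195, 201], [202, 198, 202, 202, 207, 197, 202, 204], [203, 207, 203, 203, 198, 203, 203, 205], [204, 200, 204, 204, 208, 199, 209, 202], [205, 208, 205, 205, 200, 205, 210, 203], [206, 209, 206, 201, 210, 206, 200, 206], [207, 203, 207, 211, 202, 207, 207, 208], [208, 205, 208, 212, 204, 208, 213, 207], [209, 206, 209, 209, 213, 209, 204, 209], [210, 213, 210, 210, 206, 214, 205, 210], [211, 211, 215, 207, 211, 211, 211, 212], [212, 212, 216, 208, 212, 212, 217, 211], [213, 210, 213, 217, 209, 218, 208, 213], [214, 218, 214, 214, 214, 210,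 214, 214], [219, 215, 211, 215, 215, 215, 215, 216], [220, 216, 212, 216, 216, 216, 221, 215], [217, 217, 221, 213, 217, 222, 212, 217], [218, 214, 218, 222, 218, 213, 218, 218], [215, 219, 219, 219, 219, 219, 219, 220], [216, 220, 220, 220, 220, 220, 223, 219], [223, 221, 217, 221, 221, 224, 216, 221], [222, 222, 224, 218, 225, 217, 222, 222], [221, 223, 223, 223, 223, 226, 220, 223], [226, 224, 222, 224, 227, 221, 224, 224], [225, 225, 227, 225, 222, 225, 225, 225], [224, 226, 226, 226, 228, 223, 226, 226], [228, 227, 225, 229, 224, 227, 227, 227], [227, 228, 228, 230, 226, 228, 228, 228], [230, 231, 229, 227, 229, 229, 229, 229], [229, 233, 232, 228, 230, 230, 230, 230], [233, 229, 231, 231, 231, 231, 231, 231], [232, 234, 230, 232, 232, 232, 232, 232], [231, 230, 234, 233, 233, 233, 233, 233], [234, 232, 233, 235, 234, 234, 234, 234], [235, 235, 235, 234, 236, 235, 235, 235], [236, 236, 236,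 236, 235, 237, 236, 236], [237, 237, 237, 237, 237, 236, 238, 237], [238, 238, 238, 238, 238, 238, 237, 239], [239, 239, 239, 239, 239, 239, 239, 238]] : List (List ℕ)).getD x []).getD j.val 0
def p8 : Fin 8 → ℤ := ![0, 0, 0, 0, 0, 0, 0, 1]
def keys8 : List ℤ := [100000000000000, -99000000000000, -990000000000, -9900000000, -99000000, -989900, -9899, 9900, 99, 989901, 999899, 99000001, 99009999, 9900000001, 99990000, 9900009999, 990000000001, 9900990000, 990000009999, 99000000000001, 9999000100, 990000990000, 99000000009999, -99999999999999, 9999999900, 990099000100, 99000000990000, -99999999990001, 990099999900, 999900000100, 99000099000100, -99999999010000, 999900999900, 99000099999900, 99009900000100, -99999900999900, 999999010000, 99009900999900, -99999900000100, 99990000000100, -99990099999900, 999999990001, 99009999010000, 99990000999900, -99990099000100, -99009999999900, 999999999999, 99009999990001,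 99990099010000, -99990000990000, -99009999000100, -999999999900, 99009999999999, 99990099990001, -99990000009999, 99999900010000, -99009900990000, -999999000100, 99990099999999, -99990000000001, 99999900990001, -99009900009999, -99000099990000, -999900990000, 99999900999999, -99009900000001, 99999999000101, -99000099009999, -999900009999, -990099990000, 99999999010099, -99000099000001, -999900000001, 99999999999901, -99000000999899, -990099009999, -9999990000, 99999999990100, 100000000009899, -99000000989901, -990099000001, -99000000000099, -990000999899, -9999009999, 100000000989900, -99000000009900, -98999999990101, -990000989901, -9999000001, -990000000099, -9900999899, 100000099000000, -98999999010100, -990000009900, -989999990101, -9900989901, -9900000099, -99999899, 100009900000000, -98999901000000, -989999010100, -9900009900, -9899990101, -99989901, -99000099, 100990000000000, -98990100000000,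 -989901000000, -9899010100, -99009900, -98990101, -989999, 199000000000000, -98010000000000, -980100000000, -9801000000, -98010100, -999800, -980001, -9998, -199000000000000, 98010000000000, 980100000000, 9801000000, 98010100, 999800, 980001, 9998, -100990000000000, 98990100000000, 989901000000, 9899010100, 98990101, 99009900, 989999, -100009900000000, 98999901000000, 989999010100, 9899990101, 9900009900, 99000099, 99989901, -100000099000000, 98999999010100, 989999990101, 990000009900, 9900000099, 9900989901, 99999899, -100000000989900, 98999999990101, 99000000009900, 990000000099, 990000989901, 9900999899, 9999000001, -100000000009899, -99999999990100, 99000000000099, 99000000989901, 990000999899, 990099000001, 9999009999, -99999999999901, -99999999010099, 99000000999899, 99000099000001, 990099009999, 999900000001, 9999990000, -99999999000101, -99999900999999, 99000099009999, 99009900000001, 990099990000,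 999900009999, -99999900990001, -99990099999999, 99000099990000, 99009900009999, 99990000000001, 999900990000, -99999900010000, -99990099990001, -99009999999999, 99009900990000, 99990000009999, 999999000100, -99990099010000, -99009999990001, -999999999999, 99009999000100, 99990000990000, 999999999900, -99990000999900, -99009999010000, -999999990001, 99009999999900, 99990099000100, -99990000000100, -99009900999900, -999999010000, 99990099999900, 99999900000100, -99009900000100, -99000099999900, -999900999900, 99999900999900, -99000099000100, -999900000100, -990099999900, 99999999010000, -99000000990000, -990099000100, -9999999900, 99999999990001, -99000000009999, -990000990000, -9999000100, 99999999999999, -99000000000001, -990000009999, -9900990000, -990000000001, -9900009999, -99990000, -9900000001, -99009999, -99000001, -999899, -989901, -99, -9900, 9899, 989900, 99000000, 9900000000, 990000000000,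 99000000000000, -100000000000000]
theorem v8_0_7 : V cs (par cs K7) (word8 0) 7 (word8 1) := V_tree cs _ (by decide)
theorem v8_1_7 : V cs (par cs K7) (word8 1) 7 (word8 0) := V_symm cs v8_0_7
theorem v8_1_6 : V cs (par cs K7) (word8 1) 6 (word8 2) := V_tree cs _ (by decide)
theorem v8_2_6 : V cs (par cs K7) (word8 2) 6 (word8 1) := V_symm cs v8_1_6
theorem v8_2_5 : V cs (par cs K7) (word8 2) 5 (word8 3) := V_tree cs _ (by decide)
theorem v8_3_5 : V cs (par cs K7) (word8 3) 5 (word8 2) := V_symm cs v8_2_5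
theorem v8_3_4 : V cs (par cs K7) (word8 3) 4 (word8 4) := V_tree cs _ (by decide)
theorem v8_4_4 : V cs (par cs K7) (word8 4) 4 (word8 3) := V_symm cs v8_3_4
theorem v8_4_3 : V cs (par cs K7) (word8 4) 3 (word8 5) := V_tree cs _ (by decide)
theorem v8_5_3 : V cs (par cs K7) (word8 5) 3 (word8 4) := V_symm cs v8_4_3
theorem v8_5_2 : V cs (par cs K7) (word8 5) 2 (word8 6) := V_tree cs _ (by decide)
theorem v8_6_2 : V cs (par cs K7) (word8 6) 2 (word8 5) := V_symm cs v8_5_2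
theorem v8_5_1 : V cs (par cs K7) (word8 5) 1 (word8 7) := V_tree cs _ (by decide)
theorem v8_7_1 : V cs (par cs K7) (word8 7) 1 (word8 5) := V_symm cs v8_5_1
theorem v8_6_0 : V cs (par cs K7) (word8 6) 0 (word8 8) := V_tree cs _ (by decide)
theorem v8_8_0 : V cs (par cs K7) (word8 8) 0 (word8 6) := V_symm cs v8_6_0
theorem v8_6_1 : V cs (par cs K7) (word8 6) 1 (word8 9) := V_tree cs _ (by decide)
theorem v8_9_1 : V cs (par cs K7) (word8 9) 1 (word8 6) := V_symm cs v8_6_1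
theorem v8_8_1 : V cs (par cs K7) (word8 8) 1 (word8 10) := V_tree cs _ (by decide)
theorem v8_10_1 : V cs (par cs K7) (word8 10) 1 (word8 8) := V_symm cs v8_8_1
theorem v8_9_3 : V cs (par cs K7) (word8 9) 3 (word8 11) := V_tree cs _ (by decide)
theorem v8_11_3 : V cs (par cs K7) (word8 11) 3 (word8 9) := V_symm cs v8_9_3
theorem v8_10_3 : V cs (par cs K7) (word8 10) 3 (word8 12) := V_tree cs _ (by decide)
theorem v8_12_3 : V cs (par cs K7) (word8 12) 3 (word8 10) := V_symm cs v8_10_3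
theorem v8_11_4 : V cs (par cs K7) (word8 11) 4 (word8 13) := V_tree cs _ (by decide)
theorem v8_13_4 : V cs (par cs K7) (word8 13) 4 (word8 11) := V_symm cs v8_11_4
theorem v8_12_2 : V cs (par cs K7) (word8 12) 2 (word8 14) := V_tree cs _ (by decide)
theorem v8_14_2 : V cs (par cs K7) (word8 14) 2 (word8 12) := V_symm cs v8_12_2
theorem v8_12_4 : V cs (par cs K7) (word8 12) 4 (word8 15) := V_tree cs _ (by decide)
theorem v8_15_4 : V cs (par cs K7) (word8 15) 4 (word8 12) := V_symm cs v8_12_4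
theorem v8_13_5 : V cs (par cs K7) (word8 13) 5 (word8 16) := V_tree cs _ (by decide)
theorem v8_16_5 : V cs (par cs K7) (word8 16) 5 (word8 13) := V_symm cs v8_13_5
theorem v8_14_4 : V cs (par cs K7) (word8 14) 4 (word8 17) := V_tree cs _ (by decide)
theorem v8_17_4 : V cs (par cs K7) (word8 17) 4 (word8 14) := V_symm cs v8_14_4
theorem v8_15_5 : V cs (par cs K7) (word8 15) 5 (word8 18) := V_tree cs _ (by decide)
theorem v8_18_5 : V cs (par cs K7) (word8 18) 5 (word8 15) := V_symm cs v8_15_5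
theorem v8_16_6 : V cs (par cs K7) (word8 16) 6 (word8 19) := V_tree cs _ (by decide)
theorem v8_19_6 : V cs (par cs K7) (word8 19) 6 (word8 16) := V_symm cs v8_16_6
theorem v8_17_3 : V cs (par cs K7) (word8 17) 3 (word8 20) := V_tree cs _ (by decide)
theorem v8_20_3 : V cs (par cs K7) (word8 20) 3 (word8 17) := V_symm cs v8_17_3
theorem v8_17_5 : V cs (par cs K7) (word8 17) 5 (word8 21) := V_tree cs _ (by decide)
theorem v8_21_5 : V cs (par cs K7) (word8 21) 5 (word8 17) := V_symm cs v8_17_5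
theorem v8_18_6 : V cs (par cs K7) (word8 18) 6 (word8 22) := V_tree cs _ (by decide)
theorem v8_22_6 : V cs (par cs K7) (word8 22) 6 (word8 18) := V_symm cs v8_18_6
theorem v8_19_7 : V cs (par cs K7) (word8 19) 7 (word8 23) := V_tree cs _ (by decide)
theorem v8_23_7 : V cs (par cs K7) (word8 23) 7 (word8 19) := V_symm cs v8_19_7
theorem v8_20_1 : V cs (par cs K7) (word8 20) 1 (word8 24) := V_tree cs _ (by decide)
theorem v8_24_1 : V cs (par cs K7) (word8 24) 1 (word8 20) := V_symm cs v8_20_1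
theorem v8_20_5 : V cs (par cs K7) (word8 20) 5 (word8 25) := V_tree cs _ (by decide)
theorem v8_25_5 : V cs (par cs K7) (word8 25) 5 (word8 20) := V_symm cs v8_20_5
theorem v8_21_6 : V cs (par cs K7) (word8 21) 6 (word8 26) := V_tree cs _ (by decide)
theorem v8_26_6 : V cs (par cs K7) (word8 26) 6 (word8 21) := V_symm cs v8_21_6
theorem v8_22_7 : V cs (par cs K7) (word8 22) 7 (word8 27) := V_tree cs _ (by decide)
theorem v8_27_7 : V cs (par cs K7) (word8 27) 7 (word8 22) := V_symm cs v8_22_7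
theorem v8_24_5 : V cs (par cs K7) (word8 24) 5 (word8 28) := V_tree cs _ (by decide)
theorem v8_28_5 : V cs (par cs K7) (word8 28) 5 (word8 24) := V_symm cs v8_24_5
theorem v8_25_4 : V cs (par cs K7) (word8 25) 4 (word8 29) := V_tree cs _ (by decide)
theorem v8_29_4 : V cs (par cs K7) (word8 29) 4 (word8 25) := V_symm cs v8_25_4
theorem v8_25_6 : V cs (par cs K7) (word8 25) 6 (word8 30) := V_tree cs _ (by decide)
theorem v8_30_6 : V cs (par cs K7) (word8 30) 6 (word8 25) := V_symm cs v8_25_6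
theorem v8_26_7 : V cs (par cs K7) (word8 26) 7 (word8 31) := V_tree cs _ (by decide)
theorem v8_31_7 : V cs (par cs K7) (word8 31) 7 (word8 26) := V_symm cs v8_26_7
theorem v8_28_4 : V cs (par cs K7) (word8 28) 4 (word8 32) := V_tree cs _ (by decide)
theorem v8_32_4 : V cs (par cs K7) (word8 32) 4 (word8 28) := V_symm cs v8_28_4
theorem v8_28_6 : V cs (par cs K7) (word8 28) 6 (word8 33) := V_tree cs _ (by decide)
theorem v8_33_6 : V cs (par cs K7) (word8 33) 6 (word8 28) := V_symm cs v8_28_6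
theorem v8_29_6 : V cs (par cs K7) (word8 29) 6 (word8 34) := V_tree cs _ (by decide)
theorem v8_34_6 : V cs (par cs K7) (word8 34) 6 (word8 29) := V_symm cs v8_29_6
theorem v8_30_7 : V cs (par cs K7) (word8 30) 7 (word8 35) := V_tree cs _ (by decide)
theorem v8_35_7 : V cs (par cs K7) (word8 35) 7 (word8 30) := V_symm cs v8_30_7
theorem v8_32_3 : V cs (par cs K7) (word8 32) 3 (word8 36) := V_tree cs _ (by decide)
theorem v8_36_3 : V cs (par cs K7) (word8 36) 3 (word8 32) := V_symm cs v8_32_3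
theorem v8_32_6 : V cs (par cs K7) (word8 32) 6 (word8 37) := V_tree cs _ (by decide)
theorem v8_37_6 : V cs (par cs K7) (word8 37) 6 (word8 32) := V_symm cs v8_32_6
theorem v8_33_7 : V cs (par cs K7) (word8 33) 7 (word8 38) := V_tree cs _ (by decide)
theorem v8_38_7 : V cs (par cs K7) (word8 38) 7 (word8 33) := V_symm cs v8_33_7
theorem v8_34_5 : V cs (par cs K7) (word8 34) 5 (word8 39) := V_tree cs _ (by decide)
theorem v8_39_5 : V cs (par cs K7) (word8 39) 5 (word8 34) := V_symm cs v8_34_5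
theorem v8_34_7 : V cs (par cs K7) (word8 34) 7 (word8 40) := V_tree cs _ (by decide)
theorem v8_40_7 : V cs (par cs K7) (word8 40) 7 (word8 34) := V_symm cs v8_34_7
theorem v8_36_2 : V cs (par cs K7) (word8 36) 2 (word8 41) := V_tree cs _ (by decide)
theorem v8_41_2 : V cs (par cs K7) (word8 41) 2 (word8 36) := V_symm cs v8_36_2
theorem v8_36_6 : V cs (par cs K7) (word8 36) 6 (word8 42) := V_tree cs _ (by decide)
theorem v8_42_6 : V cs (par cs K7) (word8 42) 6 (word8 36) := V_symm cs v8_36_6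
theorem v8_37_5 : V cs (par cs K7) (word8 37) 5 (word8 43) := V_tree cs _ (by decide)
theorem v8_43_5 : V cs (par cs K7) (word8 43) 5 (word8 37) := V_symm cs v8_37_5
theorem v8_37_7 : V cs (par cs K7) (word8 37) 7 (word8 44) := V_tree cs _ (by decide)
theorem v8_44_7 : V cs (par cs K7) (word8 44) 7 (word8 37) := V_symm cs v8_37_7
theorem v8_39_7 : V cs (par cs K7) (word8 39) 7 (word8 45) := V_tree cs _ (by decide)
theorem v8_45_7 : V cs (par cs K7) (word8 45) 7 (word8 39) := V_symm cs v8_39_7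
theorem v8_41_0 : V cs (par cs K7) (word8 41) 0 (word8 46) := V_tree cs _ (by decide)
theorem v8_46_0 : V cs (par cs K7) (word8 46) 0 (word8 41) := V_symm cs v8_41_0
theorem v8_41_6 : V cs (par cs K7) (word8 41) 6 (word8 47) := V_tree cs _ (by decide)
theorem v8_47_6 : V cs (par cs K7) (word8 47) 6 (word8 41) := V_symm cs v8_41_6
theorem v8_42_5 : V cs (par cs K7) (word8 42) 5 (word8 48) := V_tree cs _ (by decide)
theorem v8_48_5 : V cs (par cs K7) (word8 48) 5 (word8 42) := V_symm cs v8_42_5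
theorem v8_42_7 : V cs (par cs K7) (word8 42) 7 (word8 49) := V_tree cs _ (by decide)
theorem v8_49_7 : V cs (par cs K7) (word8 49) 7 (word8 42) := V_symm cs v8_42_7
theorem v8_43_7 : V cs (par cs K7) (word8 43) 7 (word8 50) := V_tree cs _ (by decide)
theorem v8_50_7 : V cs (par cs K7) (word8 50) 7 (word8 43) := V_symm cs v8_43_7
theorem v8_45_6 : V cs (par cs K7) (word8 45) 6 (word8 51) := V_tree cs _ (by decide)
theorem v8_51_6 : V cs (par cs K7) (word8 51) 6 (word8 45) := V_symm cs v8_45_6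
theorem v8_46_6 : V cs (par cs K7) (word8 46) 6 (word8 52) := V_tree cs _ (by decide)
theorem v8_52_6 : V cs (par cs K7) (word8 52) 6 (word8 46) := V_symm cs v8_46_6
theorem v8_47_5 : V cs (par cs K7) (word8 47) 5 (word8 53) := V_tree cs _ (by decide)
theorem v8_53_5 : V cs (par cs K7) (word8 53) 5 (word8 47) := V_symm cs v8_47_5
theorem v8_47_7 : V cs (par cs K7) (word8 47) 7 (word8 54) := V_tree cs _ (by decide)
theorem v8_54_7 : V cs (par cs K7) (word8 54) 7 (word8 47) := V_symm cs v8_47_7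
theorem v8_48_4 : V cs (par cs K7) (word8 48) 4 (word8 55) := V_tree cs _ (by decide)
theorem v8_55_4 : V cs (par cs K7) (word8 55) 4 (word8 48) := V_symm cs v8_48_4
theorem v8_48_7 : V cs (par cs K7) (word8 48) 7 (word8 56) := V_tree cs _ (by decide)
theorem v8_56_7 : V cs (par cs K7) (word8 56) 7 (word8 48) := V_symm cs v8_48_7
theorem v8_50_6 : V cs (par cs K7) (word8 50) 6 (word8 57) := V_tree cs _ (by decide)
theorem v8_57_6 : V cs (par cs K7) (word8 57) 6 (word8 50) := V_symm cs v8_50_6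
theorem v8_52_5 : V cs (par cs K7) (word8 52) 5 (word8 58) := V_tree cs _ (by decide)
theorem v8_58_5 : V cs (par cs K7) (word8 58) 5 (word8 52) := V_symm cs v8_52_5
theorem v8_52_7 : V cs (par cs K7) (word8 52) 7 (word8 59) := V_tree cs _ (by decide)
theorem v8_59_7 : V cs (par cs K7) (word8 59) 7 (word8 52) := V_symm cs v8_52_7
theorem v8_53_4 : V cs (par cs K7) (word8 53) 4 (word8 60) := V_tree cs _ (by decide)
theorem v8_60_4 : V cs (par cs K7) (word8 60) 4 (word8 53) := V_symm cs v8_53_4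
theorem v8_53_7 : V cs (par cs K7) (word8 53) 7 (word8 61) := V_tree cs _ (by decide)
theorem v8_61_7 : V cs (par cs K7) (word8 61) 7 (word8 53) := V_symm cs v8_53_7
theorem v8_55_7 : V cs (par cs K7) (word8 55) 7 (word8 62) := V_tree cs _ (by decide)
theorem v8_62_7 : V cs (par cs K7) (word8 62) 7 (word8 55) := V_symm cs v8_55_7
theorem v8_56_6 : V cs (par cs K7) (word8 56) 6 (word8 63) := V_tree cs _ (by decide)
theorem v8_63_6 : V cs (par cs K7) (word8 63) 6 (word8 56) := V_symm cs v8_56_6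
theorem v8_58_4 : V cs (par cs K7) (word8 58) 4 (word8 64) := V_tree cs _ (by decide)
theorem v8_64_4 : V cs (par cs K7) (word8 64) 4 (word8 58) := V_symm cs v8_58_4
theorem v8_58_7 : V cs (par cs K7) (word8 58) 7 (word8 65) := V_tree cs _ (by decide)
theorem v8_65_7 : V cs (par cs K7) (word8 65) 7 (word8 58) := V_symm cs v8_58_7
theorem v8_60_3 : V cs (par cs K7) (word8 60) 3 (word8 66) := V_tree cs _ (by decide)
theorem v8_66_3 : V cs (par cs K7) (word8 66) 3 (word8 60) := V_symm cs v8_60_3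
theorem v8_60_7 : V cs (par cs K7) (word8 60) 7 (word8 67) := V_tree cs _ (by decide)
theorem v8_67_7 : V cs (par cs K7) (word8 67) 7 (word8 60) := V_symm cs v8_60_7
theorem v8_61_6 : V cs (par cs K7) (word8 61) 6 (word8 68) := V_tree cs _ (by decide)
theorem v8_68_6 : V cs (par cs K7) (word8 68) 6 (word8 61) := V_symm cs v8_61_6
theorem v8_62_6 : V cs (par cs K7) (word8 62) 6 (word8 69) := V_tree cs _ (by decide)
theorem v8_69_6 : V cs (par cs K7) (word8 69) 6 (word8 62) := V_symm cs v8_62_6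
theorem v8_64_3 : V cs (par cs K7) (word8 64) 3 (word8 70) := V_tree cs _ (by decide)
theorem v8_70_3 : V cs (par cs K7) (word8 70) 3 (word8 64) := V_symm cs v8_64_3
theorem v8_64_7 : V cs (par cs K7) (word8 64) 7 (word8 71) := V_tree cs _ (by decide)
theorem v8_71_7 : V cs (par cs K7) (word8 71) 7 (word8 64) := V_symm cs v8_64_7
theorem v8_65_6 : V cs (par cs K7) (word8 65) 6 (word8 72) := V_tree cs _ (by decide)
theorem v8_72_6 : V cs (par cs K7) (word8 72) 6 (word8 65) := V_symm cs v8_65_6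
theorem v8_66_1 : V cs (par cs K7) (word8 66) 1 (word8 73) := V_tree cs _ (by decide)
theorem v8_73_1 : V cs (par cs K7) (word8 73) 1 (word8 66) := V_symm cs v8_66_1
theorem v8_66_7 : V cs (par cs K7) (word8 66) 7 (word8 74) := V_tree cs _ (by decide)
theorem v8_74_7 : V cs (par cs K7) (word8 74) 7 (word8 66) := V_symm cs v8_66_7
theorem v8_67_6 : V cs (par cs K7) (word8 67) 6 (word8 75) := V_tree cs _ (by decide)
theorem v8_75_6 : V cs (par cs K7) (word8 75) 6 (word8 67) := V_symm cs v8_67_6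
theorem v8_69_5 : V cs (par cs K7) (word8 69) 5 (word8 76) := V_tree cs _ (by decide)
theorem v8_76_5 : V cs (par cs K7) (word8 76) 5 (word8 69) := V_symm cs v8_69_5
theorem v8_70_2 : V cs (par cs K7) (word8 70) 2 (word8 77) := V_tree cs _ (by decide)
theorem v8_77_2 : V cs (par cs K7) (word8 77) 2 (word8 70) := V_symm cs v8_70_2
theorem v8_70_1 : V cs (par cs K7) (word8 70) 1 (word8 78) := V_tree cs _ (by decide)
theorem v8_78_1 : V cs (par cs K7) (word8 78) 1 (word8 70) := V_symm cs v8_70_1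
theorem v8_70_7 : V cs (par cs K7) (word8 70) 7 (word8 79) := V_tree cs _ (by decide)
theorem v8_79_7 : V cs (par cs K7) (word8 79) 7 (word8 70) := V_symm cs v8_70_7
theorem v8_71_6 : V cs (par cs K7) (word8 71) 6 (word8 80) := V_tree cs _ (by decide)
theorem v8_80_6 : V cs (par cs K7) (word8 80) 6 (word8 71) := V_symm cs v8_71_6
theorem v8_73_7 : V cs (par cs K7) (word8 73) 7 (word8 81) := V_tree cs _ (by decide)
theorem v8_81_7 : V cs (par cs K7) (word8 81) 7 (word8 73) := V_symm cs v8_73_7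
theorem v8_74_6 : V cs (par cs K7) (word8 74) 6 (word8 82) := V_tree cs _ (by decide)
theorem v8_82_6 : V cs (par cs K7) (word8 82) 6 (word8 74) := V_symm cs v8_74_6
theorem v8_75_5 : V cs (par cs K7) (word8 75) 5 (word8 83) := V_tree cs _ (by decide)
theorem v8_83_5 : V cs (par cs K7) (word8 83) 5 (word8 75) := V_symm cs v8_75_5
theorem v8_77_1 : V cs (par cs K7) (word8 77) 1 (word8 84) := V_tree cs _ (by decide)
theorem v8_84_1 : V cs (par cs K7) (word8 84) 1 (word8 77) := V_symm cs v8_77_1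
theorem v8_77_7 : V cs (par cs K7) (word8 77) 7 (word8 85) := V_tree cs _ (by decide)
theorem v8_85_7 : V cs (par cs K7) (word8 85) 7 (word8 77) := V_symm cs v8_77_7
theorem v8_78_7 : V cs (par cs K7) (word8 78) 7 (word8 86) := V_tree cs _ (by decide)
theorem v8_86_7 : V cs (par cs K7) (word8 86) 7 (word8 78) := V_symm cs v8_78_7
theorem v8_79_6 : V cs (par cs K7) (word8 79) 6 (word8 87) := V_tree cs _ (by decide)
theorem v8_87_6 : V cs (par cs K7) (word8 87) 6 (word8 79) := V_symm cs v8_79_6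
theorem v8_80_5 : V cs (par cs K7) (word8 80) 5 (word8 88) := V_tree cs _ (by decide)
theorem v8_88_5 : V cs (par cs K7) (word8 88) 5 (word8 80) := V_symm cs v8_80_5
theorem v8_81_6 : V cs (par cs K7) (word8 81) 6 (word8 89) := V_tree cs _ (by decide)
theorem v8_89_6 : V cs (par cs K7) (word8 89) 6 (word8 81) := V_symm cs v8_81_6
theorem v8_82_5 : V cs (par cs K7) (word8 82) 5 (word8 90) := V_tree cs _ (by decide)
theorem v8_90_5 : V cs (par cs K7) (word8 90) 5 (word8 82) := V_symm cs v8_82_5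
theorem v8_84_3 : V cs (par cs K7) (word8 84) 3 (word8 91) := V_tree cs _ (by decide)
theorem v8_91_3 : V cs (par cs K7) (word8 91) 3 (word8 84) := V_symm cs v8_84_3
theorem v8_84_7 : V cs (par cs K7) (word8 84) 7 (word8 92) := V_tree cs _ (by decide)
theorem v8_92_7 : V cs (par cs K7) (word8 92) 7 (word8 84) := V_symm cs v8_84_7
theorem v8_85_6 : V cs (par cs K7) (word8 85) 6 (word8 93) := V_tree cs _ (by decide)
theorem v8_93_6 : V cs (par cs K7) (word8 93) 6 (word8 85) := V_symm cs v8_85_6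
theorem v8_86_6 : V cs (par cs K7) (word8 86) 6 (word8 94) := V_tree cs _ (by decide)
theorem v8_94_6 : V cs (par cs K7) (word8 94) 6 (word8 86) := V_symm cs v8_86_6
theorem v8_87_5 : V cs (par cs K7) (word8 87) 5 (word8 95) := V_tree cs _ (by decide)
theorem v8_95_5 : V cs (par cs K7) (word8 95) 5 (word8 87) := V_symm cs v8_87_5
theorem v8_89_5 : V cs (par cs K7) (word8 89) 5 (word8 96) := V_tree cs _ (by decide)
theorem v8_96_5 : V cs (par cs K7) (word8 96) 5 (word8 89) := V_symm cs v8_89_5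
theorem v8_90_4 : V cs (par cs K7) (word8 90) 4 (word8 97) := V_tree cs _ (by decide)
theorem v8_97_4 : V cs (par cs K7) (word8 97) 4 (word8 90) := V_symm cs v8_90_4
theorem v8_91_4 : V cs (par cs K7) (word8 91) 4 (word8 98) := V_tree cs _ (by decide)
theorem v8_98_4 : V cs (par cs K7) (word8 98) 4 (word8 91) := V_symm cs v8_91_4
theorem v8_91_7 : V cs (par cs K7) (word8 91) 7 (word8 99) := V_tree cs _ (by decide)
theorem v8_99_7 : V cs (par cs K7) (word8 99) 7 (word8 91) := V_symm cs v8_91_7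
theorem v8_92_6 : V cs (par cs K7) (word8 92) 6 (word8 100) := V_tree cs _ (by decide)
theorem v8_100_6 : V cs (par cs K7) (word8 100) 6 (word8 92) := V_symm cs v8_92_6
theorem v8_93_5 : V cs (par cs K7) (word8 93) 5 (word8 101) := V_tree cs _ (by decide)
theorem v8_101_5 : V cs (par cs K7) (word8 101) 5 (word8 93) := V_symm cs v8_93_5
theorem v8_94_5 : V cs (par cs K7) (word8 94) 5 (word8 102) := V_tree cs _ (by decide)
theorem v8_102_5 : V cs (par cs K7) (word8 102) 5 (word8 94) := V_symm cs v8_94_5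
theorem v8_95_4 : V cs (par cs K7) (word8 95) 4 (word8 103) := V_tree cs _ (by decide)
theorem v8_103_4 : V cs (par cs K7) (word8 103) 4 (word8 95) := V_symm cs v8_95_4
theorem v8_96_4 : V cs (par cs K7) (word8 96) 4 (word8 104) := V_tree cs _ (by decide)
theorem v8_104_4 : V cs (par cs K7) (word8 104) 4 (word8 96) := V_symm cs v8_96_4
theorem v8_98_5 : V cs (par cs K7) (word8 98) 5 (word8 105) := V_tree cs _ (by decide)
theorem v8_105_5 : V cs (par cs K7) (word8 105) 5 (word8 98) := V_symm cs v8_98_5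
theorem v8_98_7 : V cs (par cs K7) (word8 98) 7 (word8 106) := V_tree cs _ (by decide)
theorem v8_106_7 : V cs (par cs K7) (word8 106) 7 (word8 98) := V_symm cs v8_98_7
theorem v8_99_6 : V cs (par cs K7) (word8 99) 6 (word8 107) := V_tree cs _ (by decide)
theorem v8_107_6 : V cs (par cs K7) (word8 107) 6 (word8 99) := V_symm cs v8_99_6
theorem v8_100_5 : V cs (par cs K7) (word8 100) 5 (word8 108) := V_tree cs _ (by decide)
theorem v8_108_5 : V cs (par cs K7) (word8 108) 5 (word8 100) := V_symm cs v8_100_5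
theorem v8_101_4 : V cs (par cs K7) (word8 101) 4 (word8 109) := V_tree cs _ (by decide)
theorem v8_109_4 : V cs (par cs K7) (word8 109) 4 (word8 101) := V_symm cs v8_101_4
theorem v8_102_4 : V cs (par cs K7) (word8 102) 4 (word8 110) := V_tree cs _ (by decide)
theorem v8_110_4 : V cs (par cs K7) (word8 110) 4 (word8 102) := V_symm cs v8_102_4
theorem v8_104_3 : V cs (par cs K7) (word8 104) 3 (word8 111) := V_tree cs _ (by decide)
theorem v8_111_3 : V cs (par cs K7) (word8 111) 3 (word8 104) := V_symm cs v8_104_3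
theorem v8_105_6 : V cs (par cs K7) (word8 105) 6 (word8 112) := V_tree cs _ (by decide)
theorem v8_112_6 : V cs (par cs K7) (word8 112) 6 (word8 105) := V_symm cs v8_105_6
theorem v8_105_7 : V cs (par cs K7) (word8 105) 7 (word8 113) := V_tree cs _ (by decide)
theorem v8_113_7 : V cs (par cs K7) (word8 113) 7 (word8 105) := V_symm cs v8_105_7
theorem v8_106_6 : V cs (par cs K7) (word8 106) 6 (word8 114) := V_tree cs _ (by decide)
theorem v8_114_6 : V cs (par cs K7) (word8 114) 6 (word8 106) := V_symm cs v8_106_6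
theorem v8_107_5 : V cs (par cs K7) (word8 107) 5 (word8 115) := V_tree cs _ (by decide)
theorem v8_115_5 : V cs (par cs K7) (word8 115) 5 (word8 107) := V_symm cs v8_107_5
theorem v8_108_4 : V cs (par cs K7) (word8 108) 4 (word8 116) := V_tree cs _ (by decide)
theorem v8_116_4 : V cs (par cs K7) (word8 116) 4 (word8 108) := V_symm cs v8_108_4
theorem v8_109_3 : V cs (par cs K7) (word8 109) 3 (word8 117) := V_tree cs _ (by decide)
theorem v8_117_3 : V cs (par cs K7) (word8 117) 3 (word8 109) := V_symm cs v8_109_3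
theorem v8_110_3 : V cs (par cs K7) (word8 110) 3 (word8 118) := V_tree cs _ (by decide)
theorem v8_118_3 : V cs (par cs K7) (word8 118) 3 (word8 110) := V_symm cs v8_110_3
theorem v8_111_2 : V cs (par cs K7) (word8 111) 2 (word8 119) := V_tree cs _ (by decide)
theorem v8_119_2 : V cs (par cs K7) (word8 119) 2 (word8 111) := V_symm cs v8_111_2
theorem v8_112_7 : V cs (par cs K7) (word8 112) 7 (word8 120) := V_tree cs _ (by decide)
theorem v8_120_7 : V cs (par cs K7) (word8 120) 7 (word8 112) := V_symm cs v8_112_7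
theorem v8_113_6 : V cs (par cs K7) (word8 113) 6 (word8 121) := V_tree cs _ (by decide)
theorem v8_121_6 : V cs (par cs K7) (word8 121) 6 (word8 113) := V_symm cs v8_113_6
theorem v8_114_5 : V cs (par cs K7) (word8 114) 5 (word8 122) := V_tree cs _ (by decide)
theorem v8_122_5 : V cs (par cs K7) (word8 122) 5 (word8 114) := V_symm cs v8_114_5
theorem v8_115_4 : V cs (par cs K7) (word8 115) 4 (word8 123) := V_tree cs _ (by decide)
theorem v8_123_4 : V cs (par cs K7) (word8 123) 4 (word8 115) := V_symm cs v8_115_4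
theorem v8_116_3 : V cs (par cs K7) (word8 116) 3 (word8 124) := V_tree cs _ (by decide)
theorem v8_124_3 : V cs (par cs K7) (word8 124) 3 (word8 116) := V_symm cs v8_116_3
theorem v8_117_1 : V cs (par cs K7) (word8 117) 1 (word8 125) := V_tree cs _ (by decide)
theorem v8_125_1 : V cs (par cs K7) (word8 125) 1 (word8 117) := V_symm cs v8_117_1
theorem v8_118_2 : V cs (par cs K7) (word8 118) 2 (word8 126) := V_tree cs _ (by decide)
theorem v8_126_2 : V cs (par cs K7) (word8 126) 2 (word8 118) := V_symm cs v8_118_2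
theorem v8_119_0 : V cs (par cs K7) (word8 119) 0 (word8 127) := V_tree cs _ (by decide)
theorem v8_127_0 : V cs (par cs K7) (word8 127) 0 (word8 119) := V_symm cs v8_119_0
theorem v8_120_6 : V cs (par cs K7) (word8 120) 6 (word8 128) := V_tree cs _ (by decide)
theorem v8_128_6 : V cs (par cs K7) (word8 128) 6 (word8 120) := V_symm cs v8_120_6
theorem v8_121_5 : V cs (par cs K7) (word8 121) 5 (word8 129) := V_tree cs _ (by decide)
theorem v8_129_5 : V cs (par cs K7) (word8 129) 5 (word8 121) := V_symm cs v8_121_5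
theorem v8_122_4 : V cs (par cs K7) (word8 122) 4 (word8 130) := V_tree cs _ (by decide)
theorem v8_130_4 : V cs (par cs K7) (word8 130) 4 (word8 122) := V_symm cs v8_122_4
theorem v8_123_3 : V cs (par cs K7) (word8 123) 3 (word8 131) := V_tree cs _ (by decide)
theorem v8_131_3 : V cs (par cs K7) (word8 131) 3 (word8 123) := V_symm cs v8_123_3
theorem v8_124_2 : V cs (par cs K7) (word8 124) 2 (word8 132) := V_tree cs _ (by decide)
theorem v8_132_2 : V cs (par cs K7) (word8 132) 2 (word8 124) := V_symm cs v8_124_2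
theorem v8_124_1 : V cs (par cs K7) (word8 124) 1 (word8 133) := V_tree cs _ (by decide)
theorem v8_133_1 : V cs (par cs K7) (word8 133) 1 (word8 124) := V_symm cs v8_124_1
theorem v8_126_0 : V cs (par cs K7) (word8 126) 0 (word8 134) := V_tree cs _ (by decide)
theorem v8_134_0 : V cs (par cs K7) (word8 134) 0 (word8 126) := V_symm cs v8_126_0
theorem v8_128_5 : V cs (par cs K7) (word8 128) 5 (word8 135) := V_tree cs _ (by decide)
theorem v8_135_5 : V cs (par cs K7) (word8 135) 5 (word8 128) := V_symm cs v8_128_5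
theorem v8_129_4 : V cs (par cs K7) (word8 129) 4 (word8 136) := V_tree cs _ (by decide)
theorem v8_136_4 : V cs (par cs K7) (word8 136) 4 (word8 129) := V_symm cs v8_129_4
theorem v8_130_3 : V cs (par cs K7) (word8 130) 3 (word8 137) := V_tree cs _ (by decide)
theorem v8_137_3 : V cs (par cs K7) (word8 137) 3 (word8 130) := V_symm cs v8_130_3
theorem v8_131_2 : V cs (par cs K7) (word8 131) 2 (word8 138) := V_tree cs _ (by decide)
theorem v8_138_2 : V cs (par cs K7) (word8 138) 2 (word8 131) := V_symm cs v8_131_2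
theorem v8_131_1 : V cs (par cs K7) (word8 131) 1 (word8 139) := V_tree cs _ (by decide)
theorem v8_139_1 : V cs (par cs K7) (word8 139) 1 (word8 131) := V_symm cs v8_131_1
theorem v8_132_0 : V cs (par cs K7) (word8 132) 0 (word8 140) := V_tree cs _ (by decide)
theorem v8_140_0 : V cs (par cs K7) (word8 140) 0 (word8 132) := V_symm cs v8_132_0
theorem v8_132_1 : V cs (par cs K7) (word8 132) 1 (word8 141) := V_tree cs _ (by decide)
theorem v8_141_1 : V cs (par cs K7) (word8 141) 1 (word8 132) := V_symm cs v8_132_1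
theorem v8_135_4 : V cs (par cs K7) (word8 135) 4 (word8 142) := V_tree cs _ (by decide)
theorem v8_142_4 : V cs (par cs K7) (word8 142) 4 (word8 135) := V_symm cs v8_135_4
theorem v8_136_3 : V cs (par cs K7) (word8 136) 3 (word8 143) := V_tree cs _ (by decide)
theorem v8_143_3 : V cs (par cs K7) (word8 143) 3 (word8 136) := V_symm cs v8_136_3
theorem v8_137_2 : V cs (par cs K7) (word8 137) 2 (word8 144) := V_tree cs _ (by decide)
theorem v8_144_2 : V cs (par cs K7) (word8 144) 2 (word8 137) := V_symm cs v8_137_2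
theorem v8_137_1 : V cs (par cs K7) (word8 137) 1 (word8 145) := V_tree cs _ (by decide)
theorem v8_145_1 : V cs (par cs K7) (word8 145) 1 (word8 137) := V_symm cs v8_137_1
theorem v8_138_0 : V cs (par cs K7) (word8 138) 0 (word8 146) := V_tree cs _ (by decide)
theorem v8_146_0 : V cs (par cs K7) (word8 146) 0 (word8 138) := V_symm cs v8_138_0
theorem v8_138_1 : V cs (par cs K7) (word8 138) 1 (word8 147) := V_tree cs _ (by decide)
theorem v8_147_1 : V cs (par cs K7) (word8 147) 1 (word8 138) := V_symm cs v8_138_1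
theorem v8_140_1 : V cs (par cs K7) (word8 140) 1 (word8 148) := V_tree cs _ (by decide)
theorem v8_148_1 : V cs (par cs K7) (word8 148) 1 (word8 140) := V_symm cs v8_140_1
theorem v8_142_3 : V cs (par cs K7) (word8 142) 3 (word8 149) := V_tree cs _ (by decide)
theorem v8_149_3 : V cs (par cs K7) (word8 149) 3 (word8 142) := V_symm cs v8_142_3
theorem v8_143_2 : V cs (par cs K7) (word8 143) 2 (word8 150) := V_tree cs _ (by decide)
theorem v8_150_2 : V cs (par cs K7) (word8 150) 2 (word8 143) := V_symm cs v8_143_2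
theorem v8_143_1 : V cs (par cs K7) (word8 143) 1 (word8 151) := V_tree cs _ (by decide)
theorem v8_151_1 : V cs (par cs K7) (word8 151) 1 (word8 143) := V_symm cs v8_143_1
theorem v8_144_0 : V cs (par cs K7) (word8 144) 0 (word8 152) := V_tree cs _ (by decide)
theorem v8_152_0 : V cs (par cs K7) (word8 152) 0 (word8 144) := V_symm cs v8_144_0
theorem v8_144_1 : V cs (par cs K7) (word8 144) 1 (word8 153) := V_tree cs _ (by decide)
theorem v8_153_1 : V cs (par cs K7) (word8 153) 1 (word8 144) := V_symm cs v8_144_1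
theorem v8_146_1 : V cs (par cs K7) (word8 146) 1 (word8 154) := V_tree cs _ (by decide)
theorem v8_154_1 : V cs (par cs K7) (word8 154) 1 (word8 146) := V_symm cs v8_146_1
theorem v8_147_3 : V cs (par cs K7) (word8 147) 3 (word8 155) := V_tree cs _ (by decide)
theorem v8_155_3 : V cs (par cs K7) (word8 155) 3 (word8 147) := V_symm cs v8_147_3
theorem v8_149_2 : V cs (par cs K7) (word8 149) 2 (word8 156) := V_tree cs _ (by decide)
theorem v8_156_2 : V cs (par cs K7) (word8 156) 2 (word8 149) := V_symm cs v8_149_2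
theorem v8_149_1 : V cs (par cs K7) (word8 149) 1 (word8 157) := V_tree cs _ (by decide)
theorem v8_157_1 : V cs (par cs K7) (word8 157) 1 (word8 149) := V_symm cs v8_149_1
theorem v8_150_0 : V cs (par cs K7) (word8 150) 0 (word8 158) := V_tree cs _ (by decide)
theorem v8_158_0 : V cs (par cs K7) (word8 158) 0 (word8 150) := V_symm cs v8_150_0
theorem v8_150_1 : V cs (par cs K7) (word8 150) 1 (word8 159) := V_tree cs _ (by decide)
theorem v8_159_1 : V cs (par cs K7) (word8 159) 1 (word8 150) := V_symm cs v8_150_1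
theorem v8_152_1 : V cs (par cs K7) (word8 152) 1 (word8 160) := V_tree cs _ (by decide)
theorem v8_160_1 : V cs (par cs K7) (word8 160) 1 (word8 152) := V_symm cs v8_152_1
theorem v8_153_3 : V cs (par cs K7) (word8 153) 3 (word8 161) := V_tree cs _ (by decide)
theorem v8_161_3 : V cs (par cs K7) (word8 161) 3 (word8 153) := V_symm cs v8_153_3
theorem v8_154_3 : V cs (par cs K7) (word8 154) 3 (word8 162) := V_tree cs _ (by decide)
theorem v8_162_3 : V cs (par cs K7) (word8 162) 3 (word8 154) := V_symm cs v8_154_3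
theorem v8_156_0 : V cs (par cs K7) (word8 156) 0 (word8 163) := V_tree cs _ (by decide)
theorem v8_163_0 : V cs (par cs K7) (word8 163) 0 (word8 156) := V_symm cs v8_156_0
theorem v8_156_1 : V cs (par cs K7) (word8 156) 1 (word8 164) := V_tree cs _ (by decide)
theorem v8_164_1 : V cs (par cs K7) (word8 164) 1 (word8 156) := V_symm cs v8_156_1
theorem v8_158_1 : V cs (par cs K7) (word8 158) 1 (word8 165) := V_tree cs _ (by decide)
theorem v8_165_1 : V cs (par cs K7) (word8 165) 1 (word8 158) := V_symm cs v8_158_1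
theorem v8_159_3 : V cs (par cs K7) (word8 159) 3 (word8 166) := V_tree cs _ (by decide)
theorem v8_166_3 : V cs (par cs K7) (word8 166) 3 (word8 159) := V_symm cs v8_159_3
theorem v8_160_3 : V cs (par cs K7) (word8 160) 3 (word8 167) := V_tree cs _ (by decide)
theorem v8_167_3 : V cs (par cs K7) (word8 167) 3 (word8 160) := V_symm cs v8_160_3
theorem v8_161_4 : V cs (par cs K7) (word8 161) 4 (word8 168) := V_tree cs _ (by decide)
theorem v8_168_4 : V cs (par cs K7) (word8 168) 4 (word8 161) := V_symm cs v8_161_4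
theorem v8_162_2 : V cs (par cs K7) (word8 162) 2 (word8 169) := V_tree cs _ (by decide)
theorem v8_169_2 : V cs (par cs K7) (word8 169) 2 (word8 162) := V_symm cs v8_162_2
theorem v8_163_1 : V cs (par cs K7) (word8 163) 1 (word8 170) := V_tree cs _ (by decide)
theorem v8_170_1 : V cs (par cs K7) (word8 170) 1 (word8 163) := V_symm cs v8_163_1
theorem v8_164_3 : V cs (par cs K7) (word8 164) 3 (word8 171) := V_tree cs _ (by decide)
theorem v8_171_3 : V cs (par cs K7) (word8 171) 3 (word8 164) := V_symm cs v8_164_3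
theorem v8_165_3 : V cs (par cs K7) (word8 165) 3 (word8 172) := V_tree cs _ (by decide)
theorem v8_172_3 : V cs (par cs K7) (word8 172) 3 (word8 165) := V_symm cs v8_165_3
theorem v8_166_4 : V cs (par cs K7) (word8 166) 4 (word8 173) := V_tree cs _ (by decide)
theorem v8_173_4 : V cs (par cs K7) (word8 173) 4 (word8 166) := V_symm cs v8_166_4
theorem v8_167_2 : V cs (par cs K7) (word8 167) 2 (word8 174) := V_tree cs _ (by decide)
theorem v8_174_2 : V cs (par cs K7) (word8 174) 2 (word8 167) := V_symm cs v8_167_2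
theorem v8_167_4 : V cs (par cs K7) (word8 167) 4 (word8 175) := V_tree cs _ (by decide)
theorem v8_175_4 : V cs (par cs K7) (word8 175) 4 (word8 167) := V_symm cs v8_167_4
theorem v8_170_3 : V cs (par cs K7) (word8 170) 3 (word8 176) := V_tree cs _ (by decide)
theorem v8_176_3 : V cs (par cs K7) (word8 176) 3 (word8 170) := V_symm cs v8_170_3
theorem v8_171_4 : V cs (par cs K7) (word8 171) 4 (word8 177) := V_tree cs _ (by decide)
theorem v8_177_4 : V cs (par cs K7) (word8 177) 4 (word8 171) := V_symm cs v8_171_4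
theorem v8_172_2 : V cs (par cs K7) (word8 172) 2 (word8 178) := V_tree cs _ (by decide)
theorem v8_178_2 : V cs (par cs K7) (word8 178) 2 (word8 172) := V_symm cs v8_172_2
theorem v8_172_4 : V cs (par cs K7) (word8 172) 4 (word8 179) := V_tree cs _ (by decide)
theorem v8_179_4 : V cs (par cs K7) (word8 179) 4 (word8 172) := V_symm cs v8_172_4
theorem v8_173_5 : V cs (par cs K7) (word8 173) 5 (word8 180) := V_tree cs _ (by decide)
theorem v8_180_5 : V cs (par cs K7) (word8 180) 5 (word8 173) := V_symm cs v8_173_5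
theorem v8_174_4 : V cs (par cs K7) (word8 174) 4 (word8 181) := V_tree cs _ (by decide)
theorem v8_181_4 : V cs (par cs K7) (word8 181) 4 (word8 174) := V_symm cs v8_174_4
theorem v8_176_2 : V cs (par cs K7) (word8 176) 2 (word8 182) := V_tree cs _ (by decide)
theorem v8_182_2 : V cs (par cs K7) (word8 182) 2 (word8 176) := V_symm cs v8_176_2
theorem v8_176_4 : V cs (par cs K7) (word8 176) 4 (word8 183) := V_tree cs _ (by decide)
theorem v8_183_4 : V cs (par cs K7) (word8 183) 4 (word8 176) := V_symm cs v8_176_4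
theorem v8_177_5 : V cs (par cs K7) (word8 177) 5 (word8 184) := V_tree cs _ (by decide)
theorem v8_184_5 : V cs (par cs K7) (word8 184) 5 (word8 177) := V_symm cs v8_177_5
theorem v8_178_4 : V cs (par cs K7) (word8 178) 4 (word8 185) := V_tree cs _ (by decide)
theorem v8_185_4 : V cs (par cs K7) (word8 185) 4 (word8 178) := V_symm cs v8_178_4
theorem v8_179_5 : V cs (par cs K7) (word8 179) 5 (word8 186) := V_tree cs _ (by decide)
theorem v8_186_5 : V cs (par cs K7) (word8 186) 5 (word8 179) := V_symm cs v8_179_5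
theorem v8_181_3 : V cs (par cs K7) (word8 181) 3 (word8 187) := V_tree cs _ (by decide)
theorem v8_187_3 : V cs (par cs K7) (word8 187) 3 (word8 181) := V_symm cs v8_181_3
theorem v8_182_4 : V cs (par cs K7) (word8 182) 4 (word8 188) := V_tree cs _ (by decide)
theorem v8_188_4 : V cs (par cs K7) (word8 188) 4 (word8 182) := V_symm cs v8_182_4
theorem v8_183_5 : V cs (par cs K7) (word8 183) 5 (word8 189) := V_tree cs _ (by decide)
theorem v8_189_5 : V cs (par cs K7) (word8 189) 5 (word8 183) := V_symm cs v8_183_5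
theorem v8_184_6 : V cs (par cs K7) (word8 184) 6 (word8 190) := V_tree cs _ (by decide)
theorem v8_190_6 : V cs (par cs K7) (word8 190) 6 (word8 184) := V_symm cs v8_184_6
theorem v8_185_3 : V cs (par cs K7) (word8 185) 3 (word8 191) := V_tree cs _ (by decide)
theorem v8_191_3 : V cs (par cs K7) (word8 191) 3 (word8 185) := V_symm cs v8_185_3
theorem v8_185_5 : V cs (par cs K7) (word8 185) 5 (word8 192) := V_tree cs _ (by decide)
theorem v8_192_5 : V cs (par cs K7) (word8 192) 5 (word8 185) := V_symm cs v8_185_5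
theorem v8_187_1 : V cs (par cs K7) (word8 187) 1 (word8 193) := V_tree cs _ (by decide)
theorem v8_193_1 : V cs (par cs K7) (word8 193) 1 (word8 187) := V_symm cs v8_187_1
theorem v8_188_3 : V cs (par cs K7) (word8 188) 3 (word8 194) := V_tree cs _ (by decide)
theorem v8_194_3 : V cs (par cs K7) (word8 194) 3 (word8 188) := V_symm cs v8_188_3
theorem v8_188_5 : V cs (par cs K7) (word8 188) 5 (word8 195) := V_tree cs _ (by decide)
theorem v8_195_5 : V cs (par cs K7) (word8 195) 5 (word8 188) := V_symm cs v8_188_5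
theorem v8_189_6 : V cs (par cs K7) (word8 189) 6 (word8 196) := V_tree cs _ (by decide)
theorem v8_196_6 : V cs (par cs K7) (word8 196) 6 (word8 189) := V_symm cs v8_189_6
theorem v8_191_1 : V cs (par cs K7) (word8 191) 1 (word8 197) := V_tree cs _ (by decide)
theorem v8_197_1 : V cs (par cs K7) (word8 197) 1 (word8 191) := V_symm cs v8_191_1
theorem v8_191_5 : V cs (par cs K7) (word8 191) 5 (word8 198) := V_tree cs _ (by decide)
theorem v8_198_5 : V cs (par cs K7) (word8 198) 5 (word8 191) := V_symm cs v8_191_5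
theorem v8_194_1 : V cs (par cs K7) (word8 194) 1 (word8 199) := V_tree cs _ (by decide)
theorem v8_199_1 : V cs (par cs K7) (word8 199) 1 (word8 194) := V_symm cs v8_194_1
theorem v8_194_5 : V cs (par cs K7) (word8 194) 5 (word8 200) := V_tree cs _ (by decide)
theorem v8_200_5 : V cs (par cs K7) (word8 200) 5 (word8 194) := V_symm cs v8_194_5
theorem v8_195_6 : V cs (par cs K7) (word8 195) 6 (word8 201) := V_tree cs _ (by decide)
theorem v8_201_6 : V cs (par cs K7) (word8 201) 6 (word8 195) := V_symm cs v8_195_6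
theorem v8_197_5 : V cs (par cs K7) (word8 197) 5 (word8 202) := V_tree cs _ (by decide)
theorem v8_202_5 : V cs (par cs K7) (word8 202) 5 (word8 197) := V_symm cs v8_197_5
theorem v8_198_4 : V cs (par cs K7) (word8 198) 4 (word8 203) := V_tree cs _ (by decide)
theorem v8_203_4 : V cs (par cs K7) (word8 203) 4 (word8 198) := V_symm cs v8_198_4
theorem v8_199_5 : V cs (par cs K7) (word8 199) 5 (word8 204) := V_tree cs _ (by decide)
theorem v8_204_5 : V cs (par cs K7) (word8 204) 5 (word8 199) := V_symm cs v8_199_5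
theorem v8_200_4 : V cs (par cs K7) (word8 200) 4 (word8 205) := V_tree cs _ (by decide)
theorem v8_205_4 : V cs (par cs K7) (word8 205) 4 (word8 200) := V_symm cs v8_200_4
theorem v8_200_6 : V cs (par cs K7) (word8 200) 6 (word8 206) := V_tree cs _ (by decide)
theorem v8_206_6 : V cs (par cs K7) (word8 206) 6 (word8 200) := V_symm cs v8_200_6
theorem v8_202_4 : V cs (par cs K7) (word8 202) 4 (word8 207) := V_tree cs _ (by decide)
theorem v8_207_4 : V cs (par cs K7) (word8 207) 4 (word8 202) := V_symm cs v8_202_4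
theorem v8_204_4 : V cs (par cs K7) (word8 204) 4 (word8 208) := V_tree cs _ (by decide)
theorem v8_208_4 : V cs (par cs K7) (word8 208) 4 (word8 204) := V_symm cs v8_204_4
theorem v8_204_6 : V cs (par cs K7) (word8 204) 6 (word8 209) := V_tree cs _ (by decide)
theorem v8_209_6 : V cs (par cs K7) (word8 209) 6 (word8 204) := V_symm cs v8_204_6
theorem v8_205_6 : V cs (par cs K7) (word8 205) 6 (word8 210) := V_tree cs _ (by decide)
theorem v8_210_6 : V cs (par cs K7) (word8 210) 6 (word8 205) := V_symm cs v8_205_6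
theorem v8_207_3 : V cs (par cs K7) (word8 207) 3 (word8 211) := V_tree cs _ (by decide)
theorem v8_211_3 : V cs (par cs K7) (word8 211) 3 (word8 207) := V_symm cs v8_207_3
theorem v8_208_3 : V cs (par cs K7) (word8 208) 3 (word8 212) := V_tree cs _ (by decide)
theorem v8_212_3 : V cs (par cs K7) (word8 212) 3 (word8 208) := V_symm cs v8_208_3
theorem v8_208_6 : V cs (par cs K7) (word8 208) 6 (word8 213) := V_tree cs _ (by decide)
theorem v8_213_6 : V cs (par cs K7) (word8 213) 6 (word8 208) := V_symm cs v8_208_6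
theorem v8_210_5 : V cs (par cs K7) (word8 210) 5 (word8 214) := V_tree cs _ (by decide)
theorem v8_214_5 : V cs (par cs K7) (word8 214) 5 (word8 210) := V_symm cs v8_210_5
theorem v8_211_2 : V cs (par cs K7) (word8 211) 2 (word8 215) := V_tree cs _ (by decide)
theorem v8_215_2 : V cs (par cs K7) (word8 215) 2 (word8 211) := V_symm cs v8_211_2
theorem v8_212_2 : V cs (par cs K7) (word8 212) 2 (word8 216) := V_tree cs _ (by decide)
theorem v8_216_2 : V cs (par cs K7) (word8 216) 2 (word8 212) := V_symm cs v8_212_2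
theorem v8_212_6 : V cs (par cs K7) (word8 212) 6 (word8 217) := V_tree cs _ (by decide)
theorem v8_217_6 : V cs (par cs K7) (word8 217) 6 (word8 212) := V_symm cs v8_212_6
theorem v8_213_5 : V cs (par cs K7) (word8 213) 5 (word8 218) := V_tree cs _ (by decide)
theorem v8_218_5 : V cs (par cs K7) (word8 218) 5 (word8 213) := V_symm cs v8_213_5
theorem v8_215_0 : V cs (par cs K7) (word8 215) 0 (word8 219) := V_tree cs _ (by decide)
theorem v8_219_0 : V cs (par cs K7) (word8 219) 0 (word8 215) := V_symm cs v8_215_0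
theorem v8_216_0 : V cs (par cs K7) (word8 216) 0 (word8 220) := V_tree cs _ (by decide)
theorem v8_220_0 : V cs (par cs K7) (word8 220) 0 (word8 216) := V_symm cs v8_216_0
theorem v8_216_6 : V cs (par cs K7) (word8 216) 6 (word8 221) := V_tree cs _ (by decide)
theorem v8_221_6 : V cs (par cs K7) (word8 221) 6 (word8 216) := V_symm cs v8_216_6
theorem v8_217_5 : V cs (par cs K7) (word8 217) 5 (word8 222) := V_tree cs _ (by decide)
theorem v8_222_5 : V cs (par cs K7) (word8 222) 5 (word8 217) := V_symm cs v8_217_5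
theorem v8_220_6 : V cs (par cs K7) (word8 220) 6 (word8 223) := V_tree cs _ (by decide)
theorem v8_223_6 : V cs (par cs K7) (word8 223) 6 (word8 220) := V_symm cs v8_220_6
theorem v8_221_5 : V cs (par cs K7) (word8 221) 5 (word8 224) := V_tree cs _ (by decide)
theorem v8_224_5 : V cs (par cs K7) (word8 224) 5 (word8 221) := V_symm cs v8_221_5
theorem v8_222_4 : V cs (par cs K7) (word8 222) 4 (word8 225) := V_tree cs _ (by decide)
theorem v8_225_4 : V cs (par cs K7) (word8 225) 4 (word8 222) := V_symm cs v8_222_4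
theorem v8_223_5 : V cs (par cs K7) (word8 223) 5 (word8 226) := V_tree cs _ (by decide)
theorem v8_226_5 : V cs (par cs K7) (word8 226) 5 (word8 223) := V_symm cs v8_223_5
theorem v8_224_4 : V cs (par cs K7) (word8 224) 4 (word8 227) := V_tree cs _ (by decide)
theorem v8_227_4 : V cs (par cs K7) (word8 227) 4 (word8 224) := V_symm cs v8_224_4
theorem v8_226_4 : V cs (par cs K7) (word8 226) 4 (word8 228) := V_tree cs _ (by decide)
theorem v8_228_4 : V cs (par cs K7) (word8 228) 4 (word8 226) := V_symm cs v8_226_4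
theorem v8_227_3 : V cs (par cs K7) (word8 227) 3 (word8 229) := V_tree cs _ (by decide)
theorem v8_229_3 : V cs (par cs K7) (word8 229) 3 (word8 227) := V_symm cs v8_227_3
theorem v8_228_3 : V cs (par cs K7) (word8 228) 3 (word8 230) := V_tree cs _ (by decide)
theorem v8_230_3 : V cs (par cs K7) (word8 230) 3 (word8 228) := V_symm cs v8_228_3
theorem v8_229_1 : V cs (par cs K7) (word8 229) 1 (word8 231) := V_tree cs _ (by decide)
theorem v8_231_1 : V cs (par cs K7) (word8 231) 1 (word8 229) := V_symm cs v8_229_1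
theorem v8_230_2 : V cs (par cs K7) (word8 230) 2 (word8 232) := V_tree cs _ (by decide)
theorem v8_232_2 : V cs (par cs K7) (word8 232) 2 (word8 230) := V_symm cs v8_230_2
theorem v8_230_1 : V cs (par cs K7) (word8 230) 1 (word8 233) := V_tree cs _ (by decide)
theorem v8_233_1 : V cs (par cs K7) (word8 233) 1 (word8 230) := V_symm cs v8_230_1
theorem v8_232_1 : V cs (par cs K7) (word8 232) 1 (word8 234) := V_tree cs _ (by decide)
theorem v8_234_1 : V cs (par cs K7) (word8 234) 1 (word8 232) := V_symm cs v8_232_1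
theorem v8_234_3 : V cs (par cs K7) (word8 234) 3 (word8 235) := V_tree cs _ (by decide)
theorem v8_235_3 : V cs (par cs K7) (word8 235) 3 (word8 234) := V_symm cs v8_234_3
theorem v8_235_4 : V cs (par cs K7) (word8 235) 4 (word8 236) := V_tree cs _ (by decide)
theorem v8_236_4 : V cs (par cs K7) (word8 236) 4 (word8 235) := V_symm cs v8_235_4
theorem v8_236_5 : V cs (par cs K7) (word8 236) 5 (word8 237) := V_tree cs _ (by decide)
theorem v8_237_5 : V cs (par cs K7) (word8 237) 5 (word8 236) := V_symm cs v8_236_5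
theorem v8_237_6 : V cs (par cs K7) (word8 237) 6 (word8 238) := V_tree cs _ (by decide)
theorem v8_238_6 : V cs (par cs K7) (word8 238) 6 (word8 237) := V_symm cs v8_237_6
theorem v8_238_7 : V cs (par cs K7) (word8 238) 7 (word8 239) := V_tree cs _ (by decide)
theorem v8_239_7 : V cs (par cs K7) (word8 239) 7 (word8 238) := V_symm cs v8_238_7
theorem v8_0_0 : V cs (par cs K7) (word8 0) 0 (word8 0) := V_base cs (by decide) (simple_mem_par cs (by decide))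
theorem v8_0_2 : V cs (par cs K7) (word8 0) 2 (word8 0) := V_base cs (by decide) (simple_mem_par cs (by decide))
theorem v8_0_3 : V cs (par cs K7) (word8 0) 3 (word8 0) := V_base cs (by decide) (simple_mem_par cs (by decide))
theorem v8_0_1 : V cs (par cs K7) (word8 0) 1 (word8 0) := V_base cs (by decide) (simple_mem_par cs (by decide))
theorem v8_0_4 : V cs (par cs K7) (word8 0) 4 (word8 0) := V_base cs (by decide) (simple_mem_par cs (by decide))
theorem v8_0_5 : V cs (par cs K7) (word8 0) 5 (word8 0) := V_base cs (by decide) (simple_mem_par cs (by decide))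
theorem v8_0_6 : V cs (par cs K7) (word8 0) 6 (word8 0) := V_base cs (by decide) (simple_mem_par cs (by decide))
theorem v8_10_0 : V cs (par cs K7) (word8 10) 0 (word8 9) := V_ded2 cs (a := 0) (b := 1) (by decide) v8_9_1 v8_6_0 v8_8_1
theorem v8_9_0 : V cs (par cs K7) (word8 9) 0 (word8 10) := V_symm cs v8_10_0
theorem v8_148_0 : V cs (par cs K7) (word8 148) 0 (word8 141) := V_ded2 cs (a := 0) (b := 1) (by decide) v8_141_1 v8_132_0 v8_140_1
theorem v8_141_0 : V cs (par cs K7) (word8 141) 0 (word8 148) := V_symm cs v8_148_0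
theorem v8_154_0 : V cs (par cs K7) (word8 154) 0 (word8 147) := V_ded2 cs (a := 0) (b := 1) (by decide) v8_147_1 v8_138_0 v8_146_1
theorem v8_147_0 : V cs (par cs K7) (word8 147) 0 (word8 154) := V_symm cs v8_154_0
theorem v8_160_0 : V cs (par cs K7) (word8 160) 0 (word8 153) := V_ded2 cs (a := 0) (b := 1) (by decide) v8_153_1 v8_144_0 v8_152_1
theorem v8_153_0 : V cs (par cs K7) (word8 153) 0 (word8 160) := V_symm cs v8_160_0
theorem v8_165_0 : V cs (par cs K7) (word8 165) 0 (word8 159) := V_ded2 cs (a := 0) (b := 1) (by decide) v8_159_1 v8_150_0 v8_158_1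
theorem v8_159_0 : V cs (par cs K7) (word8 159) 0 (word8 165) := V_symm cs v8_165_0
theorem v8_170_0 : V cs (par cs K7) (word8 170) 0 (word8 164) := V_ded2 cs (a := 0) (b := 1) (by decide) v8_164_1 v8_156_0 v8_163_1
theorem v8_164_0 : V cs (par cs K7) (word8 164) 0 (word8 170) := V_symm cs v8_170_0
theorem v8_52_0 : V cs (par cs K7) (word8 52) 0 (word8 47) := V_ded2 cs (a := 0) (b := 6) (by decide) v8_47_6 v8_41_0 v8_46_6
theorem v8_47_0 : V cs (par cs K7) (word8 47) 0 (word8 52) := V_symm cs v8_52_0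
theorem v8_223_0 : V cs (par cs K7) (word8 223) 0 (word8 221) := V_ded2 cs (a := 0) (b := 6) (by decide) v8_221_6 v8_216_0 v8_220_6
theorem v8_221_0 : V cs (par cs K7) (word8 221) 0 (word8 223) := V_symm cs v8_223_0
theorem v8_1_0 : V cs (par cs K7) (word8 1) 0 (word8 1) := V_ded2 cs (a := 0) (b := 7) (by decide) v8_1_7 v8_0_0 v8_0_7
theorem v8_59_0 : V cs (par cs K7) (word8 59) 0 (word8 54) := V_ded2 cs (a := 0) (b := 7) (by decide) v8_54_7 v8_47_0 v8_52_7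
theorem v8_54_0 : V cs (par cs K7) (word8 54) 0 (word8 59) := V_symm cs v8_59_0
theorem v8_9_2 : V cs (par cs K7) (word8 9) 2 (word8 7) := V_ded2 cs (a := 2) (b := 1) (by decide) v8_7_1 v8_5_2 v8_6_1
theorem v8_7_2 : V cs (par cs K7) (word8 7) 2 (word8 9) := V_symm cs v8_9_2
theorem v8_84_2 : V cs (par cs K7) (word8 84) 2 (word8 78) := V_ded2 cs (a := 2) (b := 1) (by decide) v8_78_1 v8_70_2 v8_77_1
theorem v8_78_2 : V cs (par cs K7) (word8 78) 2 (word8 84) := V_symm cs v8_84_2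
theorem v8_141_2 : V cs (par cs K7) (word8 141) 2 (word8 133) := V_ded2 cs (a := 2) (b := 1) (by decide) v8_133_1 v8_124_2 v8_132_1
theorem v8_133_2 : V cs (par cs K7) (word8 133) 2 (word8 141) := V_symm cs v8_141_2
theorem v8_147_2 : V cs (par cs K7) (word8 147) 2 (word8 139) := V_ded2 cs (a := 2) (b := 1) (by decide) v8_139_1 v8_131_2 v8_138_1
theorem v8_139_2 : V cs (par cs K7) (word8 139) 2 (word8 147) := V_symm cs v8_147_2
theorem v8_153_2 : V cs (par cs K7) (word8 153) 2 (word8 145) := V_ded2 cs (a := 2) (b := 1) (by decide) v8_145_1 v8_137_2 v8_144_1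
theorem v8_145_2 : V cs (par cs K7) (word8 145) 2 (word8 153) := V_symm cs v8_153_2
theorem v8_159_2 : V cs (par cs K7) (word8 159) 2 (word8 151) := V_ded2 cs (a := 2) (b := 1) (by decide) v8_151_1 v8_143_2 v8_150_1
theorem v8_151_2 : V cs (par cs K7) (word8 151) 2 (word8 159) := V_symm cs v8_159_2
theorem v8_164_2 : V cs (par cs K7) (word8 164) 2 (word8 157) := V_ded2 cs (a := 2) (b := 1) (by decide) v8_157_1 v8_149_2 v8_156_1
theorem v8_157_2 : V cs (par cs K7) (word8 157) 2 (word8 164) := V_symm cs v8_164_2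
theorem v8_234_2 : V cs (par cs K7) (word8 234) 2 (word8 233) := V_ded2 cs (a := 2) (b := 1) (by decide) v8_233_1 v8_230_2 v8_232_1
theorem v8_233_2 : V cs (par cs K7) (word8 233) 2 (word8 234) := V_symm cs v8_234_2
theorem v8_17_2 : V cs (par cs K7) (word8 17) 2 (word8 15) := V_ded2 cs (a := 2) (b := 4) (by decide) v8_15_4 v8_12_2 v8_14_4
theorem v8_15_2 : V cs (par cs K7) (word8 15) 2 (word8 17) := V_symm cs v8_17_2
theorem v8_181_2 : V cs (par cs K7) (word8 181) 2 (word8 175) := V_ded2 cs (a := 2) (b := 4) (by decide) v8_175_4 v8_167_2 v8_174_4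
theorem v8_175_2 : V cs (par cs K7) (word8 175) 2 (word8 181) := V_symm cs v8_181_2
theorem v8_185_2 : V cs (par cs K7) (word8 185) 2 (word8 179) := V_ded2 cs (a := 2) (b := 4) (by decide) v8_179_4 v8_172_2 v8_178_4
theorem v8_179_2 : V cs (par cs K7) (word8 179) 2 (word8 185) := V_symm cs v8_185_2
theorem v8_188_2 : V cs (par cs K7) (word8 188) 2 (word8 183) := V_ded2 cs (a := 2) (b := 4) (by decide) v8_183_4 v8_176_2 v8_182_4
theorem v8_183_2 : V cs (par cs K7) (word8 183) 2 (word8 188) := V_symm cs v8_188_2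
theorem v8_21_2 : V cs (par cs K7) (word8 21) 2 (word8 18) := V_ded2 cs (a := 2) (b := 5) (by decide) v8_18_5 v8_15_2 v8_17_5
theorem v8_18_2 : V cs (par cs K7) (word8 18) 2 (word8 21) := V_symm cs v8_21_2
theorem v8_192_2 : V cs (par cs K7) (word8 192) 2 (word8 186) := V_ded2 cs (a := 2) (b := 5) (by decide) v8_186_5 v8_179_2 v8_185_5
theorem v8_186_2 : V cs (par cs K7) (word8 186) 2 (word8 192) := V_symm cs v8_192_2
theorem v8_195_2 : V cs (par cs K7) (word8 195) 2 (word8 189) := V_ded2 cs (a := 2) (b := 5) (by decide) v8_189_5 v8_183_2 v8_188_5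
theorem v8_189_2 : V cs (par cs K7) (word8 189) 2 (word8 195) := V_symm cs v8_195_2
theorem v8_26_2 : V cs (par cs K7) (word8 26) 2 (word8 22) := V_ded2 cs (a := 2) (b := 6) (by decide) v8_22_6 v8_18_2 v8_21_6
theorem v8_22_2 : V cs (par cs K7) (word8 22) 2 (word8 26) := V_symm cs v8_26_2
theorem v8_47_2 : V cs (par cs K7) (word8 47) 2 (word8 42) := V_ded2 cs (a := 2) (b := 6) (by decide) v8_42_6 v8_36_2 v8_41_6
theorem v8_42_2 : V cs (par cs K7) (word8 42) 2 (word8 47) := V_symm cs v8_47_2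
theorem v8_201_2 : V cs (par cs K7) (word8 201) 2 (word8 196) := V_ded2 cs (a := 2) (b := 6) (by decide) v8_196_6 v8_189_2 v8_195_6
theorem v8_196_2 : V cs (par cs K7) (word8 196) 2 (word8 201) := V_symm cs v8_201_2
theorem v8_221_2 : V cs (par cs K7) (word8 221) 2 (word8 217) := V_ded2 cs (a := 2) (b := 6) (by decide) v8_217_6 v8_212_2 v8_216_6
theorem v8_217_2 : V cs (par cs K7) (word8 217) 2 (word8 221) := V_symm cs v8_221_2
theorem v8_1_2 : V cs (par cs K7) (word8 1) 2 (word8 1) := V_ded2 cs (a := 2) (b := 7) (by decide) v8_1_7 v8_0_2 v8_0_7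
theorem v8_31_2 : V cs (par cs K7) (word8 31) 2 (word8 27) := V_ded2 cs (a := 2) (b := 7) (by decide) v8_27_7 v8_22_2 v8_26_7
theorem v8_27_2 : V cs (par cs K7) (word8 27) 2 (word8 31) := V_symm cs v8_31_2
theorem v8_54_2 : V cs (par cs K7) (word8 54) 2 (word8 49) := V_ded2 cs (a := 2) (b := 7) (by decide) v8_49_7 v8_42_2 v8_47_7
theorem v8_49_2 : V cs (par cs K7) (word8 49) 2 (word8 54) := V_symm cs v8_54_2
theorem v8_85_2 : V cs (par cs K7) (word8 85) 2 (word8 79) := V_ded2 cs (a := 2) (b := 7) (by decide) v8_79_7 v8_70_2 v8_77_7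
theorem v8_79_2 : V cs (par cs K7) (word8 79) 2 (word8 85) := V_symm cs v8_85_2
theorem v8_92_2 : V cs (par cs K7) (word8 92) 2 (word8 86) := V_ded2 cs (a := 2) (b := 7) (by decide) v8_86_7 v8_78_2 v8_84_7
theorem v8_86_2 : V cs (par cs K7) (word8 86) 2 (word8 92) := V_symm cs v8_92_2
theorem v8_25_3 : V cs (par cs K7) (word8 25) 3 (word8 21) := V_ded2 cs (a := 3) (b := 5) (by decide) v8_21_5 v8_17_3 v8_20_5
theorem v8_21_3 : V cs (par cs K7) (word8 21) 3 (word8 25) := V_symm cs v8_25_3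
theorem v8_198_3 : V cs (par cs K7) (word8 198) 3 (word8 192) := V_ded2 cs (a := 3) (b := 5) (by decide) v8_192_5 v8_185_3 v8_191_5
theorem v8_192_3 : V cs (par cs K7) (word8 192) 3 (word8 198) := V_symm cs v8_198_3
theorem v8_200_3 : V cs (par cs K7) (word8 200) 3 (word8 195) := V_ded2 cs (a := 3) (b := 5) (by decide) v8_195_5 v8_188_3 v8_194_5
theorem v8_195_3 : V cs (par cs K7) (word8 195) 3 (word8 200) := V_symm cs v8_200_3
theorem v8_30_3 : V cs (par cs K7) (word8 30) 3 (word8 26) := V_ded2 cs (a := 3) (b := 6) (by decide) v8_26_6 v8_21_3 v8_25_6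
theorem v8_26_3 : V cs (par cs K7) (word8 26) 3 (word8 30) := V_symm cs v8_30_3
theorem v8_42_3 : V cs (par cs K7) (word8 42) 3 (word8 37) := V_ded2 cs (a := 3) (b := 6) (by decide) v8_37_6 v8_32_3 v8_36_6
theorem v8_37_3 : V cs (par cs K7) (word8 37) 3 (word8 42) := V_symm cs v8_42_3
theorem v8_206_3 : V cs (par cs K7) (word8 206) 3 (word8 201) := V_ded2 cs (a := 3) (b := 6) (by decide) v8_201_6 v8_195_3 v8_200_6
theorem v8_201_3 : V cs (par cs K7) (word8 201) 3 (word8 206) := V_symm cs v8_206_3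
theorem v8_217_3 : V cs (par cs K7) (word8 217) 3 (word8 213) := V_ded2 cs (a := 3) (b := 6) (by decide) v8_213_6 v8_208_3 v8_212_6
theorem v8_213_3 : V cs (par cs K7) (word8 213) 3 (word8 217) := V_symm cs v8_217_3
theorem v8_1_3 : V cs (par cs K7) (word8 1) 3 (word8 1) := V_ded2 cs (a := 3) (b := 7) (by decide) v8_1_7 v8_0_3 v8_0_7
theorem v8_35_3 : V cs (par cs K7) (word8 35) 3 (word8 31) := V_ded2 cs (a := 3) (b := 7) (by decide) v8_31_7 v8_26_3 v8_30_7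
theorem v8_31_3 : V cs (par cs K7) (word8 31) 3 (word8 35) := V_symm cs v8_35_3
theorem v8_49_3 : V cs (par cs K7) (word8 49) 3 (word8 44) := V_ded2 cs (a := 3) (b := 7) (by decide) v8_44_7 v8_37_3 v8_42_7
theorem v8_44_3 : V cs (par cs K7) (word8 44) 3 (word8 49) := V_symm cs v8_49_3
theorem v8_74_3 : V cs (par cs K7) (word8 74) 3 (word8 67) := V_ded2 cs (a := 3) (b := 7) (by decide) v8_67_7 v8_60_3 v8_66_7
theorem v8_67_3 : V cs (par cs K7) (word8 67) 3 (word8 74) := V_symm cs v8_74_3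
theorem v8_79_3 : V cs (par cs K7) (word8 79) 3 (word8 71) := V_ded2 cs (a := 3) (b := 7) (by decide) v8_71_7 v8_64_3 v8_70_7
theorem v8_71_3 : V cs (par cs K7) (word8 71) 3 (word8 79) := V_symm cs v8_79_3
theorem v8_99_3 : V cs (par cs K7) (word8 99) 3 (word8 92) := V_ded2 cs (a := 3) (b := 7) (by decide) v8_92_7 v8_84_3 v8_91_7
theorem v8_92_3 : V cs (par cs K7) (word8 92) 3 (word8 99) := V_symm cs v8_99_3
theorem v8_28_1 : V cs (par cs K7) (word8 28) 1 (word8 25) := V_ded2 cs (a := 1) (b := 5) (by decide) v8_25_5 v8_20_1 v8_24_5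
theorem v8_25_1 : V cs (par cs K7) (word8 25) 1 (word8 28) := V_symm cs v8_28_1
theorem v8_202_1 : V cs (par cs K7) (word8 202) 1 (word8 198) := V_ded2 cs (a := 1) (b := 5) (by decide) v8_198_5 v8_191_1 v8_197_5
theorem v8_198_1 : V cs (par cs K7) (word8 198) 1 (word8 202) := V_symm cs v8_202_1
theorem v8_204_1 : V cs (par cs K7) (word8 204) 1 (word8 200) := V_ded2 cs (a := 1) (b := 5) (by decide) v8_200_5 v8_194_1 v8_199_5
theorem v8_200_1 : V cs (par cs K7) (word8 200) 1 (word8 204) := V_symm cs v8_204_1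
theorem v8_33_1 : V cs (par cs K7) (word8 33) 1 (word8 30) := V_ded2 cs (a := 1) (b := 6) (by decide) v8_30_6 v8_25_1 v8_28_6
theorem v8_30_1 : V cs (par cs K7) (word8 30) 1 (word8 33) := V_symm cs v8_33_1
theorem v8_209_1 : V cs (par cs K7) (word8 209) 1 (word8 206) := V_ded2 cs (a := 1) (b := 6) (by decide) v8_206_6 v8_200_1 v8_204_6
theorem v8_206_1 : V cs (par cs K7) (word8 206) 1 (word8 209) := V_symm cs v8_209_1
theorem v8_1_1 : V cs (par cs K7) (word8 1) 1 (word8 1) := V_ded2 cs (a := 1) (b := 7) (by decide) v8_1_7 v8_0_1 v8_0_7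
theorem v8_38_1 : V cs (par cs K7) (word8 38) 1 (word8 35) := V_ded2 cs (a := 1) (b := 7) (by decide) v8_35_7 v8_30_1 v8_33_7
theorem v8_35_1 : V cs (par cs K7) (word8 35) 1 (word8 38) := V_symm cs v8_38_1
theorem v8_81_1 : V cs (par cs K7) (word8 81) 1 (word8 74) := V_ded2 cs (a := 1) (b := 7) (by decide) v8_74_7 v8_66_1 v8_73_7
theorem v8_74_1 : V cs (par cs K7) (word8 74) 1 (word8 81) := V_symm cs v8_81_1
theorem v8_86_1 : V cs (par cs K7) (word8 86) 1 (word8 79) := V_ded2 cs (a := 1) (b := 7) (by decide) v8_79_7 v8_70_1 v8_78_7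
theorem v8_79_1 : V cs (par cs K7) (word8 79) 1 (word8 86) := V_symm cs v8_86_1
theorem v8_92_1 : V cs (par cs K7) (word8 92) 1 (word8 85) := V_ded2 cs (a := 1) (b := 7) (by decide) v8_85_7 v8_77_1 v8_84_7
theorem v8_85_1 : V cs (par cs K7) (word8 85) 1 (word8 92) := V_symm cs v8_92_1
theorem v8_34_4 : V cs (par cs K7) (word8 34) 4 (word8 30) := V_ded2 cs (a := 4) (b := 6) (by decide) v8_30_6 v8_25_4 v8_29_6
theorem v8_30_4 : V cs (par cs K7) (word8 30) 4 (word8 34) := V_symm cs v8_34_4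
theorem v8_37_4 : V cs (par cs K7) (word8 37) 4 (word8 33) := V_ded2 cs (a := 4) (b := 6) (by decide) v8_33_6 v8_28_4 v8_32_6
theorem v8_33_4 : V cs (par cs K7) (word8 33) 4 (word8 37) := V_symm cs v8_37_4
theorem v8_210_4 : V cs (par cs K7) (word8 210) 4 (word8 206) := V_ded2 cs (a := 4) (b := 6) (by decide) v8_206_6 v8_200_4 v8_205_6
theorem v8_206_4 : V cs (par cs K7) (word8 206) 4 (word8 210) := V_symm cs v8_210_4
theorem v8_213_4 : V cs (par cs K7) (word8 213) 4 (word8 209) := V_ded2 cs (a := 4) (b := 6) (by decide) v8_209_6 v8_204_4 v8_208_6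
theorem v8_209_4 : V cs (par cs K7) (word8 209) 4 (word8 213) := V_symm cs v8_213_4
theorem v8_1_4 : V cs (par cs K7) (word8 1) 4 (word8 1) := V_ded2 cs (a := 4) (b := 7) (by decide) v8_1_7 v8_0_4 v8_0_7
theorem v8_40_4 : V cs (par cs K7) (word8 40) 4 (word8 35) := V_ded2 cs (a := 4) (b := 7) (by decide) v8_35_7 v8_30_4 v8_34_7
theorem v8_35_4 : V cs (par cs K7) (word8 35) 4 (word8 40) := V_symm cs v8_40_4
theorem v8_44_4 : V cs (par cs K7) (word8 44) 4 (word8 38) := V_ded2 cs (a := 4) (b := 7) (by decide) v8_38_7 v8_33_4 v8_37_7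
theorem v8_38_4 : V cs (par cs K7) (word8 38) 4 (word8 44) := V_symm cs v8_44_4
theorem v8_62_4 : V cs (par cs K7) (word8 62) 4 (word8 56) := V_ded2 cs (a := 4) (b := 7) (by decide) v8_56_7 v8_48_4 v8_55_7
theorem v8_56_4 : V cs (par cs K7) (word8 56) 4 (word8 62) := V_symm cs v8_62_4
theorem v8_67_4 : V cs (par cs K7) (word8 67) 4 (word8 61) := V_ded2 cs (a := 4) (b := 7) (by decide) v8_61_7 v8_53_4 v8_60_7
theorem v8_61_4 : V cs (par cs K7) (word8 61) 4 (word8 67) := V_symm cs v8_67_4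
theorem v8_71_4 : V cs (par cs K7) (word8 71) 4 (word8 65) := V_ded2 cs (a := 4) (b := 7) (by decide) v8_65_7 v8_58_4 v8_64_7
theorem v8_65_4 : V cs (par cs K7) (word8 65) 4 (word8 71) := V_symm cs v8_71_4
theorem v8_106_4 : V cs (par cs K7) (word8 106) 4 (word8 99) := V_ded2 cs (a := 4) (b := 7) (by decide) v8_99_7 v8_91_4 v8_98_7
theorem v8_99_4 : V cs (par cs K7) (word8 99) 4 (word8 106) := V_symm cs v8_106_4
theorem v8_1_5 : V cs (par cs K7) (word8 1) 5 (word8 1) := V_ded2 cs (a := 5) (b := 7) (by decide) v8_1_7 v8_0_5 v8_0_7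
theorem v8_45_5 : V cs (par cs K7) (word8 45) 5 (word8 40) := V_ded2 cs (a := 5) (b := 7) (by decide) v8_40_7 v8_34_5 v8_39_7
theorem v8_40_5 : V cs (par cs K7) (word8 40) 5 (word8 45) := V_symm cs v8_45_5
theorem v8_50_5 : V cs (par cs K7) (word8 50) 5 (word8 44) := V_ded2 cs (a := 5) (b := 7) (by decide) v8_44_7 v8_37_5 v8_43_7
theorem v8_44_5 : V cs (par cs K7) (word8 44) 5 (word8 50) := V_symm cs v8_50_5
theorem v8_56_5 : V cs (par cs K7) (word8 56) 5 (word8 49) := V_ded2 cs (a := 5) (b := 7) (by decide) v8_49_7 v8_42_5 v8_48_7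
theorem v8_49_5 : V cs (par cs K7) (word8 49) 5 (word8 56) := V_symm cs v8_56_5
theorem v8_61_5 : V cs (par cs K7) (word8 61) 5 (word8 54) := V_ded2 cs (a := 5) (b := 7) (by decide) v8_54_7 v8_47_5 v8_53_7
theorem v8_54_5 : V cs (par cs K7) (word8 54) 5 (word8 61) := V_symm cs v8_61_5
theorem v8_65_5 : V cs (par cs K7) (word8 65) 5 (word8 59) := V_ded2 cs (a := 5) (b := 7) (by decide) v8_59_7 v8_52_5 v8_58_7
theorem v8_59_5 : V cs (par cs K7) (word8 59) 5 (word8 65) := V_symm cs v8_65_5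
theorem v8_113_5 : V cs (par cs K7) (word8 113) 5 (word8 106) := V_ded2 cs (a := 5) (b := 7) (by decide) v8_106_7 v8_98_5 v8_105_7
theorem v8_106_5 : V cs (par cs K7) (word8 106) 5 (word8 113) := V_symm cs v8_113_5
theorem v8_3_6 : V cs (par cs K7) (word8 3) 6 (word8 3) := V_ded3 cs (a := 6) (b := 5) (by decide) v8_3_5 v8_2_6 v8_1_5 v8_1_6 v8_2_5
theorem v8_129_6 : V cs (par cs K7) (word8 129) 6 (word8 122) := V_ded3 cs (a := 6) (b := 5) (by decide) v8_122_5 v8_114_6 v8_106_5 v8_113_6 v8_121_5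
theorem v8_122_6 : V cs (par cs K7) (word8 122) 6 (word8 129) := V_symm cs v8_129_6
theorem v8_2_7 : V cs (par cs K7) (word8 2) 7 (word8 2) := V_ded3 cs (a := 7) (b := 6) (by decide) v8_2_6 v8_1_7 v8_0_6 v8_0_7 v8_1_6
theorem v8_128_7 : V cs (par cs K7) (word8 128) 7 (word8 121) := V_ded3 cs (a := 7) (b := 6) (by decide) v8_121_6 v8_113_7 v8_105_6 v8_112_7 v8_120_6
theorem v8_121_7 : V cs (par cs K7) (word8 121) 7 (word8 128) := V_symm cs v8_128_7
theorem v8_12_0 : V cs (par cs K7) (word8 12) 0 (word8 11) := V_ded2 cs (a := 0) (b := 3) (by decide) v8_11_3 v8_9_0 v8_10_3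
theorem v8_11_0 : V cs (par cs K7) (word8 11) 0 (word8 12) := V_symm cs v8_12_0
theorem v8_162_0 : V cs (par cs K7) (word8 162) 0 (word8 155) := V_ded2 cs (a := 0) (b := 3) (by decide) v8_155_3 v8_147_0 v8_154_3
theorem v8_155_0 : V cs (par cs K7) (word8 155) 0 (word8 162) := V_symm cs v8_162_0
theorem v8_167_0 : V cs (par cs K7) (word8 167) 0 (word8 161) := V_ded2 cs (a := 0) (b := 3) (by decide) v8_161_3 v8_153_0 v8_160_3
theorem v8_161_0 : V cs (par cs K7) (word8 161) 0 (word8 167) := V_symm cs v8_167_0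
theorem v8_172_0 : V cs (par cs K7) (word8 172) 0 (word8 166) := V_ded2 cs (a := 0) (b := 3) (by decide) v8_166_3 v8_159_0 v8_165_3
theorem v8_166_0 : V cs (par cs K7) (word8 166) 0 (word8 172) := V_symm cs v8_172_0
theorem v8_176_0 : V cs (par cs K7) (word8 176) 0 (word8 171) := V_ded2 cs (a := 0) (b := 3) (by decide) v8_171_3 v8_164_0 v8_170_3
theorem v8_171_0 : V cs (par cs K7) (word8 171) 0 (word8 176) := V_symm cs v8_176_0
theorem v8_15_0 : V cs (par cs K7) (word8 15) 0 (word8 13) := V_ded2 cs (a := 0) (b := 4) (by decide) v8_13_4 v8_11_0 v8_12_4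
theorem v8_13_0 : V cs (par cs K7) (word8 13) 0 (word8 15) := V_symm cs v8_15_0
theorem v8_175_0 : V cs (par cs K7) (word8 175) 0 (word8 168) := V_ded2 cs (a := 0) (b := 4) (by decide) v8_168_4 v8_161_0 v8_167_4
theorem v8_168_0 : V cs (par cs K7) (word8 168) 0 (word8 175) := V_symm cs v8_175_0
theorem v8_179_0 : V cs (par cs K7) (word8 179) 0 (word8 173) := V_ded2 cs (a := 0) (b := 4) (by decide) v8_173_4 v8_166_0 v8_172_4
theorem v8_173_0 : V cs (par cs K7) (word8 173) 0 (word8 179) := V_symm cs v8_179_0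
theorem v8_183_0 : V cs (par cs K7) (word8 183) 0 (word8 177) := V_ded2 cs (a := 0) (b := 4) (by decide) v8_177_4 v8_171_0 v8_176_4
theorem v8_177_0 : V cs (par cs K7) (word8 177) 0 (word8 183) := V_symm cs v8_183_0
theorem v8_18_0 : V cs (par cs K7) (word8 18) 0 (word8 16) := V_ded2 cs (a := 0) (b := 5) (by decide) v8_16_5 v8_13_0 v8_15_5
theorem v8_16_0 : V cs (par cs K7) (word8 16) 0 (word8 18) := V_symm cs v8_18_0
theorem v8_58_0 : V cs (par cs K7) (word8 58) 0 (word8 53) := V_ded2 cs (a := 0) (b := 5) (by decide) v8_53_5 v8_47_0 v8_52_5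
theorem v8_53_0 : V cs (par cs K7) (word8 53) 0 (word8 58) := V_symm cs v8_58_0
theorem v8_65_0 : V cs (par cs K7) (word8 65) 0 (word8 61) := V_ded2 cs (a := 0) (b := 5) (by decide) v8_61_5 v8_54_0 v8_59_5
theorem v8_61_0 : V cs (par cs K7) (word8 61) 0 (word8 65) := V_symm cs v8_65_0
theorem v8_186_0 : V cs (par cs K7) (word8 186) 0 (word8 180) := V_ded2 cs (a := 0) (b := 5) (by decide) v8_180_5 v8_173_0 v8_179_5
theorem v8_180_0 : V cs (par cs K7) (word8 180) 0 (word8 186) := V_symm cs v8_186_0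
theorem v8_189_0 : V cs (par cs K7) (word8 189) 0 (word8 184) := V_ded2 cs (a := 0) (b := 5) (by decide) v8_184_5 v8_177_0 v8_183_5
theorem v8_184_0 : V cs (par cs K7) (word8 184) 0 (word8 189) := V_symm cs v8_189_0
theorem v8_226_0 : V cs (par cs K7) (word8 226) 0 (word8 224) := V_ded2 cs (a := 0) (b := 5) (by decide) v8_224_5 v8_221_0 v8_223_5
theorem v8_224_0 : V cs (par cs K7) (word8 224) 0 (word8 226) := V_symm cs v8_226_0
theorem v8_2_0 : V cs (par cs K7) (word8 2) 0 (word8 2) := V_ded2 cs (a := 0) (b := 6) (by decide) v8_2_6 v8_1_0 v8_1_6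
theorem v8_22_0 : V cs (par cs K7) (word8 22) 0 (word8 19) := V_ded2 cs (a := 0) (b := 6) (by decide) v8_19_6 v8_16_0 v8_18_6
theorem v8_19_0 : V cs (par cs K7) (word8 19) 0 (word8 22) := V_symm cs v8_22_0
theorem v8_72_0 : V cs (par cs K7) (word8 72) 0 (word8 68) := V_ded2 cs (a := 0) (b := 6) (by decide) v8_68_6 v8_61_0 v8_65_6
theorem v8_68_0 : V cs (par cs K7) (word8 68) 0 (word8 72) := V_symm cs v8_72_0
theorem v8_196_0 : V cs (par cs K7) (word8 196) 0 (word8 190) := V_ded2 cs (a := 0) (b := 6) (by decide) v8_190_6 v8_184_0 v8_189_6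
theorem v8_190_0 : V cs (par cs K7) (word8 190) 0 (word8 196) := V_symm cs v8_196_0
theorem v8_27_0 : V cs (par cs K7) (word8 27) 0 (word8 23) := V_ded2 cs (a := 0) (b := 7) (by decide) v8_23_7 v8_19_0 v8_22_7
theorem v8_23_0 : V cs (par cs K7) (word8 23) 0 (word8 27) := V_symm cs v8_27_0
theorem v8_53_2 : V cs (par cs K7) (word8 53) 2 (word8 48) := V_ded2 cs (a := 2) (b := 5) (by decide) v8_48_5 v8_42_2 v8_47_5
theorem v8_48_2 : V cs (par cs K7) (word8 48) 2 (word8 53) := V_symm cs v8_53_2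
theorem v8_61_2 : V cs (par cs K7) (word8 61) 2 (word8 56) := V_ded2 cs (a := 2) (b := 5) (by decide) v8_56_5 v8_49_2 v8_54_5
theorem v8_56_2 : V cs (par cs K7) (word8 56) 2 (word8 61) := V_symm cs v8_61_2
theorem v8_224_2 : V cs (par cs K7) (word8 224) 2 (word8 222) := V_ded2 cs (a := 2) (b := 5) (by decide) v8_222_5 v8_217_2 v8_221_5
theorem v8_222_2 : V cs (par cs K7) (word8 222) 2 (word8 224) := V_symm cs v8_224_2
theorem v8_2_2 : V cs (par cs K7) (word8 2) 2 (word8 2) := V_ded2 cs (a := 2) (b := 6) (by decide) v8_2_6 v8_1_2 v8_1_6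
theorem v8_68_2 : V cs (par cs K7) (word8 68) 2 (word8 63) := V_ded2 cs (a := 2) (b := 6) (by decide) v8_63_6 v8_56_2 v8_61_6
theorem v8_63_2 : V cs (par cs K7) (word8 63) 2 (word8 68) := V_symm cs v8_68_2
theorem v8_93_2 : V cs (par cs K7) (word8 93) 2 (word8 87) := V_ded2 cs (a := 2) (b := 6) (by decide) v8_87_6 v8_79_2 v8_85_6
theorem v8_87_2 : V cs (par cs K7) (word8 87) 2 (word8 93) := V_symm cs v8_93_2
theorem v8_100_2 : V cs (par cs K7) (word8 100) 2 (word8 94) := V_ded2 cs (a := 2) (b := 6) (by decide) v8_94_6 v8_86_2 v8_92_6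
theorem v8_94_2 : V cs (par cs K7) (word8 94) 2 (word8 100) := V_symm cs v8_100_2
theorem v8_48_3 : V cs (par cs K7) (word8 48) 3 (word8 43) := V_ded2 cs (a := 3) (b := 5) (by decide) v8_43_5 v8_37_3 v8_42_5
theorem v8_43_3 : V cs (par cs K7) (word8 43) 3 (word8 48) := V_symm cs v8_48_3
theorem v8_56_3 : V cs (par cs K7) (word8 56) 3 (word8 50) := V_ded2 cs (a := 3) (b := 5) (by decide) v8_50_5 v8_44_3 v8_49_5
theorem v8_50_3 : V cs (par cs K7) (word8 50) 3 (word8 56) := V_symm cs v8_56_3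
theorem v8_222_3 : V cs (par cs K7) (word8 222) 3 (word8 218) := V_ded2 cs (a := 3) (b := 5) (by decide) v8_218_5 v8_213_3 v8_217_5
theorem v8_218_3 : V cs (par cs K7) (word8 218) 3 (word8 222) := V_symm cs v8_222_3
theorem v8_2_3 : V cs (par cs K7) (word8 2) 3 (word8 2) := V_ded2 cs (a := 3) (b := 6) (by decide) v8_2_6 v8_1_3 v8_1_6
theorem v8_63_3 : V cs (par cs K7) (word8 63) 3 (word8 57) := V_ded2 cs (a := 3) (b := 6) (by decide) v8_57_6 v8_50_3 v8_56_6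
theorem v8_57_3 : V cs (par cs K7) (word8 57) 3 (word8 63) := V_symm cs v8_63_3
theorem v8_82_3 : V cs (par cs K7) (word8 82) 3 (word8 75) := V_ded2 cs (a := 3) (b := 6) (by decide) v8_75_6 v8_67_3 v8_74_6
theorem v8_75_3 : V cs (par cs K7) (word8 75) 3 (word8 82) := V_symm cs v8_82_3
theorem v8_87_3 : V cs (par cs K7) (word8 87) 3 (word8 80) := V_ded2 cs (a := 3) (b := 6) (by decide) v8_80_6 v8_71_3 v8_79_6
theorem v8_80_3 : V cs (par cs K7) (word8 80) 3 (word8 87) := V_symm cs v8_87_3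
theorem v8_107_3 : V cs (par cs K7) (word8 107) 3 (word8 100) := V_ded2 cs (a := 3) (b := 6) (by decide) v8_100_6 v8_92_3 v8_99_6
theorem v8_100_3 : V cs (par cs K7) (word8 100) 3 (word8 107) := V_symm cs v8_107_3
theorem v8_32_1 : V cs (par cs K7) (word8 32) 1 (word8 29) := V_ded2 cs (a := 1) (b := 4) (by decide) v8_29_4 v8_25_1 v8_28_4
theorem v8_29_1 : V cs (par cs K7) (word8 29) 1 (word8 32) := V_symm cs v8_32_1
theorem v8_37_1 : V cs (par cs K7) (word8 37) 1 (word8 34) := V_ded2 cs (a := 1) (b := 4) (by decide) v8_34_4 v8_30_1 v8_33_4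
theorem v8_34_1 : V cs (par cs K7) (word8 34) 1 (word8 37) := V_symm cs v8_37_1
theorem v8_44_1 : V cs (par cs K7) (word8 44) 1 (word8 40) := V_ded2 cs (a := 1) (b := 4) (by decide) v8_40_4 v8_35_1 v8_38_4
theorem v8_40_1 : V cs (par cs K7) (word8 40) 1 (word8 44) := V_symm cs v8_44_1
theorem v8_207_1 : V cs (par cs K7) (word8 207) 1 (word8 203) := V_ded2 cs (a := 1) (b := 4) (by decide) v8_203_4 v8_198_1 v8_202_4
theorem v8_203_1 : V cs (par cs K7) (word8 203) 1 (word8 207) := V_symm cs v8_207_1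
theorem v8_208_1 : V cs (par cs K7) (word8 208) 1 (word8 205) := V_ded2 cs (a := 1) (b := 4) (by decide) v8_205_4 v8_200_1 v8_204_4
theorem v8_205_1 : V cs (par cs K7) (word8 205) 1 (word8 208) := V_symm cs v8_208_1
theorem v8_213_1 : V cs (par cs K7) (word8 213) 1 (word8 210) := V_ded2 cs (a := 1) (b := 4) (by decide) v8_210_4 v8_206_1 v8_209_4
theorem v8_210_1 : V cs (par cs K7) (word8 210) 1 (word8 213) := V_symm cs v8_213_1
theorem v8_43_1 : V cs (par cs K7) (word8 43) 1 (word8 39) := V_ded2 cs (a := 1) (b := 5) (by decide) v8_39_5 v8_34_1 v8_37_5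
theorem v8_39_1 : V cs (par cs K7) (word8 39) 1 (word8 43) := V_symm cs v8_43_1
theorem v8_50_1 : V cs (par cs K7) (word8 50) 1 (word8 45) := V_ded2 cs (a := 1) (b := 5) (by decide) v8_45_5 v8_40_1 v8_44_5
theorem v8_45_1 : V cs (par cs K7) (word8 45) 1 (word8 50) := V_symm cs v8_50_1
theorem v8_218_1 : V cs (par cs K7) (word8 218) 1 (word8 214) := V_ded2 cs (a := 1) (b := 5) (by decide) v8_214_5 v8_210_1 v8_213_5
theorem v8_214_1 : V cs (par cs K7) (word8 214) 1 (word8 218) := V_symm cs v8_218_1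
theorem v8_2_1 : V cs (par cs K7) (word8 2) 1 (word8 2) := V_ded2 cs (a := 1) (b := 6) (by decide) v8_2_6 v8_1_1 v8_1_6
theorem v8_57_1 : V cs (par cs K7) (word8 57) 1 (word8 51) := V_ded2 cs (a := 1) (b := 6) (by decide) v8_51_6 v8_45_1 v8_50_6
theorem v8_51_1 : V cs (par cs K7) (word8 51) 1 (word8 57) := V_symm cs v8_57_1
theorem v8_89_1 : V cs (par cs K7) (word8 89) 1 (word8 82) := V_ded2 cs (a := 1) (b := 6) (by decide) v8_82_6 v8_74_1 v8_81_6
theorem v8_82_1 : V cs (par cs K7) (word8 82) 1 (word8 89) := V_symm cs v8_89_1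
theorem v8_94_1 : V cs (par cs K7) (word8 94) 1 (word8 87) := V_ded2 cs (a := 1) (b := 6) (by decide) v8_87_6 v8_79_1 v8_86_6
theorem v8_87_1 : V cs (par cs K7) (word8 87) 1 (word8 94) := V_symm cs v8_94_1
theorem v8_100_1 : V cs (par cs K7) (word8 100) 1 (word8 93) := V_ded2 cs (a := 1) (b := 6) (by decide) v8_93_6 v8_85_1 v8_92_6
theorem v8_93_1 : V cs (par cs K7) (word8 93) 1 (word8 100) := V_symm cs v8_100_1
theorem v8_2_4 : V cs (par cs K7) (word8 2) 4 (word8 2) := V_ded2 cs (a := 4) (b := 6) (by decide) v8_2_6 v8_1_4 v8_1_6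
theorem v8_69_4 : V cs (par cs K7) (word8 69) 4 (word8 63) := V_ded2 cs (a := 4) (b := 6) (by decide) v8_63_6 v8_56_4 v8_62_6
theorem v8_63_4 : V cs (par cs K7) (word8 63) 4 (word8 69) := V_symm cs v8_69_4
theorem v8_75_4 : V cs (par cs K7) (word8 75) 4 (word8 68) := V_ded2 cs (a := 4) (b := 6) (by decide) v8_68_6 v8_61_4 v8_67_6
theorem v8_68_4 : V cs (par cs K7) (word8 68) 4 (word8 75) := V_symm cs v8_75_4
theorem v8_80_4 : V cs (par cs K7) (word8 80) 4 (word8 72) := V_ded2 cs (a := 4) (b := 6) (by decide) v8_72_6 v8_65_4 v8_71_6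
theorem v8_72_4 : V cs (par cs K7) (word8 72) 4 (word8 80) := V_symm cs v8_80_4
theorem v8_114_4 : V cs (par cs K7) (word8 114) 4 (word8 107) := V_ded2 cs (a := 4) (b := 6) (by decide) v8_107_6 v8_99_4 v8_106_6
theorem v8_107_4 : V cs (par cs K7) (word8 107) 4 (word8 114) := V_symm cs v8_114_4
theorem v8_4_5 : V cs (par cs K7) (word8 4) 5 (word8 4) := V_ded3 cs (a := 5) (b := 4) (by decide) v8_4_4 v8_3_5 v8_2_4 v8_2_5 v8_3_4
theorem v8_130_5 : V cs (par cs K7) (word8 130) 5 (word8 123) := V_ded3 cs (a := 5) (b := 4) (by decide) v8_123_4 v8_115_5 v8_107_4 v8_114_5 v8_122_4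
theorem v8_123_5 : V cs (par cs K7) (word8 123) 5 (word8 130) := V_symm cs v8_130_5
theorem v8_4_6 : V cs (par cs K7) (word8 4) 6 (word8 4) := V_ded2 cs (a := 6) (b := 4) (by decide) v8_4_4 v8_3_6 v8_3_4
theorem v8_136_6 : V cs (par cs K7) (word8 136) 6 (word8 130) := V_ded2 cs (a := 6) (b := 4) (by decide) v8_130_4 v8_122_6 v8_129_4
theorem v8_130_6 : V cs (par cs K7) (word8 130) 6 (word8 136) := V_symm cs v8_136_6
theorem v8_3_7 : V cs (par cs K7) (word8 3) 7 (word8 3) := V_ded2 cs (a := 7) (b := 5) (by decide) v8_3_5 v8_2_7 v8_2_5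
theorem v8_135_7 : V cs (par cs K7) (word8 135) 7 (word8 129) := V_ded2 cs (a := 7) (b := 5) (by decide) v8_129_5 v8_121_7 v8_128_5
theorem v8_129_7 : V cs (par cs K7) (word8 129) 7 (word8 135) := V_symm cs v8_135_7
theorem v8_64_0 : V cs (par cs K7) (word8 64) 0 (word8 60) := V_ded2 cs (a := 0) (b := 4) (by decide) v8_60_4 v8_53_0 v8_58_4
theorem v8_60_0 : V cs (par cs K7) (word8 60) 0 (word8 64) := V_symm cs v8_64_0
theorem v8_71_0 : V cs (par cs K7) (word8 71) 0 (word8 67) := V_ded2 cs (a := 0) (b := 4) (by decide) v8_67_4 v8_61_0 v8_65_4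
theorem v8_67_0 : V cs (par cs K7) (word8 67) 0 (word8 71) := V_symm cs v8_71_0
theorem v8_80_0 : V cs (par cs K7) (word8 80) 0 (word8 75) := V_ded2 cs (a := 0) (b := 4) (by decide) v8_75_4 v8_68_0 v8_72_4
theorem v8_75_0 : V cs (par cs K7) (word8 75) 0 (word8 80) := V_symm cs v8_80_0
theorem v8_228_0 : V cs (par cs K7) (word8 228) 0 (word8 227) := V_ded2 cs (a := 0) (b := 4) (by decide) v8_227_4 v8_224_0 v8_226_4
theorem v8_227_0 : V cs (par cs K7) (word8 227) 0 (word8 228) := V_symm cs v8_228_0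
theorem v8_3_0 : V cs (par cs K7) (word8 3) 0 (word8 3) := V_ded2 cs (a := 0) (b := 5) (by decide) v8_3_5 v8_2_0 v8_2_5
theorem v8_88_0 : V cs (par cs K7) (word8 88) 0 (word8 83) := V_ded2 cs (a := 0) (b := 5) (by decide) v8_83_5 v8_75_0 v8_80_5
theorem v8_83_0 : V cs (par cs K7) (word8 83) 0 (word8 88) := V_symm cs v8_88_0
theorem v8_60_2 : V cs (par cs K7) (word8 60) 2 (word8 55) := V_ded2 cs (a := 2) (b := 4) (by decide) v8_55_4 v8_48_2 v8_53_4
theorem v8_55_2 : V cs (par cs K7) (word8 55) 2 (word8 60) := V_symm cs v8_60_2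
theorem v8_67_2 : V cs (par cs K7) (word8 67) 2 (word8 62) := V_ded2 cs (a := 2) (b := 4) (by decide) v8_62_4 v8_56_2 v8_61_4
theorem v8_62_2 : V cs (par cs K7) (word8 62) 2 (word8 67) := V_symm cs v8_67_2
theorem v8_75_2 : V cs (par cs K7) (word8 75) 2 (word8 69) := V_ded2 cs (a := 2) (b := 4) (by decide) v8_69_4 v8_63_2 v8_68_4
theorem v8_69_2 : V cs (par cs K7) (word8 69) 2 (word8 75) := V_symm cs v8_75_2
theorem v8_227_2 : V cs (par cs K7) (word8 227) 2 (word8 225) := V_ded2 cs (a := 2) (b := 4) (by decide) v8_225_4 v8_222_2 v8_224_4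
theorem v8_225_2 : V cs (par cs K7) (word8 225) 2 (word8 227) := V_symm cs v8_227_2
theorem v8_3_2 : V cs (par cs K7) (word8 3) 2 (word8 3) := V_ded2 cs (a := 2) (b := 5) (by decide) v8_3_5 v8_2_2 v8_2_5
theorem v8_83_2 : V cs (par cs K7) (word8 83) 2 (word8 76) := V_ded2 cs (a := 2) (b := 5) (by decide) v8_76_5 v8_69_2 v8_75_5
theorem v8_76_2 : V cs (par cs K7) (word8 76) 2 (word8 83) := V_symm cs v8_83_2
theorem v8_101_2 : V cs (par cs K7) (word8 101) 2 (word8 95) := V_ded2 cs (a := 2) (b := 5) (by decide) v8_95_5 v8_87_2 v8_93_5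
theorem v8_95_2 : V cs (par cs K7) (word8 95) 2 (word8 101) := V_symm cs v8_101_2
theorem v8_108_2 : V cs (par cs K7) (word8 108) 2 (word8 102) := V_ded2 cs (a := 2) (b := 5) (by decide) v8_102_5 v8_94_2 v8_100_5
theorem v8_102_2 : V cs (par cs K7) (word8 102) 2 (word8 108) := V_symm cs v8_108_2
theorem v8_3_3 : V cs (par cs K7) (word8 3) 3 (word8 3) := V_ded2 cs (a := 3) (b := 5) (by decide) v8_3_5 v8_2_3 v8_2_5
theorem v8_90_3 : V cs (par cs K7) (word8 90) 3 (word8 83) := V_ded2 cs (a := 3) (b := 5) (by decide) v8_83_5 v8_75_3 v8_82_5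
theorem v8_83_3 : V cs (par cs K7) (word8 83) 3 (word8 90) := V_symm cs v8_90_3
theorem v8_95_3 : V cs (par cs K7) (word8 95) 3 (word8 88) := V_ded2 cs (a := 3) (b := 5) (by decide) v8_88_5 v8_80_3 v8_87_5
theorem v8_88_3 : V cs (par cs K7) (word8 88) 3 (word8 95) := V_symm cs v8_95_3
theorem v8_115_3 : V cs (par cs K7) (word8 115) 3 (word8 108) := V_ded2 cs (a := 3) (b := 5) (by decide) v8_108_5 v8_100_3 v8_107_5
theorem v8_108_3 : V cs (par cs K7) (word8 108) 3 (word8 115) := V_symm cs v8_115_3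
theorem v8_3_1 : V cs (par cs K7) (word8 3) 1 (word8 3) := V_ded2 cs (a := 1) (b := 5) (by decide) v8_3_5 v8_2_1 v8_2_5
theorem v8_96_1 : V cs (par cs K7) (word8 96) 1 (word8 90) := V_ded2 cs (a := 1) (b := 5) (by decide) v8_90_5 v8_82_1 v8_89_5
theorem v8_90_1 : V cs (par cs K7) (word8 90) 1 (word8 96) := V_symm cs v8_96_1
theorem v8_102_1 : V cs (par cs K7) (word8 102) 1 (word8 95) := V_ded2 cs (a := 1) (b := 5) (by decide) v8_95_5 v8_87_1 v8_94_5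
theorem v8_95_1 : V cs (par cs K7) (word8 95) 1 (word8 102) := V_symm cs v8_102_1
theorem v8_108_1 : V cs (par cs K7) (word8 108) 1 (word8 101) := V_ded2 cs (a := 1) (b := 5) (by decide) v8_101_5 v8_93_1 v8_100_5
theorem v8_101_1 : V cs (par cs K7) (word8 101) 1 (word8 108) := V_symm cs v8_108_1
theorem v8_5_4 : V cs (par cs K7) (word8 5) 4 (word8 5) := V_ded3 cs (a := 4) (b := 3) (by decide) v8_5_3 v8_4_4 v8_3_3 v8_3_4 v8_4_3
theorem v8_131_4 : V cs (par cs K7) (word8 131) 4 (word8 124) := V_ded3 cs (a := 4) (b := 3) (by decide) v8_124_3 v8_116_4 v8_108_3 v8_115_4 v8_123_3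
theorem v8_124_4 : V cs (par cs K7) (word8 124) 4 (word8 131) := V_symm cs v8_131_4
theorem v8_7_4 : V cs (par cs K7) (word8 7) 4 (word8 7) := V_ded2 cs (a := 4) (b := 1) (by decide) v8_7_1 v8_5_4 v8_5_1
theorem v8_139_4 : V cs (par cs K7) (word8 139) 4 (word8 133) := V_ded2 cs (a := 4) (b := 1) (by decide) v8_133_1 v8_124_4 v8_131_1
theorem v8_133_4 : V cs (par cs K7) (word8 133) 4 (word8 139) := V_symm cs v8_139_4
theorem v8_5_5 : V cs (par cs K7) (word8 5) 5 (word8 5) := V_ded2 cs (a := 5) (b := 3) (by decide) v8_5_3 v8_4_5 v8_4_3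
theorem v8_137_5 : V cs (par cs K7) (word8 137) 5 (word8 131) := V_ded2 cs (a := 5) (b := 3) (by decide) v8_131_3 v8_123_5 v8_130_3
theorem v8_131_5 : V cs (par cs K7) (word8 131) 5 (word8 137) := V_symm cs v8_137_5
theorem v8_7_5 : V cs (par cs K7) (word8 7) 5 (word8 7) := V_ded2 cs (a := 5) (b := 1) (by decide) v8_7_1 v8_5_5 v8_5_1
theorem v8_145_5 : V cs (par cs K7) (word8 145) 5 (word8 139) := V_ded2 cs (a := 5) (b := 1) (by decide) v8_139_1 v8_131_5 v8_137_1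
theorem v8_139_5 : V cs (par cs K7) (word8 139) 5 (word8 145) := V_symm cs v8_145_5
theorem v8_5_6 : V cs (par cs K7) (word8 5) 6 (word8 5) := V_ded2 cs (a := 6) (b := 3) (by decide) v8_5_3 v8_4_6 v8_4_3
theorem v8_143_6 : V cs (par cs K7) (word8 143) 6 (word8 137) := V_ded2 cs (a := 6) (b := 3) (by decide) v8_137_3 v8_130_6 v8_136_3
theorem v8_137_6 : V cs (par cs K7) (word8 137) 6 (word8 143) := V_symm cs v8_143_6
theorem v8_7_6 : V cs (par cs K7) (word8 7) 6 (word8 7) := V_ded2 cs (a := 6) (b := 1) (by decide) v8_7_1 v8_5_6 v8_5_1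
theorem v8_151_6 : V cs (par cs K7) (word8 151) 6 (word8 145) := V_ded2 cs (a := 6) (b := 1) (by decide) v8_145_1 v8_137_6 v8_143_1
theorem v8_145_6 : V cs (par cs K7) (word8 145) 6 (word8 151) := V_symm cs v8_151_6
theorem v8_4_7 : V cs (par cs K7) (word8 4) 7 (word8 4) := V_ded2 cs (a := 7) (b := 4) (by decide) v8_4_4 v8_3_7 v8_3_4
theorem v8_142_7 : V cs (par cs K7) (word8 142) 7 (word8 136) := V_ded2 cs (a := 7) (b := 4) (by decide) v8_136_4 v8_129_7 v8_135_4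
theorem v8_136_7 : V cs (par cs K7) (word8 136) 7 (word8 142) := V_symm cs v8_142_7
theorem v8_70_0 : V cs (par cs K7) (word8 70) 0 (word8 66) := V_ded2 cs (a := 0) (b := 3) (by decide) v8_66_3 v8_60_0 v8_64_3
theorem v8_66_0 : V cs (par cs K7) (word8 66) 0 (word8 70) := V_symm cs v8_70_0
theorem v8_79_0 : V cs (par cs K7) (word8 79) 0 (word8 74) := V_ded2 cs (a := 0) (b := 3) (by decide) v8_74_3 v8_67_0 v8_71_3
theorem v8_74_0 : V cs (par cs K7) (word8 74) 0 (word8 79) := V_symm cs v8_79_0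
theorem v8_87_0 : V cs (par cs K7) (word8 87) 0 (word8 82) := V_ded2 cs (a := 0) (b := 3) (by decide) v8_82_3 v8_75_0 v8_80_3
theorem v8_82_0 : V cs (par cs K7) (word8 82) 0 (word8 87) := V_symm cs v8_87_0
theorem v8_95_0 : V cs (par cs K7) (word8 95) 0 (word8 90) := V_ded2 cs (a := 0) (b := 3) (by decide) v8_90_3 v8_83_0 v8_88_3
theorem v8_90_0 : V cs (par cs K7) (word8 90) 0 (word8 95) := V_symm cs v8_95_0
theorem v8_230_0 : V cs (par cs K7) (word8 230) 0 (word8 229) := V_ded2 cs (a := 0) (b := 3) (by decide) v8_229_3 v8_227_0 v8_228_3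
theorem v8_229_0 : V cs (par cs K7) (word8 229) 0 (word8 230) := V_symm cs v8_230_0
theorem v8_78_0 : V cs (par cs K7) (word8 78) 0 (word8 73) := V_ded2 cs (a := 0) (b := 1) (by decide) v8_73_1 v8_66_0 v8_70_1
theorem v8_73_0 : V cs (par cs K7) (word8 73) 0 (word8 78) := V_symm cs v8_78_0
theorem v8_86_0 : V cs (par cs K7) (word8 86) 0 (word8 81) := V_ded2 cs (a := 0) (b := 1) (by decide) v8_81_1 v8_74_0 v8_79_1
theorem v8_81_0 : V cs (par cs K7) (word8 81) 0 (word8 86) := V_symm cs v8_86_0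
theorem v8_94_0 : V cs (par cs K7) (word8 94) 0 (word8 89) := V_ded2 cs (a := 0) (b := 1) (by decide) v8_89_1 v8_82_0 v8_87_1
theorem v8_89_0 : V cs (par cs K7) (word8 89) 0 (word8 94) := V_symm cs v8_94_0
theorem v8_102_0 : V cs (par cs K7) (word8 102) 0 (word8 96) := V_ded2 cs (a := 0) (b := 1) (by decide) v8_96_1 v8_90_0 v8_95_1
theorem v8_96_0 : V cs (par cs K7) (word8 96) 0 (word8 102) := V_symm cs v8_102_0
theorem v8_233_0 : V cs (par cs K7) (word8 233) 0 (word8 231) := V_ded2 cs (a := 0) (b := 1) (by decide) v8_231_1 v8_229_0 v8_230_1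
theorem v8_231_0 : V cs (par cs K7) (word8 231) 0 (word8 233) := V_symm cs v8_233_0
theorem v8_4_0 : V cs (par cs K7) (word8 4) 0 (word8 4) := V_ded2 cs (a := 0) (b := 4) (by decide) v8_4_4 v8_3_0 v8_3_4
theorem v8_103_0 : V cs (par cs K7) (word8 103) 0 (word8 97) := V_ded2 cs (a := 0) (b := 4) (by decide) v8_97_4 v8_90_0 v8_95_4
theorem v8_97_0 : V cs (par cs K7) (word8 97) 0 (word8 103) := V_symm cs v8_103_0
theorem v8_110_0 : V cs (par cs K7) (word8 110) 0 (word8 104) := V_ded2 cs (a := 0) (b := 4) (by decide) v8_104_4 v8_96_0 v8_102_4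
theorem v8_104_0 : V cs (par cs K7) (word8 104) 0 (word8 110) := V_symm cs v8_110_0
theorem v8_4_2 : V cs (par cs K7) (word8 4) 2 (word8 4) := V_ded2 cs (a := 2) (b := 4) (by decide) v8_4_4 v8_3_2 v8_3_4
theorem v8_109_2 : V cs (par cs K7) (word8 109) 2 (word8 103) := V_ded2 cs (a := 2) (b := 4) (by decide) v8_103_4 v8_95_2 v8_101_4
theorem v8_103_2 : V cs (par cs K7) (word8 103) 2 (word8 109) := V_symm cs v8_109_2
theorem v8_116_2 : V cs (par cs K7) (word8 116) 2 (word8 110) := V_ded2 cs (a := 2) (b := 4) (by decide) v8_110_4 v8_102_2 v8_108_4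
theorem v8_110_2 : V cs (par cs K7) (word8 110) 2 (word8 116) := V_symm cs v8_116_2
theorem v8_6_3 : V cs (par cs K7) (word8 6) 3 (word8 6) := V_ded3 cs (a := 3) (b := 2) (by decide) v8_6_2 v8_5_3 v8_4_2 v8_4_3 v8_5_2
theorem v8_132_3 : V cs (par cs K7) (word8 132) 3 (word8 126) := V_ded3 cs (a := 3) (b := 2) (by decide) v8_126_2 v8_118_3 v8_110_2 v8_116_3 v8_124_2
theorem v8_126_3 : V cs (par cs K7) (word8 126) 3 (word8 132) := V_symm cs v8_132_3
theorem v8_11_1 : V cs (par cs K7) (word8 11) 1 (word8 11) := V_ded3 cs (a := 1) (b := 3) (by decide) v8_11_3 v8_9_1 v8_6_3 v8_6_1 v8_9_3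
theorem v8_4_1 : V cs (par cs K7) (word8 4) 1 (word8 4) := V_ded2 cs (a := 1) (b := 4) (by decide) v8_4_4 v8_3_1 v8_3_4
theorem v8_13_1 : V cs (par cs K7) (word8 13) 1 (word8 13) := V_ded2 cs (a := 1) (b := 4) (by decide) v8_13_4 v8_11_1 v8_11_4
theorem v8_104_1 : V cs (par cs K7) (word8 104) 1 (word8 97) := V_ded2 cs (a := 1) (b := 4) (by decide) v8_97_4 v8_90_1 v8_96_4
theorem v8_97_1 : V cs (par cs K7) (word8 97) 1 (word8 104) := V_symm cs v8_104_1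
theorem v8_110_1 : V cs (par cs K7) (word8 110) 1 (word8 103) := V_ded2 cs (a := 1) (b := 4) (by decide) v8_103_4 v8_95_1 v8_102_4
theorem v8_103_1 : V cs (par cs K7) (word8 103) 1 (word8 110) := V_symm cs v8_110_1
theorem v8_116_1 : V cs (par cs K7) (word8 116) 1 (word8 109) := V_ded2 cs (a := 1) (b := 4) (by decide) v8_109_4 v8_101_1 v8_108_4
theorem v8_109_1 : V cs (par cs K7) (word8 109) 1 (word8 116) := V_symm cs v8_116_1
theorem v8_16_1 : V cs (par cs K7) (word8 16) 1 (word8 16) := V_ded2 cs (a := 1) (b := 5) (by decide) v8_16_5 v8_13_1 v8_13_5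
theorem v8_19_1 : V cs (par cs K7) (word8 19) 1 (word8 19) := V_ded2 cs (a := 1) (b := 6) (by decide) v8_19_6 v8_16_1 v8_16_6
theorem v8_23_1 : V cs (par cs K7) (word8 23) 1 (word8 23) := V_ded2 cs (a := 1) (b := 7) (by decide) v8_23_7 v8_19_1 v8_19_7
theorem v8_6_4 : V cs (par cs K7) (word8 6) 4 (word8 6) := V_ded2 cs (a := 4) (b := 2) (by decide) v8_6_2 v8_5_4 v8_5_2
theorem v8_9_4 : V cs (par cs K7) (word8 9) 4 (word8 9) := V_ded2 cs (a := 4) (b := 2) (by decide) v8_9_2 v8_7_4 v8_7_2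
theorem v8_138_4 : V cs (par cs K7) (word8 138) 4 (word8 132) := V_ded2 cs (a := 4) (b := 2) (by decide) v8_132_2 v8_124_4 v8_131_2
theorem v8_132_4 : V cs (par cs K7) (word8 132) 4 (word8 138) := V_symm cs v8_138_4
theorem v8_147_4 : V cs (par cs K7) (word8 147) 4 (word8 141) := V_ded2 cs (a := 4) (b := 2) (by decide) v8_141_2 v8_133_4 v8_139_2
theorem v8_141_4 : V cs (par cs K7) (word8 141) 4 (word8 147) := V_symm cs v8_147_4
theorem v8_6_5 : V cs (par cs K7) (word8 6) 5 (word8 6) := V_ded2 cs (a := 5) (b := 2) (by decide) v8_6_2 v8_5_5 v8_5_2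
theorem v8_9_5 : V cs (par cs K7) (word8 9) 5 (word8 9) := V_ded2 cs (a := 5) (b := 2) (by decide) v8_9_2 v8_7_5 v8_7_2
theorem v8_144_5 : V cs (par cs K7) (word8 144) 5 (word8 138) := V_ded2 cs (a := 5) (b := 2) (by decide) v8_138_2 v8_131_5 v8_137_2
theorem v8_138_5 : V cs (par cs K7) (word8 138) 5 (word8 144) := V_symm cs v8_144_5
theorem v8_153_5 : V cs (par cs K7) (word8 153) 5 (word8 147) := V_ded2 cs (a := 5) (b := 2) (by decide) v8_147_2 v8_139_5 v8_145_2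
theorem v8_147_5 : V cs (par cs K7) (word8 147) 5 (word8 153) := V_symm cs v8_153_5
theorem v8_11_5 : V cs (par cs K7) (word8 11) 5 (word8 11) := V_ded2 cs (a := 5) (b := 3) (by decide) v8_11_3 v8_9_5 v8_9_3
theorem v8_161_5 : V cs (par cs K7) (word8 161) 5 (word8 155) := V_ded2 cs (a := 5) (b := 3) (by decide) v8_155_3 v8_147_5 v8_153_3
theorem v8_155_5 : V cs (par cs K7) (word8 155) 5 (word8 161) := V_symm cs v8_161_5
theorem v8_6_6 : V cs (par cs K7) (word8 6) 6 (word8 6) := V_ded2 cs (a := 6) (b := 2) (by decide) v8_6_2 v8_5_6 v8_5_2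
theorem v8_9_6 : V cs (par cs K7) (word8 9) 6 (word8 9) := V_ded2 cs (a := 6) (b := 2) (by decide) v8_9_2 v8_7_6 v8_7_2
theorem v8_150_6 : V cs (par cs K7) (word8 150) 6 (word8 144) := V_ded2 cs (a := 6) (b := 2) (by decide) v8_144_2 v8_137_6 v8_143_2
theorem v8_144_6 : V cs (par cs K7) (word8 144) 6 (word8 150) := V_symm cs v8_150_6
theorem v8_159_6 : V cs (par cs K7) (word8 159) 6 (word8 153) := V_ded2 cs (a := 6) (b := 2) (by decide) v8_153_2 v8_145_6 v8_151_2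
theorem v8_153_6 : V cs (par cs K7) (word8 153) 6 (word8 159) := V_symm cs v8_159_6
theorem v8_11_6 : V cs (par cs K7) (word8 11) 6 (word8 11) := V_ded2 cs (a := 6) (b := 3) (by decide) v8_11_3 v8_9_6 v8_9_3
theorem v8_166_6 : V cs (par cs K7) (word8 166) 6 (word8 161) := V_ded2 cs (a := 6) (b := 3) (by decide) v8_161_3 v8_153_6 v8_159_3
theorem v8_161_6 : V cs (par cs K7) (word8 161) 6 (word8 166) := V_symm cs v8_166_6
theorem v8_13_6 : V cs (par cs K7) (word8 13) 6 (word8 13) := V_ded2 cs (a := 6) (b := 4) (by decide) v8_13_4 v8_11_6 v8_11_4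
theorem v8_173_6 : V cs (par cs K7) (word8 173) 6 (word8 168) := V_ded2 cs (a := 6) (b := 4) (by decide) v8_168_4 v8_161_6 v8_166_4
theorem v8_168_6 : V cs (par cs K7) (word8 168) 6 (word8 173) := V_symm cs v8_173_6
theorem v8_5_7 : V cs (par cs K7) (word8 5) 7 (word8 5) := V_ded2 cs (a := 7) (b := 3) (by decide) v8_5_3 v8_4_7 v8_4_3
theorem v8_149_7 : V cs (par cs K7) (word8 149) 7 (word8 143) := V_ded2 cs (a := 7) (b := 3) (by decide) v8_143_3 v8_136_7 v8_142_3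
theorem v8_143_7 : V cs (par cs K7) (word8 143) 7 (word8 149) := V_symm cs v8_149_7
theorem v8_7_7 : V cs (par cs K7) (word8 7) 7 (word8 7) := V_ded2 cs (a := 7) (b := 1) (by decide) v8_7_1 v8_5_7 v8_5_1
theorem v8_157_7 : V cs (par cs K7) (word8 157) 7 (word8 151) := V_ded2 cs (a := 7) (b := 1) (by decide) v8_151_1 v8_143_7 v8_149_1
theorem v8_151_7 : V cs (par cs K7) (word8 151) 7 (word8 157) := V_symm cs v8_157_7
theorem v8_5_0 : V cs (par cs K7) (word8 5) 0 (word8 5) := V_ded2 cs (a := 0) (b := 3) (by decide) v8_5_3 v8_4_0 v8_4_3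
theorem v8_118_0 : V cs (par cs K7) (word8 118) 0 (word8 111) := V_ded2 cs (a := 0) (b := 3) (by decide) v8_111_3 v8_104_0 v8_110_3
theorem v8_111_0 : V cs (par cs K7) (word8 111) 0 (word8 118) := V_symm cs v8_118_0
theorem v8_7_0 : V cs (par cs K7) (word8 7) 0 (word8 7) := V_ded2 cs (a := 0) (b := 1) (by decide) v8_7_1 v8_5_0 v8_5_1
theorem v8_8_2 : V cs (par cs K7) (word8 8) 2 (word8 8) := V_ded3 cs (a := 2) (b := 0) (by decide) v8_8_0 v8_6_2 v8_5_0 v8_5_2 v8_6_0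
theorem v8_10_2 : V cs (par cs K7) (word8 10) 2 (word8 10) := V_ded3 cs (a := 2) (b := 0) (by decide) v8_10_0 v8_9_2 v8_7_0 v8_7_2 v8_9_0
theorem v8_134_2 : V cs (par cs K7) (word8 134) 2 (word8 127) := V_ded3 cs (a := 2) (b := 0) (by decide) v8_127_0 v8_119_2 v8_111_0 v8_118_2 v8_126_0
theorem v8_127_2 : V cs (par cs K7) (word8 127) 2 (word8 134) := V_symm cs v8_134_2
theorem v8_8_3 : V cs (par cs K7) (word8 8) 3 (word8 8) := V_ded2 cs (a := 3) (b := 0) (by decide) v8_8_0 v8_6_3 v8_6_0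
theorem v8_140_3 : V cs (par cs K7) (word8 140) 3 (word8 134) := V_ded2 cs (a := 3) (b := 0) (by decide) v8_134_0 v8_126_3 v8_132_0
theorem v8_134_3 : V cs (par cs K7) (word8 134) 3 (word8 140) := V_symm cs v8_140_3
theorem v8_14_3 : V cs (par cs K7) (word8 14) 3 (word8 14) := V_ded3 cs (a := 3) (b := 2) (by decide) v8_14_2 v8_12_3 v8_10_2 v8_10_3 v8_12_2
theorem v8_7_3 : V cs (par cs K7) (word8 7) 3 (word8 7) := V_ded3 cs (a := 3) (b := 1) (by decide) v8_7_1 v8_5_3 v8_4_1 v8_4_3 v8_5_1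
theorem v8_133_3 : V cs (par cs K7) (word8 133) 3 (word8 125) := V_ded3 cs (a := 3) (b := 1) (by decide) v8_125_1 v8_117_3 v8_109_1 v8_116_3 v8_124_1
theorem v8_125_3 : V cs (par cs K7) (word8 125) 3 (word8 133) := V_symm cs v8_133_3
theorem v8_13_3 : V cs (par cs K7) (word8 13) 3 (word8 13) := V_ded3 cs (a := 3) (b := 4) (by decide) v8_13_4 v8_11_3 v8_9_4 v8_9_3 v8_11_4
theorem v8_16_3 : V cs (par cs K7) (word8 16) 3 (word8 16) := V_ded2 cs (a := 3) (b := 5) (by decide) v8_16_5 v8_13_3 v8_13_5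
theorem v8_19_3 : V cs (par cs K7) (word8 19) 3 (word8 19) := V_ded2 cs (a := 3) (b := 6) (by decide) v8_19_6 v8_16_3 v8_16_6
theorem v8_23_3 : V cs (par cs K7) (word8 23) 3 (word8 23) := V_ded2 cs (a := 3) (b := 7) (by decide) v8_23_7 v8_19_3 v8_19_7
theorem v8_12_1 : V cs (par cs K7) (word8 12) 1 (word8 12) := V_ded2 cs (a := 1) (b := 0) (by decide) v8_12_0 v8_11_1 v8_11_0
theorem v8_15_1 : V cs (par cs K7) (word8 15) 1 (word8 15) := V_ded2 cs (a := 1) (b := 0) (by decide) v8_15_0 v8_13_1 v8_13_0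
theorem v8_18_1 : V cs (par cs K7) (word8 18) 1 (word8 18) := V_ded2 cs (a := 1) (b := 0) (by decide) v8_18_0 v8_16_1 v8_16_0
theorem v8_22_1 : V cs (par cs K7) (word8 22) 1 (word8 22) := V_ded2 cs (a := 1) (b := 0) (by decide) v8_22_0 v8_19_1 v8_19_0
theorem v8_27_1 : V cs (par cs K7) (word8 27) 1 (word8 27) := V_ded2 cs (a := 1) (b := 0) (by decide) v8_27_0 v8_23_1 v8_23_0
theorem v8_14_1 : V cs (par cs K7) (word8 14) 1 (word8 14) := V_ded2 cs (a := 1) (b := 2) (by decide) v8_14_2 v8_12_1 v8_12_2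
theorem v8_17_1 : V cs (par cs K7) (word8 17) 1 (word8 17) := V_ded2 cs (a := 1) (b := 2) (by decide) v8_17_2 v8_15_1 v8_15_2
theorem v8_21_1 : V cs (par cs K7) (word8 21) 1 (word8 21) := V_ded2 cs (a := 1) (b := 2) (by decide) v8_21_2 v8_18_1 v8_18_2
theorem v8_26_1 : V cs (par cs K7) (word8 26) 1 (word8 26) := V_ded2 cs (a := 1) (b := 2) (by decide) v8_26_2 v8_22_1 v8_22_2
theorem v8_31_1 : V cs (par cs K7) (word8 31) 1 (word8 31) := V_ded2 cs (a := 1) (b := 2) (by decide) v8_31_2 v8_27_1 v8_27_2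
theorem v8_8_4 : V cs (par cs K7) (word8 8) 4 (word8 8) := V_ded2 cs (a := 4) (b := 0) (by decide) v8_8_0 v8_6_4 v8_6_0
theorem v8_10_4 : V cs (par cs K7) (word8 10) 4 (word8 10) := V_ded2 cs (a := 4) (b := 0) (by decide) v8_10_0 v8_9_4 v8_9_0
theorem v8_146_4 : V cs (par cs K7) (word8 146) 4 (word8 140) := V_ded2 cs (a := 4) (b := 0) (by decide) v8_140_0 v8_132_4 v8_138_0
theorem v8_140_4 : V cs (par cs K7) (word8 140) 4 (word8 146) := V_symm cs v8_146_4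
theorem v8_154_4 : V cs (par cs K7) (word8 154) 4 (word8 148) := V_ded2 cs (a := 4) (b := 0) (by decide) v8_148_0 v8_141_4 v8_147_0
theorem v8_148_4 : V cs (par cs K7) (word8 148) 4 (word8 154) := V_symm cs v8_154_4
theorem v8_20_4 : V cs (par cs K7) (word8 20) 4 (word8 20) := V_ded3 cs (a := 4) (b := 3) (by decide) v8_20_3 v8_17_4 v8_14_3 v8_14_4 v8_17_3
theorem v8_24_4 : V cs (par cs K7) (word8 24) 4 (word8 24) := V_ded2 cs (a := 4) (b := 1) (by decide) v8_24_1 v8_20_4 v8_20_1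
theorem v8_16_4 : V cs (par cs K7) (word8 16) 4 (word8 16) := V_ded3 cs (a := 4) (b := 5) (by decide) v8_16_5 v8_13_4 v8_11_5 v8_11_4 v8_13_5
theorem v8_19_4 : V cs (par cs K7) (word8 19) 4 (word8 19) := V_ded2 cs (a := 4) (b := 6) (by decide) v8_19_6 v8_16_4 v8_16_6
theorem v8_23_4 : V cs (par cs K7) (word8 23) 4 (word8 23) := V_ded2 cs (a := 4) (b := 7) (by decide) v8_23_7 v8_19_4 v8_19_7
theorem v8_8_5 : V cs (par cs K7) (word8 8) 5 (word8 8) := V_ded2 cs (a := 5) (b := 0) (by decide) v8_8_0 v8_6_5 v8_6_0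
theorem v8_10_5 : V cs (par cs K7) (word8 10) 5 (word8 10) := V_ded2 cs (a := 5) (b := 0) (by decide) v8_10_0 v8_9_5 v8_9_0
theorem v8_12_5 : V cs (par cs K7) (word8 12) 5 (word8 12) := V_ded2 cs (a := 5) (b := 0) (by decide) v8_12_0 v8_11_5 v8_11_0
theorem v8_152_5 : V cs (par cs K7) (word8 152) 5 (word8 146) := V_ded2 cs (a := 5) (b := 0) (by decide) v8_146_0 v8_138_5 v8_144_0
theorem v8_146_5 : V cs (par cs K7) (word8 146) 5 (word8 152) := V_symm cs v8_152_5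
theorem v8_160_5 : V cs (par cs K7) (word8 160) 5 (word8 154) := V_ded2 cs (a := 5) (b := 0) (by decide) v8_154_0 v8_147_5 v8_153_0
theorem v8_154_5 : V cs (par cs K7) (word8 154) 5 (word8 160) := V_symm cs v8_160_5
theorem v8_167_5 : V cs (par cs K7) (word8 167) 5 (word8 162) := V_ded2 cs (a := 5) (b := 0) (by decide) v8_162_0 v8_155_5 v8_161_0
theorem v8_162_5 : V cs (par cs K7) (word8 162) 5 (word8 167) := V_symm cs v8_167_5
theorem v8_14_5 : V cs (par cs K7) (word8 14) 5 (word8 14) := V_ded2 cs (a := 5) (b := 2) (by decide) v8_14_2 v8_12_5 v8_12_2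
theorem v8_174_5 : V cs (par cs K7) (word8 174) 5 (word8 169) := V_ded2 cs (a := 5) (b := 2) (by decide) v8_169_2 v8_162_5 v8_167_2
theorem v8_169_5 : V cs (par cs K7) (word8 169) 5 (word8 174) := V_symm cs v8_174_5
theorem v8_29_5 : V cs (par cs K7) (word8 29) 5 (word8 29) := V_ded3 cs (a := 5) (b := 4) (by decide) v8_29_4 v8_25_5 v8_20_4 v8_20_5 v8_25_4
theorem v8_32_5 : V cs (par cs K7) (word8 32) 5 (word8 32) := V_ded3 cs (a := 5) (b := 4) (by decide) v8_32_4 v8_28_5 v8_24_4 v8_24_5 v8_28_4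
theorem v8_19_5 : V cs (par cs K7) (word8 19) 5 (word8 19) := V_ded3 cs (a := 5) (b := 6) (by decide) v8_19_6 v8_16_5 v8_13_6 v8_13_5 v8_16_6
theorem v8_23_5 : V cs (par cs K7) (word8 23) 5 (word8 23) := V_ded2 cs (a := 5) (b := 7) (by decide) v8_23_7 v8_19_5 v8_19_7
theorem v8_8_6 : V cs (par cs K7) (word8 8) 6 (word8 8) := V_ded2 cs (a := 6) (b := 0) (by decide) v8_8_0 v8_6_6 v8_6_0
theorem v8_10_6 : V cs (par cs K7) (word8 10) 6 (word8 10) := V_ded2 cs (a := 6) (b := 0) (by decide) v8_10_0 v8_9_6 v8_9_0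
theorem v8_12_6 : V cs (par cs K7) (word8 12) 6 (word8 12) := V_ded2 cs (a := 6) (b := 0) (by decide) v8_12_0 v8_11_6 v8_11_0
theorem v8_15_6 : V cs (par cs K7) (word8 15) 6 (word8 15) := V_ded2 cs (a := 6) (b := 0) (by decide) v8_15_0 v8_13_6 v8_13_0
theorem v8_158_6 : V cs (par cs K7) (word8 158) 6 (word8 152) := V_ded2 cs (a := 6) (b := 0) (by decide) v8_152_0 v8_144_6 v8_150_0
theorem v8_152_6 : V cs (par cs K7) (word8 152) 6 (word8 158) := V_symm cs v8_158_6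
theorem v8_165_6 : V cs (par cs K7) (word8 165) 6 (word8 160) := V_ded2 cs (a := 6) (b := 0) (by decide) v8_160_0 v8_153_6 v8_159_0
theorem v8_160_6 : V cs (par cs K7) (word8 160) 6 (word8 165) := V_symm cs v8_165_6
theorem v8_172_6 : V cs (par cs K7) (word8 172) 6 (word8 167) := V_ded2 cs (a := 6) (b := 0) (by decide) v8_167_0 v8_161_6 v8_166_0
theorem v8_167_6 : V cs (par cs K7) (word8 167) 6 (word8 172) := V_symm cs v8_172_6
theorem v8_179_6 : V cs (par cs K7) (word8 179) 6 (word8 175) := V_ded2 cs (a := 6) (b := 0) (by decide) v8_175_0 v8_168_6 v8_173_0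
theorem v8_175_6 : V cs (par cs K7) (word8 175) 6 (word8 179) := V_symm cs v8_179_6
theorem v8_14_6 : V cs (par cs K7) (word8 14) 6 (word8 14) := V_ded2 cs (a := 6) (b := 2) (by decide) v8_14_2 v8_12_6 v8_12_2
theorem v8_17_6 : V cs (par cs K7) (word8 17) 6 (word8 17) := V_ded2 cs (a := 6) (b := 2) (by decide) v8_17_2 v8_15_6 v8_15_2
theorem v8_178_6 : V cs (par cs K7) (word8 178) 6 (word8 174) := V_ded2 cs (a := 6) (b := 2) (by decide) v8_174_2 v8_167_6 v8_172_2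
theorem v8_174_6 : V cs (par cs K7) (word8 174) 6 (word8 178) := V_symm cs v8_178_6
theorem v8_185_6 : V cs (par cs K7) (word8 185) 6 (word8 181) := V_ded2 cs (a := 6) (b := 2) (by decide) v8_181_2 v8_175_6 v8_179_2
theorem v8_181_6 : V cs (par cs K7) (word8 181) 6 (word8 185) := V_symm cs v8_185_6
theorem v8_20_6 : V cs (par cs K7) (word8 20) 6 (word8 20) := V_ded2 cs (a := 6) (b := 3) (by decide) v8_20_3 v8_17_6 v8_17_3
theorem v8_191_6 : V cs (par cs K7) (word8 191) 6 (word8 187) := V_ded2 cs (a := 6) (b := 3) (by decide) v8_187_3 v8_181_6 v8_185_3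
theorem v8_187_6 : V cs (par cs K7) (word8 187) 6 (word8 191) := V_symm cs v8_191_6
theorem v8_24_6 : V cs (par cs K7) (word8 24) 6 (word8 24) := V_ded2 cs (a := 6) (b := 1) (by decide) v8_24_1 v8_20_6 v8_20_1
theorem v8_197_6 : V cs (par cs K7) (word8 197) 6 (word8 193) := V_ded2 cs (a := 6) (b := 1) (by decide) v8_193_1 v8_187_6 v8_191_1
theorem v8_193_6 : V cs (par cs K7) (word8 193) 6 (word8 197) := V_symm cs v8_197_6
theorem v8_39_6 : V cs (par cs K7) (word8 39) 6 (word8 39) := V_ded3 cs (a := 6) (b := 5) (by decide) v8_39_5 v8_34_6 v8_29_5 v8_29_6 v8_34_5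
theorem v8_43_6 : V cs (par cs K7) (word8 43) 6 (word8 43) := V_ded3 cs (a := 6) (b := 5) (by decide) v8_43_5 v8_37_6 v8_32_5 v8_32_6 v8_37_5
theorem v8_6_7 : V cs (par cs K7) (word8 6) 7 (word8 6) := V_ded2 cs (a := 7) (b := 2) (by decide) v8_6_2 v8_5_7 v8_5_2
theorem v8_9_7 : V cs (par cs K7) (word8 9) 7 (word8 9) := V_ded2 cs (a := 7) (b := 2) (by decide) v8_9_2 v8_7_7 v8_7_2
theorem v8_156_7 : V cs (par cs K7) (word8 156) 7 (word8 150) := V_ded2 cs (a := 7) (b := 2) (by decide) v8_150_2 v8_143_7 v8_149_2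
theorem v8_150_7 : V cs (par cs K7) (word8 150) 7 (word8 156) := V_symm cs v8_156_7
theorem v8_164_7 : V cs (par cs K7) (word8 164) 7 (word8 159) := V_ded2 cs (a := 7) (b := 2) (by decide) v8_159_2 v8_151_7 v8_157_2
theorem v8_159_7 : V cs (par cs K7) (word8 159) 7 (word8 164) := V_symm cs v8_164_7
theorem v8_11_7 : V cs (par cs K7) (word8 11) 7 (word8 11) := V_ded2 cs (a := 7) (b := 3) (by decide) v8_11_3 v8_9_7 v8_9_3
theorem v8_171_7 : V cs (par cs K7) (word8 171) 7 (word8 166) := V_ded2 cs (a := 7) (b := 3) (by decide) v8_166_3 v8_159_7 v8_164_3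
theorem v8_166_7 : V cs (par cs K7) (word8 166) 7 (word8 171) := V_symm cs v8_171_7
theorem v8_13_7 : V cs (par cs K7) (word8 13) 7 (word8 13) := V_ded2 cs (a := 7) (b := 4) (by decide) v8_13_4 v8_11_7 v8_11_4
theorem v8_177_7 : V cs (par cs K7) (word8 177) 7 (word8 173) := V_ded2 cs (a := 7) (b := 4) (by decide) v8_173_4 v8_166_7 v8_171_4
theorem v8_173_7 : V cs (par cs K7) (word8 173) 7 (word8 177) := V_symm cs v8_177_7
theorem v8_16_7 : V cs (par cs K7) (word8 16) 7 (word8 16) := V_ded2 cs (a := 7) (b := 5) (by decide) v8_16_5 v8_13_7 v8_13_5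
theorem v8_184_7 : V cs (par cs K7) (word8 184) 7 (word8 180) := V_ded2 cs (a := 7) (b := 5) (by decide) v8_180_5 v8_173_7 v8_177_5
theorem v8_180_7 : V cs (par cs K7) (word8 180) 7 (word8 184) := V_symm cs v8_184_7
theorem v8_51_7 : V cs (par cs K7) (word8 51) 7 (word8 51) := V_ded3 cs (a := 7) (b := 6) (by decide) v8_51_6 v8_45_7 v8_39_6 v8_39_7 v8_45_6
theorem v8_57_7 : V cs (par cs K7) (word8 57) 7 (word8 57) := V_ded3 cs (a := 7) (b := 6) (by decide) v8_57_6 v8_50_7 v8_43_6 v8_43_7 v8_50_6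
theorem v8_11_2 : V cs (par cs K7) (word8 11) 2 (word8 11) := V_ded3 cs (a := 2) (b := 3) (by decide) v8_11_3 v8_9_2 v8_7_3 v8_7_2 v8_9_3
theorem v8_13_2 : V cs (par cs K7) (word8 13) 2 (word8 13) := V_ded2 cs (a := 2) (b := 4) (by decide) v8_13_4 v8_11_2 v8_11_4
theorem v8_16_2 : V cs (par cs K7) (word8 16) 2 (word8 16) := V_ded2 cs (a := 2) (b := 5) (by decide) v8_16_5 v8_13_2 v8_13_5
theorem v8_19_2 : V cs (par cs K7) (word8 19) 2 (word8 19) := V_ded2 cs (a := 2) (b := 6) (by decide) v8_19_6 v8_16_2 v8_16_6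
theorem v8_23_2 : V cs (par cs K7) (word8 23) 2 (word8 23) := V_ded2 cs (a := 2) (b := 7) (by decide) v8_23_7 v8_19_2 v8_19_7
theorem v8_15_3 : V cs (par cs K7) (word8 15) 3 (word8 15) := V_ded2 cs (a := 3) (b := 0) (by decide) v8_15_0 v8_13_3 v8_13_0
theorem v8_18_3 : V cs (par cs K7) (word8 18) 3 (word8 18) := V_ded2 cs (a := 3) (b := 0) (by decide) v8_18_0 v8_16_3 v8_16_0
theorem v8_22_3 : V cs (par cs K7) (word8 22) 3 (word8 22) := V_ded2 cs (a := 3) (b := 0) (by decide) v8_22_0 v8_19_3 v8_19_0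
theorem v8_27_3 : V cs (par cs K7) (word8 27) 3 (word8 27) := V_ded2 cs (a := 3) (b := 0) (by decide) v8_27_0 v8_23_3 v8_23_0
theorem v8_24_3 : V cs (par cs K7) (word8 24) 3 (word8 24) := V_ded3 cs (a := 3) (b := 1) (by decide) v8_24_1 v8_20_3 v8_17_1 v8_17_3 v8_20_1
theorem v8_28_3 : V cs (par cs K7) (word8 28) 3 (word8 28) := V_ded3 cs (a := 3) (b := 1) (by decide) v8_28_1 v8_25_3 v8_21_1 v8_21_3 v8_25_1
theorem v8_33_3 : V cs (par cs K7) (word8 33) 3 (word8 33) := V_ded3 cs (a := 3) (b := 1) (by decide) v8_33_1 v8_30_3 v8_26_1 v8_26_3 v8_30_1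
theorem v8_38_3 : V cs (par cs K7) (word8 38) 3 (word8 38) := V_ded3 cs (a := 3) (b := 1) (by decide) v8_38_1 v8_35_3 v8_31_1 v8_31_3 v8_35_1
theorem v8_18_4 : V cs (par cs K7) (word8 18) 4 (word8 18) := V_ded2 cs (a := 4) (b := 0) (by decide) v8_18_0 v8_16_4 v8_16_0
theorem v8_22_4 : V cs (par cs K7) (word8 22) 4 (word8 22) := V_ded2 cs (a := 4) (b := 0) (by decide) v8_22_0 v8_19_4 v8_19_0
theorem v8_27_4 : V cs (par cs K7) (word8 27) 4 (word8 27) := V_ded2 cs (a := 4) (b := 0) (by decide) v8_27_0 v8_23_4 v8_23_0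
theorem v8_21_4 : V cs (par cs K7) (word8 21) 4 (word8 21) := V_ded2 cs (a := 4) (b := 2) (by decide) v8_21_2 v8_18_4 v8_18_2
theorem v8_26_4 : V cs (par cs K7) (word8 26) 4 (word8 26) := V_ded2 cs (a := 4) (b := 2) (by decide) v8_26_2 v8_22_4 v8_22_2
theorem v8_31_4 : V cs (par cs K7) (word8 31) 4 (word8 31) := V_ded2 cs (a := 4) (b := 2) (by decide) v8_31_2 v8_27_4 v8_27_2
theorem v8_36_4 : V cs (par cs K7) (word8 36) 4 (word8 36) := V_ded3 cs (a := 4) (b := 3) (by decide) v8_36_3 v8_32_4 v8_28_3 v8_28_4 v8_32_3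
theorem v8_42_4 : V cs (par cs K7) (word8 42) 4 (word8 42) := V_ded3 cs (a := 4) (b := 3) (by decide) v8_42_3 v8_37_4 v8_33_3 v8_33_4 v8_37_3
theorem v8_49_4 : V cs (par cs K7) (word8 49) 4 (word8 49) := V_ded3 cs (a := 4) (b := 3) (by decide) v8_49_3 v8_44_4 v8_38_3 v8_38_4 v8_44_3
theorem v8_22_5 : V cs (par cs K7) (word8 22) 5 (word8 22) := V_ded2 cs (a := 5) (b := 0) (by decide) v8_22_0 v8_19_5 v8_19_0
theorem v8_27_5 : V cs (par cs K7) (word8 27) 5 (word8 27) := V_ded2 cs (a := 5) (b := 0) (by decide) v8_27_0 v8_23_5 v8_23_0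
theorem v8_26_5 : V cs (par cs K7) (word8 26) 5 (word8 26) := V_ded2 cs (a := 5) (b := 2) (by decide) v8_26_2 v8_22_5 v8_22_2
theorem v8_31_5 : V cs (par cs K7) (word8 31) 5 (word8 31) := V_ded2 cs (a := 5) (b := 2) (by decide) v8_31_2 v8_27_5 v8_27_2
theorem v8_30_5 : V cs (par cs K7) (word8 30) 5 (word8 30) := V_ded2 cs (a := 5) (b := 3) (by decide) v8_30_3 v8_26_5 v8_26_3
theorem v8_35_5 : V cs (par cs K7) (word8 35) 5 (word8 35) := V_ded2 cs (a := 5) (b := 3) (by decide) v8_35_3 v8_31_5 v8_31_3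
theorem v8_36_5 : V cs (par cs K7) (word8 36) 5 (word8 36) := V_ded2 cs (a := 5) (b := 3) (by decide) v8_36_3 v8_32_5 v8_32_3
theorem v8_33_5 : V cs (par cs K7) (word8 33) 5 (word8 33) := V_ded2 cs (a := 5) (b := 1) (by decide) v8_33_1 v8_30_5 v8_30_1
theorem v8_38_5 : V cs (par cs K7) (word8 38) 5 (word8 38) := V_ded2 cs (a := 5) (b := 1) (by decide) v8_38_1 v8_35_5 v8_35_1
theorem v8_55_5 : V cs (par cs K7) (word8 55) 5 (word8 55) := V_ded3 cs (a := 5) (b := 4) (by decide) v8_55_4 v8_48_5 v8_42_4 v8_42_5 v8_48_4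
theorem v8_62_5 : V cs (par cs K7) (word8 62) 5 (word8 62) := V_ded3 cs (a := 5) (b := 4) (by decide) v8_62_4 v8_56_5 v8_49_4 v8_49_5 v8_56_4
theorem v8_48_6 : V cs (par cs K7) (word8 48) 6 (word8 48) := V_ded2 cs (a := 6) (b := 3) (by decide) v8_48_3 v8_43_6 v8_43_3
theorem v8_55_6 : V cs (par cs K7) (word8 55) 6 (word8 55) := V_ded2 cs (a := 6) (b := 4) (by decide) v8_55_4 v8_48_6 v8_48_4
theorem v8_76_6 : V cs (par cs K7) (word8 76) 6 (word8 76) := V_ded3 cs (a := 6) (b := 5) (by decide) v8_76_5 v8_69_6 v8_62_5 v8_62_6 v8_69_5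
theorem v8_23_6 : V cs (par cs K7) (word8 23) 6 (word8 23) := V_ded3 cs (a := 6) (b := 7) (by decide) v8_23_7 v8_19_6 v8_16_7 v8_16_6 v8_19_7
theorem v8_8_7 : V cs (par cs K7) (word8 8) 7 (word8 8) := V_ded2 cs (a := 7) (b := 0) (by decide) v8_8_0 v8_6_7 v8_6_0
theorem v8_10_7 : V cs (par cs K7) (word8 10) 7 (word8 10) := V_ded2 cs (a := 7) (b := 0) (by decide) v8_10_0 v8_9_7 v8_9_0
theorem v8_12_7 : V cs (par cs K7) (word8 12) 7 (word8 12) := V_ded2 cs (a := 7) (b := 0) (by decide) v8_12_0 v8_11_7 v8_11_0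
theorem v8_15_7 : V cs (par cs K7) (word8 15) 7 (word8 15) := V_ded2 cs (a := 7) (b := 0) (by decide) v8_15_0 v8_13_7 v8_13_0
theorem v8_18_7 : V cs (par cs K7) (word8 18) 7 (word8 18) := V_ded2 cs (a := 7) (b := 0) (by decide) v8_18_0 v8_16_7 v8_16_0
theorem v8_163_7 : V cs (par cs K7) (word8 163) 7 (word8 158) := V_ded2 cs (a := 7) (b := 0) (by decide) v8_158_0 v8_150_7 v8_156_0
theorem v8_158_7 : V cs (par cs K7) (word8 158) 7 (word8 163) := V_symm cs v8_163_7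
theorem v8_170_7 : V cs (par cs K7) (word8 170) 7 (word8 165) := V_ded2 cs (a := 7) (b := 0) (by decide) v8_165_0 v8_159_7 v8_164_0
theorem v8_165_7 : V cs (par cs K7) (word8 165) 7 (word8 170) := V_symm cs v8_170_7
theorem v8_176_7 : V cs (par cs K7) (word8 176) 7 (word8 172) := V_ded2 cs (a := 7) (b := 0) (by decide) v8_172_0 v8_166_7 v8_171_0
theorem v8_172_7 : V cs (par cs K7) (word8 172) 7 (word8 176) := V_symm cs v8_176_7
theorem v8_183_7 : V cs (par cs K7) (word8 183) 7 (word8 179) := V_ded2 cs (a := 7) (b := 0) (by decide) v8_179_0 v8_173_7 v8_177_0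
theorem v8_179_7 : V cs (par cs K7) (word8 179) 7 (word8 183) := V_symm cs v8_183_7
theorem v8_189_7 : V cs (par cs K7) (word8 189) 7 (word8 186) := V_ded2 cs (a := 7) (b := 0) (by decide) v8_186_0 v8_180_7 v8_184_0
theorem v8_186_7 : V cs (par cs K7) (word8 186) 7 (word8 189) := V_symm cs v8_189_7
theorem v8_14_7 : V cs (par cs K7) (word8 14) 7 (word8 14) := V_ded2 cs (a := 7) (b := 2) (by decide) v8_14_2 v8_12_7 v8_12_2
theorem v8_17_7 : V cs (par cs K7) (word8 17) 7 (word8 17) := V_ded2 cs (a := 7) (b := 2) (by decide) v8_17_2 v8_15_7 v8_15_2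
theorem v8_21_7 : V cs (par cs K7) (word8 21) 7 (word8 21) := V_ded2 cs (a := 7) (b := 2) (by decide) v8_21_2 v8_18_7 v8_18_2
theorem v8_182_7 : V cs (par cs K7) (word8 182) 7 (word8 178) := V_ded2 cs (a := 7) (b := 2) (by decide) v8_178_2 v8_172_7 v8_176_2
theorem v8_178_7 : V cs (par cs K7) (word8 178) 7 (word8 182) := V_symm cs v8_182_7
theorem v8_188_7 : V cs (par cs K7) (word8 188) 7 (word8 185) := V_ded2 cs (a := 7) (b := 2) (by decide) v8_185_2 v8_179_7 v8_183_2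
theorem v8_185_7 : V cs (par cs K7) (word8 185) 7 (word8 188) := V_symm cs v8_188_7
theorem v8_195_7 : V cs (par cs K7) (word8 195) 7 (word8 192) := V_ded2 cs (a := 7) (b := 2) (by decide) v8_192_2 v8_186_7 v8_189_2
theorem v8_192_7 : V cs (par cs K7) (word8 192) 7 (word8 195) := V_symm cs v8_195_7
theorem v8_20_7 : V cs (par cs K7) (word8 20) 7 (word8 20) := V_ded2 cs (a := 7) (b := 3) (by decide) v8_20_3 v8_17_7 v8_17_3
theorem v8_25_7 : V cs (par cs K7) (word8 25) 7 (word8 25) := V_ded2 cs (a := 7) (b := 3) (by decide) v8_25_3 v8_21_7 v8_21_3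
theorem v8_63_7 : V cs (par cs K7) (word8 63) 7 (word8 63) := V_ded2 cs (a := 7) (b := 3) (by decide) v8_63_3 v8_57_7 v8_57_3
theorem v8_194_7 : V cs (par cs K7) (word8 194) 7 (word8 191) := V_ded2 cs (a := 7) (b := 3) (by decide) v8_191_3 v8_185_7 v8_188_3
theorem v8_191_7 : V cs (par cs K7) (word8 191) 7 (word8 194) := V_symm cs v8_194_7
theorem v8_200_7 : V cs (par cs K7) (word8 200) 7 (word8 198) := V_ded2 cs (a := 7) (b := 3) (by decide) v8_198_3 v8_192_7 v8_195_3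
theorem v8_198_7 : V cs (par cs K7) (word8 198) 7 (word8 200) := V_symm cs v8_200_7
theorem v8_24_7 : V cs (par cs K7) (word8 24) 7 (word8 24) := V_ded2 cs (a := 7) (b := 1) (by decide) v8_24_1 v8_20_7 v8_20_1
theorem v8_28_7 : V cs (par cs K7) (word8 28) 7 (word8 28) := V_ded2 cs (a := 7) (b := 1) (by decide) v8_28_1 v8_25_7 v8_25_1
theorem v8_199_7 : V cs (par cs K7) (word8 199) 7 (word8 197) := V_ded2 cs (a := 7) (b := 1) (by decide) v8_197_1 v8_191_7 v8_194_1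
theorem v8_197_7 : V cs (par cs K7) (word8 197) 7 (word8 199) := V_symm cs v8_199_7
theorem v8_204_7 : V cs (par cs K7) (word8 204) 7 (word8 202) := V_ded2 cs (a := 7) (b := 1) (by decide) v8_202_1 v8_198_7 v8_200_1
theorem v8_202_7 : V cs (par cs K7) (word8 202) 7 (word8 204) := V_symm cs v8_204_7
theorem v8_29_7 : V cs (par cs K7) (word8 29) 7 (word8 29) := V_ded2 cs (a := 7) (b := 4) (by decide) v8_29_4 v8_25_7 v8_25_4
theorem v8_32_7 : V cs (par cs K7) (word8 32) 7 (word8 32) := V_ded2 cs (a := 7) (b := 4) (by decide) v8_32_4 v8_28_7 v8_28_4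
theorem v8_69_7 : V cs (par cs K7) (word8 69) 7 (word8 69) := V_ded2 cs (a := 7) (b := 4) (by decide) v8_69_4 v8_63_7 v8_63_4
theorem v8_205_7 : V cs (par cs K7) (word8 205) 7 (word8 203) := V_ded2 cs (a := 7) (b := 4) (by decide) v8_203_4 v8_198_7 v8_200_4
theorem v8_203_7 : V cs (par cs K7) (word8 203) 7 (word8 205) := V_symm cs v8_205_7
theorem v8_208_7 : V cs (par cs K7) (word8 208) 7 (word8 207) := V_ded2 cs (a := 7) (b := 4) (by decide) v8_207_4 v8_202_7 v8_204_4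
theorem v8_207_7 : V cs (par cs K7) (word8 207) 7 (word8 208) := V_symm cs v8_208_7
theorem v8_76_7 : V cs (par cs K7) (word8 76) 7 (word8 76) := V_ded2 cs (a := 7) (b := 5) (by decide) v8_76_5 v8_69_7 v8_69_5
theorem v8_14_0 : V cs (par cs K7) (word8 14) 0 (word8 14) := V_ded3 cs (a := 0) (b := 2) (by decide) v8_14_2 v8_12_0 v8_11_2 v8_11_0 v8_12_2
theorem v8_17_0 : V cs (par cs K7) (word8 17) 0 (word8 17) := V_ded3 cs (a := 0) (b := 2) (by decide) v8_17_2 v8_15_0 v8_13_2 v8_13_0 v8_15_2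
theorem v8_21_0 : V cs (par cs K7) (word8 21) 0 (word8 21) := V_ded3 cs (a := 0) (b := 2) (by decide) v8_21_2 v8_18_0 v8_16_2 v8_16_0 v8_18_2
theorem v8_26_0 : V cs (par cs K7) (word8 26) 0 (word8 26) := V_ded3 cs (a := 0) (b := 2) (by decide) v8_26_2 v8_22_0 v8_19_2 v8_19_0 v8_22_2
theorem v8_31_0 : V cs (par cs K7) (word8 31) 0 (word8 31) := V_ded3 cs (a := 0) (b := 2) (by decide) v8_31_2 v8_27_0 v8_23_2 v8_23_0 v8_27_2
theorem v8_20_0 : V cs (par cs K7) (word8 20) 0 (word8 20) := V_ded2 cs (a := 0) (b := 3) (by decide) v8_20_3 v8_17_0 v8_17_3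
theorem v8_25_0 : V cs (par cs K7) (word8 25) 0 (word8 25) := V_ded2 cs (a := 0) (b := 3) (by decide) v8_25_3 v8_21_0 v8_21_3
theorem v8_30_0 : V cs (par cs K7) (word8 30) 0 (word8 30) := V_ded2 cs (a := 0) (b := 3) (by decide) v8_30_3 v8_26_0 v8_26_3
theorem v8_35_0 : V cs (par cs K7) (word8 35) 0 (word8 35) := V_ded2 cs (a := 0) (b := 3) (by decide) v8_35_3 v8_31_0 v8_31_3
theorem v8_24_0 : V cs (par cs K7) (word8 24) 0 (word8 24) := V_ded2 cs (a := 0) (b := 1) (by decide) v8_24_1 v8_20_0 v8_20_1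
theorem v8_28_0 : V cs (par cs K7) (word8 28) 0 (word8 28) := V_ded2 cs (a := 0) (b := 1) (by decide) v8_28_1 v8_25_0 v8_25_1
theorem v8_33_0 : V cs (par cs K7) (word8 33) 0 (word8 33) := V_ded2 cs (a := 0) (b := 1) (by decide) v8_33_1 v8_30_0 v8_30_1
theorem v8_38_0 : V cs (par cs K7) (word8 38) 0 (word8 38) := V_ded2 cs (a := 0) (b := 1) (by decide) v8_38_1 v8_35_0 v8_35_1
theorem v8_29_0 : V cs (par cs K7) (word8 29) 0 (word8 29) := V_ded2 cs (a := 0) (b := 4) (by decide) v8_29_4 v8_25_0 v8_25_4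
theorem v8_32_0 : V cs (par cs K7) (word8 32) 0 (word8 32) := V_ded2 cs (a := 0) (b := 4) (by decide) v8_32_4 v8_28_0 v8_28_4
theorem v8_34_0 : V cs (par cs K7) (word8 34) 0 (word8 34) := V_ded2 cs (a := 0) (b := 4) (by decide) v8_34_4 v8_30_0 v8_30_4
theorem v8_37_0 : V cs (par cs K7) (word8 37) 0 (word8 37) := V_ded2 cs (a := 0) (b := 4) (by decide) v8_37_4 v8_33_0 v8_33_4
theorem v8_40_0 : V cs (par cs K7) (word8 40) 0 (word8 40) := V_ded2 cs (a := 0) (b := 4) (by decide) v8_40_4 v8_35_0 v8_35_4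
theorem v8_44_0 : V cs (par cs K7) (word8 44) 0 (word8 44) := V_ded2 cs (a := 0) (b := 4) (by decide) v8_44_4 v8_38_0 v8_38_4
theorem v8_39_0 : V cs (par cs K7) (word8 39) 0 (word8 39) := V_ded2 cs (a := 0) (b := 5) (by decide) v8_39_5 v8_34_0 v8_34_5
theorem v8_43_0 : V cs (par cs K7) (word8 43) 0 (word8 43) := V_ded2 cs (a := 0) (b := 5) (by decide) v8_43_5 v8_37_0 v8_37_5
theorem v8_45_0 : V cs (par cs K7) (word8 45) 0 (word8 45) := V_ded2 cs (a := 0) (b := 5) (by decide) v8_45_5 v8_40_0 v8_40_5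
theorem v8_50_0 : V cs (par cs K7) (word8 50) 0 (word8 50) := V_ded2 cs (a := 0) (b := 5) (by decide) v8_50_5 v8_44_0 v8_44_5
theorem v8_51_0 : V cs (par cs K7) (word8 51) 0 (word8 51) := V_ded2 cs (a := 0) (b := 6) (by decide) v8_51_6 v8_45_0 v8_45_6
theorem v8_57_0 : V cs (par cs K7) (word8 57) 0 (word8 57) := V_ded2 cs (a := 0) (b := 6) (by decide) v8_57_6 v8_50_0 v8_50_6
theorem v8_20_2 : V cs (par cs K7) (word8 20) 2 (word8 20) := V_ded3 cs (a := 2) (b := 3) (by decide) v8_20_3 v8_17_2 v8_15_3 v8_15_2 v8_17_3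
theorem v8_25_2 : V cs (par cs K7) (word8 25) 2 (word8 25) := V_ded3 cs (a := 2) (b := 3) (by decide) v8_25_3 v8_21_2 v8_18_3 v8_18_2 v8_21_3
theorem v8_30_2 : V cs (par cs K7) (word8 30) 2 (word8 30) := V_ded3 cs (a := 2) (b := 3) (by decide) v8_30_3 v8_26_2 v8_22_3 v8_22_2 v8_26_3
theorem v8_35_2 : V cs (par cs K7) (word8 35) 2 (word8 35) := V_ded3 cs (a := 2) (b := 3) (by decide) v8_35_3 v8_31_2 v8_27_3 v8_27_2 v8_31_3
theorem v8_24_2 : V cs (par cs K7) (word8 24) 2 (word8 24) := V_ded2 cs (a := 2) (b := 1) (by decide) v8_24_1 v8_20_2 v8_20_1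
theorem v8_28_2 : V cs (par cs K7) (word8 28) 2 (word8 28) := V_ded2 cs (a := 2) (b := 1) (by decide) v8_28_1 v8_25_2 v8_25_1
theorem v8_33_2 : V cs (par cs K7) (word8 33) 2 (word8 33) := V_ded2 cs (a := 2) (b := 1) (by decide) v8_33_1 v8_30_2 v8_30_1
theorem v8_38_2 : V cs (par cs K7) (word8 38) 2 (word8 38) := V_ded2 cs (a := 2) (b := 1) (by decide) v8_38_1 v8_35_2 v8_35_1
theorem v8_29_2 : V cs (par cs K7) (word8 29) 2 (word8 29) := V_ded2 cs (a := 2) (b := 4) (by decide) v8_29_4 v8_25_2 v8_25_4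
theorem v8_32_2 : V cs (par cs K7) (word8 32) 2 (word8 32) := V_ded2 cs (a := 2) (b := 4) (by decide) v8_32_4 v8_28_2 v8_28_4
theorem v8_34_2 : V cs (par cs K7) (word8 34) 2 (word8 34) := V_ded2 cs (a := 2) (b := 4) (by decide) v8_34_4 v8_30_2 v8_30_4
theorem v8_37_2 : V cs (par cs K7) (word8 37) 2 (word8 37) := V_ded2 cs (a := 2) (b := 4) (by decide) v8_37_4 v8_33_2 v8_33_4
theorem v8_40_2 : V cs (par cs K7) (word8 40) 2 (word8 40) := V_ded2 cs (a := 2) (b := 4) (by decide) v8_40_4 v8_35_2 v8_35_4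
theorem v8_44_2 : V cs (par cs K7) (word8 44) 2 (word8 44) := V_ded2 cs (a := 2) (b := 4) (by decide) v8_44_4 v8_38_2 v8_38_4
theorem v8_39_2 : V cs (par cs K7) (word8 39) 2 (word8 39) := V_ded2 cs (a := 2) (b := 5) (by decide) v8_39_5 v8_34_2 v8_34_5
theorem v8_43_2 : V cs (par cs K7) (word8 43) 2 (word8 43) := V_ded2 cs (a := 2) (b := 5) (by decide) v8_43_5 v8_37_2 v8_37_5
theorem v8_45_2 : V cs (par cs K7) (word8 45) 2 (word8 45) := V_ded2 cs (a := 2) (b := 5) (by decide) v8_45_5 v8_40_2 v8_40_5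
theorem v8_50_2 : V cs (par cs K7) (word8 50) 2 (word8 50) := V_ded2 cs (a := 2) (b := 5) (by decide) v8_50_5 v8_44_2 v8_44_5
theorem v8_51_2 : V cs (par cs K7) (word8 51) 2 (word8 51) := V_ded2 cs (a := 2) (b := 6) (by decide) v8_51_6 v8_45_2 v8_45_6
theorem v8_57_2 : V cs (par cs K7) (word8 57) 2 (word8 57) := V_ded2 cs (a := 2) (b := 6) (by decide) v8_57_6 v8_50_2 v8_50_6
theorem v8_41_3 : V cs (par cs K7) (word8 41) 3 (word8 41) := V_ded3 cs (a := 3) (b := 2) (by decide) v8_41_2 v8_36_3 v8_32_2 v8_32_3 v8_36_2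
theorem v8_47_3 : V cs (par cs K7) (word8 47) 3 (word8 47) := V_ded3 cs (a := 3) (b := 2) (by decide) v8_47_2 v8_42_3 v8_37_2 v8_37_3 v8_42_2
theorem v8_53_3 : V cs (par cs K7) (word8 53) 3 (word8 53) := V_ded3 cs (a := 3) (b := 2) (by decide) v8_53_2 v8_48_3 v8_43_2 v8_43_3 v8_48_2
theorem v8_54_3 : V cs (par cs K7) (word8 54) 3 (word8 54) := V_ded3 cs (a := 3) (b := 2) (by decide) v8_54_2 v8_49_3 v8_44_2 v8_44_3 v8_49_2
theorem v8_61_3 : V cs (par cs K7) (word8 61) 3 (word8 61) := V_ded3 cs (a := 3) (b := 2) (by decide) v8_61_2 v8_56_3 v8_50_2 v8_50_3 v8_56_2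
theorem v8_68_3 : V cs (par cs K7) (word8 68) 3 (word8 68) := V_ded3 cs (a := 3) (b := 2) (by decide) v8_68_2 v8_63_3 v8_57_2 v8_57_3 v8_63_2
theorem v8_29_3 : V cs (par cs K7) (word8 29) 3 (word8 29) := V_ded3 cs (a := 3) (b := 4) (by decide) v8_29_4 v8_25_3 v8_21_4 v8_21_3 v8_25_4
theorem v8_34_3 : V cs (par cs K7) (word8 34) 3 (word8 34) := V_ded3 cs (a := 3) (b := 4) (by decide) v8_34_4 v8_30_3 v8_26_4 v8_26_3 v8_30_4
theorem v8_40_3 : V cs (par cs K7) (word8 40) 3 (word8 40) := V_ded3 cs (a := 3) (b := 4) (by decide) v8_40_4 v8_35_3 v8_31_4 v8_31_3 v8_35_4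
theorem v8_39_3 : V cs (par cs K7) (word8 39) 3 (word8 39) := V_ded2 cs (a := 3) (b := 5) (by decide) v8_39_5 v8_34_3 v8_34_5
theorem v8_45_3 : V cs (par cs K7) (word8 45) 3 (word8 45) := V_ded2 cs (a := 3) (b := 5) (by decide) v8_45_5 v8_40_3 v8_40_5
theorem v8_51_3 : V cs (par cs K7) (word8 51) 3 (word8 51) := V_ded2 cs (a := 3) (b := 6) (by decide) v8_51_6 v8_45_3 v8_45_6
theorem v8_36_1 : V cs (par cs K7) (word8 36) 1 (word8 36) := V_ded3 cs (a := 1) (b := 3) (by decide) v8_36_3 v8_32_1 v8_29_3 v8_29_1 v8_32_3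
theorem v8_42_1 : V cs (par cs K7) (word8 42) 1 (word8 42) := V_ded3 cs (a := 1) (b := 3) (by decide) v8_42_3 v8_37_1 v8_34_3 v8_34_1 v8_37_3
theorem v8_48_1 : V cs (par cs K7) (word8 48) 1 (word8 48) := V_ded3 cs (a := 1) (b := 3) (by decide) v8_48_3 v8_43_1 v8_39_3 v8_39_1 v8_43_3
theorem v8_49_1 : V cs (par cs K7) (word8 49) 1 (word8 49) := V_ded3 cs (a := 1) (b := 3) (by decide) v8_49_3 v8_44_1 v8_40_3 v8_40_1 v8_44_3
theorem v8_56_1 : V cs (par cs K7) (word8 56) 1 (word8 56) := V_ded3 cs (a := 1) (b := 3) (by decide) v8_56_3 v8_50_1 v8_45_3 v8_45_1 v8_50_3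
theorem v8_63_1 : V cs (par cs K7) (word8 63) 1 (word8 63) := V_ded3 cs (a := 1) (b := 3) (by decide) v8_63_3 v8_57_1 v8_51_3 v8_51_1 v8_57_3
theorem v8_55_1 : V cs (par cs K7) (word8 55) 1 (word8 55) := V_ded2 cs (a := 1) (b := 4) (by decide) v8_55_4 v8_48_1 v8_48_4
theorem v8_62_1 : V cs (par cs K7) (word8 62) 1 (word8 62) := V_ded2 cs (a := 1) (b := 4) (by decide) v8_62_4 v8_56_1 v8_56_4
theorem v8_69_1 : V cs (par cs K7) (word8 69) 1 (word8 69) := V_ded2 cs (a := 1) (b := 4) (by decide) v8_69_4 v8_63_1 v8_63_4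
theorem v8_76_1 : V cs (par cs K7) (word8 76) 1 (word8 76) := V_ded2 cs (a := 1) (b := 5) (by decide) v8_76_5 v8_69_1 v8_69_5
theorem v8_41_4 : V cs (par cs K7) (word8 41) 4 (word8 41) := V_ded2 cs (a := 4) (b := 2) (by decide) v8_41_2 v8_36_4 v8_36_2
theorem v8_47_4 : V cs (par cs K7) (word8 47) 4 (word8 47) := V_ded2 cs (a := 4) (b := 2) (by decide) v8_47_2 v8_42_4 v8_42_2
theorem v8_54_4 : V cs (par cs K7) (word8 54) 4 (word8 54) := V_ded2 cs (a := 4) (b := 2) (by decide) v8_54_2 v8_49_4 v8_49_2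
theorem v8_66_4 : V cs (par cs K7) (word8 66) 4 (word8 66) := V_ded3 cs (a := 4) (b := 3) (by decide) v8_66_3 v8_60_4 v8_53_3 v8_53_4 v8_60_3
theorem v8_74_4 : V cs (par cs K7) (word8 74) 4 (word8 74) := V_ded3 cs (a := 4) (b := 3) (by decide) v8_74_3 v8_67_4 v8_61_3 v8_61_4 v8_67_3
theorem v8_82_4 : V cs (par cs K7) (word8 82) 4 (word8 82) := V_ded3 cs (a := 4) (b := 3) (by decide) v8_82_3 v8_75_4 v8_68_3 v8_68_4 v8_75_3
theorem v8_73_4 : V cs (par cs K7) (word8 73) 4 (word8 73) := V_ded2 cs (a := 4) (b := 1) (by decide) v8_73_1 v8_66_4 v8_66_1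
theorem v8_81_4 : V cs (par cs K7) (word8 81) 4 (word8 81) := V_ded2 cs (a := 4) (b := 1) (by decide) v8_81_1 v8_74_4 v8_74_1
theorem v8_89_4 : V cs (par cs K7) (word8 89) 4 (word8 89) := V_ded2 cs (a := 4) (b := 1) (by decide) v8_89_1 v8_82_4 v8_82_1
theorem v8_39_4 : V cs (par cs K7) (word8 39) 4 (word8 39) := V_ded3 cs (a := 4) (b := 5) (by decide) v8_39_5 v8_34_4 v8_30_5 v8_30_4 v8_34_5
theorem v8_43_4 : V cs (par cs K7) (word8 43) 4 (word8 43) := V_ded3 cs (a := 4) (b := 5) (by decide) v8_43_5 v8_37_4 v8_33_5 v8_33_4 v8_37_5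
theorem v8_45_4 : V cs (par cs K7) (word8 45) 4 (word8 45) := V_ded3 cs (a := 4) (b := 5) (by decide) v8_45_5 v8_40_4 v8_35_5 v8_35_4 v8_40_5
theorem v8_50_4 : V cs (par cs K7) (word8 50) 4 (word8 50) := V_ded3 cs (a := 4) (b := 5) (by decide) v8_50_5 v8_44_4 v8_38_5 v8_38_4 v8_44_5
theorem v8_51_4 : V cs (par cs K7) (word8 51) 4 (word8 51) := V_ded2 cs (a := 4) (b := 6) (by decide) v8_51_6 v8_45_4 v8_45_6
theorem v8_57_4 : V cs (par cs K7) (word8 57) 4 (word8 57) := V_ded2 cs (a := 4) (b := 6) (by decide) v8_57_6 v8_50_4 v8_50_6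
theorem v8_41_5 : V cs (par cs K7) (word8 41) 5 (word8 41) := V_ded2 cs (a := 5) (b := 2) (by decide) v8_41_2 v8_36_5 v8_36_2
theorem v8_60_5 : V cs (par cs K7) (word8 60) 5 (word8 60) := V_ded2 cs (a := 5) (b := 2) (by decide) v8_60_2 v8_55_5 v8_55_2
theorem v8_67_5 : V cs (par cs K7) (word8 67) 5 (word8 67) := V_ded2 cs (a := 5) (b := 2) (by decide) v8_67_2 v8_62_5 v8_62_2
theorem v8_66_5 : V cs (par cs K7) (word8 66) 5 (word8 66) := V_ded2 cs (a := 5) (b := 3) (by decide) v8_66_3 v8_60_5 v8_60_3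
theorem v8_74_5 : V cs (par cs K7) (word8 74) 5 (word8 74) := V_ded2 cs (a := 5) (b := 3) (by decide) v8_74_3 v8_67_5 v8_67_3
theorem v8_73_5 : V cs (par cs K7) (word8 73) 5 (word8 73) := V_ded2 cs (a := 5) (b := 1) (by decide) v8_73_1 v8_66_5 v8_66_1
theorem v8_81_5 : V cs (par cs K7) (word8 81) 5 (word8 81) := V_ded2 cs (a := 5) (b := 1) (by decide) v8_81_1 v8_74_5 v8_74_1
theorem v8_97_5 : V cs (par cs K7) (word8 97) 5 (word8 97) := V_ded3 cs (a := 5) (b := 4) (by decide) v8_97_4 v8_90_5 v8_82_4 v8_82_5 v8_90_4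
theorem v8_104_5 : V cs (par cs K7) (word8 104) 5 (word8 104) := V_ded3 cs (a := 5) (b := 4) (by decide) v8_104_4 v8_96_5 v8_89_4 v8_89_5 v8_96_4
theorem v8_27_6 : V cs (par cs K7) (word8 27) 6 (word8 27) := V_ded2 cs (a := 6) (b := 0) (by decide) v8_27_0 v8_23_6 v8_23_0
theorem v8_31_6 : V cs (par cs K7) (word8 31) 6 (word8 31) := V_ded2 cs (a := 6) (b := 2) (by decide) v8_31_2 v8_27_6 v8_27_2
theorem v8_53_6 : V cs (par cs K7) (word8 53) 6 (word8 53) := V_ded2 cs (a := 6) (b := 2) (by decide) v8_53_2 v8_48_6 v8_48_2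
theorem v8_60_6 : V cs (par cs K7) (word8 60) 6 (word8 60) := V_ded2 cs (a := 6) (b := 2) (by decide) v8_60_2 v8_55_6 v8_55_2
theorem v8_83_6 : V cs (par cs K7) (word8 83) 6 (word8 83) := V_ded2 cs (a := 6) (b := 2) (by decide) v8_83_2 v8_76_6 v8_76_2
theorem v8_35_6 : V cs (par cs K7) (word8 35) 6 (word8 35) := V_ded2 cs (a := 6) (b := 3) (by decide) v8_35_3 v8_31_6 v8_31_3
theorem v8_66_6 : V cs (par cs K7) (word8 66) 6 (word8 66) := V_ded2 cs (a := 6) (b := 3) (by decide) v8_66_3 v8_60_6 v8_60_3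
theorem v8_90_6 : V cs (par cs K7) (word8 90) 6 (word8 90) := V_ded2 cs (a := 6) (b := 3) (by decide) v8_90_3 v8_83_6 v8_83_3
theorem v8_38_6 : V cs (par cs K7) (word8 38) 6 (word8 38) := V_ded2 cs (a := 6) (b := 1) (by decide) v8_38_1 v8_35_6 v8_35_1
theorem v8_73_6 : V cs (par cs K7) (word8 73) 6 (word8 73) := V_ded2 cs (a := 6) (b := 1) (by decide) v8_73_1 v8_66_6 v8_66_1
theorem v8_96_6 : V cs (par cs K7) (word8 96) 6 (word8 96) := V_ded2 cs (a := 6) (b := 1) (by decide) v8_96_1 v8_90_6 v8_90_1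
theorem v8_40_6 : V cs (par cs K7) (word8 40) 6 (word8 40) := V_ded2 cs (a := 6) (b := 4) (by decide) v8_40_4 v8_35_6 v8_35_4
theorem v8_44_6 : V cs (par cs K7) (word8 44) 6 (word8 44) := V_ded2 cs (a := 6) (b := 4) (by decide) v8_44_4 v8_38_6 v8_38_4
theorem v8_97_6 : V cs (par cs K7) (word8 97) 6 (word8 97) := V_ded2 cs (a := 6) (b := 4) (by decide) v8_97_4 v8_90_6 v8_90_4
theorem v8_104_6 : V cs (par cs K7) (word8 104) 6 (word8 104) := V_ded2 cs (a := 6) (b := 4) (by decide) v8_104_4 v8_96_6 v8_96_4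
theorem v8_68_7 : V cs (par cs K7) (word8 68) 7 (word8 68) := V_ded2 cs (a := 7) (b := 2) (by decide) v8_68_2 v8_63_7 v8_63_2
theorem v8_75_7 : V cs (par cs K7) (word8 75) 7 (word8 75) := V_ded2 cs (a := 7) (b := 2) (by decide) v8_75_2 v8_69_7 v8_69_2
theorem v8_83_7 : V cs (par cs K7) (word8 83) 7 (word8 83) := V_ded2 cs (a := 7) (b := 2) (by decide) v8_83_2 v8_76_7 v8_76_2
theorem v8_36_7 : V cs (par cs K7) (word8 36) 7 (word8 36) := V_ded2 cs (a := 7) (b := 3) (by decide) v8_36_3 v8_32_7 v8_32_3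
theorem v8_82_7 : V cs (par cs K7) (word8 82) 7 (word8 82) := V_ded2 cs (a := 7) (b := 3) (by decide) v8_82_3 v8_75_7 v8_75_3
theorem v8_90_7 : V cs (par cs K7) (word8 90) 7 (word8 90) := V_ded2 cs (a := 7) (b := 3) (by decide) v8_90_3 v8_83_7 v8_83_3
theorem v8_212_7 : V cs (par cs K7) (word8 212) 7 (word8 211) := V_ded2 cs (a := 7) (b := 3) (by decide) v8_211_3 v8_207_7 v8_208_3
theorem v8_211_7 : V cs (par cs K7) (word8 211) 7 (word8 212) := V_symm cs v8_212_7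
theorem v8_89_7 : V cs (par cs K7) (word8 89) 7 (word8 89) := V_ded2 cs (a := 7) (b := 1) (by decide) v8_89_1 v8_82_7 v8_82_1
theorem v8_96_7 : V cs (par cs K7) (word8 96) 7 (word8 96) := V_ded2 cs (a := 7) (b := 1) (by decide) v8_96_1 v8_90_7 v8_90_1
theorem v8_97_7 : V cs (par cs K7) (word8 97) 7 (word8 97) := V_ded2 cs (a := 7) (b := 4) (by decide) v8_97_4 v8_90_7 v8_90_4
theorem v8_104_7 : V cs (par cs K7) (word8 104) 7 (word8 104) := V_ded2 cs (a := 7) (b := 4) (by decide) v8_104_4 v8_96_7 v8_96_4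
theorem v8_36_0 : V cs (par cs K7) (word8 36) 0 (word8 36) := V_ded2 cs (a := 0) (b := 3) (by decide) v8_36_3 v8_32_0 v8_32_3
theorem v8_42_0 : V cs (par cs K7) (word8 42) 0 (word8 42) := V_ded2 cs (a := 0) (b := 3) (by decide) v8_42_3 v8_37_0 v8_37_3
theorem v8_48_0 : V cs (par cs K7) (word8 48) 0 (word8 48) := V_ded2 cs (a := 0) (b := 3) (by decide) v8_48_3 v8_43_0 v8_43_3
theorem v8_49_0 : V cs (par cs K7) (word8 49) 0 (word8 49) := V_ded2 cs (a := 0) (b := 3) (by decide) v8_49_3 v8_44_0 v8_44_3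
theorem v8_56_0 : V cs (par cs K7) (word8 56) 0 (word8 56) := V_ded2 cs (a := 0) (b := 3) (by decide) v8_56_3 v8_50_0 v8_50_3
theorem v8_63_0 : V cs (par cs K7) (word8 63) 0 (word8 63) := V_ded2 cs (a := 0) (b := 3) (by decide) v8_63_3 v8_57_0 v8_57_3
theorem v8_55_0 : V cs (par cs K7) (word8 55) 0 (word8 55) := V_ded2 cs (a := 0) (b := 4) (by decide) v8_55_4 v8_48_0 v8_48_4
theorem v8_62_0 : V cs (par cs K7) (word8 62) 0 (word8 62) := V_ded2 cs (a := 0) (b := 4) (by decide) v8_62_4 v8_56_0 v8_56_4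
theorem v8_69_0 : V cs (par cs K7) (word8 69) 0 (word8 69) := V_ded2 cs (a := 0) (b := 4) (by decide) v8_69_4 v8_63_0 v8_63_4
theorem v8_76_0 : V cs (par cs K7) (word8 76) 0 (word8 76) := V_ded2 cs (a := 0) (b := 5) (by decide) v8_76_5 v8_69_0 v8_69_5
theorem v8_46_2 : V cs (par cs K7) (word8 46) 2 (word8 46) := V_ded3 cs (a := 2) (b := 0) (by decide) v8_46_0 v8_41_2 v8_36_0 v8_36_2 v8_41_0
theorem v8_52_2 : V cs (par cs K7) (word8 52) 2 (word8 52) := V_ded3 cs (a := 2) (b := 0) (by decide) v8_52_0 v8_47_2 v8_42_0 v8_42_2 v8_47_0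
theorem v8_58_2 : V cs (par cs K7) (word8 58) 2 (word8 58) := V_ded3 cs (a := 2) (b := 0) (by decide) v8_58_0 v8_53_2 v8_48_0 v8_48_2 v8_53_0
theorem v8_59_2 : V cs (par cs K7) (word8 59) 2 (word8 59) := V_ded3 cs (a := 2) (b := 0) (by decide) v8_59_0 v8_54_2 v8_49_0 v8_49_2 v8_54_0
theorem v8_64_2 : V cs (par cs K7) (word8 64) 2 (word8 64) := V_ded3 cs (a := 2) (b := 0) (by decide) v8_64_0 v8_60_2 v8_55_0 v8_55_2 v8_60_0
theorem v8_65_2 : V cs (par cs K7) (word8 65) 2 (word8 65) := V_ded3 cs (a := 2) (b := 0) (by decide) v8_65_0 v8_61_2 v8_56_0 v8_56_2 v8_61_0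
theorem v8_71_2 : V cs (par cs K7) (word8 71) 2 (word8 71) := V_ded3 cs (a := 2) (b := 0) (by decide) v8_71_0 v8_67_2 v8_62_0 v8_62_2 v8_67_0
theorem v8_72_2 : V cs (par cs K7) (word8 72) 2 (word8 72) := V_ded3 cs (a := 2) (b := 0) (by decide) v8_72_0 v8_68_2 v8_63_0 v8_63_2 v8_68_0
theorem v8_80_2 : V cs (par cs K7) (word8 80) 2 (word8 80) := V_ded3 cs (a := 2) (b := 0) (by decide) v8_80_0 v8_75_2 v8_69_0 v8_69_2 v8_75_0
theorem v8_88_2 : V cs (par cs K7) (word8 88) 2 (word8 88) := V_ded3 cs (a := 2) (b := 0) (by decide) v8_88_0 v8_83_2 v8_76_0 v8_76_2 v8_83_0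
theorem v8_46_3 : V cs (par cs K7) (word8 46) 3 (word8 46) := V_ded2 cs (a := 3) (b := 0) (by decide) v8_46_0 v8_41_3 v8_41_0
theorem v8_52_3 : V cs (par cs K7) (word8 52) 3 (word8 52) := V_ded2 cs (a := 3) (b := 0) (by decide) v8_52_0 v8_47_3 v8_47_0
theorem v8_58_3 : V cs (par cs K7) (word8 58) 3 (word8 58) := V_ded2 cs (a := 3) (b := 0) (by decide) v8_58_0 v8_53_3 v8_53_0
theorem v8_59_3 : V cs (par cs K7) (word8 59) 3 (word8 59) := V_ded2 cs (a := 3) (b := 0) (by decide) v8_59_0 v8_54_3 v8_54_0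
theorem v8_65_3 : V cs (par cs K7) (word8 65) 3 (word8 65) := V_ded2 cs (a := 3) (b := 0) (by decide) v8_65_0 v8_61_3 v8_61_0
theorem v8_72_3 : V cs (par cs K7) (word8 72) 3 (word8 72) := V_ded2 cs (a := 3) (b := 0) (by decide) v8_72_0 v8_68_3 v8_68_0
theorem v8_77_3 : V cs (par cs K7) (word8 77) 3 (word8 77) := V_ded3 cs (a := 3) (b := 2) (by decide) v8_77_2 v8_70_3 v8_64_2 v8_64_3 v8_70_2
theorem v8_85_3 : V cs (par cs K7) (word8 85) 3 (word8 85) := V_ded3 cs (a := 3) (b := 2) (by decide) v8_85_2 v8_79_3 v8_71_2 v8_71_3 v8_79_2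
theorem v8_93_3 : V cs (par cs K7) (word8 93) 3 (word8 93) := V_ded3 cs (a := 3) (b := 2) (by decide) v8_93_2 v8_87_3 v8_80_2 v8_80_3 v8_87_2
theorem v8_101_3 : V cs (par cs K7) (word8 101) 3 (word8 101) := V_ded3 cs (a := 3) (b := 2) (by decide) v8_101_2 v8_95_3 v8_88_2 v8_88_3 v8_95_2
theorem v8_55_3 : V cs (par cs K7) (word8 55) 3 (word8 55) := V_ded3 cs (a := 3) (b := 4) (by decide) v8_55_4 v8_48_3 v8_43_4 v8_43_3 v8_48_4
theorem v8_62_3 : V cs (par cs K7) (word8 62) 3 (word8 62) := V_ded3 cs (a := 3) (b := 4) (by decide) v8_62_4 v8_56_3 v8_50_4 v8_50_3 v8_56_4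
theorem v8_69_3 : V cs (par cs K7) (word8 69) 3 (word8 69) := V_ded3 cs (a := 3) (b := 4) (by decide) v8_69_4 v8_63_3 v8_57_4 v8_57_3 v8_63_4
theorem v8_76_3 : V cs (par cs K7) (word8 76) 3 (word8 76) := V_ded2 cs (a := 3) (b := 5) (by decide) v8_76_5 v8_69_3 v8_69_5
theorem v8_41_1 : V cs (par cs K7) (word8 41) 1 (word8 41) := V_ded2 cs (a := 1) (b := 2) (by decide) v8_41_2 v8_36_1 v8_36_2
theorem v8_47_1 : V cs (par cs K7) (word8 47) 1 (word8 47) := V_ded2 cs (a := 1) (b := 2) (by decide) v8_47_2 v8_42_1 v8_42_2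
theorem v8_53_1 : V cs (par cs K7) (word8 53) 1 (word8 53) := V_ded2 cs (a := 1) (b := 2) (by decide) v8_53_2 v8_48_1 v8_48_2
theorem v8_54_1 : V cs (par cs K7) (word8 54) 1 (word8 54) := V_ded2 cs (a := 1) (b := 2) (by decide) v8_54_2 v8_49_1 v8_49_2
theorem v8_60_1 : V cs (par cs K7) (word8 60) 1 (word8 60) := V_ded2 cs (a := 1) (b := 2) (by decide) v8_60_2 v8_55_1 v8_55_2
theorem v8_61_1 : V cs (par cs K7) (word8 61) 1 (word8 61) := V_ded2 cs (a := 1) (b := 2) (by decide) v8_61_2 v8_56_1 v8_56_2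
theorem v8_67_1 : V cs (par cs K7) (word8 67) 1 (word8 67) := V_ded2 cs (a := 1) (b := 2) (by decide) v8_67_2 v8_62_1 v8_62_2
theorem v8_68_1 : V cs (par cs K7) (word8 68) 1 (word8 68) := V_ded2 cs (a := 1) (b := 2) (by decide) v8_68_2 v8_63_1 v8_63_2
theorem v8_75_1 : V cs (par cs K7) (word8 75) 1 (word8 75) := V_ded2 cs (a := 1) (b := 2) (by decide) v8_75_2 v8_69_1 v8_69_2
theorem v8_83_1 : V cs (par cs K7) (word8 83) 1 (word8 83) := V_ded2 cs (a := 1) (b := 2) (by decide) v8_83_2 v8_76_1 v8_76_2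
theorem v8_91_1 : V cs (par cs K7) (word8 91) 1 (word8 91) := V_ded3 cs (a := 1) (b := 3) (by decide) v8_91_3 v8_84_1 v8_77_3 v8_77_1 v8_84_3
theorem v8_99_1 : V cs (par cs K7) (word8 99) 1 (word8 99) := V_ded3 cs (a := 1) (b := 3) (by decide) v8_99_3 v8_92_1 v8_85_3 v8_85_1 v8_92_3
theorem v8_107_1 : V cs (par cs K7) (word8 107) 1 (word8 107) := V_ded3 cs (a := 1) (b := 3) (by decide) v8_107_3 v8_100_1 v8_93_3 v8_93_1 v8_100_3
theorem v8_115_1 : V cs (par cs K7) (word8 115) 1 (word8 115) := V_ded3 cs (a := 1) (b := 3) (by decide) v8_115_3 v8_108_1 v8_101_3 v8_101_1 v8_108_3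
theorem v8_98_1 : V cs (par cs K7) (word8 98) 1 (word8 98) := V_ded2 cs (a := 1) (b := 4) (by decide) v8_98_4 v8_91_1 v8_91_4
theorem v8_106_1 : V cs (par cs K7) (word8 106) 1 (word8 106) := V_ded2 cs (a := 1) (b := 4) (by decide) v8_106_4 v8_99_1 v8_99_4
theorem v8_114_1 : V cs (par cs K7) (word8 114) 1 (word8 114) := V_ded2 cs (a := 1) (b := 4) (by decide) v8_114_4 v8_107_1 v8_107_4
theorem v8_123_1 : V cs (par cs K7) (word8 123) 1 (word8 123) := V_ded2 cs (a := 1) (b := 4) (by decide) v8_123_4 v8_115_1 v8_115_4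
theorem v8_105_1 : V cs (par cs K7) (word8 105) 1 (word8 105) := V_ded2 cs (a := 1) (b := 5) (by decide) v8_105_5 v8_98_1 v8_98_5
theorem v8_113_1 : V cs (par cs K7) (word8 113) 1 (word8 113) := V_ded2 cs (a := 1) (b := 5) (by decide) v8_113_5 v8_106_1 v8_106_5
theorem v8_122_1 : V cs (par cs K7) (word8 122) 1 (word8 122) := V_ded2 cs (a := 1) (b := 5) (by decide) v8_122_5 v8_114_1 v8_114_5
theorem v8_130_1 : V cs (par cs K7) (word8 130) 1 (word8 130) := V_ded2 cs (a := 1) (b := 5) (by decide) v8_130_5 v8_123_1 v8_123_5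
theorem v8_112_1 : V cs (par cs K7) (word8 112) 1 (word8 112) := V_ded2 cs (a := 1) (b := 6) (by decide) v8_112_6 v8_105_1 v8_105_6
theorem v8_121_1 : V cs (par cs K7) (word8 121) 1 (word8 121) := V_ded2 cs (a := 1) (b := 6) (by decide) v8_121_6 v8_113_1 v8_113_6
theorem v8_129_1 : V cs (par cs K7) (word8 129) 1 (word8 129) := V_ded2 cs (a := 1) (b := 6) (by decide) v8_129_6 v8_122_1 v8_122_6
theorem v8_136_1 : V cs (par cs K7) (word8 136) 1 (word8 136) := V_ded2 cs (a := 1) (b := 6) (by decide) v8_136_6 v8_130_1 v8_130_6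
theorem v8_120_1 : V cs (par cs K7) (word8 120) 1 (word8 120) := V_ded2 cs (a := 1) (b := 7) (by decide) v8_120_7 v8_112_1 v8_112_7
theorem v8_128_1 : V cs (par cs K7) (word8 128) 1 (word8 128) := V_ded2 cs (a := 1) (b := 7) (by decide) v8_128_7 v8_121_1 v8_121_7
theorem v8_135_1 : V cs (par cs K7) (word8 135) 1 (word8 135) := V_ded2 cs (a := 1) (b := 7) (by decide) v8_135_7 v8_129_1 v8_129_7
theorem v8_142_1 : V cs (par cs K7) (word8 142) 1 (word8 142) := V_ded2 cs (a := 1) (b := 7) (by decide) v8_142_7 v8_136_1 v8_136_7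
theorem v8_46_4 : V cs (par cs K7) (word8 46) 4 (word8 46) := V_ded2 cs (a := 4) (b := 0) (by decide) v8_46_0 v8_41_4 v8_41_0
theorem v8_52_4 : V cs (par cs K7) (word8 52) 4 (word8 52) := V_ded2 cs (a := 4) (b := 0) (by decide) v8_52_0 v8_47_4 v8_47_0
theorem v8_59_4 : V cs (par cs K7) (word8 59) 4 (word8 59) := V_ded2 cs (a := 4) (b := 0) (by decide) v8_59_0 v8_54_4 v8_54_0
theorem v8_70_4 : V cs (par cs K7) (word8 70) 4 (word8 70) := V_ded2 cs (a := 4) (b := 0) (by decide) v8_70_0 v8_66_4 v8_66_0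
theorem v8_78_4 : V cs (par cs K7) (word8 78) 4 (word8 78) := V_ded2 cs (a := 4) (b := 0) (by decide) v8_78_0 v8_73_4 v8_73_0
theorem v8_79_4 : V cs (par cs K7) (word8 79) 4 (word8 79) := V_ded2 cs (a := 4) (b := 0) (by decide) v8_79_0 v8_74_4 v8_74_0
theorem v8_86_4 : V cs (par cs K7) (word8 86) 4 (word8 86) := V_ded2 cs (a := 4) (b := 0) (by decide) v8_86_0 v8_81_4 v8_81_0
theorem v8_87_4 : V cs (par cs K7) (word8 87) 4 (word8 87) := V_ded2 cs (a := 4) (b := 0) (by decide) v8_87_0 v8_82_4 v8_82_0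
theorem v8_94_4 : V cs (par cs K7) (word8 94) 4 (word8 94) := V_ded2 cs (a := 4) (b := 0) (by decide) v8_94_0 v8_89_4 v8_89_0
theorem v8_77_4 : V cs (par cs K7) (word8 77) 4 (word8 77) := V_ded2 cs (a := 4) (b := 2) (by decide) v8_77_2 v8_70_4 v8_70_2
theorem v8_84_4 : V cs (par cs K7) (word8 84) 4 (word8 84) := V_ded2 cs (a := 4) (b := 2) (by decide) v8_84_2 v8_78_4 v8_78_2
theorem v8_85_4 : V cs (par cs K7) (word8 85) 4 (word8 85) := V_ded2 cs (a := 4) (b := 2) (by decide) v8_85_2 v8_79_4 v8_79_2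
theorem v8_92_4 : V cs (par cs K7) (word8 92) 4 (word8 92) := V_ded2 cs (a := 4) (b := 2) (by decide) v8_92_2 v8_86_4 v8_86_2
theorem v8_93_4 : V cs (par cs K7) (word8 93) 4 (word8 93) := V_ded2 cs (a := 4) (b := 2) (by decide) v8_93_2 v8_87_4 v8_87_2
theorem v8_100_4 : V cs (par cs K7) (word8 100) 4 (word8 100) := V_ded2 cs (a := 4) (b := 2) (by decide) v8_100_2 v8_94_4 v8_94_2
theorem v8_117_4 : V cs (par cs K7) (word8 117) 4 (word8 117) := V_ded3 cs (a := 4) (b := 3) (by decide) v8_117_3 v8_109_4 v8_101_3 v8_101_4 v8_109_3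
theorem v8_125_4 : V cs (par cs K7) (word8 125) 4 (word8 125) := V_ded2 cs (a := 4) (b := 1) (by decide) v8_125_1 v8_117_4 v8_117_1
theorem v8_46_5 : V cs (par cs K7) (word8 46) 5 (word8 46) := V_ded2 cs (a := 5) (b := 0) (by decide) v8_46_0 v8_41_5 v8_41_0
theorem v8_64_5 : V cs (par cs K7) (word8 64) 5 (word8 64) := V_ded2 cs (a := 5) (b := 0) (by decide) v8_64_0 v8_60_5 v8_60_0
theorem v8_70_5 : V cs (par cs K7) (word8 70) 5 (word8 70) := V_ded2 cs (a := 5) (b := 0) (by decide) v8_70_0 v8_66_5 v8_66_0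
theorem v8_71_5 : V cs (par cs K7) (word8 71) 5 (word8 71) := V_ded2 cs (a := 5) (b := 0) (by decide) v8_71_0 v8_67_5 v8_67_0
theorem v8_78_5 : V cs (par cs K7) (word8 78) 5 (word8 78) := V_ded2 cs (a := 5) (b := 0) (by decide) v8_78_0 v8_73_5 v8_73_0
theorem v8_79_5 : V cs (par cs K7) (word8 79) 5 (word8 79) := V_ded2 cs (a := 5) (b := 0) (by decide) v8_79_0 v8_74_5 v8_74_0
theorem v8_86_5 : V cs (par cs K7) (word8 86) 5 (word8 86) := V_ded2 cs (a := 5) (b := 0) (by decide) v8_86_0 v8_81_5 v8_81_0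
theorem v8_103_5 : V cs (par cs K7) (word8 103) 5 (word8 103) := V_ded2 cs (a := 5) (b := 0) (by decide) v8_103_0 v8_97_5 v8_97_0
theorem v8_110_5 : V cs (par cs K7) (word8 110) 5 (word8 110) := V_ded2 cs (a := 5) (b := 0) (by decide) v8_110_0 v8_104_5 v8_104_0
theorem v8_77_5 : V cs (par cs K7) (word8 77) 5 (word8 77) := V_ded2 cs (a := 5) (b := 2) (by decide) v8_77_2 v8_70_5 v8_70_2
theorem v8_84_5 : V cs (par cs K7) (word8 84) 5 (word8 84) := V_ded2 cs (a := 5) (b := 2) (by decide) v8_84_2 v8_78_5 v8_78_2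
theorem v8_85_5 : V cs (par cs K7) (word8 85) 5 (word8 85) := V_ded2 cs (a := 5) (b := 2) (by decide) v8_85_2 v8_79_5 v8_79_2
theorem v8_92_5 : V cs (par cs K7) (word8 92) 5 (word8 92) := V_ded2 cs (a := 5) (b := 2) (by decide) v8_92_2 v8_86_5 v8_86_2
theorem v8_109_5 : V cs (par cs K7) (word8 109) 5 (word8 109) := V_ded2 cs (a := 5) (b := 2) (by decide) v8_109_2 v8_103_5 v8_103_2
theorem v8_116_5 : V cs (par cs K7) (word8 116) 5 (word8 116) := V_ded2 cs (a := 5) (b := 2) (by decide) v8_116_2 v8_110_5 v8_110_2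
theorem v8_91_5 : V cs (par cs K7) (word8 91) 5 (word8 91) := V_ded2 cs (a := 5) (b := 3) (by decide) v8_91_3 v8_84_5 v8_84_3
theorem v8_99_5 : V cs (par cs K7) (word8 99) 5 (word8 99) := V_ded2 cs (a := 5) (b := 3) (by decide) v8_99_3 v8_92_5 v8_92_3
theorem v8_111_5 : V cs (par cs K7) (word8 111) 5 (word8 111) := V_ded2 cs (a := 5) (b := 3) (by decide) v8_111_3 v8_104_5 v8_104_3
theorem v8_117_5 : V cs (par cs K7) (word8 117) 5 (word8 117) := V_ded2 cs (a := 5) (b := 3) (by decide) v8_117_3 v8_109_5 v8_109_3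
theorem v8_118_5 : V cs (par cs K7) (word8 118) 5 (word8 118) := V_ded2 cs (a := 5) (b := 3) (by decide) v8_118_3 v8_110_5 v8_110_3
theorem v8_124_5 : V cs (par cs K7) (word8 124) 5 (word8 124) := V_ded2 cs (a := 5) (b := 3) (by decide) v8_124_3 v8_116_5 v8_116_3
theorem v8_125_5 : V cs (par cs K7) (word8 125) 5 (word8 125) := V_ded2 cs (a := 5) (b := 1) (by decide) v8_125_1 v8_117_5 v8_117_1
theorem v8_133_5 : V cs (par cs K7) (word8 133) 5 (word8 133) := V_ded2 cs (a := 5) (b := 1) (by decide) v8_133_1 v8_124_5 v8_124_1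
theorem v8_51_5 : V cs (par cs K7) (word8 51) 5 (word8 51) := V_ded3 cs (a := 5) (b := 6) (by decide) v8_51_6 v8_45_5 v8_40_6 v8_40_5 v8_45_6
theorem v8_57_5 : V cs (par cs K7) (word8 57) 5 (word8 57) := V_ded3 cs (a := 5) (b := 6) (by decide) v8_57_6 v8_50_5 v8_44_6 v8_44_5 v8_50_6
theorem v8_58_6 : V cs (par cs K7) (word8 58) 6 (word8 58) := V_ded2 cs (a := 6) (b := 0) (by decide) v8_58_0 v8_53_6 v8_53_0
theorem v8_64_6 : V cs (par cs K7) (word8 64) 6 (word8 64) := V_ded2 cs (a := 6) (b := 0) (by decide) v8_64_0 v8_60_6 v8_60_0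
theorem v8_70_6 : V cs (par cs K7) (word8 70) 6 (word8 70) := V_ded2 cs (a := 6) (b := 0) (by decide) v8_70_0 v8_66_6 v8_66_0
theorem v8_78_6 : V cs (par cs K7) (word8 78) 6 (word8 78) := V_ded2 cs (a := 6) (b := 0) (by decide) v8_78_0 v8_73_6 v8_73_0
theorem v8_88_6 : V cs (par cs K7) (word8 88) 6 (word8 88) := V_ded2 cs (a := 6) (b := 0) (by decide) v8_88_0 v8_83_6 v8_83_0
theorem v8_95_6 : V cs (par cs K7) (word8 95) 6 (word8 95) := V_ded2 cs (a := 6) (b := 0) (by decide) v8_95_0 v8_90_6 v8_90_0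
theorem v8_102_6 : V cs (par cs K7) (word8 102) 6 (word8 102) := V_ded2 cs (a := 6) (b := 0) (by decide) v8_102_0 v8_96_6 v8_96_0
theorem v8_103_6 : V cs (par cs K7) (word8 103) 6 (word8 103) := V_ded2 cs (a := 6) (b := 0) (by decide) v8_103_0 v8_97_6 v8_97_0
theorem v8_110_6 : V cs (par cs K7) (word8 110) 6 (word8 110) := V_ded2 cs (a := 6) (b := 0) (by decide) v8_110_0 v8_104_6 v8_104_0
theorem v8_77_6 : V cs (par cs K7) (word8 77) 6 (word8 77) := V_ded2 cs (a := 6) (b := 2) (by decide) v8_77_2 v8_70_6 v8_70_2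
theorem v8_84_6 : V cs (par cs K7) (word8 84) 6 (word8 84) := V_ded2 cs (a := 6) (b := 2) (by decide) v8_84_2 v8_78_6 v8_78_2
theorem v8_101_6 : V cs (par cs K7) (word8 101) 6 (word8 101) := V_ded2 cs (a := 6) (b := 2) (by decide) v8_101_2 v8_95_6 v8_95_2
theorem v8_108_6 : V cs (par cs K7) (word8 108) 6 (word8 108) := V_ded2 cs (a := 6) (b := 2) (by decide) v8_108_2 v8_102_6 v8_102_2
theorem v8_109_6 : V cs (par cs K7) (word8 109) 6 (word8 109) := V_ded2 cs (a := 6) (b := 2) (by decide) v8_109_2 v8_103_6 v8_103_2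
theorem v8_116_6 : V cs (par cs K7) (word8 116) 6 (word8 116) := V_ded2 cs (a := 6) (b := 2) (by decide) v8_116_2 v8_110_6 v8_110_2
theorem v8_49_6 : V cs (par cs K7) (word8 49) 6 (word8 49) := V_ded2 cs (a := 6) (b := 3) (by decide) v8_49_3 v8_44_6 v8_44_3
theorem v8_91_6 : V cs (par cs K7) (word8 91) 6 (word8 91) := V_ded2 cs (a := 6) (b := 3) (by decide) v8_91_3 v8_84_6 v8_84_3
theorem v8_111_6 : V cs (par cs K7) (word8 111) 6 (word8 111) := V_ded2 cs (a := 6) (b := 3) (by decide) v8_111_3 v8_104_6 v8_104_3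
theorem v8_115_6 : V cs (par cs K7) (word8 115) 6 (word8 115) := V_ded2 cs (a := 6) (b := 3) (by decide) v8_115_3 v8_108_6 v8_108_3
theorem v8_117_6 : V cs (par cs K7) (word8 117) 6 (word8 117) := V_ded2 cs (a := 6) (b := 3) (by decide) v8_117_3 v8_109_6 v8_109_3
theorem v8_118_6 : V cs (par cs K7) (word8 118) 6 (word8 118) := V_ded2 cs (a := 6) (b := 3) (by decide) v8_118_3 v8_110_6 v8_110_3
theorem v8_124_6 : V cs (par cs K7) (word8 124) 6 (word8 124) := V_ded2 cs (a := 6) (b := 3) (by decide) v8_124_3 v8_116_6 v8_116_3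
theorem v8_125_6 : V cs (par cs K7) (word8 125) 6 (word8 125) := V_ded2 cs (a := 6) (b := 1) (by decide) v8_125_1 v8_117_6 v8_117_1
theorem v8_133_6 : V cs (par cs K7) (word8 133) 6 (word8 133) := V_ded2 cs (a := 6) (b := 1) (by decide) v8_133_1 v8_124_6 v8_124_1
theorem v8_98_6 : V cs (par cs K7) (word8 98) 6 (word8 98) := V_ded2 cs (a := 6) (b := 4) (by decide) v8_98_4 v8_91_6 v8_91_4
theorem v8_123_6 : V cs (par cs K7) (word8 123) 6 (word8 123) := V_ded2 cs (a := 6) (b := 4) (by decide) v8_123_4 v8_115_6 v8_115_4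
theorem v8_131_6 : V cs (par cs K7) (word8 131) 6 (word8 131) := V_ded2 cs (a := 6) (b := 4) (by decide) v8_131_4 v8_124_6 v8_124_4
theorem v8_139_6 : V cs (par cs K7) (word8 139) 6 (word8 139) := V_ded2 cs (a := 6) (b := 4) (by decide) v8_139_4 v8_133_6 v8_133_4
theorem v8_72_7 : V cs (par cs K7) (word8 72) 7 (word8 72) := V_ded2 cs (a := 7) (b := 0) (by decide) v8_72_0 v8_68_7 v8_68_0
theorem v8_80_7 : V cs (par cs K7) (word8 80) 7 (word8 80) := V_ded2 cs (a := 7) (b := 0) (by decide) v8_80_0 v8_75_7 v8_75_0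
theorem v8_87_7 : V cs (par cs K7) (word8 87) 7 (word8 87) := V_ded2 cs (a := 7) (b := 0) (by decide) v8_87_0 v8_82_7 v8_82_0
theorem v8_88_7 : V cs (par cs K7) (word8 88) 7 (word8 88) := V_ded2 cs (a := 7) (b := 0) (by decide) v8_88_0 v8_83_7 v8_83_0
theorem v8_94_7 : V cs (par cs K7) (word8 94) 7 (word8 94) := V_ded2 cs (a := 7) (b := 0) (by decide) v8_94_0 v8_89_7 v8_89_0
theorem v8_95_7 : V cs (par cs K7) (word8 95) 7 (word8 95) := V_ded2 cs (a := 7) (b := 0) (by decide) v8_95_0 v8_90_7 v8_90_0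
theorem v8_102_7 : V cs (par cs K7) (word8 102) 7 (word8 102) := V_ded2 cs (a := 7) (b := 0) (by decide) v8_102_0 v8_96_7 v8_96_0
theorem v8_103_7 : V cs (par cs K7) (word8 103) 7 (word8 103) := V_ded2 cs (a := 7) (b := 0) (by decide) v8_103_0 v8_97_7 v8_97_0
theorem v8_110_7 : V cs (par cs K7) (word8 110) 7 (word8 110) := V_ded2 cs (a := 7) (b := 0) (by decide) v8_110_0 v8_104_7 v8_104_0
theorem v8_41_7 : V cs (par cs K7) (word8 41) 7 (word8 41) := V_ded2 cs (a := 7) (b := 2) (by decide) v8_41_2 v8_36_7 v8_36_2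
theorem v8_93_7 : V cs (par cs K7) (word8 93) 7 (word8 93) := V_ded2 cs (a := 7) (b := 2) (by decide) v8_93_2 v8_87_7 v8_87_2
theorem v8_100_7 : V cs (par cs K7) (word8 100) 7 (word8 100) := V_ded2 cs (a := 7) (b := 2) (by decide) v8_100_2 v8_94_7 v8_94_2
theorem v8_101_7 : V cs (par cs K7) (word8 101) 7 (word8 101) := V_ded2 cs (a := 7) (b := 2) (by decide) v8_101_2 v8_95_7 v8_95_2
theorem v8_108_7 : V cs (par cs K7) (word8 108) 7 (word8 108) := V_ded2 cs (a := 7) (b := 2) (by decide) v8_108_2 v8_102_7 v8_102_2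
theorem v8_109_7 : V cs (par cs K7) (word8 109) 7 (word8 109) := V_ded2 cs (a := 7) (b := 2) (by decide) v8_109_2 v8_103_7 v8_103_2
theorem v8_116_7 : V cs (par cs K7) (word8 116) 7 (word8 116) := V_ded2 cs (a := 7) (b := 2) (by decide) v8_116_2 v8_110_7 v8_110_2
theorem v8_216_7 : V cs (par cs K7) (word8 216) 7 (word8 215) := V_ded2 cs (a := 7) (b := 2) (by decide) v8_215_2 v8_211_7 v8_212_2
theorem v8_215_7 : V cs (par cs K7) (word8 215) 7 (word8 216) := V_symm cs v8_216_7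
theorem v8_107_7 : V cs (par cs K7) (word8 107) 7 (word8 107) := V_ded2 cs (a := 7) (b := 3) (by decide) v8_107_3 v8_100_7 v8_100_3
theorem v8_111_7 : V cs (par cs K7) (word8 111) 7 (word8 111) := V_ded2 cs (a := 7) (b := 3) (by decide) v8_111_3 v8_104_7 v8_104_3
theorem v8_115_7 : V cs (par cs K7) (word8 115) 7 (word8 115) := V_ded2 cs (a := 7) (b := 3) (by decide) v8_115_3 v8_108_7 v8_108_3
theorem v8_117_7 : V cs (par cs K7) (word8 117) 7 (word8 117) := V_ded2 cs (a := 7) (b := 3) (by decide) v8_117_3 v8_109_7 v8_109_3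
theorem v8_118_7 : V cs (par cs K7) (word8 118) 7 (word8 118) := V_ded2 cs (a := 7) (b := 3) (by decide) v8_118_3 v8_110_7 v8_110_3
theorem v8_124_7 : V cs (par cs K7) (word8 124) 7 (word8 124) := V_ded2 cs (a := 7) (b := 3) (by decide) v8_124_3 v8_116_7 v8_116_3
theorem v8_125_7 : V cs (par cs K7) (word8 125) 7 (word8 125) := V_ded2 cs (a := 7) (b := 1) (by decide) v8_125_1 v8_117_7 v8_117_1
theorem v8_133_7 : V cs (par cs K7) (word8 133) 7 (word8 133) := V_ded2 cs (a := 7) (b := 1) (by decide) v8_133_1 v8_124_7 v8_124_1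
theorem v8_114_7 : V cs (par cs K7) (word8 114) 7 (word8 114) := V_ded2 cs (a := 7) (b := 4) (by decide) v8_114_4 v8_107_7 v8_107_4
theorem v8_123_7 : V cs (par cs K7) (word8 123) 7 (word8 123) := V_ded2 cs (a := 7) (b := 4) (by decide) v8_123_4 v8_115_7 v8_115_4
theorem v8_131_7 : V cs (par cs K7) (word8 131) 7 (word8 131) := V_ded2 cs (a := 7) (b := 4) (by decide) v8_131_4 v8_124_7 v8_124_4
theorem v8_139_7 : V cs (par cs K7) (word8 139) 7 (word8 139) := V_ded2 cs (a := 7) (b := 4) (by decide) v8_139_4 v8_133_7 v8_133_4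
theorem v8_122_7 : V cs (par cs K7) (word8 122) 7 (word8 122) := V_ded2 cs (a := 7) (b := 5) (by decide) v8_122_5 v8_114_7 v8_114_5
theorem v8_130_7 : V cs (par cs K7) (word8 130) 7 (word8 130) := V_ded2 cs (a := 7) (b := 5) (by decide) v8_130_5 v8_123_7 v8_123_5
theorem v8_137_7 : V cs (par cs K7) (word8 137) 7 (word8 137) := V_ded2 cs (a := 7) (b := 5) (by decide) v8_137_5 v8_131_7 v8_131_5
theorem v8_145_7 : V cs (par cs K7) (word8 145) 7 (word8 145) := V_ded2 cs (a := 7) (b := 5) (by decide) v8_145_5 v8_139_7 v8_139_5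
theorem v8_66_2 : V cs (par cs K7) (word8 66) 2 (word8 66) := V_ded3 cs (a := 2) (b := 3) (by decide) v8_66_3 v8_60_2 v8_55_3 v8_55_2 v8_60_3
theorem v8_74_2 : V cs (par cs K7) (word8 74) 2 (word8 74) := V_ded3 cs (a := 2) (b := 3) (by decide) v8_74_3 v8_67_2 v8_62_3 v8_62_2 v8_67_3
theorem v8_82_2 : V cs (par cs K7) (word8 82) 2 (word8 82) := V_ded3 cs (a := 2) (b := 3) (by decide) v8_82_3 v8_75_2 v8_69_3 v8_69_2 v8_75_3
theorem v8_90_2 : V cs (par cs K7) (word8 90) 2 (word8 90) := V_ded3 cs (a := 2) (b := 3) (by decide) v8_90_3 v8_83_2 v8_76_3 v8_76_2 v8_83_3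
theorem v8_73_2 : V cs (par cs K7) (word8 73) 2 (word8 73) := V_ded2 cs (a := 2) (b := 1) (by decide) v8_73_1 v8_66_2 v8_66_1
theorem v8_81_2 : V cs (par cs K7) (word8 81) 2 (word8 81) := V_ded2 cs (a := 2) (b := 1) (by decide) v8_81_1 v8_74_2 v8_74_1
theorem v8_89_2 : V cs (par cs K7) (word8 89) 2 (word8 89) := V_ded2 cs (a := 2) (b := 1) (by decide) v8_89_1 v8_82_2 v8_82_1
theorem v8_96_2 : V cs (par cs K7) (word8 96) 2 (word8 96) := V_ded2 cs (a := 2) (b := 1) (by decide) v8_96_1 v8_90_2 v8_90_1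
theorem v8_97_2 : V cs (par cs K7) (word8 97) 2 (word8 97) := V_ded2 cs (a := 2) (b := 4) (by decide) v8_97_4 v8_90_2 v8_90_4
theorem v8_104_2 : V cs (par cs K7) (word8 104) 2 (word8 104) := V_ded2 cs (a := 2) (b := 4) (by decide) v8_104_4 v8_96_2 v8_96_4
theorem v8_119_3 : V cs (par cs K7) (word8 119) 3 (word8 119) := V_ded3 cs (a := 3) (b := 2) (by decide) v8_119_2 v8_111_3 v8_104_2 v8_104_3 v8_111_2
theorem v8_73_3 : V cs (par cs K7) (word8 73) 3 (word8 73) := V_ded3 cs (a := 3) (b := 1) (by decide) v8_73_1 v8_66_3 v8_60_1 v8_60_3 v8_66_1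
theorem v8_81_3 : V cs (par cs K7) (word8 81) 3 (word8 81) := V_ded3 cs (a := 3) (b := 1) (by decide) v8_81_1 v8_74_3 v8_67_1 v8_67_3 v8_74_1
theorem v8_89_3 : V cs (par cs K7) (word8 89) 3 (word8 89) := V_ded3 cs (a := 3) (b := 1) (by decide) v8_89_1 v8_82_3 v8_75_1 v8_75_3 v8_82_1
theorem v8_96_3 : V cs (par cs K7) (word8 96) 3 (word8 96) := V_ded3 cs (a := 3) (b := 1) (by decide) v8_96_1 v8_90_3 v8_83_1 v8_83_3 v8_90_1
theorem v8_139_3 : V cs (par cs K7) (word8 139) 3 (word8 139) := V_ded3 cs (a := 3) (b := 1) (by decide) v8_139_1 v8_131_3 v8_123_1 v8_123_3 v8_131_1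
theorem v8_145_3 : V cs (par cs K7) (word8 145) 3 (word8 145) := V_ded3 cs (a := 3) (b := 1) (by decide) v8_145_1 v8_137_3 v8_130_1 v8_130_3 v8_137_1
theorem v8_151_3 : V cs (par cs K7) (word8 151) 3 (word8 151) := V_ded3 cs (a := 3) (b := 1) (by decide) v8_151_1 v8_143_3 v8_136_1 v8_136_3 v8_143_1
theorem v8_157_3 : V cs (par cs K7) (word8 157) 3 (word8 157) := V_ded3 cs (a := 3) (b := 1) (by decide) v8_157_1 v8_149_3 v8_142_1 v8_142_3 v8_149_1
theorem v8_98_3 : V cs (par cs K7) (word8 98) 3 (word8 98) := V_ded3 cs (a := 3) (b := 4) (by decide) v8_98_4 v8_91_3 v8_84_4 v8_84_3 v8_91_4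
theorem v8_106_3 : V cs (par cs K7) (word8 106) 3 (word8 106) := V_ded3 cs (a := 3) (b := 4) (by decide) v8_106_4 v8_99_3 v8_92_4 v8_92_3 v8_99_4
theorem v8_114_3 : V cs (par cs K7) (word8 114) 3 (word8 114) := V_ded3 cs (a := 3) (b := 4) (by decide) v8_114_4 v8_107_3 v8_100_4 v8_100_3 v8_107_4
theorem v8_105_3 : V cs (par cs K7) (word8 105) 3 (word8 105) := V_ded2 cs (a := 3) (b := 5) (by decide) v8_105_5 v8_98_3 v8_98_5
theorem v8_113_3 : V cs (par cs K7) (word8 113) 3 (word8 113) := V_ded2 cs (a := 3) (b := 5) (by decide) v8_113_5 v8_106_3 v8_106_5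
theorem v8_122_3 : V cs (par cs K7) (word8 122) 3 (word8 122) := V_ded2 cs (a := 3) (b := 5) (by decide) v8_122_5 v8_114_3 v8_114_5
theorem v8_112_3 : V cs (par cs K7) (word8 112) 3 (word8 112) := V_ded2 cs (a := 3) (b := 6) (by decide) v8_112_6 v8_105_3 v8_105_6
theorem v8_121_3 : V cs (par cs K7) (word8 121) 3 (word8 121) := V_ded2 cs (a := 3) (b := 6) (by decide) v8_121_6 v8_113_3 v8_113_6
theorem v8_129_3 : V cs (par cs K7) (word8 129) 3 (word8 129) := V_ded2 cs (a := 3) (b := 6) (by decide) v8_129_6 v8_122_3 v8_122_6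
theorem v8_120_3 : V cs (par cs K7) (word8 120) 3 (word8 120) := V_ded2 cs (a := 3) (b := 7) (by decide) v8_120_7 v8_112_3 v8_112_7
theorem v8_128_3 : V cs (par cs K7) (word8 128) 3 (word8 128) := V_ded2 cs (a := 3) (b := 7) (by decide) v8_128_7 v8_121_3 v8_121_7
theorem v8_135_3 : V cs (par cs K7) (word8 135) 3 (word8 135) := V_ded2 cs (a := 3) (b := 7) (by decide) v8_135_7 v8_129_3 v8_129_7
theorem v8_46_1 : V cs (par cs K7) (word8 46) 1 (word8 46) := V_ded2 cs (a := 1) (b := 0) (by decide) v8_46_0 v8_41_1 v8_41_0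
theorem v8_52_1 : V cs (par cs K7) (word8 52) 1 (word8 52) := V_ded2 cs (a := 1) (b := 0) (by decide) v8_52_0 v8_47_1 v8_47_0
theorem v8_58_1 : V cs (par cs K7) (word8 58) 1 (word8 58) := V_ded2 cs (a := 1) (b := 0) (by decide) v8_58_0 v8_53_1 v8_53_0
theorem v8_59_1 : V cs (par cs K7) (word8 59) 1 (word8 59) := V_ded2 cs (a := 1) (b := 0) (by decide) v8_59_0 v8_54_1 v8_54_0
theorem v8_64_1 : V cs (par cs K7) (word8 64) 1 (word8 64) := V_ded2 cs (a := 1) (b := 0) (by decide) v8_64_0 v8_60_1 v8_60_0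
theorem v8_65_1 : V cs (par cs K7) (word8 65) 1 (word8 65) := V_ded2 cs (a := 1) (b := 0) (by decide) v8_65_0 v8_61_1 v8_61_0
theorem v8_71_1 : V cs (par cs K7) (word8 71) 1 (word8 71) := V_ded2 cs (a := 1) (b := 0) (by decide) v8_71_0 v8_67_1 v8_67_0
theorem v8_72_1 : V cs (par cs K7) (word8 72) 1 (word8 72) := V_ded2 cs (a := 1) (b := 0) (by decide) v8_72_0 v8_68_1 v8_68_0
theorem v8_80_1 : V cs (par cs K7) (word8 80) 1 (word8 80) := V_ded2 cs (a := 1) (b := 0) (by decide) v8_80_0 v8_75_1 v8_75_0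
theorem v8_88_1 : V cs (par cs K7) (word8 88) 1 (word8 88) := V_ded2 cs (a := 1) (b := 0) (by decide) v8_88_0 v8_83_1 v8_83_0
theorem v8_111_4 : V cs (par cs K7) (word8 111) 4 (word8 111) := V_ded3 cs (a := 4) (b := 3) (by decide) v8_111_3 v8_104_4 v8_96_3 v8_96_4 v8_104_3
theorem v8_137_4 : V cs (par cs K7) (word8 137) 4 (word8 137) := V_ded3 cs (a := 4) (b := 3) (by decide) v8_137_3 v8_130_4 v8_122_3 v8_122_4 v8_130_3
theorem v8_143_4 : V cs (par cs K7) (word8 143) 4 (word8 143) := V_ded3 cs (a := 4) (b := 3) (by decide) v8_143_3 v8_136_4 v8_129_3 v8_129_4 v8_136_3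
theorem v8_149_4 : V cs (par cs K7) (word8 149) 4 (word8 149) := V_ded3 cs (a := 4) (b := 3) (by decide) v8_149_3 v8_142_4 v8_135_3 v8_135_4 v8_142_3
theorem v8_145_4 : V cs (par cs K7) (word8 145) 4 (word8 145) := V_ded2 cs (a := 4) (b := 1) (by decide) v8_145_1 v8_137_4 v8_137_1
theorem v8_151_4 : V cs (par cs K7) (word8 151) 4 (word8 151) := V_ded2 cs (a := 4) (b := 1) (by decide) v8_151_1 v8_143_4 v8_143_1
theorem v8_157_4 : V cs (par cs K7) (word8 157) 4 (word8 157) := V_ded2 cs (a := 4) (b := 1) (by decide) v8_157_1 v8_149_4 v8_149_1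
theorem v8_105_4 : V cs (par cs K7) (word8 105) 4 (word8 105) := V_ded3 cs (a := 4) (b := 5) (by decide) v8_105_5 v8_98_4 v8_91_5 v8_91_4 v8_98_5
theorem v8_113_4 : V cs (par cs K7) (word8 113) 4 (word8 113) := V_ded3 cs (a := 4) (b := 5) (by decide) v8_113_5 v8_106_4 v8_99_5 v8_99_4 v8_106_5
theorem v8_112_4 : V cs (par cs K7) (word8 112) 4 (word8 112) := V_ded2 cs (a := 4) (b := 6) (by decide) v8_112_6 v8_105_4 v8_105_6
theorem v8_121_4 : V cs (par cs K7) (word8 121) 4 (word8 121) := V_ded2 cs (a := 4) (b := 6) (by decide) v8_121_6 v8_113_4 v8_113_6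
theorem v8_120_4 : V cs (par cs K7) (word8 120) 4 (word8 120) := V_ded2 cs (a := 4) (b := 7) (by decide) v8_120_7 v8_112_4 v8_112_7
theorem v8_128_4 : V cs (par cs K7) (word8 128) 4 (word8 128) := V_ded2 cs (a := 4) (b := 7) (by decide) v8_128_7 v8_121_4 v8_121_7
theorem v8_119_5 : V cs (par cs K7) (word8 119) 5 (word8 119) := V_ded2 cs (a := 5) (b := 2) (by decide) v8_119_2 v8_111_5 v8_111_2
theorem v8_126_5 : V cs (par cs K7) (word8 126) 5 (word8 126) := V_ded2 cs (a := 5) (b := 2) (by decide) v8_126_2 v8_118_5 v8_118_2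
theorem v8_132_5 : V cs (par cs K7) (word8 132) 5 (word8 132) := V_ded2 cs (a := 5) (b := 2) (by decide) v8_132_2 v8_124_5 v8_124_2
theorem v8_141_5 : V cs (par cs K7) (word8 141) 5 (word8 141) := V_ded2 cs (a := 5) (b := 2) (by decide) v8_141_2 v8_133_5 v8_133_2
theorem v8_63_5 : V cs (par cs K7) (word8 63) 5 (word8 63) := V_ded2 cs (a := 5) (b := 3) (by decide) v8_63_3 v8_57_5 v8_57_3
theorem v8_136_5 : V cs (par cs K7) (word8 136) 5 (word8 136) := V_ded3 cs (a := 5) (b := 4) (by decide) v8_136_4 v8_129_5 v8_121_4 v8_121_5 v8_129_4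
theorem v8_142_5 : V cs (par cs K7) (word8 142) 5 (word8 142) := V_ded3 cs (a := 5) (b := 4) (by decide) v8_142_4 v8_135_5 v8_128_4 v8_128_5 v8_135_4
theorem v8_112_5 : V cs (par cs K7) (word8 112) 5 (word8 112) := V_ded3 cs (a := 5) (b := 6) (by decide) v8_112_6 v8_105_5 v8_98_6 v8_98_5 v8_105_6
theorem v8_143_5 : V cs (par cs K7) (word8 143) 5 (word8 143) := V_ded3 cs (a := 5) (b := 6) (by decide) v8_143_6 v8_137_5 v8_131_6 v8_131_5 v8_137_6
theorem v8_151_5 : V cs (par cs K7) (word8 151) 5 (word8 151) := V_ded3 cs (a := 5) (b := 6) (by decide) v8_151_6 v8_145_5 v8_139_6 v8_139_5 v8_145_6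
theorem v8_120_5 : V cs (par cs K7) (word8 120) 5 (word8 120) := V_ded2 cs (a := 5) (b := 7) (by decide) v8_120_7 v8_112_5 v8_112_7
theorem v8_149_5 : V cs (par cs K7) (word8 149) 5 (word8 149) := V_ded2 cs (a := 5) (b := 7) (by decide) v8_149_7 v8_143_5 v8_143_7
theorem v8_157_5 : V cs (par cs K7) (word8 157) 5 (word8 157) := V_ded2 cs (a := 5) (b := 7) (by decide) v8_157_7 v8_151_5 v8_151_7
theorem v8_54_6 : V cs (par cs K7) (word8 54) 6 (word8 54) := V_ded2 cs (a := 6) (b := 2) (by decide) v8_54_2 v8_49_6 v8_49_2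
theorem v8_119_6 : V cs (par cs K7) (word8 119) 6 (word8 119) := V_ded2 cs (a := 6) (b := 2) (by decide) v8_119_2 v8_111_6 v8_111_2
theorem v8_126_6 : V cs (par cs K7) (word8 126) 6 (word8 126) := V_ded2 cs (a := 6) (b := 2) (by decide) v8_126_2 v8_118_6 v8_118_2
theorem v8_132_6 : V cs (par cs K7) (word8 132) 6 (word8 132) := V_ded2 cs (a := 6) (b := 2) (by decide) v8_132_2 v8_124_6 v8_124_2
theorem v8_138_6 : V cs (par cs K7) (word8 138) 6 (word8 138) := V_ded2 cs (a := 6) (b := 2) (by decide) v8_138_2 v8_131_6 v8_131_2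
theorem v8_141_6 : V cs (par cs K7) (word8 141) 6 (word8 141) := V_ded2 cs (a := 6) (b := 2) (by decide) v8_141_2 v8_133_6 v8_133_2
theorem v8_147_6 : V cs (par cs K7) (word8 147) 6 (word8 147) := V_ded2 cs (a := 6) (b := 2) (by decide) v8_147_2 v8_139_6 v8_139_2
theorem v8_155_6 : V cs (par cs K7) (word8 155) 6 (word8 155) := V_ded2 cs (a := 6) (b := 3) (by decide) v8_155_3 v8_147_6 v8_147_3
theorem v8_135_6 : V cs (par cs K7) (word8 135) 6 (word8 135) := V_ded3 cs (a := 6) (b := 5) (by decide) v8_135_5 v8_128_6 v8_120_5 v8_120_6 v8_128_5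
theorem v8_142_6 : V cs (par cs K7) (word8 142) 6 (word8 142) := V_ded3 cs (a := 6) (b := 7) (by decide) v8_142_7 v8_136_6 v8_130_7 v8_130_6 v8_136_7
theorem v8_149_6 : V cs (par cs K7) (word8 149) 6 (word8 149) := V_ded3 cs (a := 6) (b := 7) (by decide) v8_149_7 v8_143_6 v8_137_7 v8_137_6 v8_143_7
theorem v8_157_6 : V cs (par cs K7) (word8 157) 6 (word8 157) := V_ded3 cs (a := 6) (b := 7) (by decide) v8_157_7 v8_151_6 v8_145_7 v8_145_6 v8_151_7
theorem v8_46_7 : V cs (par cs K7) (word8 46) 7 (word8 46) := V_ded2 cs (a := 7) (b := 0) (by decide) v8_46_0 v8_41_7 v8_41_0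
theorem v8_220_7 : V cs (par cs K7) (word8 220) 7 (word8 219) := V_ded2 cs (a := 7) (b := 0) (by decide) v8_219_0 v8_215_7 v8_216_0
theorem v8_219_7 : V cs (par cs K7) (word8 219) 7 (word8 220) := V_symm cs v8_220_7
theorem v8_119_7 : V cs (par cs K7) (word8 119) 7 (word8 119) := V_ded2 cs (a := 7) (b := 2) (by decide) v8_119_2 v8_111_7 v8_111_2
theorem v8_126_7 : V cs (par cs K7) (word8 126) 7 (word8 126) := V_ded2 cs (a := 7) (b := 2) (by decide) v8_126_2 v8_118_7 v8_118_2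
theorem v8_132_7 : V cs (par cs K7) (word8 132) 7 (word8 132) := V_ded2 cs (a := 7) (b := 2) (by decide) v8_132_2 v8_124_7 v8_124_2
theorem v8_138_7 : V cs (par cs K7) (word8 138) 7 (word8 138) := V_ded2 cs (a := 7) (b := 2) (by decide) v8_138_2 v8_131_7 v8_131_2
theorem v8_141_7 : V cs (par cs K7) (word8 141) 7 (word8 141) := V_ded2 cs (a := 7) (b := 2) (by decide) v8_141_2 v8_133_7 v8_133_2
theorem v8_144_7 : V cs (par cs K7) (word8 144) 7 (word8 144) := V_ded2 cs (a := 7) (b := 2) (by decide) v8_144_2 v8_137_7 v8_137_2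
theorem v8_147_7 : V cs (par cs K7) (word8 147) 7 (word8 147) := V_ded2 cs (a := 7) (b := 2) (by decide) v8_147_2 v8_139_7 v8_139_2
theorem v8_153_7 : V cs (par cs K7) (word8 153) 7 (word8 153) := V_ded2 cs (a := 7) (b := 2) (by decide) v8_153_2 v8_145_7 v8_145_2
theorem v8_155_7 : V cs (par cs K7) (word8 155) 7 (word8 155) := V_ded2 cs (a := 7) (b := 3) (by decide) v8_155_3 v8_147_7 v8_147_3
theorem v8_161_7 : V cs (par cs K7) (word8 161) 7 (word8 161) := V_ded2 cs (a := 7) (b := 3) (by decide) v8_161_3 v8_153_7 v8_153_3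
theorem v8_168_7 : V cs (par cs K7) (word8 168) 7 (word8 168) := V_ded2 cs (a := 7) (b := 4) (by decide) v8_168_4 v8_161_7 v8_161_4
theorem v8_77_0 : V cs (par cs K7) (word8 77) 0 (word8 77) := V_ded3 cs (a := 0) (b := 2) (by decide) v8_77_2 v8_70_0 v8_66_2 v8_66_0 v8_70_2
theorem v8_84_0 : V cs (par cs K7) (word8 84) 0 (word8 84) := V_ded3 cs (a := 0) (b := 2) (by decide) v8_84_2 v8_78_0 v8_73_2 v8_73_0 v8_78_2
theorem v8_85_0 : V cs (par cs K7) (word8 85) 0 (word8 85) := V_ded3 cs (a := 0) (b := 2) (by decide) v8_85_2 v8_79_0 v8_74_2 v8_74_0 v8_79_2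
theorem v8_92_0 : V cs (par cs K7) (word8 92) 0 (word8 92) := V_ded3 cs (a := 0) (b := 2) (by decide) v8_92_2 v8_86_0 v8_81_2 v8_81_0 v8_86_2
theorem v8_93_0 : V cs (par cs K7) (word8 93) 0 (word8 93) := V_ded3 cs (a := 0) (b := 2) (by decide) v8_93_2 v8_87_0 v8_82_2 v8_82_0 v8_87_2
theorem v8_100_0 : V cs (par cs K7) (word8 100) 0 (word8 100) := V_ded3 cs (a := 0) (b := 2) (by decide) v8_100_2 v8_94_0 v8_89_2 v8_89_0 v8_94_2
theorem v8_101_0 : V cs (par cs K7) (word8 101) 0 (word8 101) := V_ded3 cs (a := 0) (b := 2) (by decide) v8_101_2 v8_95_0 v8_90_2 v8_90_0 v8_95_2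
theorem v8_108_0 : V cs (par cs K7) (word8 108) 0 (word8 108) := V_ded3 cs (a := 0) (b := 2) (by decide) v8_108_2 v8_102_0 v8_96_2 v8_96_0 v8_102_2
theorem v8_109_0 : V cs (par cs K7) (word8 109) 0 (word8 109) := V_ded3 cs (a := 0) (b := 2) (by decide) v8_109_2 v8_103_0 v8_97_2 v8_97_0 v8_103_2
theorem v8_116_0 : V cs (par cs K7) (word8 116) 0 (word8 116) := V_ded3 cs (a := 0) (b := 2) (by decide) v8_116_2 v8_110_0 v8_104_2 v8_104_0 v8_110_2
theorem v8_91_0 : V cs (par cs K7) (word8 91) 0 (word8 91) := V_ded2 cs (a := 0) (b := 3) (by decide) v8_91_3 v8_84_0 v8_84_3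
theorem v8_99_0 : V cs (par cs K7) (word8 99) 0 (word8 99) := V_ded2 cs (a := 0) (b := 3) (by decide) v8_99_3 v8_92_0 v8_92_3
theorem v8_107_0 : V cs (par cs K7) (word8 107) 0 (word8 107) := V_ded2 cs (a := 0) (b := 3) (by decide) v8_107_3 v8_100_0 v8_100_3
theorem v8_115_0 : V cs (par cs K7) (word8 115) 0 (word8 115) := V_ded2 cs (a := 0) (b := 3) (by decide) v8_115_3 v8_108_0 v8_108_3
theorem v8_117_0 : V cs (par cs K7) (word8 117) 0 (word8 117) := V_ded2 cs (a := 0) (b := 3) (by decide) v8_117_3 v8_109_0 v8_109_3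
theorem v8_124_0 : V cs (par cs K7) (word8 124) 0 (word8 124) := V_ded2 cs (a := 0) (b := 3) (by decide) v8_124_3 v8_116_0 v8_116_3
theorem v8_125_0 : V cs (par cs K7) (word8 125) 0 (word8 125) := V_ded2 cs (a := 0) (b := 1) (by decide) v8_125_1 v8_117_0 v8_117_1
theorem v8_133_0 : V cs (par cs K7) (word8 133) 0 (word8 133) := V_ded2 cs (a := 0) (b := 1) (by decide) v8_133_1 v8_124_0 v8_124_1
theorem v8_98_0 : V cs (par cs K7) (word8 98) 0 (word8 98) := V_ded2 cs (a := 0) (b := 4) (by decide) v8_98_4 v8_91_0 v8_91_4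
theorem v8_106_0 : V cs (par cs K7) (word8 106) 0 (word8 106) := V_ded2 cs (a := 0) (b := 4) (by decide) v8_106_4 v8_99_0 v8_99_4
theorem v8_114_0 : V cs (par cs K7) (word8 114) 0 (word8 114) := V_ded2 cs (a := 0) (b := 4) (by decide) v8_114_4 v8_107_0 v8_107_4
theorem v8_123_0 : V cs (par cs K7) (word8 123) 0 (word8 123) := V_ded2 cs (a := 0) (b := 4) (by decide) v8_123_4 v8_115_0 v8_115_4
theorem v8_131_0 : V cs (par cs K7) (word8 131) 0 (word8 131) := V_ded2 cs (a := 0) (b := 4) (by decide) v8_131_4 v8_124_0 v8_124_4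
theorem v8_139_0 : V cs (par cs K7) (word8 139) 0 (word8 139) := V_ded2 cs (a := 0) (b := 4) (by decide) v8_139_4 v8_133_0 v8_133_4
theorem v8_105_0 : V cs (par cs K7) (word8 105) 0 (word8 105) := V_ded2 cs (a := 0) (b := 5) (by decide) v8_105_5 v8_98_0 v8_98_5
theorem v8_113_0 : V cs (par cs K7) (word8 113) 0 (word8 113) := V_ded2 cs (a := 0) (b := 5) (by decide) v8_113_5 v8_106_0 v8_106_5
theorem v8_122_0 : V cs (par cs K7) (word8 122) 0 (word8 122) := V_ded2 cs (a := 0) (b := 5) (by decide) v8_122_5 v8_114_0 v8_114_5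
theorem v8_130_0 : V cs (par cs K7) (word8 130) 0 (word8 130) := V_ded2 cs (a := 0) (b := 5) (by decide) v8_130_5 v8_123_0 v8_123_5
theorem v8_137_0 : V cs (par cs K7) (word8 137) 0 (word8 137) := V_ded2 cs (a := 0) (b := 5) (by decide) v8_137_5 v8_131_0 v8_131_5
theorem v8_145_0 : V cs (par cs K7) (word8 145) 0 (word8 145) := V_ded2 cs (a := 0) (b := 5) (by decide) v8_145_5 v8_139_0 v8_139_5
theorem v8_112_0 : V cs (par cs K7) (word8 112) 0 (word8 112) := V_ded2 cs (a := 0) (b := 6) (by decide) v8_112_6 v8_105_0 v8_105_6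
theorem v8_121_0 : V cs (par cs K7) (word8 121) 0 (word8 121) := V_ded2 cs (a := 0) (b := 6) (by decide) v8_121_6 v8_113_0 v8_113_6
theorem v8_129_0 : V cs (par cs K7) (word8 129) 0 (word8 129) := V_ded2 cs (a := 0) (b := 6) (by decide) v8_129_6 v8_122_0 v8_122_6
theorem v8_136_0 : V cs (par cs K7) (word8 136) 0 (word8 136) := V_ded2 cs (a := 0) (b := 6) (by decide) v8_136_6 v8_130_0 v8_130_6
theorem v8_143_0 : V cs (par cs K7) (word8 143) 0 (word8 143) := V_ded2 cs (a := 0) (b := 6) (by decide) v8_143_6 v8_137_0 v8_137_6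
theorem v8_151_0 : V cs (par cs K7) (word8 151) 0 (word8 151) := V_ded2 cs (a := 0) (b := 6) (by decide) v8_151_6 v8_145_0 v8_145_6
theorem v8_120_0 : V cs (par cs K7) (word8 120) 0 (word8 120) := V_ded2 cs (a := 0) (b := 7) (by decide) v8_120_7 v8_112_0 v8_112_7
theorem v8_128_0 : V cs (par cs K7) (word8 128) 0 (word8 128) := V_ded2 cs (a := 0) (b := 7) (by decide) v8_128_7 v8_121_0 v8_121_7
theorem v8_135_0 : V cs (par cs K7) (word8 135) 0 (word8 135) := V_ded2 cs (a := 0) (b := 7) (by decide) v8_135_7 v8_129_0 v8_129_7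
theorem v8_142_0 : V cs (par cs K7) (word8 142) 0 (word8 142) := V_ded2 cs (a := 0) (b := 7) (by decide) v8_142_7 v8_136_0 v8_136_7
theorem v8_149_0 : V cs (par cs K7) (word8 149) 0 (word8 149) := V_ded2 cs (a := 0) (b := 7) (by decide) v8_149_7 v8_143_0 v8_143_7
theorem v8_157_0 : V cs (par cs K7) (word8 157) 0 (word8 157) := V_ded2 cs (a := 0) (b := 7) (by decide) v8_157_7 v8_151_0 v8_151_7
theorem v8_140_2 : V cs (par cs K7) (word8 140) 2 (word8 140) := V_ded3 cs (a := 2) (b := 0) (by decide) v8_140_0 v8_132_2 v8_124_0 v8_124_2 v8_132_0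
theorem v8_146_2 : V cs (par cs K7) (word8 146) 2 (word8 146) := V_ded3 cs (a := 2) (b := 0) (by decide) v8_146_0 v8_138_2 v8_131_0 v8_131_2 v8_138_0
theorem v8_148_2 : V cs (par cs K7) (word8 148) 2 (word8 148) := V_ded3 cs (a := 2) (b := 0) (by decide) v8_148_0 v8_141_2 v8_133_0 v8_133_2 v8_141_0
theorem v8_152_2 : V cs (par cs K7) (word8 152) 2 (word8 152) := V_ded3 cs (a := 2) (b := 0) (by decide) v8_152_0 v8_144_2 v8_137_0 v8_137_2 v8_144_0
theorem v8_154_2 : V cs (par cs K7) (word8 154) 2 (word8 154) := V_ded3 cs (a := 2) (b := 0) (by decide) v8_154_0 v8_147_2 v8_139_0 v8_139_2 v8_147_0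
theorem v8_158_2 : V cs (par cs K7) (word8 158) 2 (word8 158) := V_ded3 cs (a := 2) (b := 0) (by decide) v8_158_0 v8_150_2 v8_143_0 v8_143_2 v8_150_0
theorem v8_160_2 : V cs (par cs K7) (word8 160) 2 (word8 160) := V_ded3 cs (a := 2) (b := 0) (by decide) v8_160_0 v8_153_2 v8_145_0 v8_145_2 v8_153_0
theorem v8_163_2 : V cs (par cs K7) (word8 163) 2 (word8 163) := V_ded3 cs (a := 2) (b := 0) (by decide) v8_163_0 v8_156_2 v8_149_0 v8_149_2 v8_156_0
theorem v8_165_2 : V cs (par cs K7) (word8 165) 2 (word8 165) := V_ded3 cs (a := 2) (b := 0) (by decide) v8_165_0 v8_159_2 v8_151_0 v8_151_2 v8_159_0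
theorem v8_170_2 : V cs (par cs K7) (word8 170) 2 (word8 170) := V_ded3 cs (a := 2) (b := 0) (by decide) v8_170_0 v8_164_2 v8_157_0 v8_157_2 v8_164_0
theorem v8_155_2 : V cs (par cs K7) (word8 155) 2 (word8 155) := V_ded3 cs (a := 2) (b := 3) (by decide) v8_155_3 v8_147_2 v8_139_3 v8_139_2 v8_147_3
theorem v8_161_2 : V cs (par cs K7) (word8 161) 2 (word8 161) := V_ded3 cs (a := 2) (b := 3) (by decide) v8_161_3 v8_153_2 v8_145_3 v8_145_2 v8_153_3
theorem v8_166_2 : V cs (par cs K7) (word8 166) 2 (word8 166) := V_ded3 cs (a := 2) (b := 3) (by decide) v8_166_3 v8_159_2 v8_151_3 v8_151_2 v8_159_3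
theorem v8_171_2 : V cs (par cs K7) (word8 171) 2 (word8 171) := V_ded3 cs (a := 2) (b := 3) (by decide) v8_171_3 v8_164_2 v8_157_3 v8_157_2 v8_164_3
theorem v8_168_2 : V cs (par cs K7) (word8 168) 2 (word8 168) := V_ded2 cs (a := 2) (b := 4) (by decide) v8_168_4 v8_161_2 v8_161_4
theorem v8_173_2 : V cs (par cs K7) (word8 173) 2 (word8 173) := V_ded2 cs (a := 2) (b := 4) (by decide) v8_173_4 v8_166_2 v8_166_4
theorem v8_177_2 : V cs (par cs K7) (word8 177) 2 (word8 177) := V_ded2 cs (a := 2) (b := 4) (by decide) v8_177_4 v8_171_2 v8_171_4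
theorem v8_180_2 : V cs (par cs K7) (word8 180) 2 (word8 180) := V_ded2 cs (a := 2) (b := 5) (by decide) v8_180_5 v8_173_2 v8_173_5
theorem v8_184_2 : V cs (par cs K7) (word8 184) 2 (word8 184) := V_ded2 cs (a := 2) (b := 5) (by decide) v8_184_5 v8_177_2 v8_177_5
theorem v8_190_2 : V cs (par cs K7) (word8 190) 2 (word8 190) := V_ded2 cs (a := 2) (b := 6) (by decide) v8_190_6 v8_184_2 v8_184_6
theorem v8_78_3 : V cs (par cs K7) (word8 78) 3 (word8 78) := V_ded2 cs (a := 3) (b := 0) (by decide) v8_78_0 v8_73_3 v8_73_0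
theorem v8_86_3 : V cs (par cs K7) (word8 86) 3 (word8 86) := V_ded2 cs (a := 3) (b := 0) (by decide) v8_86_0 v8_81_3 v8_81_0
theorem v8_94_3 : V cs (par cs K7) (word8 94) 3 (word8 94) := V_ded2 cs (a := 3) (b := 0) (by decide) v8_94_0 v8_89_3 v8_89_0
theorem v8_102_3 : V cs (par cs K7) (word8 102) 3 (word8 102) := V_ded2 cs (a := 3) (b := 0) (by decide) v8_102_0 v8_96_3 v8_96_0
theorem v8_127_3 : V cs (par cs K7) (word8 127) 3 (word8 127) := V_ded2 cs (a := 3) (b := 0) (by decide) v8_127_0 v8_119_3 v8_119_0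
theorem v8_169_3 : V cs (par cs K7) (word8 169) 3 (word8 169) := V_ded3 cs (a := 3) (b := 2) (by decide) v8_169_2 v8_162_3 v8_154_2 v8_154_3 v8_162_2
theorem v8_174_3 : V cs (par cs K7) (word8 174) 3 (word8 174) := V_ded3 cs (a := 3) (b := 2) (by decide) v8_174_2 v8_167_3 v8_160_2 v8_160_3 v8_167_2
theorem v8_178_3 : V cs (par cs K7) (word8 178) 3 (word8 178) := V_ded3 cs (a := 3) (b := 2) (by decide) v8_178_2 v8_172_3 v8_165_2 v8_165_3 v8_172_2
theorem v8_182_3 : V cs (par cs K7) (word8 182) 3 (word8 182) := V_ded3 cs (a := 3) (b := 2) (by decide) v8_182_2 v8_176_3 v8_170_2 v8_170_3 v8_176_2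
theorem v8_118_4 : V cs (par cs K7) (word8 118) 4 (word8 118) := V_ded2 cs (a := 4) (b := 0) (by decide) v8_118_0 v8_111_4 v8_111_0
theorem v8_119_4 : V cs (par cs K7) (word8 119) 4 (word8 119) := V_ded2 cs (a := 4) (b := 2) (by decide) v8_119_2 v8_111_4 v8_111_2
theorem v8_126_4 : V cs (par cs K7) (word8 126) 4 (word8 126) := V_ded2 cs (a := 4) (b := 2) (by decide) v8_126_2 v8_118_4 v8_118_2
theorem v8_144_4 : V cs (par cs K7) (word8 144) 4 (word8 144) := V_ded2 cs (a := 4) (b := 2) (by decide) v8_144_2 v8_137_4 v8_137_2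
theorem v8_150_4 : V cs (par cs K7) (word8 150) 4 (word8 150) := V_ded2 cs (a := 4) (b := 2) (by decide) v8_150_2 v8_143_4 v8_143_2
theorem v8_153_4 : V cs (par cs K7) (word8 153) 4 (word8 153) := V_ded2 cs (a := 4) (b := 2) (by decide) v8_153_2 v8_145_4 v8_145_2
theorem v8_156_4 : V cs (par cs K7) (word8 156) 4 (word8 156) := V_ded2 cs (a := 4) (b := 2) (by decide) v8_156_2 v8_149_4 v8_149_2
theorem v8_159_4 : V cs (par cs K7) (word8 159) 4 (word8 159) := V_ded2 cs (a := 4) (b := 2) (by decide) v8_159_2 v8_151_4 v8_151_2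
theorem v8_164_4 : V cs (par cs K7) (word8 164) 4 (word8 164) := V_ded2 cs (a := 4) (b := 2) (by decide) v8_164_2 v8_157_4 v8_157_2
theorem v8_187_4 : V cs (par cs K7) (word8 187) 4 (word8 187) := V_ded3 cs (a := 4) (b := 3) (by decide) v8_187_3 v8_181_4 v8_174_3 v8_174_4 v8_181_3
theorem v8_191_4 : V cs (par cs K7) (word8 191) 4 (word8 191) := V_ded3 cs (a := 4) (b := 3) (by decide) v8_191_3 v8_185_4 v8_178_3 v8_178_4 v8_185_3
theorem v8_194_4 : V cs (par cs K7) (word8 194) 4 (word8 194) := V_ded3 cs (a := 4) (b := 3) (by decide) v8_194_3 v8_188_4 v8_182_3 v8_182_4 v8_188_3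
theorem v8_193_4 : V cs (par cs K7) (word8 193) 4 (word8 193) := V_ded2 cs (a := 4) (b := 1) (by decide) v8_193_1 v8_187_4 v8_187_1
theorem v8_197_4 : V cs (par cs K7) (word8 197) 4 (word8 197) := V_ded2 cs (a := 4) (b := 1) (by decide) v8_197_1 v8_191_4 v8_191_1
theorem v8_199_4 : V cs (par cs K7) (word8 199) 4 (word8 199) := V_ded2 cs (a := 4) (b := 1) (by decide) v8_199_1 v8_194_4 v8_194_1
theorem v8_76_4 : V cs (par cs K7) (word8 76) 4 (word8 76) := V_ded3 cs (a := 4) (b := 5) (by decide) v8_76_5 v8_69_4 v8_63_5 v8_63_4 v8_69_5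
theorem v8_127_5 : V cs (par cs K7) (word8 127) 5 (word8 127) := V_ded2 cs (a := 5) (b := 0) (by decide) v8_127_0 v8_119_5 v8_119_0
theorem v8_134_5 : V cs (par cs K7) (word8 134) 5 (word8 134) := V_ded2 cs (a := 5) (b := 0) (by decide) v8_134_0 v8_126_5 v8_126_0
theorem v8_140_5 : V cs (par cs K7) (word8 140) 5 (word8 140) := V_ded2 cs (a := 5) (b := 0) (by decide) v8_140_0 v8_132_5 v8_132_0
theorem v8_148_5 : V cs (par cs K7) (word8 148) 5 (word8 148) := V_ded2 cs (a := 5) (b := 0) (by decide) v8_148_0 v8_141_5 v8_141_0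
theorem v8_68_5 : V cs (par cs K7) (word8 68) 5 (word8 68) := V_ded2 cs (a := 5) (b := 2) (by decide) v8_68_2 v8_63_5 v8_63_2
theorem v8_150_5 : V cs (par cs K7) (word8 150) 5 (word8 150) := V_ded2 cs (a := 5) (b := 2) (by decide) v8_150_2 v8_143_5 v8_143_2
theorem v8_156_5 : V cs (par cs K7) (word8 156) 5 (word8 156) := V_ded2 cs (a := 5) (b := 2) (by decide) v8_156_2 v8_149_5 v8_149_2
theorem v8_159_5 : V cs (par cs K7) (word8 159) 5 (word8 159) := V_ded2 cs (a := 5) (b := 2) (by decide) v8_159_2 v8_151_5 v8_151_2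
theorem v8_164_5 : V cs (par cs K7) (word8 164) 5 (word8 164) := V_ded2 cs (a := 5) (b := 2) (by decide) v8_164_2 v8_157_5 v8_157_2
theorem v8_166_5 : V cs (par cs K7) (word8 166) 5 (word8 166) := V_ded2 cs (a := 5) (b := 3) (by decide) v8_166_3 v8_159_5 v8_159_3
theorem v8_171_5 : V cs (par cs K7) (word8 171) 5 (word8 171) := V_ded2 cs (a := 5) (b := 3) (by decide) v8_171_3 v8_164_5 v8_164_3
theorem v8_203_5 : V cs (par cs K7) (word8 203) 5 (word8 203) := V_ded3 cs (a := 5) (b := 4) (by decide) v8_203_4 v8_198_5 v8_191_4 v8_191_5 v8_198_4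
theorem v8_205_5 : V cs (par cs K7) (word8 205) 5 (word8 205) := V_ded3 cs (a := 5) (b := 4) (by decide) v8_205_4 v8_200_5 v8_194_4 v8_194_5 v8_200_4
theorem v8_207_5 : V cs (par cs K7) (word8 207) 5 (word8 207) := V_ded3 cs (a := 5) (b := 4) (by decide) v8_207_4 v8_202_5 v8_197_4 v8_197_5 v8_202_4
theorem v8_208_5 : V cs (par cs K7) (word8 208) 5 (word8 208) := V_ded3 cs (a := 5) (b := 4) (by decide) v8_208_4 v8_204_5 v8_199_4 v8_199_5 v8_204_4
theorem v8_59_6 : V cs (par cs K7) (word8 59) 6 (word8 59) := V_ded2 cs (a := 6) (b := 0) (by decide) v8_59_0 v8_54_6 v8_54_0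
theorem v8_127_6 : V cs (par cs K7) (word8 127) 6 (word8 127) := V_ded2 cs (a := 6) (b := 0) (by decide) v8_127_0 v8_119_6 v8_119_0
theorem v8_134_6 : V cs (par cs K7) (word8 134) 6 (word8 134) := V_ded2 cs (a := 6) (b := 0) (by decide) v8_134_0 v8_126_6 v8_126_0
theorem v8_140_6 : V cs (par cs K7) (word8 140) 6 (word8 140) := V_ded2 cs (a := 6) (b := 0) (by decide) v8_140_0 v8_132_6 v8_132_0
theorem v8_146_6 : V cs (par cs K7) (word8 146) 6 (word8 146) := V_ded2 cs (a := 6) (b := 0) (by decide) v8_146_0 v8_138_6 v8_138_0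
theorem v8_148_6 : V cs (par cs K7) (word8 148) 6 (word8 148) := V_ded2 cs (a := 6) (b := 0) (by decide) v8_148_0 v8_141_6 v8_141_0
theorem v8_154_6 : V cs (par cs K7) (word8 154) 6 (word8 154) := V_ded2 cs (a := 6) (b := 0) (by decide) v8_154_0 v8_147_6 v8_147_0
theorem v8_162_6 : V cs (par cs K7) (word8 162) 6 (word8 162) := V_ded2 cs (a := 6) (b := 0) (by decide) v8_162_0 v8_155_6 v8_155_0
theorem v8_156_6 : V cs (par cs K7) (word8 156) 6 (word8 156) := V_ded2 cs (a := 6) (b := 2) (by decide) v8_156_2 v8_149_6 v8_149_2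
theorem v8_164_6 : V cs (par cs K7) (word8 164) 6 (word8 164) := V_ded2 cs (a := 6) (b := 2) (by decide) v8_164_2 v8_157_6 v8_157_2
theorem v8_169_6 : V cs (par cs K7) (word8 169) 6 (word8 169) := V_ded2 cs (a := 6) (b := 2) (by decide) v8_169_2 v8_162_6 v8_162_2
theorem v8_171_6 : V cs (par cs K7) (word8 171) 6 (word8 171) := V_ded2 cs (a := 6) (b := 3) (by decide) v8_171_3 v8_164_6 v8_164_3
theorem v8_177_6 : V cs (par cs K7) (word8 177) 6 (word8 177) := V_ded2 cs (a := 6) (b := 4) (by decide) v8_177_4 v8_171_6 v8_171_4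
theorem v8_214_6 : V cs (par cs K7) (word8 214) 6 (word8 214) := V_ded3 cs (a := 6) (b := 5) (by decide) v8_214_5 v8_210_6 v8_205_5 v8_205_6 v8_210_5
theorem v8_218_6 : V cs (par cs K7) (word8 218) 6 (word8 218) := V_ded3 cs (a := 6) (b := 5) (by decide) v8_218_5 v8_213_6 v8_208_5 v8_208_6 v8_213_5
theorem v8_127_7 : V cs (par cs K7) (word8 127) 7 (word8 127) := V_ded2 cs (a := 7) (b := 0) (by decide) v8_127_0 v8_119_7 v8_119_0
theorem v8_134_7 : V cs (par cs K7) (word8 134) 7 (word8 134) := V_ded2 cs (a := 7) (b := 0) (by decide) v8_134_0 v8_126_7 v8_126_0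
theorem v8_140_7 : V cs (par cs K7) (word8 140) 7 (word8 140) := V_ded2 cs (a := 7) (b := 0) (by decide) v8_140_0 v8_132_7 v8_132_0
theorem v8_146_7 : V cs (par cs K7) (word8 146) 7 (word8 146) := V_ded2 cs (a := 7) (b := 0) (by decide) v8_146_0 v8_138_7 v8_138_0
theorem v8_148_7 : V cs (par cs K7) (word8 148) 7 (word8 148) := V_ded2 cs (a := 7) (b := 0) (by decide) v8_148_0 v8_141_7 v8_141_0
theorem v8_152_7 : V cs (par cs K7) (word8 152) 7 (word8 152) := V_ded2 cs (a := 7) (b := 0) (by decide) v8_152_0 v8_144_7 v8_144_0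
theorem v8_154_7 : V cs (par cs K7) (word8 154) 7 (word8 154) := V_ded2 cs (a := 7) (b := 0) (by decide) v8_154_0 v8_147_7 v8_147_0
theorem v8_160_7 : V cs (par cs K7) (word8 160) 7 (word8 160) := V_ded2 cs (a := 7) (b := 0) (by decide) v8_160_0 v8_153_7 v8_153_0
theorem v8_162_7 : V cs (par cs K7) (word8 162) 7 (word8 162) := V_ded2 cs (a := 7) (b := 0) (by decide) v8_162_0 v8_155_7 v8_155_0
theorem v8_167_7 : V cs (par cs K7) (word8 167) 7 (word8 167) := V_ded2 cs (a := 7) (b := 0) (by decide) v8_167_0 v8_161_7 v8_161_0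
theorem v8_175_7 : V cs (par cs K7) (word8 175) 7 (word8 175) := V_ded2 cs (a := 7) (b := 0) (by decide) v8_175_0 v8_168_7 v8_168_0
theorem v8_169_7 : V cs (par cs K7) (word8 169) 7 (word8 169) := V_ded2 cs (a := 7) (b := 2) (by decide) v8_169_2 v8_162_7 v8_162_2
theorem v8_174_7 : V cs (par cs K7) (word8 174) 7 (word8 174) := V_ded2 cs (a := 7) (b := 2) (by decide) v8_174_2 v8_167_7 v8_167_2
theorem v8_181_7 : V cs (par cs K7) (word8 181) 7 (word8 181) := V_ded2 cs (a := 7) (b := 2) (by decide) v8_181_2 v8_175_7 v8_175_2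
theorem v8_187_7 : V cs (par cs K7) (word8 187) 7 (word8 187) := V_ded2 cs (a := 7) (b := 3) (by decide) v8_187_3 v8_181_7 v8_181_3
theorem v8_193_7 : V cs (par cs K7) (word8 193) 7 (word8 193) := V_ded2 cs (a := 7) (b := 1) (by decide) v8_193_1 v8_187_7 v8_187_1
theorem v8_169_0 : V cs (par cs K7) (word8 169) 0 (word8 169) := V_ded3 cs (a := 0) (b := 2) (by decide) v8_169_2 v8_162_0 v8_155_2 v8_155_0 v8_162_2
theorem v8_174_0 : V cs (par cs K7) (word8 174) 0 (word8 174) := V_ded3 cs (a := 0) (b := 2) (by decide) v8_174_2 v8_167_0 v8_161_2 v8_161_0 v8_167_2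
theorem v8_178_0 : V cs (par cs K7) (word8 178) 0 (word8 178) := V_ded3 cs (a := 0) (b := 2) (by decide) v8_178_2 v8_172_0 v8_166_2 v8_166_0 v8_172_2
theorem v8_181_0 : V cs (par cs K7) (word8 181) 0 (word8 181) := V_ded3 cs (a := 0) (b := 2) (by decide) v8_181_2 v8_175_0 v8_168_2 v8_168_0 v8_175_2
theorem v8_182_0 : V cs (par cs K7) (word8 182) 0 (word8 182) := V_ded3 cs (a := 0) (b := 2) (by decide) v8_182_2 v8_176_0 v8_171_2 v8_171_0 v8_176_2
theorem v8_185_0 : V cs (par cs K7) (word8 185) 0 (word8 185) := V_ded3 cs (a := 0) (b := 2) (by decide) v8_185_2 v8_179_0 v8_173_2 v8_173_0 v8_179_2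
theorem v8_188_0 : V cs (par cs K7) (word8 188) 0 (word8 188) := V_ded3 cs (a := 0) (b := 2) (by decide) v8_188_2 v8_183_0 v8_177_2 v8_177_0 v8_183_2
theorem v8_192_0 : V cs (par cs K7) (word8 192) 0 (word8 192) := V_ded3 cs (a := 0) (b := 2) (by decide) v8_192_2 v8_186_0 v8_180_2 v8_180_0 v8_186_2
theorem v8_195_0 : V cs (par cs K7) (word8 195) 0 (word8 195) := V_ded3 cs (a := 0) (b := 2) (by decide) v8_195_2 v8_189_0 v8_184_2 v8_184_0 v8_189_2
theorem v8_201_0 : V cs (par cs K7) (word8 201) 0 (word8 201) := V_ded3 cs (a := 0) (b := 2) (by decide) v8_201_2 v8_196_0 v8_190_2 v8_190_0 v8_196_2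
theorem v8_187_0 : V cs (par cs K7) (word8 187) 0 (word8 187) := V_ded2 cs (a := 0) (b := 3) (by decide) v8_187_3 v8_181_0 v8_181_3
theorem v8_191_0 : V cs (par cs K7) (word8 191) 0 (word8 191) := V_ded2 cs (a := 0) (b := 3) (by decide) v8_191_3 v8_185_0 v8_185_3
theorem v8_194_0 : V cs (par cs K7) (word8 194) 0 (word8 194) := V_ded2 cs (a := 0) (b := 3) (by decide) v8_194_3 v8_188_0 v8_188_3
theorem v8_198_0 : V cs (par cs K7) (word8 198) 0 (word8 198) := V_ded2 cs (a := 0) (b := 3) (by decide) v8_198_3 v8_192_0 v8_192_3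
theorem v8_200_0 : V cs (par cs K7) (word8 200) 0 (word8 200) := V_ded2 cs (a := 0) (b := 3) (by decide) v8_200_3 v8_195_0 v8_195_3
theorem v8_206_0 : V cs (par cs K7) (word8 206) 0 (word8 206) := V_ded2 cs (a := 0) (b := 3) (by decide) v8_206_3 v8_201_0 v8_201_3
theorem v8_193_0 : V cs (par cs K7) (word8 193) 0 (word8 193) := V_ded2 cs (a := 0) (b := 1) (by decide) v8_193_1 v8_187_0 v8_187_1
theorem v8_197_0 : V cs (par cs K7) (word8 197) 0 (word8 197) := V_ded2 cs (a := 0) (b := 1) (by decide) v8_197_1 v8_191_0 v8_191_1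
theorem v8_199_0 : V cs (par cs K7) (word8 199) 0 (word8 199) := V_ded2 cs (a := 0) (b := 1) (by decide) v8_199_1 v8_194_0 v8_194_1
theorem v8_202_0 : V cs (par cs K7) (word8 202) 0 (word8 202) := V_ded2 cs (a := 0) (b := 1) (by decide) v8_202_1 v8_198_0 v8_198_1
theorem v8_204_0 : V cs (par cs K7) (word8 204) 0 (word8 204) := V_ded2 cs (a := 0) (b := 1) (by decide) v8_204_1 v8_200_0 v8_200_1
theorem v8_209_0 : V cs (par cs K7) (word8 209) 0 (word8 209) := V_ded2 cs (a := 0) (b := 1) (by decide) v8_209_1 v8_206_0 v8_206_1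
theorem v8_203_0 : V cs (par cs K7) (word8 203) 0 (word8 203) := V_ded2 cs (a := 0) (b := 4) (by decide) v8_203_4 v8_198_0 v8_198_4
theorem v8_205_0 : V cs (par cs K7) (word8 205) 0 (word8 205) := V_ded2 cs (a := 0) (b := 4) (by decide) v8_205_4 v8_200_0 v8_200_4
theorem v8_207_0 : V cs (par cs K7) (word8 207) 0 (word8 207) := V_ded2 cs (a := 0) (b := 4) (by decide) v8_207_4 v8_202_0 v8_202_4
theorem v8_208_0 : V cs (par cs K7) (word8 208) 0 (word8 208) := V_ded2 cs (a := 0) (b := 4) (by decide) v8_208_4 v8_204_0 v8_204_4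
theorem v8_210_0 : V cs (par cs K7) (word8 210) 0 (word8 210) := V_ded2 cs (a := 0) (b := 4) (by decide) v8_210_4 v8_206_0 v8_206_4
theorem v8_213_0 : V cs (par cs K7) (word8 213) 0 (word8 213) := V_ded2 cs (a := 0) (b := 4) (by decide) v8_213_4 v8_209_0 v8_209_4
theorem v8_214_0 : V cs (par cs K7) (word8 214) 0 (word8 214) := V_ded2 cs (a := 0) (b := 5) (by decide) v8_214_5 v8_210_0 v8_210_5
theorem v8_218_0 : V cs (par cs K7) (word8 218) 0 (word8 218) := V_ded2 cs (a := 0) (b := 5) (by decide) v8_218_5 v8_213_0 v8_213_5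
theorem v8_91_2 : V cs (par cs K7) (word8 91) 2 (word8 91) := V_ded3 cs (a := 2) (b := 3) (by decide) v8_91_3 v8_84_2 v8_78_3 v8_78_2 v8_84_3
theorem v8_99_2 : V cs (par cs K7) (word8 99) 2 (word8 99) := V_ded3 cs (a := 2) (b := 3) (by decide) v8_99_3 v8_92_2 v8_86_3 v8_86_2 v8_92_3
theorem v8_107_2 : V cs (par cs K7) (word8 107) 2 (word8 107) := V_ded3 cs (a := 2) (b := 3) (by decide) v8_107_3 v8_100_2 v8_94_3 v8_94_2 v8_100_3
theorem v8_115_2 : V cs (par cs K7) (word8 115) 2 (word8 115) := V_ded3 cs (a := 2) (b := 3) (by decide) v8_115_3 v8_108_2 v8_102_3 v8_102_2 v8_108_3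
theorem v8_98_2 : V cs (par cs K7) (word8 98) 2 (word8 98) := V_ded2 cs (a := 2) (b := 4) (by decide) v8_98_4 v8_91_2 v8_91_4
theorem v8_106_2 : V cs (par cs K7) (word8 106) 2 (word8 106) := V_ded2 cs (a := 2) (b := 4) (by decide) v8_106_4 v8_99_2 v8_99_4
theorem v8_114_2 : V cs (par cs K7) (word8 114) 2 (word8 114) := V_ded2 cs (a := 2) (b := 4) (by decide) v8_114_4 v8_107_2 v8_107_4
theorem v8_123_2 : V cs (par cs K7) (word8 123) 2 (word8 123) := V_ded2 cs (a := 2) (b := 4) (by decide) v8_123_4 v8_115_2 v8_115_4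
theorem v8_105_2 : V cs (par cs K7) (word8 105) 2 (word8 105) := V_ded2 cs (a := 2) (b := 5) (by decide) v8_105_5 v8_98_2 v8_98_5
theorem v8_113_2 : V cs (par cs K7) (word8 113) 2 (word8 113) := V_ded2 cs (a := 2) (b := 5) (by decide) v8_113_5 v8_106_2 v8_106_5
theorem v8_122_2 : V cs (par cs K7) (word8 122) 2 (word8 122) := V_ded2 cs (a := 2) (b := 5) (by decide) v8_122_5 v8_114_2 v8_114_5
theorem v8_130_2 : V cs (par cs K7) (word8 130) 2 (word8 130) := V_ded2 cs (a := 2) (b := 5) (by decide) v8_130_5 v8_123_2 v8_123_5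
theorem v8_112_2 : V cs (par cs K7) (word8 112) 2 (word8 112) := V_ded2 cs (a := 2) (b := 6) (by decide) v8_112_6 v8_105_2 v8_105_6
theorem v8_121_2 : V cs (par cs K7) (word8 121) 2 (word8 121) := V_ded2 cs (a := 2) (b := 6) (by decide) v8_121_6 v8_113_2 v8_113_6
theorem v8_129_2 : V cs (par cs K7) (word8 129) 2 (word8 129) := V_ded2 cs (a := 2) (b := 6) (by decide) v8_129_6 v8_122_2 v8_122_6
theorem v8_136_2 : V cs (par cs K7) (word8 136) 2 (word8 136) := V_ded2 cs (a := 2) (b := 6) (by decide) v8_136_6 v8_130_2 v8_130_6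
theorem v8_120_2 : V cs (par cs K7) (word8 120) 2 (word8 120) := V_ded2 cs (a := 2) (b := 7) (by decide) v8_120_7 v8_112_2 v8_112_7
theorem v8_128_2 : V cs (par cs K7) (word8 128) 2 (word8 128) := V_ded2 cs (a := 2) (b := 7) (by decide) v8_128_7 v8_121_2 v8_121_7
theorem v8_135_2 : V cs (par cs K7) (word8 135) 2 (word8 135) := V_ded2 cs (a := 2) (b := 7) (by decide) v8_135_7 v8_129_2 v8_129_7
theorem v8_142_2 : V cs (par cs K7) (word8 142) 2 (word8 142) := V_ded2 cs (a := 2) (b := 7) (by decide) v8_142_7 v8_136_2 v8_136_7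
theorem v8_138_3 : V cs (par cs K7) (word8 138) 3 (word8 138) := V_ded3 cs (a := 3) (b := 2) (by decide) v8_138_2 v8_131_3 v8_123_2 v8_123_3 v8_131_2
theorem v8_144_3 : V cs (par cs K7) (word8 144) 3 (word8 144) := V_ded3 cs (a := 3) (b := 2) (by decide) v8_144_2 v8_137_3 v8_130_2 v8_130_3 v8_137_2
theorem v8_150_3 : V cs (par cs K7) (word8 150) 3 (word8 150) := V_ded3 cs (a := 3) (b := 2) (by decide) v8_150_2 v8_143_3 v8_136_2 v8_136_3 v8_143_2
theorem v8_156_3 : V cs (par cs K7) (word8 156) 3 (word8 156) := V_ded3 cs (a := 3) (b := 2) (by decide) v8_156_2 v8_149_3 v8_142_2 v8_142_3 v8_149_2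
theorem v8_168_3 : V cs (par cs K7) (word8 168) 3 (word8 168) := V_ded3 cs (a := 3) (b := 4) (by decide) v8_168_4 v8_161_3 v8_153_4 v8_153_3 v8_161_4
theorem v8_173_3 : V cs (par cs K7) (word8 173) 3 (word8 173) := V_ded3 cs (a := 3) (b := 4) (by decide) v8_173_4 v8_166_3 v8_159_4 v8_159_3 v8_166_4
theorem v8_177_3 : V cs (par cs K7) (word8 177) 3 (word8 177) := V_ded3 cs (a := 3) (b := 4) (by decide) v8_177_4 v8_171_3 v8_164_4 v8_164_3 v8_171_4
theorem v8_180_3 : V cs (par cs K7) (word8 180) 3 (word8 180) := V_ded2 cs (a := 3) (b := 5) (by decide) v8_180_5 v8_173_3 v8_173_5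
theorem v8_184_3 : V cs (par cs K7) (word8 184) 3 (word8 184) := V_ded2 cs (a := 3) (b := 5) (by decide) v8_184_5 v8_177_3 v8_177_5
theorem v8_190_3 : V cs (par cs K7) (word8 190) 3 (word8 190) := V_ded2 cs (a := 3) (b := 6) (by decide) v8_190_6 v8_184_3 v8_184_6
theorem v8_155_1 : V cs (par cs K7) (word8 155) 1 (word8 155) := V_ded3 cs (a := 1) (b := 3) (by decide) v8_155_3 v8_147_1 v8_138_3 v8_138_1 v8_147_3
theorem v8_161_1 : V cs (par cs K7) (word8 161) 1 (word8 161) := V_ded3 cs (a := 1) (b := 3) (by decide) v8_161_3 v8_153_1 v8_144_3 v8_144_1 v8_153_3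
theorem v8_166_1 : V cs (par cs K7) (word8 166) 1 (word8 166) := V_ded3 cs (a := 1) (b := 3) (by decide) v8_166_3 v8_159_1 v8_150_3 v8_150_1 v8_159_3
theorem v8_171_1 : V cs (par cs K7) (word8 171) 1 (word8 171) := V_ded3 cs (a := 1) (b := 3) (by decide) v8_171_3 v8_164_1 v8_156_3 v8_156_1 v8_164_3
theorem v8_168_1 : V cs (par cs K7) (word8 168) 1 (word8 168) := V_ded2 cs (a := 1) (b := 4) (by decide) v8_168_4 v8_161_1 v8_161_4
theorem v8_173_1 : V cs (par cs K7) (word8 173) 1 (word8 173) := V_ded2 cs (a := 1) (b := 4) (by decide) v8_173_4 v8_166_1 v8_166_4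
theorem v8_177_1 : V cs (par cs K7) (word8 177) 1 (word8 177) := V_ded2 cs (a := 1) (b := 4) (by decide) v8_177_4 v8_171_1 v8_171_4
theorem v8_180_1 : V cs (par cs K7) (word8 180) 1 (word8 180) := V_ded2 cs (a := 1) (b := 5) (by decide) v8_180_5 v8_173_1 v8_173_5
theorem v8_184_1 : V cs (par cs K7) (word8 184) 1 (word8 184) := V_ded2 cs (a := 1) (b := 5) (by decide) v8_184_5 v8_177_1 v8_177_5
theorem v8_190_1 : V cs (par cs K7) (word8 190) 1 (word8 190) := V_ded2 cs (a := 1) (b := 6) (by decide) v8_190_6 v8_184_1 v8_184_6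
theorem v8_127_4 : V cs (par cs K7) (word8 127) 4 (word8 127) := V_ded2 cs (a := 4) (b := 0) (by decide) v8_127_0 v8_119_4 v8_119_0
theorem v8_134_4 : V cs (par cs K7) (word8 134) 4 (word8 134) := V_ded2 cs (a := 4) (b := 0) (by decide) v8_134_0 v8_126_4 v8_126_0
theorem v8_152_4 : V cs (par cs K7) (word8 152) 4 (word8 152) := V_ded2 cs (a := 4) (b := 0) (by decide) v8_152_0 v8_144_4 v8_144_0
theorem v8_158_4 : V cs (par cs K7) (word8 158) 4 (word8 158) := V_ded2 cs (a := 4) (b := 0) (by decide) v8_158_0 v8_150_4 v8_150_0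
theorem v8_160_4 : V cs (par cs K7) (word8 160) 4 (word8 160) := V_ded2 cs (a := 4) (b := 0) (by decide) v8_160_0 v8_153_4 v8_153_0
theorem v8_163_4 : V cs (par cs K7) (word8 163) 4 (word8 163) := V_ded2 cs (a := 4) (b := 0) (by decide) v8_163_0 v8_156_4 v8_156_0
theorem v8_165_4 : V cs (par cs K7) (word8 165) 4 (word8 165) := V_ded2 cs (a := 4) (b := 0) (by decide) v8_165_0 v8_159_4 v8_159_0
theorem v8_170_4 : V cs (par cs K7) (word8 170) 4 (word8 170) := V_ded2 cs (a := 4) (b := 0) (by decide) v8_170_0 v8_164_4 v8_164_0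
theorem v8_83_4 : V cs (par cs K7) (word8 83) 4 (word8 83) := V_ded2 cs (a := 4) (b := 2) (by decide) v8_83_2 v8_76_4 v8_76_2
theorem v8_180_4 : V cs (par cs K7) (word8 180) 4 (word8 180) := V_ded3 cs (a := 4) (b := 5) (by decide) v8_180_5 v8_173_4 v8_166_5 v8_166_4 v8_173_5
theorem v8_184_4 : V cs (par cs K7) (word8 184) 4 (word8 184) := V_ded3 cs (a := 4) (b := 5) (by decide) v8_184_5 v8_177_4 v8_171_5 v8_171_4 v8_177_5
theorem v8_190_4 : V cs (par cs K7) (word8 190) 4 (word8 190) := V_ded2 cs (a := 4) (b := 6) (by decide) v8_190_6 v8_184_4 v8_184_6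
theorem v8_72_5 : V cs (par cs K7) (word8 72) 5 (word8 72) := V_ded2 cs (a := 5) (b := 0) (by decide) v8_72_0 v8_68_5 v8_68_0
theorem v8_158_5 : V cs (par cs K7) (word8 158) 5 (word8 158) := V_ded2 cs (a := 5) (b := 0) (by decide) v8_158_0 v8_150_5 v8_150_0
theorem v8_163_5 : V cs (par cs K7) (word8 163) 5 (word8 163) := V_ded2 cs (a := 5) (b := 0) (by decide) v8_163_0 v8_156_5 v8_156_0
theorem v8_165_5 : V cs (par cs K7) (word8 165) 5 (word8 165) := V_ded2 cs (a := 5) (b := 0) (by decide) v8_165_0 v8_159_5 v8_159_0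
theorem v8_170_5 : V cs (par cs K7) (word8 170) 5 (word8 170) := V_ded2 cs (a := 5) (b := 0) (by decide) v8_170_0 v8_164_5 v8_164_0
theorem v8_172_5 : V cs (par cs K7) (word8 172) 5 (word8 172) := V_ded2 cs (a := 5) (b := 0) (by decide) v8_172_0 v8_166_5 v8_166_0
theorem v8_176_5 : V cs (par cs K7) (word8 176) 5 (word8 176) := V_ded2 cs (a := 5) (b := 0) (by decide) v8_176_0 v8_171_5 v8_171_0
theorem v8_178_5 : V cs (par cs K7) (word8 178) 5 (word8 178) := V_ded2 cs (a := 5) (b := 2) (by decide) v8_178_2 v8_172_5 v8_172_2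
theorem v8_182_5 : V cs (par cs K7) (word8 182) 5 (word8 182) := V_ded2 cs (a := 5) (b := 2) (by decide) v8_182_2 v8_176_5 v8_176_2
theorem v8_211_5 : V cs (par cs K7) (word8 211) 5 (word8 211) := V_ded2 cs (a := 5) (b := 3) (by decide) v8_211_3 v8_207_5 v8_207_3
theorem v8_212_5 : V cs (par cs K7) (word8 212) 5 (word8 212) := V_ded2 cs (a := 5) (b := 3) (by decide) v8_212_3 v8_208_5 v8_208_3
theorem v8_190_5 : V cs (par cs K7) (word8 190) 5 (word8 190) := V_ded3 cs (a := 5) (b := 6) (by decide) v8_190_6 v8_184_5 v8_177_6 v8_177_5 v8_184_6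
theorem v8_163_6 : V cs (par cs K7) (word8 163) 6 (word8 163) := V_ded2 cs (a := 6) (b := 0) (by decide) v8_163_0 v8_156_6 v8_156_0
theorem v8_170_6 : V cs (par cs K7) (word8 170) 6 (word8 170) := V_ded2 cs (a := 6) (b := 0) (by decide) v8_170_0 v8_164_6 v8_164_0
theorem v8_176_6 : V cs (par cs K7) (word8 176) 6 (word8 176) := V_ded2 cs (a := 6) (b := 0) (by decide) v8_176_0 v8_171_6 v8_171_0
theorem v8_183_6 : V cs (par cs K7) (word8 183) 6 (word8 183) := V_ded2 cs (a := 6) (b := 0) (by decide) v8_183_0 v8_177_6 v8_177_0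
theorem v8_182_6 : V cs (par cs K7) (word8 182) 6 (word8 182) := V_ded2 cs (a := 6) (b := 2) (by decide) v8_182_2 v8_176_6 v8_176_2
theorem v8_188_6 : V cs (par cs K7) (word8 188) 6 (word8 188) := V_ded2 cs (a := 6) (b := 2) (by decide) v8_188_2 v8_183_6 v8_183_2
theorem v8_194_6 : V cs (par cs K7) (word8 194) 6 (word8 194) := V_ded2 cs (a := 6) (b := 3) (by decide) v8_194_3 v8_188_6 v8_188_3
theorem v8_222_6 : V cs (par cs K7) (word8 222) 6 (word8 222) := V_ded2 cs (a := 6) (b := 3) (by decide) v8_222_3 v8_218_6 v8_218_3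
theorem v8_199_6 : V cs (par cs K7) (word8 199) 6 (word8 199) := V_ded2 cs (a := 6) (b := 1) (by decide) v8_199_1 v8_194_6 v8_194_1
theorem v8_225_6 : V cs (par cs K7) (word8 225) 6 (word8 225) := V_ded2 cs (a := 6) (b := 4) (by decide) v8_225_4 v8_222_6 v8_222_4
theorem v8_211_0 : V cs (par cs K7) (word8 211) 0 (word8 211) := V_ded2 cs (a := 0) (b := 3) (by decide) v8_211_3 v8_207_0 v8_207_3
theorem v8_212_0 : V cs (par cs K7) (word8 212) 0 (word8 212) := V_ded2 cs (a := 0) (b := 3) (by decide) v8_212_3 v8_208_0 v8_208_3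
theorem v8_217_0 : V cs (par cs K7) (word8 217) 0 (word8 217) := V_ded2 cs (a := 0) (b := 3) (by decide) v8_217_3 v8_213_0 v8_213_3
theorem v8_222_0 : V cs (par cs K7) (word8 222) 0 (word8 222) := V_ded2 cs (a := 0) (b := 3) (by decide) v8_222_3 v8_218_0 v8_218_3
theorem v8_225_0 : V cs (par cs K7) (word8 225) 0 (word8 225) := V_ded2 cs (a := 0) (b := 4) (by decide) v8_225_4 v8_222_0 v8_222_4
theorem v8_219_2 : V cs (par cs K7) (word8 219) 2 (word8 219) := V_ded3 cs (a := 2) (b := 0) (by decide) v8_219_0 v8_215_2 v8_211_0 v8_211_2 v8_215_0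
theorem v8_220_2 : V cs (par cs K7) (word8 220) 2 (word8 220) := V_ded3 cs (a := 2) (b := 0) (by decide) v8_220_0 v8_216_2 v8_212_0 v8_212_2 v8_216_0
theorem v8_223_2 : V cs (par cs K7) (word8 223) 2 (word8 223) := V_ded3 cs (a := 2) (b := 0) (by decide) v8_223_0 v8_221_2 v8_217_0 v8_217_2 v8_221_0
theorem v8_226_2 : V cs (par cs K7) (word8 226) 2 (word8 226) := V_ded3 cs (a := 2) (b := 0) (by decide) v8_226_0 v8_224_2 v8_222_0 v8_222_2 v8_224_0
theorem v8_228_2 : V cs (par cs K7) (word8 228) 2 (word8 228) := V_ded3 cs (a := 2) (b := 0) (by decide) v8_228_0 v8_227_2 v8_225_0 v8_225_2 v8_227_0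
theorem v8_146_3 : V cs (par cs K7) (word8 146) 3 (word8 146) := V_ded2 cs (a := 3) (b := 0) (by decide) v8_146_0 v8_138_3 v8_138_0
theorem v8_152_3 : V cs (par cs K7) (word8 152) 3 (word8 152) := V_ded2 cs (a := 3) (b := 0) (by decide) v8_152_0 v8_144_3 v8_144_0
theorem v8_158_3 : V cs (par cs K7) (word8 158) 3 (word8 158) := V_ded2 cs (a := 3) (b := 0) (by decide) v8_158_0 v8_150_3 v8_150_0
theorem v8_163_3 : V cs (par cs K7) (word8 163) 3 (word8 163) := V_ded2 cs (a := 3) (b := 0) (by decide) v8_163_0 v8_156_3 v8_156_0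
theorem v8_175_3 : V cs (par cs K7) (word8 175) 3 (word8 175) := V_ded2 cs (a := 3) (b := 0) (by decide) v8_175_0 v8_168_3 v8_168_0
theorem v8_179_3 : V cs (par cs K7) (word8 179) 3 (word8 179) := V_ded2 cs (a := 3) (b := 0) (by decide) v8_179_0 v8_173_3 v8_173_0
theorem v8_183_3 : V cs (par cs K7) (word8 183) 3 (word8 183) := V_ded2 cs (a := 3) (b := 0) (by decide) v8_183_0 v8_177_3 v8_177_0
theorem v8_186_3 : V cs (par cs K7) (word8 186) 3 (word8 186) := V_ded2 cs (a := 3) (b := 0) (by decide) v8_186_0 v8_180_3 v8_180_0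
theorem v8_189_3 : V cs (par cs K7) (word8 189) 3 (word8 189) := V_ded2 cs (a := 3) (b := 0) (by decide) v8_189_0 v8_184_3 v8_184_0
theorem v8_196_3 : V cs (par cs K7) (word8 196) 3 (word8 196) := V_ded2 cs (a := 3) (b := 0) (by decide) v8_196_0 v8_190_3 v8_190_0
theorem v8_232_3 : V cs (par cs K7) (word8 232) 3 (word8 232) := V_ded3 cs (a := 3) (b := 2) (by decide) v8_232_2 v8_230_3 v8_228_2 v8_228_3 v8_230_2
theorem v8_97_3 : V cs (par cs K7) (word8 97) 3 (word8 97) := V_ded3 cs (a := 3) (b := 4) (by decide) v8_97_4 v8_90_3 v8_83_4 v8_83_3 v8_90_4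
theorem v8_162_1 : V cs (par cs K7) (word8 162) 1 (word8 162) := V_ded2 cs (a := 1) (b := 0) (by decide) v8_162_0 v8_155_1 v8_155_0
theorem v8_167_1 : V cs (par cs K7) (word8 167) 1 (word8 167) := V_ded2 cs (a := 1) (b := 0) (by decide) v8_167_0 v8_161_1 v8_161_0
theorem v8_172_1 : V cs (par cs K7) (word8 172) 1 (word8 172) := V_ded2 cs (a := 1) (b := 0) (by decide) v8_172_0 v8_166_1 v8_166_0
theorem v8_175_1 : V cs (par cs K7) (word8 175) 1 (word8 175) := V_ded2 cs (a := 1) (b := 0) (by decide) v8_175_0 v8_168_1 v8_168_0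
theorem v8_176_1 : V cs (par cs K7) (word8 176) 1 (word8 176) := V_ded2 cs (a := 1) (b := 0) (by decide) v8_176_0 v8_171_1 v8_171_0
theorem v8_179_1 : V cs (par cs K7) (word8 179) 1 (word8 179) := V_ded2 cs (a := 1) (b := 0) (by decide) v8_179_0 v8_173_1 v8_173_0
theorem v8_183_1 : V cs (par cs K7) (word8 183) 1 (word8 183) := V_ded2 cs (a := 1) (b := 0) (by decide) v8_183_0 v8_177_1 v8_177_0
theorem v8_186_1 : V cs (par cs K7) (word8 186) 1 (word8 186) := V_ded2 cs (a := 1) (b := 0) (by decide) v8_186_0 v8_180_1 v8_180_0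
theorem v8_189_1 : V cs (par cs K7) (word8 189) 1 (word8 189) := V_ded2 cs (a := 1) (b := 0) (by decide) v8_189_0 v8_184_1 v8_184_0
theorem v8_196_1 : V cs (par cs K7) (word8 196) 1 (word8 196) := V_ded2 cs (a := 1) (b := 0) (by decide) v8_196_0 v8_190_1 v8_190_0
theorem v8_169_1 : V cs (par cs K7) (word8 169) 1 (word8 169) := V_ded2 cs (a := 1) (b := 2) (by decide) v8_169_2 v8_162_1 v8_162_2
theorem v8_174_1 : V cs (par cs K7) (word8 174) 1 (word8 174) := V_ded2 cs (a := 1) (b := 2) (by decide) v8_174_2 v8_167_1 v8_167_2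
theorem v8_178_1 : V cs (par cs K7) (word8 178) 1 (word8 178) := V_ded2 cs (a := 1) (b := 2) (by decide) v8_178_2 v8_172_1 v8_172_2
theorem v8_181_1 : V cs (par cs K7) (word8 181) 1 (word8 181) := V_ded2 cs (a := 1) (b := 2) (by decide) v8_181_2 v8_175_1 v8_175_2
theorem v8_182_1 : V cs (par cs K7) (word8 182) 1 (word8 182) := V_ded2 cs (a := 1) (b := 2) (by decide) v8_182_2 v8_176_1 v8_176_2
theorem v8_185_1 : V cs (par cs K7) (word8 185) 1 (word8 185) := V_ded2 cs (a := 1) (b := 2) (by decide) v8_185_2 v8_179_1 v8_179_2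
theorem v8_188_1 : V cs (par cs K7) (word8 188) 1 (word8 188) := V_ded2 cs (a := 1) (b := 2) (by decide) v8_188_2 v8_183_1 v8_183_2
theorem v8_192_1 : V cs (par cs K7) (word8 192) 1 (word8 192) := V_ded2 cs (a := 1) (b := 2) (by decide) v8_192_2 v8_186_1 v8_186_2
theorem v8_195_1 : V cs (par cs K7) (word8 195) 1 (word8 195) := V_ded2 cs (a := 1) (b := 2) (by decide) v8_195_2 v8_189_1 v8_189_2
theorem v8_201_1 : V cs (par cs K7) (word8 201) 1 (word8 201) := V_ded2 cs (a := 1) (b := 2) (by decide) v8_201_2 v8_196_1 v8_196_2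
theorem v8_111_1 : V cs (par cs K7) (word8 111) 1 (word8 111) := V_ded3 cs (a := 1) (b := 3) (by decide) v8_111_3 v8_104_1 v8_97_3 v8_97_1 v8_104_3
theorem v8_235_1 : V cs (par cs K7) (word8 235) 1 (word8 235) := V_ded3 cs (a := 1) (b := 3) (by decide) v8_235_3 v8_234_1 v8_232_3 v8_232_1 v8_234_3
theorem v8_236_1 : V cs (par cs K7) (word8 236) 1 (word8 236) := V_ded2 cs (a := 1) (b := 4) (by decide) v8_236_4 v8_235_1 v8_235_4
theorem v8_237_1 : V cs (par cs K7) (word8 237) 1 (word8 237) := V_ded2 cs (a := 1) (b := 5) (by decide) v8_237_5 v8_236_1 v8_236_5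
theorem v8_238_1 : V cs (par cs K7) (word8 238) 1 (word8 238) := V_ded2 cs (a := 1) (b := 6) (by decide) v8_238_6 v8_237_1 v8_237_6
theorem v8_239_1 : V cs (par cs K7) (word8 239) 1 (word8 239) := V_ded2 cs (a := 1) (b := 7) (by decide) v8_239_7 v8_238_1 v8_238_7
theorem v8_88_4 : V cs (par cs K7) (word8 88) 4 (word8 88) := V_ded2 cs (a := 4) (b := 0) (by decide) v8_88_0 v8_83_4 v8_83_0
theorem v8_186_4 : V cs (par cs K7) (word8 186) 4 (word8 186) := V_ded2 cs (a := 4) (b := 0) (by decide) v8_186_0 v8_180_4 v8_180_0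
theorem v8_189_4 : V cs (par cs K7) (word8 189) 4 (word8 189) := V_ded2 cs (a := 4) (b := 0) (by decide) v8_189_0 v8_184_4 v8_184_0
theorem v8_196_4 : V cs (par cs K7) (word8 196) 4 (word8 196) := V_ded2 cs (a := 4) (b := 0) (by decide) v8_196_0 v8_190_4 v8_190_0
theorem v8_192_4 : V cs (par cs K7) (word8 192) 4 (word8 192) := V_ded2 cs (a := 4) (b := 2) (by decide) v8_192_2 v8_186_4 v8_186_2
theorem v8_195_4 : V cs (par cs K7) (word8 195) 4 (word8 195) := V_ded2 cs (a := 4) (b := 2) (by decide) v8_195_2 v8_189_4 v8_189_2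
theorem v8_201_4 : V cs (par cs K7) (word8 201) 4 (word8 201) := V_ded2 cs (a := 4) (b := 2) (by decide) v8_201_2 v8_196_4 v8_196_2
theorem v8_196_5 : V cs (par cs K7) (word8 196) 5 (word8 196) := V_ded2 cs (a := 5) (b := 0) (by decide) v8_196_0 v8_190_5 v8_190_0
theorem v8_201_5 : V cs (par cs K7) (word8 201) 5 (word8 201) := V_ded2 cs (a := 5) (b := 2) (by decide) v8_201_2 v8_196_5 v8_196_2
theorem v8_215_5 : V cs (par cs K7) (word8 215) 5 (word8 215) := V_ded2 cs (a := 5) (b := 2) (by decide) v8_215_2 v8_211_5 v8_211_2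
theorem v8_216_5 : V cs (par cs K7) (word8 216) 5 (word8 216) := V_ded2 cs (a := 5) (b := 2) (by decide) v8_216_2 v8_212_5 v8_212_2
theorem v8_206_5 : V cs (par cs K7) (word8 206) 5 (word8 206) := V_ded2 cs (a := 5) (b := 3) (by decide) v8_206_3 v8_201_5 v8_201_3
theorem v8_209_5 : V cs (par cs K7) (word8 209) 5 (word8 209) := V_ded2 cs (a := 5) (b := 1) (by decide) v8_209_1 v8_206_5 v8_206_1
theorem v8_224_6 : V cs (par cs K7) (word8 224) 6 (word8 224) := V_ded2 cs (a := 6) (b := 2) (by decide) v8_224_2 v8_222_6 v8_222_2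
theorem v8_227_6 : V cs (par cs K7) (word8 227) 6 (word8 227) := V_ded2 cs (a := 6) (b := 2) (by decide) v8_227_2 v8_225_6 v8_225_2
theorem v8_229_6 : V cs (par cs K7) (word8 229) 6 (word8 229) := V_ded2 cs (a := 6) (b := 3) (by decide) v8_229_3 v8_227_6 v8_227_3
theorem v8_231_6 : V cs (par cs K7) (word8 231) 6 (word8 231) := V_ded2 cs (a := 6) (b := 1) (by decide) v8_231_1 v8_229_6 v8_229_1
theorem v8_187_2 : V cs (par cs K7) (word8 187) 2 (word8 187) := V_ded3 cs (a := 2) (b := 3) (by decide) v8_187_3 v8_181_2 v8_175_3 v8_175_2 v8_181_3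
theorem v8_191_2 : V cs (par cs K7) (word8 191) 2 (word8 191) := V_ded3 cs (a := 2) (b := 3) (by decide) v8_191_3 v8_185_2 v8_179_3 v8_179_2 v8_185_3
theorem v8_194_2 : V cs (par cs K7) (word8 194) 2 (word8 194) := V_ded3 cs (a := 2) (b := 3) (by decide) v8_194_3 v8_188_2 v8_183_3 v8_183_2 v8_188_3
theorem v8_198_2 : V cs (par cs K7) (word8 198) 2 (word8 198) := V_ded3 cs (a := 2) (b := 3) (by decide) v8_198_3 v8_192_2 v8_186_3 v8_186_2 v8_192_3
theorem v8_200_2 : V cs (par cs K7) (word8 200) 2 (word8 200) := V_ded3 cs (a := 2) (b := 3) (by decide) v8_200_3 v8_195_2 v8_189_3 v8_189_2 v8_195_3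
theorem v8_206_2 : V cs (par cs K7) (word8 206) 2 (word8 206) := V_ded3 cs (a := 2) (b := 3) (by decide) v8_206_3 v8_201_2 v8_196_3 v8_196_2 v8_201_3
theorem v8_193_2 : V cs (par cs K7) (word8 193) 2 (word8 193) := V_ded2 cs (a := 2) (b := 1) (by decide) v8_193_1 v8_187_2 v8_187_1
theorem v8_197_2 : V cs (par cs K7) (word8 197) 2 (word8 197) := V_ded2 cs (a := 2) (b := 1) (by decide) v8_197_1 v8_191_2 v8_191_1
theorem v8_199_2 : V cs (par cs K7) (word8 199) 2 (word8 199) := V_ded2 cs (a := 2) (b := 1) (by decide) v8_199_1 v8_194_2 v8_194_1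
theorem v8_202_2 : V cs (par cs K7) (word8 202) 2 (word8 202) := V_ded2 cs (a := 2) (b := 1) (by decide) v8_202_1 v8_198_2 v8_198_1
theorem v8_204_2 : V cs (par cs K7) (word8 204) 2 (word8 204) := V_ded2 cs (a := 2) (b := 1) (by decide) v8_204_1 v8_200_2 v8_200_1
theorem v8_209_2 : V cs (par cs K7) (word8 209) 2 (word8 209) := V_ded2 cs (a := 2) (b := 1) (by decide) v8_209_1 v8_206_2 v8_206_1
theorem v8_203_2 : V cs (par cs K7) (word8 203) 2 (word8 203) := V_ded2 cs (a := 2) (b := 4) (by decide) v8_203_4 v8_198_2 v8_198_4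
theorem v8_205_2 : V cs (par cs K7) (word8 205) 2 (word8 205) := V_ded2 cs (a := 2) (b := 4) (by decide) v8_205_4 v8_200_2 v8_200_4
theorem v8_207_2 : V cs (par cs K7) (word8 207) 2 (word8 207) := V_ded2 cs (a := 2) (b := 4) (by decide) v8_207_4 v8_202_2 v8_202_4
theorem v8_208_2 : V cs (par cs K7) (word8 208) 2 (word8 208) := V_ded2 cs (a := 2) (b := 4) (by decide) v8_208_4 v8_204_2 v8_204_4
theorem v8_210_2 : V cs (par cs K7) (word8 210) 2 (word8 210) := V_ded2 cs (a := 2) (b := 4) (by decide) v8_210_4 v8_206_2 v8_206_4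
theorem v8_213_2 : V cs (par cs K7) (word8 213) 2 (word8 213) := V_ded2 cs (a := 2) (b := 4) (by decide) v8_213_4 v8_209_2 v8_209_4
theorem v8_214_2 : V cs (par cs K7) (word8 214) 2 (word8 214) := V_ded2 cs (a := 2) (b := 5) (by decide) v8_214_5 v8_210_2 v8_210_5
theorem v8_218_2 : V cs (par cs K7) (word8 218) 2 (word8 218) := V_ded2 cs (a := 2) (b := 5) (by decide) v8_218_5 v8_213_2 v8_213_5
theorem v8_103_3 : V cs (par cs K7) (word8 103) 3 (word8 103) := V_ded2 cs (a := 3) (b := 0) (by decide) v8_103_0 v8_97_3 v8_97_0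
theorem v8_215_3 : V cs (par cs K7) (word8 215) 3 (word8 215) := V_ded3 cs (a := 3) (b := 2) (by decide) v8_215_2 v8_211_3 v8_207_2 v8_207_3 v8_211_2
theorem v8_216_3 : V cs (par cs K7) (word8 216) 3 (word8 216) := V_ded3 cs (a := 3) (b := 2) (by decide) v8_216_2 v8_212_3 v8_208_2 v8_208_3 v8_212_2
theorem v8_221_3 : V cs (par cs K7) (word8 221) 3 (word8 221) := V_ded3 cs (a := 3) (b := 2) (by decide) v8_221_2 v8_217_3 v8_213_2 v8_213_3 v8_217_2
theorem v8_224_3 : V cs (par cs K7) (word8 224) 3 (word8 224) := V_ded3 cs (a := 3) (b := 2) (by decide) v8_224_2 v8_222_3 v8_218_2 v8_218_3 v8_222_2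
theorem v8_193_3 : V cs (par cs K7) (word8 193) 3 (word8 193) := V_ded3 cs (a := 3) (b := 1) (by decide) v8_193_1 v8_187_3 v8_181_1 v8_181_3 v8_187_1
theorem v8_197_3 : V cs (par cs K7) (word8 197) 3 (word8 197) := V_ded3 cs (a := 3) (b := 1) (by decide) v8_197_1 v8_191_3 v8_185_1 v8_185_3 v8_191_1
theorem v8_199_3 : V cs (par cs K7) (word8 199) 3 (word8 199) := V_ded3 cs (a := 3) (b := 1) (by decide) v8_199_1 v8_194_3 v8_188_1 v8_188_3 v8_194_1
theorem v8_202_3 : V cs (par cs K7) (word8 202) 3 (word8 202) := V_ded3 cs (a := 3) (b := 1) (by decide) v8_202_1 v8_198_3 v8_192_1 v8_192_3 v8_198_1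
theorem v8_204_3 : V cs (par cs K7) (word8 204) 3 (word8 204) := V_ded3 cs (a := 3) (b := 1) (by decide) v8_204_1 v8_200_3 v8_195_1 v8_195_3 v8_200_1
theorem v8_209_3 : V cs (par cs K7) (word8 209) 3 (word8 209) := V_ded3 cs (a := 3) (b := 1) (by decide) v8_209_1 v8_206_3 v8_201_1 v8_201_3 v8_206_1
theorem v8_203_3 : V cs (par cs K7) (word8 203) 3 (word8 203) := V_ded3 cs (a := 3) (b := 4) (by decide) v8_203_4 v8_198_3 v8_192_4 v8_192_3 v8_198_4
theorem v8_205_3 : V cs (par cs K7) (word8 205) 3 (word8 205) := V_ded3 cs (a := 3) (b := 4) (by decide) v8_205_4 v8_200_3 v8_195_4 v8_195_3 v8_200_4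
theorem v8_210_3 : V cs (par cs K7) (word8 210) 3 (word8 210) := V_ded3 cs (a := 3) (b := 4) (by decide) v8_210_4 v8_206_3 v8_201_4 v8_201_3 v8_206_4
theorem v8_214_3 : V cs (par cs K7) (word8 214) 3 (word8 214) := V_ded2 cs (a := 3) (b := 5) (by decide) v8_214_5 v8_210_3 v8_210_5
theorem v8_118_1 : V cs (par cs K7) (word8 118) 1 (word8 118) := V_ded2 cs (a := 1) (b := 0) (by decide) v8_118_0 v8_111_1 v8_111_0
theorem v8_119_1 : V cs (par cs K7) (word8 119) 1 (word8 119) := V_ded2 cs (a := 1) (b := 2) (by decide) v8_119_2 v8_111_1 v8_111_2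
theorem v8_126_1 : V cs (par cs K7) (word8 126) 1 (word8 126) := V_ded2 cs (a := 1) (b := 2) (by decide) v8_126_2 v8_118_1 v8_118_2
theorem v8_211_1 : V cs (par cs K7) (word8 211) 1 (word8 211) := V_ded3 cs (a := 1) (b := 3) (by decide) v8_211_3 v8_207_1 v8_203_3 v8_203_1 v8_207_3
theorem v8_212_1 : V cs (par cs K7) (word8 212) 1 (word8 212) := V_ded3 cs (a := 1) (b := 3) (by decide) v8_212_3 v8_208_1 v8_205_3 v8_205_1 v8_208_3
theorem v8_217_1 : V cs (par cs K7) (word8 217) 1 (word8 217) := V_ded3 cs (a := 1) (b := 3) (by decide) v8_217_3 v8_213_1 v8_210_3 v8_210_1 v8_213_3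
theorem v8_222_1 : V cs (par cs K7) (word8 222) 1 (word8 222) := V_ded3 cs (a := 1) (b := 3) (by decide) v8_222_3 v8_218_1 v8_214_3 v8_214_1 v8_218_3
theorem v8_225_1 : V cs (par cs K7) (word8 225) 1 (word8 225) := V_ded2 cs (a := 1) (b := 4) (by decide) v8_225_4 v8_222_1 v8_222_4
theorem v8_211_4 : V cs (par cs K7) (word8 211) 4 (word8 211) := V_ded3 cs (a := 4) (b := 3) (by decide) v8_211_3 v8_207_4 v8_202_3 v8_202_4 v8_207_3
theorem v8_212_4 : V cs (par cs K7) (word8 212) 4 (word8 212) := V_ded3 cs (a := 4) (b := 3) (by decide) v8_212_3 v8_208_4 v8_204_3 v8_204_4 v8_208_3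
theorem v8_217_4 : V cs (par cs K7) (word8 217) 4 (word8 217) := V_ded3 cs (a := 4) (b := 3) (by decide) v8_217_3 v8_213_4 v8_209_3 v8_209_4 v8_213_3
theorem v8_229_4 : V cs (par cs K7) (word8 229) 4 (word8 229) := V_ded3 cs (a := 4) (b := 3) (by decide) v8_229_3 v8_227_4 v8_224_3 v8_224_4 v8_227_3
theorem v8_231_4 : V cs (par cs K7) (word8 231) 4 (word8 231) := V_ded2 cs (a := 4) (b := 1) (by decide) v8_231_1 v8_229_4 v8_229_1
theorem v8_214_4 : V cs (par cs K7) (word8 214) 4 (word8 214) := V_ded3 cs (a := 4) (b := 5) (by decide) v8_214_5 v8_210_4 v8_206_5 v8_206_4 v8_210_5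
theorem v8_218_4 : V cs (par cs K7) (word8 218) 4 (word8 218) := V_ded3 cs (a := 4) (b := 5) (by decide) v8_218_5 v8_213_4 v8_209_5 v8_209_4 v8_213_5
theorem v8_219_5 : V cs (par cs K7) (word8 219) 5 (word8 219) := V_ded2 cs (a := 5) (b := 0) (by decide) v8_219_0 v8_215_5 v8_215_0
theorem v8_220_5 : V cs (par cs K7) (word8 220) 5 (word8 220) := V_ded2 cs (a := 5) (b := 0) (by decide) v8_220_0 v8_216_5 v8_216_0
theorem v8_225_5 : V cs (par cs K7) (word8 225) 5 (word8 225) := V_ded3 cs (a := 5) (b := 4) (by decide) v8_225_4 v8_222_5 v8_217_4 v8_217_5 v8_222_4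
theorem v8_226_6 : V cs (par cs K7) (word8 226) 6 (word8 226) := V_ded2 cs (a := 6) (b := 0) (by decide) v8_226_0 v8_224_6 v8_224_0
theorem v8_228_6 : V cs (par cs K7) (word8 228) 6 (word8 228) := V_ded2 cs (a := 6) (b := 0) (by decide) v8_228_0 v8_227_6 v8_227_0
theorem v8_230_6 : V cs (par cs K7) (word8 230) 6 (word8 230) := V_ded2 cs (a := 6) (b := 0) (by decide) v8_230_0 v8_229_6 v8_229_0
theorem v8_233_6 : V cs (par cs K7) (word8 233) 6 (word8 233) := V_ded2 cs (a := 6) (b := 0) (by decide) v8_233_0 v8_231_6 v8_231_0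
theorem v8_232_6 : V cs (par cs K7) (word8 232) 6 (word8 232) := V_ded2 cs (a := 6) (b := 2) (by decide) v8_232_2 v8_230_6 v8_230_2
theorem v8_234_6 : V cs (par cs K7) (word8 234) 6 (word8 234) := V_ded2 cs (a := 6) (b := 2) (by decide) v8_234_2 v8_233_6 v8_233_2
theorem v8_235_6 : V cs (par cs K7) (word8 235) 6 (word8 235) := V_ded2 cs (a := 6) (b := 3) (by decide) v8_235_3 v8_234_6 v8_234_3
theorem v8_236_6 : V cs (par cs K7) (word8 236) 6 (word8 236) := V_ded2 cs (a := 6) (b := 4) (by decide) v8_236_4 v8_235_6 v8_235_4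
theorem v8_117_2 : V cs (par cs K7) (word8 117) 2 (word8 117) := V_ded3 cs (a := 2) (b := 3) (by decide) v8_117_3 v8_109_2 v8_103_3 v8_103_2 v8_109_3
theorem v8_125_2 : V cs (par cs K7) (word8 125) 2 (word8 125) := V_ded2 cs (a := 2) (b := 1) (by decide) v8_125_1 v8_117_2 v8_117_1
theorem v8_219_3 : V cs (par cs K7) (word8 219) 3 (word8 219) := V_ded2 cs (a := 3) (b := 0) (by decide) v8_219_0 v8_215_3 v8_215_0
theorem v8_220_3 : V cs (par cs K7) (word8 220) 3 (word8 220) := V_ded2 cs (a := 3) (b := 0) (by decide) v8_220_0 v8_216_3 v8_216_0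
theorem v8_223_3 : V cs (par cs K7) (word8 223) 3 (word8 223) := V_ded2 cs (a := 3) (b := 0) (by decide) v8_223_0 v8_221_3 v8_221_0
theorem v8_226_3 : V cs (par cs K7) (word8 226) 3 (word8 226) := V_ded2 cs (a := 3) (b := 0) (by decide) v8_226_0 v8_224_3 v8_224_0
theorem v8_141_3 : V cs (par cs K7) (word8 141) 3 (word8 141) := V_ded3 cs (a := 3) (b := 2) (by decide) v8_141_2 v8_133_3 v8_125_2 v8_125_3 v8_133_2
theorem v8_225_3 : V cs (par cs K7) (word8 225) 3 (word8 225) := V_ded3 cs (a := 3) (b := 4) (by decide) v8_225_4 v8_222_3 v8_218_4 v8_218_3 v8_222_4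
theorem v8_127_1 : V cs (par cs K7) (word8 127) 1 (word8 127) := V_ded2 cs (a := 1) (b := 0) (by decide) v8_127_0 v8_119_1 v8_119_0
theorem v8_134_1 : V cs (par cs K7) (word8 134) 1 (word8 134) := V_ded2 cs (a := 1) (b := 0) (by decide) v8_134_0 v8_126_1 v8_126_0
theorem v8_215_1 : V cs (par cs K7) (word8 215) 1 (word8 215) := V_ded2 cs (a := 1) (b := 2) (by decide) v8_215_2 v8_211_1 v8_211_2
theorem v8_216_1 : V cs (par cs K7) (word8 216) 1 (word8 216) := V_ded2 cs (a := 1) (b := 2) (by decide) v8_216_2 v8_212_1 v8_212_2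
theorem v8_221_1 : V cs (par cs K7) (word8 221) 1 (word8 221) := V_ded2 cs (a := 1) (b := 2) (by decide) v8_221_2 v8_217_1 v8_217_2
theorem v8_224_1 : V cs (par cs K7) (word8 224) 1 (word8 224) := V_ded2 cs (a := 1) (b := 2) (by decide) v8_224_2 v8_222_1 v8_222_2
theorem v8_227_1 : V cs (par cs K7) (word8 227) 1 (word8 227) := V_ded2 cs (a := 1) (b := 2) (by decide) v8_227_2 v8_225_1 v8_225_2
theorem v8_230_4 : V cs (par cs K7) (word8 230) 4 (word8 230) := V_ded2 cs (a := 4) (b := 0) (by decide) v8_230_0 v8_229_4 v8_229_0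
theorem v8_233_4 : V cs (par cs K7) (word8 233) 4 (word8 233) := V_ded2 cs (a := 4) (b := 0) (by decide) v8_233_0 v8_231_4 v8_231_0
theorem v8_215_4 : V cs (par cs K7) (word8 215) 4 (word8 215) := V_ded2 cs (a := 4) (b := 2) (by decide) v8_215_2 v8_211_4 v8_211_2
theorem v8_216_4 : V cs (par cs K7) (word8 216) 4 (word8 216) := V_ded2 cs (a := 4) (b := 2) (by decide) v8_216_2 v8_212_4 v8_212_2
theorem v8_221_4 : V cs (par cs K7) (word8 221) 4 (word8 221) := V_ded2 cs (a := 4) (b := 2) (by decide) v8_221_2 v8_217_4 v8_217_2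
theorem v8_232_4 : V cs (par cs K7) (word8 232) 4 (word8 232) := V_ded2 cs (a := 4) (b := 2) (by decide) v8_232_2 v8_230_4 v8_230_2
theorem v8_234_4 : V cs (par cs K7) (word8 234) 4 (word8 234) := V_ded2 cs (a := 4) (b := 2) (by decide) v8_234_2 v8_233_4 v8_233_2
theorem v8_155_4 : V cs (par cs K7) (word8 155) 4 (word8 155) := V_ded3 cs (a := 4) (b := 3) (by decide) v8_155_3 v8_147_4 v8_141_3 v8_141_4 v8_147_3
theorem v8_227_5 : V cs (par cs K7) (word8 227) 5 (word8 227) := V_ded2 cs (a := 5) (b := 2) (by decide) v8_227_2 v8_225_5 v8_225_2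
theorem v8_229_5 : V cs (par cs K7) (word8 229) 5 (word8 229) := V_ded2 cs (a := 5) (b := 3) (by decide) v8_229_3 v8_227_5 v8_227_3
theorem v8_231_5 : V cs (par cs K7) (word8 231) 5 (word8 231) := V_ded2 cs (a := 5) (b := 1) (by decide) v8_231_1 v8_229_5 v8_229_1
theorem v8_168_5 : V cs (par cs K7) (word8 168) 5 (word8 168) := V_ded3 cs (a := 5) (b := 4) (by decide) v8_168_4 v8_161_5 v8_155_4 v8_155_5 v8_161_4
theorem v8_238_5 : V cs (par cs K7) (word8 238) 5 (word8 238) := V_ded3 cs (a := 5) (b := 6) (by decide) v8_238_6 v8_237_5 v8_236_6 v8_236_5 v8_237_6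
theorem v8_239_5 : V cs (par cs K7) (word8 239) 5 (word8 239) := V_ded2 cs (a := 5) (b := 7) (by decide) v8_239_7 v8_238_5 v8_238_7
theorem v8_180_6 : V cs (par cs K7) (word8 180) 6 (word8 180) := V_ded3 cs (a := 6) (b := 5) (by decide) v8_180_5 v8_173_6 v8_168_5 v8_168_6 v8_173_5
theorem v8_190_7 : V cs (par cs K7) (word8 190) 7 (word8 190) := V_ded3 cs (a := 7) (b := 6) (by decide) v8_190_6 v8_184_7 v8_180_6 v8_180_7 v8_184_6
theorem v8_229_2 : V cs (par cs K7) (word8 229) 2 (word8 229) := V_ded3 cs (a := 2) (b := 3) (by decide) v8_229_3 v8_227_2 v8_225_3 v8_225_2 v8_227_3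
theorem v8_231_2 : V cs (par cs K7) (word8 231) 2 (word8 231) := V_ded2 cs (a := 2) (b := 1) (by decide) v8_231_1 v8_229_2 v8_229_1
theorem v8_148_3 : V cs (par cs K7) (word8 148) 3 (word8 148) := V_ded2 cs (a := 3) (b := 0) (by decide) v8_148_0 v8_141_3 v8_141_0
theorem v8_231_3 : V cs (par cs K7) (word8 231) 3 (word8 231) := V_ded3 cs (a := 3) (b := 1) (by decide) v8_231_1 v8_229_3 v8_227_1 v8_227_3 v8_229_1
theorem v8_236_3 : V cs (par cs K7) (word8 236) 3 (word8 236) := V_ded3 cs (a := 3) (b := 4) (by decide) v8_236_4 v8_235_3 v8_234_4 v8_234_3 v8_235_4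
theorem v8_237_3 : V cs (par cs K7) (word8 237) 3 (word8 237) := V_ded2 cs (a := 3) (b := 5) (by decide) v8_237_5 v8_236_3 v8_236_5
theorem v8_238_3 : V cs (par cs K7) (word8 238) 3 (word8 238) := V_ded2 cs (a := 3) (b := 6) (by decide) v8_238_6 v8_237_3 v8_237_6
theorem v8_239_3 : V cs (par cs K7) (word8 239) 3 (word8 239) := V_ded2 cs (a := 3) (b := 7) (by decide) v8_239_7 v8_238_3 v8_238_7
theorem v8_219_1 : V cs (par cs K7) (word8 219) 1 (word8 219) := V_ded2 cs (a := 1) (b := 0) (by decide) v8_219_0 v8_215_1 v8_215_0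
theorem v8_220_1 : V cs (par cs K7) (word8 220) 1 (word8 220) := V_ded2 cs (a := 1) (b := 0) (by decide) v8_220_0 v8_216_1 v8_216_0
theorem v8_223_1 : V cs (par cs K7) (word8 223) 1 (word8 223) := V_ded2 cs (a := 1) (b := 0) (by decide) v8_223_0 v8_221_1 v8_221_0
theorem v8_226_1 : V cs (par cs K7) (word8 226) 1 (word8 226) := V_ded2 cs (a := 1) (b := 0) (by decide) v8_226_0 v8_224_1 v8_224_0
theorem v8_228_1 : V cs (par cs K7) (word8 228) 1 (word8 228) := V_ded2 cs (a := 1) (b := 0) (by decide) v8_228_0 v8_227_1 v8_227_0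
theorem v8_162_4 : V cs (par cs K7) (word8 162) 4 (word8 162) := V_ded2 cs (a := 4) (b := 0) (by decide) v8_162_0 v8_155_4 v8_155_0
theorem v8_219_4 : V cs (par cs K7) (word8 219) 4 (word8 219) := V_ded2 cs (a := 4) (b := 0) (by decide) v8_219_0 v8_215_4 v8_215_0
theorem v8_220_4 : V cs (par cs K7) (word8 220) 4 (word8 220) := V_ded2 cs (a := 4) (b := 0) (by decide) v8_220_0 v8_216_4 v8_216_0
theorem v8_223_4 : V cs (par cs K7) (word8 223) 4 (word8 223) := V_ded2 cs (a := 4) (b := 0) (by decide) v8_223_0 v8_221_4 v8_221_0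
theorem v8_169_4 : V cs (par cs K7) (word8 169) 4 (word8 169) := V_ded2 cs (a := 4) (b := 2) (by decide) v8_169_2 v8_162_4 v8_162_2
theorem v8_175_5 : V cs (par cs K7) (word8 175) 5 (word8 175) := V_ded2 cs (a := 5) (b := 0) (by decide) v8_175_0 v8_168_5 v8_168_0
theorem v8_228_5 : V cs (par cs K7) (word8 228) 5 (word8 228) := V_ded2 cs (a := 5) (b := 0) (by decide) v8_228_0 v8_227_5 v8_227_0
theorem v8_230_5 : V cs (par cs K7) (word8 230) 5 (word8 230) := V_ded2 cs (a := 5) (b := 0) (by decide) v8_230_0 v8_229_5 v8_229_0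
theorem v8_233_5 : V cs (par cs K7) (word8 233) 5 (word8 233) := V_ded2 cs (a := 5) (b := 0) (by decide) v8_233_0 v8_231_5 v8_231_0
theorem v8_181_5 : V cs (par cs K7) (word8 181) 5 (word8 181) := V_ded2 cs (a := 5) (b := 2) (by decide) v8_181_2 v8_175_5 v8_175_2
theorem v8_232_5 : V cs (par cs K7) (word8 232) 5 (word8 232) := V_ded2 cs (a := 5) (b := 2) (by decide) v8_232_2 v8_230_5 v8_230_2
theorem v8_234_5 : V cs (par cs K7) (word8 234) 5 (word8 234) := V_ded2 cs (a := 5) (b := 2) (by decide) v8_234_2 v8_233_5 v8_233_2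
theorem v8_187_5 : V cs (par cs K7) (word8 187) 5 (word8 187) := V_ded2 cs (a := 5) (b := 3) (by decide) v8_187_3 v8_181_5 v8_181_3
theorem v8_235_5 : V cs (par cs K7) (word8 235) 5 (word8 235) := V_ded2 cs (a := 5) (b := 3) (by decide) v8_235_3 v8_234_5 v8_234_3
theorem v8_193_5 : V cs (par cs K7) (word8 193) 5 (word8 193) := V_ded2 cs (a := 5) (b := 1) (by decide) v8_193_1 v8_187_5 v8_187_1
theorem v8_186_6 : V cs (par cs K7) (word8 186) 6 (word8 186) := V_ded2 cs (a := 6) (b := 0) (by decide) v8_186_0 v8_180_6 v8_180_0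
theorem v8_192_6 : V cs (par cs K7) (word8 192) 6 (word8 192) := V_ded2 cs (a := 6) (b := 2) (by decide) v8_192_2 v8_186_6 v8_186_2
theorem v8_198_6 : V cs (par cs K7) (word8 198) 6 (word8 198) := V_ded2 cs (a := 6) (b := 3) (by decide) v8_198_3 v8_192_6 v8_192_3
theorem v8_202_6 : V cs (par cs K7) (word8 202) 6 (word8 202) := V_ded2 cs (a := 6) (b := 1) (by decide) v8_202_1 v8_198_6 v8_198_1
theorem v8_203_6 : V cs (par cs K7) (word8 203) 6 (word8 203) := V_ded2 cs (a := 6) (b := 4) (by decide) v8_203_4 v8_198_6 v8_198_4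
theorem v8_207_6 : V cs (par cs K7) (word8 207) 6 (word8 207) := V_ded2 cs (a := 6) (b := 4) (by decide) v8_207_4 v8_202_6 v8_202_4
theorem v8_196_7 : V cs (par cs K7) (word8 196) 7 (word8 196) := V_ded2 cs (a := 7) (b := 0) (by decide) v8_196_0 v8_190_7 v8_190_0
theorem v8_201_7 : V cs (par cs K7) (word8 201) 7 (word8 201) := V_ded2 cs (a := 7) (b := 2) (by decide) v8_201_2 v8_196_7 v8_196_2
theorem v8_206_7 : V cs (par cs K7) (word8 206) 7 (word8 206) := V_ded2 cs (a := 7) (b := 3) (by decide) v8_206_3 v8_201_7 v8_201_3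
theorem v8_209_7 : V cs (par cs K7) (word8 209) 7 (word8 209) := V_ded2 cs (a := 7) (b := 1) (by decide) v8_209_1 v8_206_7 v8_206_1
theorem v8_210_7 : V cs (par cs K7) (word8 210) 7 (word8 210) := V_ded2 cs (a := 7) (b := 4) (by decide) v8_210_4 v8_206_7 v8_206_4
theorem v8_213_7 : V cs (par cs K7) (word8 213) 7 (word8 213) := V_ded2 cs (a := 7) (b := 4) (by decide) v8_213_4 v8_209_7 v8_209_4
theorem v8_214_7 : V cs (par cs K7) (word8 214) 7 (word8 214) := V_ded2 cs (a := 7) (b := 5) (by decide) v8_214_5 v8_210_7 v8_210_5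
theorem v8_218_7 : V cs (par cs K7) (word8 218) 7 (word8 218) := V_ded2 cs (a := 7) (b := 5) (by decide) v8_218_5 v8_213_7 v8_213_5
theorem v8_232_0 : V cs (par cs K7) (word8 232) 0 (word8 232) := V_ded3 cs (a := 0) (b := 2) (by decide) v8_232_2 v8_230_0 v8_229_2 v8_229_0 v8_230_2
theorem v8_234_0 : V cs (par cs K7) (word8 234) 0 (word8 234) := V_ded3 cs (a := 0) (b := 2) (by decide) v8_234_2 v8_233_0 v8_231_2 v8_231_0 v8_233_2
theorem v8_235_0 : V cs (par cs K7) (word8 235) 0 (word8 235) := V_ded2 cs (a := 0) (b := 3) (by decide) v8_235_3 v8_234_0 v8_234_3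
theorem v8_236_0 : V cs (par cs K7) (word8 236) 0 (word8 236) := V_ded2 cs (a := 0) (b := 4) (by decide) v8_236_4 v8_235_0 v8_235_4
theorem v8_237_0 : V cs (par cs K7) (word8 237) 0 (word8 237) := V_ded2 cs (a := 0) (b := 5) (by decide) v8_237_5 v8_236_0 v8_236_5
theorem v8_238_0 : V cs (par cs K7) (word8 238) 0 (word8 238) := V_ded2 cs (a := 0) (b := 6) (by decide) v8_238_6 v8_237_0 v8_237_6
theorem v8_239_0 : V cs (par cs K7) (word8 239) 0 (word8 239) := V_ded2 cs (a := 0) (b := 7) (by decide) v8_239_7 v8_238_0 v8_238_7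
theorem v8_233_3 : V cs (par cs K7) (word8 233) 3 (word8 233) := V_ded2 cs (a := 3) (b := 0) (by decide) v8_233_0 v8_231_3 v8_231_0
theorem v8_237_4 : V cs (par cs K7) (word8 237) 4 (word8 237) := V_ded3 cs (a := 4) (b := 5) (by decide) v8_237_5 v8_236_4 v8_235_5 v8_235_4 v8_236_5
theorem v8_238_4 : V cs (par cs K7) (word8 238) 4 (word8 238) := V_ded2 cs (a := 4) (b := 6) (by decide) v8_238_6 v8_237_4 v8_237_6
theorem v8_239_4 : V cs (par cs K7) (word8 239) 4 (word8 239) := V_ded2 cs (a := 4) (b := 7) (by decide) v8_239_7 v8_238_4 v8_238_7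
theorem v8_211_6 : V cs (par cs K7) (word8 211) 6 (word8 211) := V_ded2 cs (a := 6) (b := 3) (by decide) v8_211_3 v8_207_6 v8_207_3
theorem v8_217_7 : V cs (par cs K7) (word8 217) 7 (word8 217) := V_ded2 cs (a := 7) (b := 3) (by decide) v8_217_3 v8_213_7 v8_213_3
theorem v8_222_7 : V cs (par cs K7) (word8 222) 7 (word8 222) := V_ded2 cs (a := 7) (b := 3) (by decide) v8_222_3 v8_218_7 v8_218_3
theorem v8_225_7 : V cs (par cs K7) (word8 225) 7 (word8 225) := V_ded2 cs (a := 7) (b := 4) (by decide) v8_225_4 v8_222_7 v8_222_4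
theorem v8_235_2 : V cs (par cs K7) (word8 235) 2 (word8 235) := V_ded3 cs (a := 2) (b := 3) (by decide) v8_235_3 v8_234_2 v8_233_3 v8_233_2 v8_234_3
theorem v8_236_2 : V cs (par cs K7) (word8 236) 2 (word8 236) := V_ded2 cs (a := 2) (b := 4) (by decide) v8_236_4 v8_235_2 v8_235_4
theorem v8_237_2 : V cs (par cs K7) (word8 237) 2 (word8 237) := V_ded2 cs (a := 2) (b := 5) (by decide) v8_237_5 v8_236_2 v8_236_5
theorem v8_238_2 : V cs (par cs K7) (word8 238) 2 (word8 238) := V_ded2 cs (a := 2) (b := 6) (by decide) v8_238_6 v8_237_2 v8_237_6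
theorem v8_239_2 : V cs (par cs K7) (word8 239) 2 (word8 239) := V_ded2 cs (a := 2) (b := 7) (by decide) v8_239_7 v8_238_2 v8_238_7
theorem v8_215_6 : V cs (par cs K7) (word8 215) 6 (word8 215) := V_ded2 cs (a := 6) (b := 2) (by decide) v8_215_2 v8_211_6 v8_211_2
theorem v8_221_7 : V cs (par cs K7) (word8 221) 7 (word8 221) := V_ded2 cs (a := 7) (b := 2) (by decide) v8_221_2 v8_217_7 v8_217_2
theorem v8_224_7 : V cs (par cs K7) (word8 224) 7 (word8 224) := V_ded2 cs (a := 7) (b := 2) (by decide) v8_224_2 v8_222_7 v8_222_2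
theorem v8_227_7 : V cs (par cs K7) (word8 227) 7 (word8 227) := V_ded2 cs (a := 7) (b := 2) (by decide) v8_227_2 v8_225_7 v8_225_2
theorem v8_229_7 : V cs (par cs K7) (word8 229) 7 (word8 229) := V_ded2 cs (a := 7) (b := 3) (by decide) v8_229_3 v8_227_7 v8_227_3
theorem v8_231_7 : V cs (par cs K7) (word8 231) 7 (word8 231) := V_ded2 cs (a := 7) (b := 1) (by decide) v8_231_1 v8_229_7 v8_229_1
theorem v8_219_6 : V cs (par cs K7) (word8 219) 6 (word8 219) := V_ded2 cs (a := 6) (b := 0) (by decide) v8_219_0 v8_215_6 v8_215_0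
theorem v8_223_7 : V cs (par cs K7) (word8 223) 7 (word8 223) := V_ded2 cs (a := 7) (b := 0) (by decide) v8_223_0 v8_221_7 v8_221_0
theorem v8_226_7 : V cs (par cs K7) (word8 226) 7 (word8 226) := V_ded2 cs (a := 7) (b := 0) (by decide) v8_226_0 v8_224_7 v8_224_0
theorem v8_228_7 : V cs (par cs K7) (word8 228) 7 (word8 228) := V_ded2 cs (a := 7) (b := 0) (by decide) v8_228_0 v8_227_7 v8_227_0
theorem v8_230_7 : V cs (par cs K7) (word8 230) 7 (word8 230) := V_ded2 cs (a := 7) (b := 0) (by decide) v8_230_0 v8_229_7 v8_229_0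
theorem v8_233_7 : V cs (par cs K7) (word8 233) 7 (word8 233) := V_ded2 cs (a := 7) (b := 0) (by decide) v8_233_0 v8_231_7 v8_231_0
theorem v8_232_7 : V cs (par cs K7) (word8 232) 7 (word8 232) := V_ded2 cs (a := 7) (b := 2) (by decide) v8_232_2 v8_230_7 v8_230_2
theorem v8_234_7 : V cs (par cs K7) (word8 234) 7 (word8 234) := V_ded2 cs (a := 7) (b := 2) (by decide) v8_234_2 v8_233_7 v8_233_2
theorem v8_235_7 : V cs (par cs K7) (word8 235) 7 (word8 235) := V_ded2 cs (a := 7) (b := 3) (by decide) v8_235_3 v8_234_7 v8_234_3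
theorem v8_236_7 : V cs (par cs K7) (word8 236) 7 (word8 236) := V_ded2 cs (a := 7) (b := 4) (by decide) v8_236_4 v8_235_7 v8_235_4
theorem v8_237_7 : V cs (par cs K7) (word8 237) 7 (word8 237) := V_ded2 cs (a := 7) (b := 5) (by decide) v8_237_5 v8_236_7 v8_236_5
theorem v8_239_6 : V cs (par cs K7) (word8 239) 6 (word8 239) := V_ded3 cs (a := 6) (b := 7) (by decide) v8_239_7 v8_238_6 v8_237_7 v8_237_6 v8_238_7
theorem row8_0 : ∀ j ∈ K8, tbl8 0 j < 240 ∧ V cs (par cs K7) (word8 0) j (word8 (tbl8 0 j)) := by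
  intro j hj
  simp only [K8, List.mem_cons, List.not_mem_nil, or_false] at hj
  rcases hj with rfl | rfl | rfl | rfl | rfl | rfl | rfl | rfl
  exacts [⟨by decide, v8_0_0⟩, ⟨by decide, v8_0_2⟩, ⟨by decide, v8_0_3⟩, ⟨by decide, v8_0_1⟩, ⟨by decide, v8_0_4⟩, ⟨by decide, v8_0_5⟩, ⟨by decide, v8_0_6⟩, ⟨by decide, v8_0_7⟩]
theorem row8_1 : ∀ j ∈ K8, tbl8 1 j < 240 ∧ V cs (par cs K7) (word8 1) j (word8 (tbl8 1 j)) := by
  intro j hj
  simp only [K8, List.mem_cons, List.not_mem_nil, or_false] at hj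
  rcases hj with rfl | rfl | rfl | rfl | rfl | rfl | rfl | rfl
  exacts [⟨by decide, v8_1_0⟩, ⟨by decide, v8_1_2⟩, ⟨by decide, v8_1_3⟩, ⟨by decide, v8_1_1⟩, ⟨by decide, v8_1_4⟩, ⟨by decide, v8_1_5⟩, ⟨by decide, v8_1_6⟩, ⟨by decide, v8_1_7⟩]
theorem row8_2 : ∀ j ∈ K8, tbl8 2 j < 240 ∧ V cs (par cs K7) (word8 2) j (word8 (tbl8 2 j)) := by
  intro j hj
  simp only [K8, List.mem_cons, List.not_mem_nil, or_false] at hj
  rcases hj with rfl | rfl | rfl | rfl | rfl | rfl | rfl | rfl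
  exacts [⟨by decide, v8_2_0⟩, ⟨by decide, v8_2_2⟩, ⟨by decide, v8_2_3⟩, ⟨by decide, v8_2_1⟩, ⟨by decide, v8_2_4⟩, ⟨by decide, v8_2_5⟩, ⟨by decide, v8_2_6⟩, ⟨by decide, v8_2_7⟩]
theorem row8_3 : ∀ j ∈ K8, tbl8 3 j < 240 ∧ V cs (par cs K7) (word8 3) j (word8 (tbl8 3 j)) := by
  intro j hj
  simp only [K8, List.mem_cons, List.not_mem_nil, or_false] at hj
  rcases hj with rfl | rfl | rfl | rfl | rfl | rfl | rfl | rfl
  exacts [⟨by decide, v8_3_0⟩, ⟨by decide, v8_3_2⟩, ⟨by decide, v8_3_3⟩, ⟨by decide, v8_3_1⟩, ⟨by decide, v8_3_4⟩, ⟨by decide, v8_3_5⟩, ⟨by decide, v8_3_6⟩, ⟨by decide, v8_3_7⟩]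
theorem row8_4 : ∀ j ∈ K8, tbl8 4 j < 240 ∧ V cs (par cs K7) (word8 4) j (word8 (tbl8 4 j)) := by
  intro j hj
  simp only [K8, List.mem_cons, List.not_mem_nil, or_false] at hj
  rcases hj with rfl | rfl | rfl | rfl | rfl | rfl | rfl | rfl
  exacts [⟨by decide, v8_4_0⟩, ⟨by decide, v8_4_2⟩, ⟨by decide, v8_4_3⟩, ⟨by decide, v8_4_1⟩, ⟨by decide, v8_4_4⟩, ⟨by decide, v8_4_5⟩, ⟨by decide, v8_4_6⟩, ⟨by decide, v8_4_7⟩]
theorem row8_5 : ∀ j ∈ K8, tbl8 5 j < 240 ∧ V cs (par cs K7) (word8 5) j (word8 (tbl8 5 j)) := by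
  intro j hj
  simp only [K8, List.mem_cons, List.not_mem_nil, or_false] at hj
  rcases hj with rfl | rfl | rfl | rfl | rfl | rfl | rfl | rfl
  exacts [⟨by decide, v8_5_0⟩, ⟨by decide, v8_5_2⟩, ⟨by decide, v8_5_3⟩, ⟨by decide, v8_5_1⟩, ⟨by decide, v8_5_4⟩, ⟨by decide, v8_5_5⟩, ⟨by decide, v8_5_6⟩, ⟨by decide, v8_5_7⟩]
theorem row8_6 : ∀ j ∈ K8, tbl8 6 j < 240 ∧ V cs (par cs K7) (word8 6) j (word8 (tbl8 6 j)) := by
  intro j hj
  simp only [K8, List.mem_cons, List.not_mem_nil, or_false] at hj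
  rcases hj with rfl | rfl | rfl | rfl | rfl | rfl | rfl | rfl
  exacts [⟨by decide, v8_6_0⟩, ⟨by decide, v8_6_2⟩, ⟨by decide, v8_6_3⟩, ⟨by decide, v8_6_1⟩, ⟨by decide, v8_6_4⟩, ⟨by decide, v8_6_5⟩, ⟨by decide, v8_6_6⟩, ⟨by decide, v8_6_7⟩]
theorem row8_7 : ∀ j ∈ K8, tbl8 7 j < 240 ∧ V cs (par cs K7) (word8 7) j (word8 (tbl8 7 j)) := by
  intro j hj
  simp only [K8, List.mem_cons, List.not_mem_nil, or_false] at hj
  rcases hj with rfl | rfl | rfl | rfl | rfl | rfl | rfl | rfl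
  exacts [⟨by decide, v8_7_0⟩, ⟨by decide, v8_7_2⟩, ⟨by decide, v8_7_3⟩, ⟨by decide, v8_7_1⟩, ⟨by decide, v8_7_4⟩, ⟨by decide, v8_7_5⟩, ⟨by decide, v8_7_6⟩, ⟨by decide, v8_7_7⟩]
theorem row8_8 : ∀ j ∈ K8, tbl8 8 j < 240 ∧ V cs (par cs K7) (word8 8) j (word8 (tbl8 8 j)) := by
  intro j hj
  simp only [K8, List.mem_cons, List.not_mem_nil, or_false] at hj
  rcases hj with rfl | rfl | rfl | rfl | rfl | rfl | rfl | rfl
  exacts [⟨by decide, v8_8_0⟩, ⟨by decide, v8_8_2⟩, ⟨by decide, v8_8_3⟩, ⟨by decide, v8_8_1⟩, ⟨by decide, v8_8_4⟩, ⟨by decide, v8_8_5⟩, ⟨by decide, v8_8_6⟩, ⟨by decide, v8_8_7⟩]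
theorem row8_9 : ∀ j ∈ K8, tbl8 9 j < 240 ∧ V cs (par cs K7) (word8 9) j (word8 (tbl8 9 j)) := by
  intro j hj
  simp only [K8, List.mem_cons, List.not_mem_nil, or_false] at hj
  rcases hj with rfl | rfl | rfl | rfl | rfl | rfl | rfl | rfl
  exacts [⟨by decide, v8_9_0⟩, ⟨by decide, v8_9_2⟩, ⟨by decide, v8_9_3⟩, ⟨by decide, v8_9_1⟩, ⟨by decide, v8_9_4⟩, ⟨by decide, v8_9_5⟩, ⟨by decide, v8_9_6⟩, ⟨by decide, v8_9_7⟩]
theorem row8_10 : ∀ j ∈ K8, tbl8 10 j < 240 ∧ V cs (par cs K7) (word8 10) j (word8 (tbl8 10 j)) := by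
  intro j hj
  simp only [K8, List.mem_cons, List.not_mem_nil, or_false] at hj
  rcases hj with rfl | rfl | rfl | rfl | rfl | rfl | rfl | rfl
  exacts [⟨by decide, v8_10_0⟩, ⟨by decide, v8_10_2⟩, ⟨by decide, v8_10_3⟩, ⟨by decide, v8_10_1⟩, ⟨by decide, v8_10_4⟩, ⟨by decide, v8_10_5⟩, ⟨by decide, v8_10_6⟩, ⟨by decide, v8_10_7⟩]
theorem row8_11 : ∀ j ∈ K8, tbl8 11 j < 240 ∧ V cs (par cs K7) (word8 11) j (word8 (tbl8 11 j)) := by
  intro j hj
  simp only [K8, List.mem_cons, List.not_mem_nil, or_false] at hj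
  rcases hj with rfl | rfl | rfl | rfl | rfl | rfl | rfl | rfl
  exacts [⟨by decide, v8_11_0⟩, ⟨by decide, v8_11_2⟩, ⟨by decide, v8_11_3⟩, ⟨by decide, v8_11_1⟩, ⟨by decide, v8_11_4⟩, ⟨by decide, v8_11_5⟩, ⟨by decide, v8_11_6⟩, ⟨by decide, v8_11_7⟩]
theorem row8_12 : ∀ j ∈ K8, tbl8 12 j < 240 ∧ V cs (par cs K7) (word8 12) j (word8 (tbl8 12 j)) := by
  intro j hj
  simp only [K8, List.mem_cons, List.not_mem_nil, or_false] at hj
  rcases hj with rfl | rfl | rfl | rfl | rfl | rfl | rfl | rfl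
  exacts [⟨by decide, v8_12_0⟩, ⟨by decide, v8_12_2⟩, ⟨by decide, v8_12_3⟩, ⟨by decide, v8_12_1⟩, ⟨by decide, v8_12_4⟩, ⟨by decide, v8_12_5⟩, ⟨by decide, v8_12_6⟩, ⟨by decide, v8_12_7⟩]
theorem row8_13 : ∀ j ∈ K8, tbl8 13 j < 240 ∧ V cs (par cs K7) (word8 13) j (word8 (tbl8 13 j)) := by
  intro j hj
  simp only [K8, List.mem_cons, List.not_mem_nil, or_false] at hj
  rcases hj with rfl | rfl | rfl | rfl | rfl | rfl | rfl | rfl
  exacts [⟨by decide, v8_13_0⟩, ⟨by decide, v8_13_2⟩, ⟨by decide, v8_13_3⟩, ⟨by decide, v8_13_1⟩, ⟨by decide, v8_13_4⟩, ⟨by decide, v8_13_5⟩, ⟨by decide, v8_13_6⟩, ⟨by decide, v8_13_7⟩]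
theorem row8_14 : ∀ j ∈ K8, tbl8 14 j < 240 ∧ V cs (par cs K7) (word8 14) j (word8 (tbl8 14 j)) := by
  intro j hj
  simp only [K8, List.mem_cons, List.not_mem_nil, or_false] at hj
  rcases hj with rfl | rfl | rfl | rfl | rfl | rfl | rfl | rfl
  exacts [⟨by decide, v8_14_0⟩, ⟨by decide, v8_14_2⟩, ⟨by decide, v8_14_3⟩, ⟨by decide, v8_14_1⟩, ⟨by decide, v8_14_4⟩, ⟨by decide, v8_14_5⟩, ⟨by decide, v8_14_6⟩, ⟨by decide, v8_14_7⟩]
theorem row8_15 : ∀ j ∈ K8, tbl8 15 j < 240 ∧ V cs (par cs K7) (word8 15) j (word8 (tbl8 15 j)) := by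
  intro j hj
  simp only [K8, List.mem_cons, List.not_mem_nil, or_false] at hj
  rcases hj with rfl | rfl | rfl | rfl | rfl | rfl | rfl | rfl
  exacts [⟨by decide, v8_15_0⟩, ⟨by decide, v8_15_2⟩, ⟨by decide, v8_15_3⟩, ⟨by decide, v8_15_1⟩, ⟨by decide, v8_15_4⟩, ⟨by decide, v8_15_5⟩, ⟨by decide, v8_15_6⟩, ⟨by decide, v8_15_7⟩]
theorem row8_16 : ∀ j ∈ K8, tbl8 16 j < 240 ∧ V cs (par cs K7) (word8 16) j (word8 (tbl8 16 j)) := by
  intro j hj
  simp only [K8, List.mem_cons, List.not_mem_nil, or_false] at hj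
  rcases hj with rfl | rfl | rfl | rfl | rfl | rfl | rfl | rfl
  exacts [⟨by decide, v8_16_0⟩, ⟨by decide, v8_16_2⟩, ⟨by decide, v8_16_3⟩, ⟨by decide, v8_16_1⟩, ⟨by decide, v8_16_4⟩, ⟨by decide, v8_16_5⟩, ⟨by decide, v8_16_6⟩, ⟨by decide, v8_16_7⟩]
theorem row8_17 : ∀ j ∈ K8, tbl8 17 j < 240 ∧ V cs (par cs K7) (word8 17) j (word8 (tbl8 17 j)) := by
  intro j hj
  simp only [K8, List.mem_cons, List.not_mem_nil, or_false] at hj
  rcases hj with rfl | rfl | rfl | rfl | rfl | rfl | rfl | rfl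
  exacts [⟨by decide, v8_17_0⟩, ⟨by decide, v8_17_2⟩, ⟨by decide, v8_17_3⟩, ⟨by decide, v8_17_1⟩, ⟨by decide, v8_17_4⟩, ⟨by decide, v8_17_5⟩, ⟨by decide, v8_17_6⟩, ⟨by decide, v8_17_7⟩]
theorem row8_18 : ∀ j ∈ K8, tbl8 18 j < 240 ∧ V cs (par cs K7) (word8 18) j (word8 (tbl8 18 j)) := by
  intro j hj
  simp only [K8, List.mem_cons, List.not_mem_nil, or_false] at hj
  rcases hj with rfl | rfl | rfl | rfl | rfl | rfl | rfl | rfl
  exacts [⟨by decide, v8_18_0⟩, ⟨by decide, v8_18_2⟩, ⟨by decide, v8_18_3⟩, ⟨by decide, v8_18_1⟩, ⟨by decide, v8_18_4⟩, ⟨by decide, v8_18_5⟩, ⟨by decide, v8_18_6⟩, ⟨by decide, v8_18_7⟩]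
theorem row8_19 : ∀ j ∈ K8, tbl8 19 j < 240 ∧ V cs (par cs K7) (word8 19) j (word8 (tbl8 19 j)) := by
  intro j hj
  simp only [K8, List.mem_cons, List.not_mem_nil, or_false] at hj
  rcases hj with rfl | rfl | rfl | rfl | rfl | rfl | rfl | rfl
  exacts [⟨by decide, v8_19_0⟩, ⟨by decide, v8_19_2⟩, ⟨by decide, v8_19_3⟩, ⟨by decide, v8_19_1⟩, ⟨by decide, v8_19_4⟩, ⟨by decide, v8_19_5⟩, ⟨by decide, v8_19_6⟩, ⟨by decide, v8_19_7⟩]
theorem row8_20 : ∀ j ∈ K8, tbl8 20 j < 240 ∧ V cs (par cs K7) (word8 20) j (word8 (tbl8 20 j)) := by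
  intro j hj
  simp only [K8, List.mem_cons, List.not_mem_nil, or_false] at hj
  rcases hj with rfl | rfl | rfl | rfl | rfl | rfl | rfl | rfl
  exacts [⟨by decide, v8_20_0⟩, ⟨by decide, v8_20_2⟩, ⟨by decide, v8_20_3⟩, ⟨by decide, v8_20_1⟩, ⟨by decide, v8_20_4⟩, ⟨by decide, v8_20_5⟩, ⟨by decide, v8_20_6⟩, ⟨by decide, v8_20_7⟩]
theorem row8_21 : ∀ j ∈ K8, tbl8 21 j < 240 ∧ V cs (par cs K7) (word8 21) j (word8 (tbl8 21 j)) := by
  intro j hj
  simp only [K8, List.mem_cons, List.not_mem_nil, or_false] at hj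
  rcases hj with rfl | rfl | rfl | rfl | rfl | rfl | rfl | rfl
  exacts [⟨by decide, v8_21_0⟩, ⟨by decide, v8_21_2⟩, ⟨by decide, v8_21_3⟩, ⟨by decide, v8_21_1⟩, ⟨by decide, v8_21_4⟩, ⟨by decide, v8_21_5⟩, ⟨by decide, v8_21_6⟩, ⟨by decide, v8_21_7⟩]
theorem row8_22 : ∀ j ∈ K8, tbl8 22 j < 240 ∧ V cs (par cs K7) (word8 22) j (word8 (tbl8 22 j)) := by
  intro j hj
  simp only [K8, List.mem_cons, List.not_mem_nil, or_false] at hj
  rcases hj with rfl | rfl | rfl | rfl | rfl | rfl | rfl | rfl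
  exacts [⟨by decide, v8_22_0⟩, ⟨by decide, v8_22_2⟩, ⟨by decide, v8_22_3⟩, ⟨by decide, v8_22_1⟩, ⟨by decide, v8_22_4⟩, ⟨by decide, v8_22_5⟩, ⟨by decide, v8_22_6⟩, ⟨by decide, v8_22_7⟩]
theorem row8_23 : ∀ j ∈ K8, tbl8 23 j < 240 ∧ V cs (par cs K7) (word8 23) j (word8 (tbl8 23 j)) := by
  intro j hj
  simp only [K8, List.mem_cons, List.not_mem_nil, or_false] at hj
  rcases hj with rfl | rfl | rfl | rfl | rfl | rfl | rfl | rfl
  exacts [⟨by decide, v8_23_0⟩, ⟨by decide, v8_23_2⟩, ⟨by decide, v8_23_3⟩, ⟨by decide, v8_23_1⟩, ⟨by decide, v8_23_4⟩, ⟨by decide, v8_23_5⟩, ⟨by decide, v8_23_6⟩, ⟨by decide, v8_23_7⟩]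
theorem row8_24 : ∀ j ∈ K8, tbl8 24 j < 240 ∧ V cs (par cs K7) (word8 24) j (word8 (tbl8 24 j)) := by
  intro j hj
  simp only [K8, List.mem_cons, List.not_mem_nil, or_false] at hj
  rcases hj with rfl | rfl | rfl | rfl | rfl | rfl | rfl | rfl
  exacts [⟨by decide, v8_24_0⟩, ⟨by decide, v8_24_2⟩, ⟨by decide, v8_24_3⟩, ⟨by decide, v8_24_1⟩, ⟨by decide, v8_24_4⟩, ⟨by decide, v8_24_5⟩, ⟨by decide, v8_24_6⟩, ⟨by decide, v8_24_7⟩]
theorem row8_25 : ∀ j ∈ K8, tbl8 25 j < 240 ∧ V cs (par cs K7) (word8 25) j (word8 (tbl8 25 j)) := by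
  intro j hj
  simp only [K8, List.mem_cons, List.not_mem_nil, or_false] at hj
  rcases hj with rfl | rfl | rfl | rfl | rfl | rfl | rfl | rfl
  exacts [⟨by decide, v8_25_0⟩, ⟨by decide, v8_25_2⟩, ⟨by decide, v8_25_3⟩, ⟨by decide, v8_25_1⟩, ⟨by decide, v8_25_4⟩, ⟨by decide, v8_25_5⟩, ⟨by decide, v8_25_6⟩, ⟨by decide, v8_25_7⟩]
theorem row8_26 : ∀ j ∈ K8, tbl8 26 j < 240 ∧ V cs (par cs K7) (word8 26) j (word8 (tbl8 26 j)) := by
  intro j hj
  simp only [K8, List.mem_cons, List.not_mem_nil, or_false] at hj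
  rcases hj with rfl | rfl | rfl | rfl | rfl | rfl | rfl | rfl
  exacts [⟨by decide, v8_26_0⟩, ⟨by decide, v8_26_2⟩, ⟨by decide, v8_26_3⟩, ⟨by decide, v8_26_1⟩, ⟨by decide, v8_26_4⟩, ⟨by decide, v8_26_5⟩, ⟨by decide, v8_26_6⟩, ⟨by decide, v8_26_7⟩]
theorem row8_27 : ∀ j ∈ K8, tbl8 27 j < 240 ∧ V cs (par cs K7) (word8 27) j (word8 (tbl8 27 j)) := by
  intro j hj
  simp only [K8, List.mem_cons, List.not_mem_nil, or_false] at hj
  rcases hj with rfl | rfl | rfl | rfl | rfl | rfl | rfl | rfl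
  exacts [⟨by decide, v8_27_0⟩, ⟨by decide, v8_27_2⟩, ⟨by decide, v8_27_3⟩, ⟨by decide, v8_27_1⟩, ⟨by decide, v8_27_4⟩, ⟨by decide, v8_27_5⟩, ⟨by decide, v8_27_6⟩, ⟨by decide, v8_27_7⟩]
theorem row8_28 : ∀ j ∈ K8, tbl8 28 j < 240 ∧ V cs (par cs K7) (word8 28) j (word8 (tbl8 28 j)) := by
  intro j hj
  simp only [K8, List.mem_cons, List.not_mem_nil, or_false] at hj
  rcases hj with rfl | rfl | rfl | rfl | rfl | rfl | rfl | rfl
  exacts [⟨by decide, v8_28_0⟩, ⟨by decide, v8_28_2⟩, ⟨by decide, v8_28_3⟩, ⟨by decide, v8_28_1⟩, ⟨by decide, v8_28_4⟩, ⟨by decide, v8_28_5⟩, ⟨by decide, v8_28_6⟩, ⟨by decide, v8_28_7⟩]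
theorem row8_29 : ∀ j ∈ K8, tbl8 29 j < 240 ∧ V cs (par cs K7) (word8 29) j (word8 (tbl8 29 j)) := by
  intro j hj
  simp only [K8, List.mem_cons, List.not_mem_nil, or_false] at hj
  rcases hj with rfl | rfl | rfl | rfl | rfl | rfl | rfl | rfl
  exacts [⟨by decide, v8_29_0⟩, ⟨by decide, v8_29_2⟩, ⟨by decide, v8_29_3⟩, ⟨by decide, v8_29_1⟩, ⟨by decide, v8_29_4⟩, ⟨by decide, v8_29_5⟩, ⟨by decide, v8_29_6⟩, ⟨by decide, v8_29_7⟩]
theorem row8_30 : ∀ j ∈ K8, tbl8 30 j < 240 ∧ V cs (par cs K7) (word8 30) j (word8 (tbl8 30 j)) := by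
  intro j hj
  simp only [K8, List.mem_cons, List.not_mem_nil, or_false] at hj
  rcases hj with rfl | rfl | rfl | rfl | rfl | rfl | rfl | rfl
  exacts [⟨by decide, v8_30_0⟩, ⟨by decide, v8_30_2⟩, ⟨by decide, v8_30_3⟩, ⟨by decide, v8_30_1⟩, ⟨by decide, v8_30_4⟩, ⟨by decide, v8_30_5⟩, ⟨by decide, v8_30_6⟩, ⟨by decide, v8_30_7⟩]
theorem row8_31 : ∀ j ∈ K8, tbl8 31 j < 240 ∧ V cs (par cs K7) (word8 31) j (word8 (tbl8 31 j)) := by
  intro j hj
  simp only [K8, List.mem_cons, List.not_mem_nil, or_false] at hj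
  rcases hj with rfl | rfl | rfl | rfl | rfl | rfl | rfl | rfl
  exacts [⟨by decide, v8_31_0⟩, ⟨by decide, v8_31_2⟩, ⟨by decide, v8_31_3⟩, ⟨by decide, v8_31_1⟩, ⟨by decide, v8_31_4⟩, ⟨by decide, v8_31_5⟩, ⟨by decide, v8_31_6⟩, ⟨by decide, v8_31_7⟩]
theorem row8_32 : ∀ j ∈ K8, tbl8 32 j < 240 ∧ V cs (par cs K7) (word8 32) j (word8 (tbl8 32 j)) := by
  intro j hj
  simp only [K8, List.mem_cons, List.not_mem_nil, or_false] at hj
  rcases hj with rfl | rfl | rfl | rfl | rfl | rfl | rfl | rfl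
  exacts [⟨by decide, v8_32_0⟩, ⟨by decide, v8_32_2⟩, ⟨by decide, v8_32_3⟩, ⟨by decide, v8_32_1⟩, ⟨by decide, v8_32_4⟩, ⟨by decide, v8_32_5⟩, ⟨by decide, v8_32_6⟩, ⟨by decide, v8_32_7⟩]
theorem row8_33 : ∀ j ∈ K8, tbl8 33 j < 240 ∧ V cs (par cs K7) (word8 33) j (word8 (tbl8 33 j)) := by
  intro j hj
  simp only [K8, List.mem_cons, List.not_mem_nil, or_false] at hj
  rcases hj with rfl | rfl | rfl | rfl | rfl | rfl | rfl | rfl
  exacts [⟨by decide, v8_33_0⟩, ⟨by decide, v8_33_2⟩, ⟨by decide, v8_33_3⟩, ⟨by decide, v8_33_1⟩, ⟨by decide, v8_33_4⟩, ⟨by decide, v8_33_5⟩, ⟨by decide, v8_33_6⟩, ⟨by decide, v8_33_7⟩]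
theorem row8_34 : ∀ j ∈ K8, tbl8 34 j < 240 ∧ V cs (par cs K7) (word8 34) j (word8 (tbl8 34 j)) := by
  intro j hj
  simp only [K8, List.mem_cons, List.not_mem_nil, or_false] at hj
  rcases hj with rfl | rfl | rfl | rfl | rfl | rfl | rfl | rfl
  exacts [⟨by decide, v8_34_0⟩, ⟨by decide, v8_34_2⟩, ⟨by decide, v8_34_3⟩, ⟨by decide, v8_34_1⟩, ⟨by decide, v8_34_4⟩, ⟨by decide, v8_34_5⟩, ⟨by decide, v8_34_6⟩, ⟨by decide, v8_34_7⟩]
theorem row8_35 : ∀ j ∈ K8, tbl8 35 j < 240 ∧ V cs (par cs K7) (word8 35) j (word8 (tbl8 35 j)) := by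
  intro j hj
  simp only [K8, List.mem_cons, List.not_mem_nil, or_false] at hj
  rcases hj with rfl | rfl | rfl | rfl | rfl | rfl | rfl | rfl
  exacts [⟨by decide, v8_35_0⟩, ⟨by decide, v8_35_2⟩, ⟨by decide, v8_35_3⟩, ⟨by decide, v8_35_1⟩, ⟨by decide, v8_35_4⟩, ⟨by decide, v8_35_5⟩, ⟨by decide, v8_35_6⟩, ⟨by decide, v8_35_7⟩]
theorem row8_36 : ∀ j ∈ K8, tbl8 36 j < 240 ∧ V cs (par cs K7) (word8 36) j (word8 (tbl8 36 j)) := by
  intro j hj
  simp only [K8, List.mem_cons, List.not_mem_nil, or_false] at hj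
  rcases hj with rfl | rfl | rfl | rfl | rfl | rfl | rfl | rfl
  exacts [⟨by decide, v8_36_0⟩, ⟨by decide, v8_36_2⟩, ⟨by decide, v8_36_3⟩, ⟨by decide, v8_36_1⟩, ⟨by decide, v8_36_4⟩, ⟨by decide, v8_36_5⟩, ⟨by decide, v8_36_6⟩, ⟨by decide, v8_36_7⟩]
theorem row8_37 : ∀ j ∈ K8, tbl8 37 j < 240 ∧ V cs (par cs K7) (word8 37) j (word8 (tbl8 37 j)) := by
  intro j hj
  simp only [K8, List.mem_cons, List.not_mem_nil, or_false] at hj
  rcases hj with rfl | rfl | rfl | rfl | rfl | rfl | rfl | rfl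
  exacts [⟨by decide, v8_37_0⟩, ⟨by decide, v8_37_2⟩, ⟨by decide, v8_37_3⟩, ⟨by decide, v8_37_1⟩, ⟨by decide, v8_37_4⟩, ⟨by decide, v8_37_5⟩, ⟨by decide, v8_37_6⟩, ⟨by decide, v8_37_7⟩]
theorem row8_38 : ∀ j ∈ K8, tbl8 38 j < 240 ∧ V cs (par cs K7) (word8 38) j (word8 (tbl8 38 j)) := by
  intro j hj
  simp only [K8, List.mem_cons, List.not_mem_nil, or_false] at hj
  rcases hj with rfl | rfl | rfl | rfl | rfl | rfl | rfl | rfl
  exacts [⟨by decide, v8_38_0⟩, ⟨by decide, v8_38_2⟩, ⟨by decide, v8_38_3⟩, ⟨by decide, v8_38_1⟩, ⟨by decide, v8_38_4⟩, ⟨by decide, v8_38_5⟩, ⟨by decide, v8_38_6⟩, ⟨by decide, v8_38_7⟩]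
theorem row8_39 : ∀ j ∈ K8, tbl8 39 j < 240 ∧ V cs (par cs K7) (word8 39) j (word8 (tbl8 39 j)) := by
  intro j hj
  simp only [K8, List.mem_cons, List.not_mem_nil, or_false] at hj
  rcases hj with rfl | rfl | rfl | rfl | rfl | rfl | rfl | rfl
  exacts [⟨by decide, v8_39_0⟩, ⟨by decide, v8_39_2⟩, ⟨by decide, v8_39_3⟩, ⟨by decide, v8_39_1⟩, ⟨by decide, v8_39_4⟩, ⟨by decide, v8_39_5⟩, ⟨by decide, v8_39_6⟩, ⟨by decide, v8_39_7⟩]
theorem row8_40 : ∀ j ∈ K8, tbl8 40 j < 240 ∧ V cs (par cs K7) (word8 40) j (word8 (tbl8 40 j)) := by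
  intro j hj
  simp only [K8, List.mem_cons, List.not_mem_nil, or_false] at hj
  rcases hj with rfl | rfl | rfl | rfl | rfl | rfl | rfl | rfl
  exacts [⟨by decide, v8_40_0⟩, ⟨by decide, v8_40_2⟩, ⟨by decide, v8_40_3⟩, ⟨by decide, v8_40_1⟩, ⟨by decide, v8_40_4⟩, ⟨by decide, v8_40_5⟩, ⟨by decide, v8_40_6⟩, ⟨by decide, v8_40_7⟩]
theorem row8_41 : ∀ j ∈ K8, tbl8 41 j < 240 ∧ V cs (par cs K7) (word8 41) j (word8 (tbl8 41 j)) := by
  intro j hj
  simp only [K8, List.mem_cons, List.not_mem_nil, or_false] at hj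
  rcases hj with rfl | rfl | rfl | rfl | rfl | rfl | rfl | rfl
  exacts [⟨by decide, v8_41_0⟩, ⟨by decide, v8_41_2⟩, ⟨by decide, v8_41_3⟩, ⟨by decide, v8_41_1⟩, ⟨by decide, v8_41_4⟩, ⟨by decide, v8_41_5⟩, ⟨by decide, v8_41_6⟩, ⟨by decide, v8_41_7⟩]
theorem row8_42 : ∀ j ∈ K8, tbl8 42 j < 240 ∧ V cs (par cs K7) (word8 42) j (word8 (tbl8 42 j)) := by
  intro j hj
  simp only [K8, List.mem_cons, List.not_mem_nil, or_false] at hj
  rcases hj with rfl | rfl | rfl | rfl | rfl | rfl | rfl | rfl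
  exacts [⟨by decide, v8_42_0⟩, ⟨by decide, v8_42_2⟩, ⟨by decide, v8_42_3⟩, ⟨by decide, v8_42_1⟩, ⟨by decide, v8_42_4⟩, ⟨by decide, v8_42_5⟩, ⟨by decide, v8_42_6⟩, ⟨by decide, v8_42_7⟩]
theorem row8_43 : ∀ j ∈ K8, tbl8 43 j < 240 ∧ V cs (par cs K7) (word8 43) j (word8 (tbl8 43 j)) := by
  intro j hj
  simp only [K8, List.mem_cons, List.not_mem_nil, or_false] at hj
  rcases hj with rfl | rfl | rfl | rfl | rfl | rfl | rfl | rfl
  exacts [⟨by decide, v8_43_0⟩, ⟨by decide, v8_43_2⟩, ⟨by decide, v8_43_3⟩, ⟨by decide, v8_43_1⟩, ⟨by decide, v8_43_4⟩, ⟨by decide, v8_43_5⟩, ⟨by decide, v8_43_6⟩, ⟨by decide, v8_43_7⟩]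
theorem row8_44 : ∀ j ∈ K8, tbl8 44 j < 240 ∧ V cs (par cs K7) (word8 44) j (word8 (tbl8 44 j)) := by
  intro j hj
  simp only [K8, List.mem_cons, List.not_mem_nil, or_false] at hj
  rcases hj with rfl | rfl | rfl | rfl | rfl | rfl | rfl | rfl
  exacts [⟨by decide, v8_44_0⟩, ⟨by decide, v8_44_2⟩, ⟨by decide, v8_44_3⟩, ⟨by decide, v8_44_1⟩, ⟨by decide, v8_44_4⟩, ⟨by decide, v8_44_5⟩, ⟨by decide, v8_44_6⟩, ⟨by decide, v8_44_7⟩]
theorem row8_45 : ∀ j ∈ K8, tbl8 45 j < 240 ∧ V cs (par cs K7) (word8 45) j (word8 (tbl8 45 j)) := by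
  intro j hj
  simp only [K8, List.mem_cons, List.not_mem_nil, or_false] at hj
  rcases hj with rfl | rfl | rfl | rfl | rfl | rfl | rfl | rfl
  exacts [⟨by decide, v8_45_0⟩, ⟨by decide, v8_45_2⟩, ⟨by decide, v8_45_3⟩, ⟨by decide, v8_45_1⟩, ⟨by decide, v8_45_4⟩, ⟨by decide, v8_45_5⟩, ⟨by decide, v8_45_6⟩, ⟨by decide, v8_45_7⟩]
theorem row8_46 : ∀ j ∈ K8, tbl8 46 j < 240 ∧ V cs (par cs K7) (word8 46) j (word8 (tbl8 46 j)) := by
  intro j hj
  simp only [K8, List.mem_cons, List.not_mem_nil, or_false] at hj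
  rcases hj with rfl | rfl | rfl | rfl | rfl | rfl | rfl | rfl
  exacts [⟨by decide, v8_46_0⟩, ⟨by decide, v8_46_2⟩, ⟨by decide, v8_46_3⟩, ⟨by decide, v8_46_1⟩, ⟨by decide, v8_46_4⟩, ⟨by decide, v8_46_5⟩, ⟨by decide, v8_46_6⟩, ⟨by decide, v8_46_7⟩]
theorem row8_47 : ∀ j ∈ K8, tbl8 47 j < 240 ∧ V cs (par cs K7) (word8 47) j (word8 (tbl8 47 j)) := by
  intro j hj
  simp only [K8, List.mem_cons, List.not_mem_nil, or_false] at hj
  rcases hj with rfl | rfl | rfl | rfl | rfl | rfl | rfl | rfl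
  exacts [⟨by decide, v8_47_0⟩, ⟨by decide, v8_47_2⟩, ⟨by decide, v8_47_3⟩, ⟨by decide, v8_47_1⟩, ⟨by decide, v8_47_4⟩, ⟨by decide, v8_47_5⟩, ⟨by decide, v8_47_6⟩, ⟨by decide, v8_47_7⟩]
theorem row8_48 : ∀ j ∈ K8, tbl8 48 j < 240 ∧ V cs (par cs K7) (word8 48) j (word8 (tbl8 48 j)) := by
  intro j hj
  simp only [K8, List.mem_cons, List.not_mem_nil, or_false] at hj
  rcases hj with rfl | rfl | rfl | rfl | rfl | rfl | rfl | rfl
  exacts [⟨by decide, v8_48_0⟩, ⟨by decide, v8_48_2⟩, ⟨by decide, v8_48_3⟩, ⟨by decide, v8_48_1⟩, ⟨by decide, v8_48_4⟩, ⟨by decide, v8_48_5⟩, ⟨by decide, v8_48_6⟩, ⟨by decide, v8_48_7⟩]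
theorem row8_49 : ∀ j ∈ K8, tbl8 49 j < 240 ∧ V cs (par cs K7) (word8 49) j (word8 (tbl8 49 j)) := by
  intro j hj
  simp only [K8, List.mem_cons, List.not_mem_nil, or_false] at hj
  rcases hj with rfl | rfl | rfl | rfl | rfl | rfl | rfl | rfl
  exacts [⟨by decide, v8_49_0⟩, ⟨by decide, v8_49_2⟩, ⟨by decide, v8_49_3⟩, ⟨by decide, v8_49_1⟩, ⟨by decide, v8_49_4⟩, ⟨by decide, v8_49_5⟩, ⟨by decide, v8_49_6⟩, ⟨by decide, v8_49_7⟩]
theorem row8_50 : ∀ j ∈ K8, tbl8 50 j < 240 ∧ V cs (par cs K7) (word8 50) j (word8 (tbl8 50 j)) := by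
  intro j hj
  simp only [K8, List.mem_cons, List.not_mem_nil, or_false] at hj
  rcases hj with rfl | rfl | rfl | rfl | rfl | rfl | rfl | rfl
  exacts [⟨by decide, v8_50_0⟩, ⟨by decide, v8_50_2⟩, ⟨by decide, v8_50_3⟩, ⟨by decide, v8_50_1⟩, ⟨by decide, v8_50_4⟩, ⟨by decide, v8_50_5⟩, ⟨by decide, v8_50_6⟩, ⟨by decide, v8_50_7⟩]
theorem row8_51 : ∀ j ∈ K8, tbl8 51 j < 240 ∧ V cs (par cs K7) (word8 51) j (word8 (tbl8 51 j)) := by
  intro j hj
  simp only [K8, List.mem_cons, List.not_mem_nil, or_false] at hj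
  rcases hj with rfl | rfl | rfl | rfl | rfl | rfl | rfl | rfl
  exacts [⟨by decide, v8_51_0⟩, ⟨by decide, v8_51_2⟩, ⟨by decide, v8_51_3⟩, ⟨by decide, v8_51_1⟩, ⟨by decide, v8_51_4⟩, ⟨by decide, v8_51_5⟩, ⟨by decide, v8_51_6⟩, ⟨by decide, v8_51_7⟩]
theorem row8_52 : ∀ j ∈ K8, tbl8 52 j < 240 ∧ V cs (par cs K7) (word8 52) j (word8 (tbl8 52 j)) := by
  intro j hj
  simp only [K8, List.mem_cons, List.not_mem_nil, or_false] at hj
  rcases hj with rfl | rfl | rfl | rfl | rfl | rfl | rfl | rfl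
  exacts [⟨by decide, v8_52_0⟩, ⟨by decide, v8_52_2⟩, ⟨by decide, v8_52_3⟩, ⟨by decide, v8_52_1⟩, ⟨by decide, v8_52_4⟩, ⟨by decide, v8_52_5⟩, ⟨by decide, v8_52_6⟩, ⟨by decide, v8_52_7⟩]
theorem row8_53 : ∀ j ∈ K8, tbl8 53 j < 240 ∧ V cs (par cs K7) (word8 53) j (word8 (tbl8 53 j)) := by
  intro j hj
  simp only [K8, List.mem_cons, List.not_mem_nil, or_false] at hj
  rcases hj with rfl | rfl | rfl | rfl | rfl | rfl | rfl | rfl
  exacts [⟨by decide, v8_53_0⟩, ⟨by decide, v8_53_2⟩, ⟨by decide, v8_53_3⟩, ⟨by decide, v8_53_1⟩, ⟨by decide, v8_53_4⟩, ⟨by decide, v8_53_5⟩, ⟨by decide, v8_53_6⟩, ⟨by decide, v8_53_7⟩]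
theorem row8_54 : ∀ j ∈ K8, tbl8 54 j < 240 ∧ V cs (par cs K7) (word8 54) j (word8 (tbl8 54 j)) := by
  intro j hj
  simp only [K8, List.mem_cons, List.not_mem_nil, or_false] at hj
  rcases hj with rfl | rfl | rfl | rfl | rfl | rfl | rfl | rfl
  exacts [⟨by decide, v8_54_0⟩, ⟨by decide, v8_54_2⟩, ⟨by decide, v8_54_3⟩, ⟨by decide, v8_54_1⟩, ⟨by decide, v8_54_4⟩, ⟨by decide, v8_54_5⟩, ⟨by decide, v8_54_6⟩, ⟨by decide, v8_54_7⟩]
theorem row8_55 : ∀ j ∈ K8, tbl8 55 j < 240 ∧ V cs (par cs K7) (word8 55) j (word8 (tbl8 55 j)) := by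
  intro j hj
  simp only [K8, List.mem_cons, List.not_mem_nil, or_false] at hj
  rcases hj with rfl | rfl | rfl | rfl | rfl | rfl | rfl | rfl
  exacts [⟨by decide, v8_55_0⟩, ⟨by decide, v8_55_2⟩, ⟨by decide, v8_55_3⟩, ⟨by decide, v8_55_1⟩, ⟨by decide, v8_55_4⟩, ⟨by decide, v8_55_5⟩, ⟨by decide, v8_55_6⟩, ⟨by decide, v8_55_7⟩]
theorem row8_56 : ∀ j ∈ K8, tbl8 56 j < 240 ∧ V cs (par cs K7) (word8 56) j (word8 (tbl8 56 j)) := by
  intro j hj
  simp only [K8, List.mem_cons, List.not_mem_nil, or_false] at hj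
  rcases hj with rfl | rfl | rfl | rfl | rfl | rfl | rfl | rfl
  exacts [⟨by decide, v8_56_0⟩, ⟨by decide, v8_56_2⟩, ⟨by decide, v8_56_3⟩, ⟨by decide, v8_56_1⟩, ⟨by decide, v8_56_4⟩, ⟨by decide, v8_56_5⟩, ⟨by decide, v8_56_6⟩, ⟨by decide, v8_56_7⟩]
theorem row8_57 : ∀ j ∈ K8, tbl8 57 j < 240 ∧ V cs (par cs K7) (word8 57) j (word8 (tbl8 57 j)) := by
  intro j hj
  simp only [K8, List.mem_cons, List.not_mem_nil, or_false] at hj
  rcases hj with rfl | rfl | rfl | rfl | rfl | rfl | rfl | rfl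
  exacts [⟨by decide, v8_57_0⟩, ⟨by decide, v8_57_2⟩, ⟨by decide, v8_57_3⟩, ⟨by decide, v8_57_1⟩, ⟨by decide, v8_57_4⟩, ⟨by decide, v8_57_5⟩, ⟨by decide, v8_57_6⟩, ⟨by decide, v8_57_7⟩]
theorem row8_58 : ∀ j ∈ K8, tbl8 58 j < 240 ∧ V cs (par cs K7) (word8 58) j (word8 (tbl8 58 j)) := by
  intro j hj
  simp only [K8, List.mem_cons, List.not_mem_nil, or_false] at hj
  rcases hj with rfl | rfl | rfl | rfl | rfl | rfl | rfl | rfl
  exacts [⟨by decide, v8_58_0⟩, ⟨by decide, v8_58_2⟩, ⟨by decide, v8_58_3⟩, ⟨by decide, v8_58_1⟩, ⟨by decide, v8_58_4⟩, ⟨by decide, v8_58_5⟩, ⟨by decide, v8_58_6⟩, ⟨by decide, v8_58_7⟩]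
theorem row8_59 : ∀ j ∈ K8, tbl8 59 j < 240 ∧ V cs (par cs K7) (word8 59) j (word8 (tbl8 59 j)) := by
  intro j hj
  simp only [K8, List.mem_cons, List.not_mem_nil, or_false] at hj
  rcases hj with rfl | rfl | rfl | rfl | rfl | rfl | rfl | rfl
  exacts [⟨by decide, v8_59_0⟩, ⟨by decide, v8_59_2⟩, ⟨by decide, v8_59_3⟩, ⟨by decide, v8_59_1⟩, ⟨by decide, v8_59_4⟩, ⟨by decide, v8_59_5⟩, ⟨by decide, v8_59_6⟩, ⟨by decide, v8_59_7⟩]
theorem row8_60 : ∀ j ∈ K8, tbl8 60 j < 240 ∧ V cs (par cs K7) (word8 60) j (word8 (tbl8 60 j)) := by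
  intro j hj
  simp only [K8, List.mem_cons, List.not_mem_nil, or_false] at hj
  rcases hj with rfl | rfl | rfl | rfl | rfl | rfl | rfl | rfl
  exacts [⟨by decide, v8_60_0⟩, ⟨by decide, v8_60_2⟩, ⟨by decide, v8_60_3⟩, ⟨by decide, v8_60_1⟩, ⟨by decide, v8_60_4⟩, ⟨by decide, v8_60_5⟩, ⟨by decide, v8_60_6⟩, ⟨by decide, v8_60_7⟩]
theorem row8_61 : ∀ j ∈ K8, tbl8 61 j < 240 ∧ V cs (par cs K7) (word8 61) j (word8 (tbl8 61 j)) := by
  intro j hj
  simp only [K8, List.mem_cons, List.not_mem_nil, or_false] at hj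
  rcases hj with rfl | rfl | rfl | rfl | rfl | rfl | rfl | rfl
  exacts [⟨by decide, v8_61_0⟩, ⟨by decide, v8_61_2⟩, ⟨by decide, v8_61_3⟩, ⟨by decide, v8_61_1⟩, ⟨by decide, v8_61_4⟩, ⟨by decide, v8_61_5⟩, ⟨by decide, v8_61_6⟩, ⟨by decide, v8_61_7⟩]
theorem row8_62 : ∀ j ∈ K8, tbl8 62 j < 240 ∧ V cs (par cs K7) (word8 62) j (word8 (tbl8 62 j)) := by
  intro j hj
  simp only [K8, List.mem_cons, List.not_mem_nil, or_false] at hj
  rcases hj with rfl | rfl | rfl | rfl | rfl | rfl | rfl | rfl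
  exacts [⟨by decide, v8_62_0⟩, ⟨by decide, v8_62_2⟩, ⟨by decide, v8_62_3⟩, ⟨by decide, v8_62_1⟩, ⟨by decide, v8_62_4⟩, ⟨by decide, v8_62_5⟩, ⟨by decide, v8_62_6⟩, ⟨by decide, v8_62_7⟩]
theorem row8_63 : ∀ j ∈ K8, tbl8 63 j < 240 ∧ V cs (par cs K7) (word8 63) j (word8 (tbl8 63 j)) := by
  intro j hj
  simp only [K8, List.mem_cons, List.not_mem_nil, or_false] at hj
  rcases hj with rfl | rfl | rfl | rfl | rfl | rfl | rfl | rfl
  exacts [⟨by decide, v8_63_0⟩, ⟨by decide, v8_63_2⟩, ⟨by decide, v8_63_3⟩, ⟨by decide, v8_63_1⟩, ⟨by decide, v8_63_4⟩, ⟨by decide, v8_63_5⟩, ⟨by decide, v8_63_6⟩, ⟨by decide, v8_63_7⟩]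
theorem row8_64 : ∀ j ∈ K8, tbl8 64 j < 240 ∧ V cs (par cs K7) (word8 64) j (word8 (tbl8 64 j)) := by
  intro j hj
  simp only [K8, List.mem_cons, List.not_mem_nil, or_false] at hj
  rcases hj with rfl | rfl | rfl | rfl | rfl | rfl | rfl | rfl
  exacts [⟨by decide, v8_64_0⟩, ⟨by decide, v8_64_2⟩, ⟨by decide, v8_64_3⟩, ⟨by decide, v8_64_1⟩, ⟨by decide, v8_64_4⟩, ⟨by decide, v8_64_5⟩, ⟨by decide, v8_64_6⟩, ⟨by decide, v8_64_7⟩]
theorem row8_65 : ∀ j ∈ K8, tbl8 65 j < 240 ∧ V cs (par cs K7) (word8 65) j (word8 (tbl8 65 j)) := by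
  intro j hj
  simp only [K8, List.mem_cons, List.not_mem_nil, or_false] at hj
  rcases hj with rfl | rfl | rfl | rfl | rfl | rfl | rfl | rfl
  exacts [⟨by decide, v8_65_0⟩, ⟨by decide, v8_65_2⟩, ⟨by decide, v8_65_3⟩, ⟨by decide, v8_65_1⟩, ⟨by decide, v8_65_4⟩, ⟨by decide, v8_65_5⟩, ⟨by decide, v8_65_6⟩, ⟨by decide, v8_65_7⟩]
theorem row8_66 : ∀ j ∈ K8, tbl8 66 j < 240 ∧ V cs (par cs K7) (word8 66) j (word8 (tbl8 66 j)) := by
  intro j hj
  simp only [K8, List.mem_cons, List.not_mem_nil, or_false] at hj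
  rcases hj with rfl | rfl | rfl | rfl | rfl | rfl | rfl | rfl
  exacts [⟨by decide, v8_66_0⟩, ⟨by decide, v8_66_2⟩, ⟨by decide, v8_66_3⟩, ⟨by decide, v8_66_1⟩, ⟨by decide, v8_66_4⟩, ⟨by decide, v8_66_5⟩, ⟨by decide, v8_66_6⟩, ⟨by decide, v8_66_7⟩]
theorem row8_67 : ∀ j ∈ K8, tbl8 67 j < 240 ∧ V cs (par cs K7) (word8 67) j (word8 (tbl8 67 j)) := by
  intro j hj
  simp only [K8, List.mem_cons, List.not_mem_nil, or_false] at hj
  rcases hj with rfl | rfl | rfl | rfl | rfl | rfl | rfl | rfl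
  exacts [⟨by decide, v8_67_0⟩, ⟨by decide, v8_67_2⟩, ⟨by decide, v8_67_3⟩, ⟨by decide, v8_67_1⟩, ⟨by decide, v8_67_4⟩, ⟨by decide, v8_67_5⟩, ⟨by decide, v8_67_6⟩, ⟨by decide, v8_67_7⟩]
theorem row8_68 : ∀ j ∈ K8, tbl8 68 j < 240 ∧ V cs (par cs K7) (word8 68) j (word8 (tbl8 68 j)) := by
  intro j hj
  simp only [K8, List.mem_cons, List.not_mem_nil, or_false] at hj
  rcases hj with rfl | rfl | rfl | rfl | rfl | rfl | rfl | rfl
  exacts [⟨by decide, v8_68_0⟩, ⟨by decide, v8_68_2⟩, ⟨by decide, v8_68_3⟩, ⟨by decide, v8_68_1⟩, ⟨by decide, v8_68_4⟩, ⟨by decide, v8_68_5⟩, ⟨by decide, v8_68_6⟩, ⟨by decide, v8_68_7⟩]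
theorem row8_69 : ∀ j ∈ K8, tbl8 69 j < 240 ∧ V cs (par cs K7) (word8 69) j (word8 (tbl8 69 j)) := by
  intro j hj
  simp only [K8, List.mem_cons, List.not_mem_nil, or_false] at hj
  rcases hj with rfl | rfl | rfl | rfl | rfl | rfl | rfl | rfl
  exacts [⟨by decide, v8_69_0⟩, ⟨by decide, v8_69_2⟩, ⟨by decide, v8_69_3⟩, ⟨by decide, v8_69_1⟩, ⟨by decide, v8_69_4⟩, ⟨by decide, v8_69_5⟩, ⟨by decide, v8_69_6⟩, ⟨by decide, v8_69_7⟩]
theorem row8_70 : ∀ j ∈ K8, tbl8 70 j < 240 ∧ V cs (par cs K7) (word8 70) j (word8 (tbl8 70 j)) := by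
  intro j hj
  simp only [K8, List.mem_cons, List.not_mem_nil, or_false] at hj
  rcases hj with rfl | rfl | rfl | rfl | rfl | rfl | rfl | rfl
  exacts [⟨by decide, v8_70_0⟩, ⟨by decide, v8_70_2⟩, ⟨by decide, v8_70_3⟩, ⟨by decide, v8_70_1⟩, ⟨by decide, v8_70_4⟩, ⟨by decide, v8_70_5⟩, ⟨by decide, v8_70_6⟩, ⟨by decide, v8_70_7⟩]
theorem row8_71 : ∀ j ∈ K8, tbl8 71 j < 240 ∧ V cs (par cs K7) (word8 71) j (word8 (tbl8 71 j)) := by
  intro j hj
  simp only [K8, List.mem_cons, List.not_mem_nil, or_false] at hj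
  rcases hj with rfl | rfl | rfl | rfl | rfl | rfl | rfl | rfl
  exacts [⟨by decide, v8_71_0⟩, ⟨by decide, v8_71_2⟩, ⟨by decide, v8_71_3⟩, ⟨by decide, v8_71_1⟩, ⟨by decide, v8_71_4⟩, ⟨by decide, v8_71_5⟩, ⟨by decide, v8_71_6⟩, ⟨by decide, v8_71_7⟩]
theorem row8_72 : ∀ j ∈ K8, tbl8 72 j < 240 ∧ V cs (par cs K7) (word8 72) j (word8 (tbl8 72 j)) := by
  intro j hj
  simp only [K8, List.mem_cons, List.not_mem_nil, or_false] at hj
  rcases hj with rfl | rfl | rfl | rfl | rfl | rfl | rfl | rfl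
  exacts [⟨by decide, v8_72_0⟩, ⟨by decide, v8_72_2⟩, ⟨by decide, v8_72_3⟩, ⟨by decide, v8_72_1⟩, ⟨by decide, v8_72_4⟩, ⟨by decide, v8_72_5⟩, ⟨by decide, v8_72_6⟩, ⟨by decide, v8_72_7⟩]
theorem row8_73 : ∀ j ∈ K8, tbl8 73 j < 240 ∧ V cs (par cs K7) (word8 73) j (word8 (tbl8 73 j)) := by
  intro j hj
  simp only [K8, List.mem_cons, List.not_mem_nil, or_false] at hj
  rcases hj with rfl | rfl | rfl | rfl | rfl | rfl | rfl | rfl
  exacts [⟨by decide, v8_73_0⟩, ⟨by decide, v8_73_2⟩, ⟨by decide, v8_73_3⟩, ⟨by decide, v8_73_1⟩, ⟨by decide, v8_73_4⟩, ⟨by decide, v8_73_5⟩, ⟨by decide, v8_73_6⟩, ⟨by decide, v8_73_7⟩]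
theorem row8_74 : ∀ j ∈ K8, tbl8 74 j < 240 ∧ V cs (par cs K7) (word8 74) j (word8 (tbl8 74 j)) := by
  intro j hj
  simp only [K8, List.mem_cons, List.not_mem_nil, or_false] at hj
  rcases hj with rfl | rfl | rfl | rfl | rfl | rfl | rfl | rfl
  exacts [⟨by decide, v8_74_0⟩, ⟨by decide, v8_74_2⟩, ⟨by decide, v8_74_3⟩, ⟨by decide, v8_74_1⟩, ⟨by decide, v8_74_4⟩, ⟨by decide, v8_74_5⟩, ⟨by decide, v8_74_6⟩, ⟨by decide, v8_74_7⟩]
theorem row8_75 : ∀ j ∈ K8, tbl8 75 j < 240 ∧ V cs (par cs K7) (word8 75) j (word8 (tbl8 75 j)) := by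
  intro j hj
  simp only [K8, List.mem_cons, List.not_mem_nil, or_false] at hj
  rcases hj with rfl | rfl | rfl | rfl | rfl | rfl | rfl | rfl
  exacts [⟨by decide, v8_75_0⟩, ⟨by decide, v8_75_2⟩, ⟨by decide, v8_75_3⟩, ⟨by decide, v8_75_1⟩, ⟨by decide, v8_75_4⟩, ⟨by decide, v8_75_5⟩, ⟨by decide, v8_75_6⟩, ⟨by decide, v8_75_7⟩]
theorem row8_76 : ∀ j ∈ K8, tbl8 76 j < 240 ∧ V cs (par cs K7) (word8 76) j (word8 (tbl8 76 j)) := by
  intro j hj
  simp only [K8, List.mem_cons, List.not_mem_nil, or_false] at hj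
  rcases hj with rfl | rfl | rfl | rfl | rfl | rfl | rfl | rfl
  exacts [⟨by decide, v8_76_0⟩, ⟨by decide, v8_76_2⟩, ⟨by decide, v8_76_3⟩, ⟨by decide, v8_76_1⟩, ⟨by decide, v8_76_4⟩, ⟨by decide, v8_76_5⟩, ⟨by decide, v8_76_6⟩, ⟨by decide, v8_76_7⟩]
theorem row8_77 : ∀ j ∈ K8, tbl8 77 j < 240 ∧ V cs (par cs K7) (word8 77) j (word8 (tbl8 77 j)) := by
  intro j hj
  simp only [K8, List.mem_cons, List.not_mem_nil, or_false] at hj
  rcases hj with rfl | rfl | rfl | rfl | rfl | rfl | rfl | rfl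
  exacts [⟨by decide, v8_77_0⟩, ⟨by decide, v8_77_2⟩, ⟨by decide, v8_77_3⟩, ⟨by decide, v8_77_1⟩, ⟨by decide, v8_77_4⟩, ⟨by decide, v8_77_5⟩, ⟨by decide, v8_77_6⟩, ⟨by decide, v8_77_7⟩]
theorem row8_78 : ∀ j ∈ K8, tbl8 78 j < 240 ∧ V cs (par cs K7) (word8 78) j (word8 (tbl8 78 j)) := by
  intro j hj
  simp only [K8, List.mem_cons, List.not_mem_nil, or_false] at hj
  rcases hj with rfl | rfl | rfl | rfl | rfl | rfl | rfl | rfl
  exacts [⟨by decide, v8_78_0⟩, ⟨by decide, v8_78_2⟩, ⟨by decide, v8_78_3⟩, ⟨by decide, v8_78_1⟩, ⟨by decide, v8_78_4⟩, ⟨by decide, v8_78_5⟩, ⟨by decide, v8_78_6⟩, ⟨by decide, v8_78_7⟩]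
theorem row8_79 : ∀ j ∈ K8, tbl8 79 j < 240 ∧ V cs (par cs K7) (word8 79) j (word8 (tbl8 79 j)) := by
  intro j hj
  simp only [K8, List.mem_cons, List.not_mem_nil, or_false] at hj
  rcases hj with rfl | rfl | rfl | rfl | rfl | rfl | rfl | rfl
  exacts [⟨by decide, v8_79_0⟩, ⟨by decide, v8_79_2⟩, ⟨by decide, v8_79_3⟩, ⟨by decide, v8_79_1⟩, ⟨by decide, v8_79_4⟩, ⟨by decide, v8_79_5⟩, ⟨by decide, v8_79_6⟩, ⟨by decide, v8_79_7⟩]
theorem row8_80 : ∀ j ∈ K8, tbl8 80 j < 240 ∧ V cs (par cs K7) (word8 80) j (word8 (tbl8 80 j)) := by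
  intro j hj
  simp only [K8, List.mem_cons, List.not_mem_nil, or_false] at hj
  rcases hj with rfl | rfl | rfl | rfl | rfl | rfl | rfl | rfl
  exacts [⟨by decide, v8_80_0⟩, ⟨by decide, v8_80_2⟩, ⟨by decide, v8_80_3⟩, ⟨by decide, v8_80_1⟩, ⟨by decide, v8_80_4⟩, ⟨by decide, v8_80_5⟩, ⟨by decide, v8_80_6⟩, ⟨by decide, v8_80_7⟩]
theorem row8_81 : ∀ j ∈ K8, tbl8 81 j < 240 ∧ V cs (par cs K7) (word8 81) j (word8 (tbl8 81 j)) := by
  intro j hj
  simp only [K8, List.mem_cons, List.not_mem_nil, or_false] at hj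
  rcases hj with rfl | rfl | rfl | rfl | rfl | rfl | rfl | rfl
  exacts [⟨by decide, v8_81_0⟩, ⟨by decide, v8_81_2⟩, ⟨by decide, v8_81_3⟩, ⟨by decide, v8_81_1⟩, ⟨by decide, v8_81_4⟩, ⟨by decide, v8_81_5⟩, ⟨by decide, v8_81_6⟩, ⟨by decide, v8_81_7⟩]
theorem row8_82 : ∀ j ∈ K8, tbl8 82 j < 240 ∧ V cs (par cs K7) (word8 82) j (word8 (tbl8 82 j)) := by
  intro j hj
  simp only [K8, List.mem_cons, List.not_mem_nil, or_false] at hj
  rcases hj with rfl | rfl | rfl | rfl | rfl | rfl | rfl | rfl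
  exacts [⟨by decide, v8_82_0⟩, ⟨by decide, v8_82_2⟩, ⟨by decide, v8_82_3⟩, ⟨by decide, v8_82_1⟩, ⟨by decide, v8_82_4⟩, ⟨by decide, v8_82_5⟩, ⟨by decide, v8_82_6⟩, ⟨by decide, v8_82_7⟩]
theorem row8_83 : ∀ j ∈ K8, tbl8 83 j < 240 ∧ V cs (par cs K7) (word8 83) j (word8 (tbl8 83 j)) := by
  intro j hj
  simp only [K8, List.mem_cons, List.not_mem_nil, or_false] at hj
  rcases hj with rfl | rfl | rfl | rfl | rfl | rfl | rfl | rfl
  exacts [⟨by decide, v8_83_0⟩, ⟨by decide, v8_83_2⟩, ⟨by decide, v8_83_3⟩, ⟨by decide, v8_83_1⟩, ⟨by decide, v8_83_4⟩, ⟨by decide, v8_83_5⟩, ⟨by decide, v8_83_6⟩, ⟨by decide, v8_83_7⟩]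
theorem row8_84 : ∀ j ∈ K8, tbl8 84 j < 240 ∧ V cs (par cs K7) (word8 84) j (word8 (tbl8 84 j)) := by
  intro j hj
  simp only [K8, List.mem_cons, List.not_mem_nil, or_false] at hj
  rcases hj with rfl | rfl | rfl | rfl | rfl | rfl | rfl | rfl
  exacts [⟨by decide, v8_84_0⟩, ⟨by decide, v8_84_2⟩, ⟨by decide, v8_84_3⟩, ⟨by decide, v8_84_1⟩, ⟨by decide, v8_84_4⟩, ⟨by decide, v8_84_5⟩, ⟨by decide, v8_84_6⟩, ⟨by decide, v8_84_7⟩]
theorem row8_85 : ∀ j ∈ K8, tbl8 85 j < 240 ∧ V cs (par cs K7) (word8 85) j (word8 (tbl8 85 j)) := by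
  intro j hj
  simp only [K8, List.mem_cons, List.not_mem_nil, or_false] at hj
  rcases hj with rfl | rfl | rfl | rfl | rfl | rfl | rfl | rfl
  exacts [⟨by decide, v8_85_0⟩, ⟨by decide, v8_85_2⟩, ⟨by decide, v8_85_3⟩, ⟨by decide, v8_85_1⟩, ⟨by decide, v8_85_4⟩, ⟨by decide, v8_85_5⟩, ⟨by decide, v8_85_6⟩, ⟨by decide, v8_85_7⟩]
theorem row8_86 : ∀ j ∈ K8, tbl8 86 j < 240 ∧ V cs (par cs K7) (word8 86) j (word8 (tbl8 86 j)) := by
  intro j hj
  simp only [K8, List.mem_cons, List.not_mem_nil, or_false] at hj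
  rcases hj with rfl | rfl | rfl | rfl | rfl | rfl | rfl | rfl
  exacts [⟨by decide, v8_86_0⟩, ⟨by decide, v8_86_2⟩, ⟨by decide, v8_86_3⟩, ⟨by decide, v8_86_1⟩, ⟨by decide, v8_86_4⟩, ⟨by decide, v8_86_5⟩, ⟨by decide, v8_86_6⟩, ⟨by decide, v8_86_7⟩]
theorem row8_87 : ∀ j ∈ K8, tbl8 87 j < 240 ∧ V cs (par cs K7) (word8 87) j (word8 (tbl8 87 j)) := by
  intro j hj
  simp only [K8, List.mem_cons, List.not_mem_nil, or_false] at hj
  rcases hj with rfl | rfl | rfl | rfl | rfl | rfl | rfl | rfl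
  exacts [⟨by decide, v8_87_0⟩, ⟨by decide, v8_87_2⟩, ⟨by decide, v8_87_3⟩, ⟨by decide, v8_87_1⟩, ⟨by decide, v8_87_4⟩, ⟨by decide, v8_87_5⟩, ⟨by decide, v8_87_6⟩, ⟨by decide, v8_87_7⟩]
theorem row8_88 : ∀ j ∈ K8, tbl8 88 j < 240 ∧ V cs (par cs K7) (word8 88) j (word8 (tbl8 88 j)) := by
  intro j hj
  simp only [K8, List.mem_cons, List.not_mem_nil, or_false] at hj
  rcases hj with rfl | rfl | rfl | rfl | rfl | rfl | rfl | rfl
  exacts [⟨by decide, v8_88_0⟩, ⟨by decide, v8_88_2⟩, ⟨by decide, v8_88_3⟩, ⟨by decide, v8_88_1⟩, ⟨by decide, v8_88_4⟩, ⟨by decide, v8_88_5⟩, ⟨by decide, v8_88_6⟩, ⟨by decide, v8_88_7⟩]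
theorem row8_89 : ∀ j ∈ K8, tbl8 89 j < 240 ∧ V cs (par cs K7) (word8 89) j (word8 (tbl8 89 j)) := by
  intro j hj
  simp only [K8, List.mem_cons, List.not_mem_nil, or_false] at hj
  rcases hj with rfl | rfl | rfl | rfl | rfl | rfl | rfl | rfl
  exacts [⟨by decide, v8_89_0⟩, ⟨by decide, v8_89_2⟩, ⟨by decide, v8_89_3⟩, ⟨by decide, v8_89_1⟩, ⟨by decide, v8_89_4⟩, ⟨by decide, v8_89_5⟩, ⟨by decide, v8_89_6⟩, ⟨by decide, v8_89_7⟩]
theorem row8_90 : ∀ j ∈ K8, tbl8 90 j < 240 ∧ V cs (par cs K7) (word8 90) j (word8 (tbl8 90 j)) := by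
  intro j hj
  simp only [K8, List.mem_cons, List.not_mem_nil, or_false] at hj
  rcases hj with rfl | rfl | rfl | rfl | rfl | rfl | rfl | rfl
  exacts [⟨by decide, v8_90_0⟩, ⟨by decide, v8_90_2⟩, ⟨by decide, v8_90_3⟩, ⟨by decide, v8_90_1⟩, ⟨by decide, v8_90_4⟩, ⟨by decide, v8_90_5⟩, ⟨by decide, v8_90_6⟩, ⟨by decide, v8_90_7⟩]
theorem row8_91 : ∀ j ∈ K8, tbl8 91 j < 240 ∧ V cs (par cs K7) (word8 91) j (word8 (tbl8 91 j)) := by
  intro j hj
  simp only [K8, List.mem_cons, List.not_mem_nil, or_false] at hj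
  rcases hj with rfl | rfl | rfl | rfl | rfl | rfl | rfl | rfl
  exacts [⟨by decide, v8_91_0⟩, ⟨by decide, v8_91_2⟩, ⟨by decide, v8_91_3⟩, ⟨by decide, v8_91_1⟩, ⟨by decide, v8_91_4⟩, ⟨by decide, v8_91_5⟩, ⟨by decide, v8_91_6⟩, ⟨by decide, v8_91_7⟩]
theorem row8_92 : ∀ j ∈ K8, tbl8 92 j < 240 ∧ V cs (par cs K7) (word8 92) j (word8 (tbl8 92 j)) := by
  intro j hj
  simp only [K8, List.mem_cons, List.not_mem_nil, or_false] at hj
  rcases hj with rfl | rfl | rfl | rfl | rfl | rfl | rfl | rfl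
  exacts [⟨by decide, v8_92_0⟩, ⟨by decide, v8_92_2⟩, ⟨by decide, v8_92_3⟩, ⟨by decide, v8_92_1⟩, ⟨by decide, v8_92_4⟩, ⟨by decide, v8_92_5⟩, ⟨by decide, v8_92_6⟩, ⟨by decide, v8_92_7⟩]
theorem row8_93 : ∀ j ∈ K8, tbl8 93 j < 240 ∧ V cs (par cs K7) (word8 93) j (word8 (tbl8 93 j)) := by
  intro j hj
  simp only [K8, List.mem_cons, List.not_mem_nil, or_false] at hj
  rcases hj with rfl | rfl | rfl | rfl | rfl | rfl | rfl | rfl
  exacts [⟨by decide, v8_93_0⟩, ⟨by decide, v8_93_2⟩, ⟨by decide, v8_93_3⟩, ⟨by decide, v8_93_1⟩, ⟨by decide, v8_93_4⟩, ⟨by decide, v8_93_5⟩, ⟨by decide, v8_93_6⟩, ⟨by decide, v8_93_7⟩]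
theorem row8_94 : ∀ j ∈ K8, tbl8 94 j < 240 ∧ V cs (par cs K7) (word8 94) j (word8 (tbl8 94 j)) := by
  intro j hj
  simp only [K8, List.mem_cons, List.not_mem_nil, or_false] at hj
  rcases hj with rfl | rfl | rfl | rfl | rfl | rfl | rfl | rfl
  exacts [⟨by decide, v8_94_0⟩, ⟨by decide, v8_94_2⟩, ⟨by decide, v8_94_3⟩, ⟨by decide, v8_94_1⟩, ⟨by decide, v8_94_4⟩, ⟨by decide, v8_94_5⟩, ⟨by decide, v8_94_6⟩, ⟨by decide, v8_94_7⟩]
theorem row8_95 : ∀ j ∈ K8, tbl8 95 j < 240 ∧ V cs (par cs K7) (word8 95) j (word8 (tbl8 95 j)) := by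
  intro j hj
  simp only [K8, List.mem_cons, List.not_mem_nil, or_false] at hj
  rcases hj with rfl | rfl | rfl | rfl | rfl | rfl | rfl | rfl
  exacts [⟨by decide, v8_95_0⟩, ⟨by decide, v8_95_2⟩, ⟨by decide, v8_95_3⟩, ⟨by decide, v8_95_1⟩, ⟨by decide, v8_95_4⟩, ⟨by decide, v8_95_5⟩, ⟨by decide, v8_95_6⟩, ⟨by decide, v8_95_7⟩]
theorem row8_96 : ∀ j ∈ K8, tbl8 96 j < 240 ∧ V cs (par cs K7) (word8 96) j (word8 (tbl8 96 j)) := by
  intro j hj
  simp only [K8, List.mem_cons, List.not_mem_nil, or_false] at hj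
  rcases hj with rfl | rfl | rfl | rfl | rfl | rfl | rfl | rfl
  exacts [⟨by decide, v8_96_0⟩, ⟨by decide, v8_96_2⟩, ⟨by decide, v8_96_3⟩, ⟨by decide, v8_96_1⟩, ⟨by decide, v8_96_4⟩, ⟨by decide, v8_96_5⟩, ⟨by decide, v8_96_6⟩, ⟨by decide, v8_96_7⟩]
theorem row8_97 : ∀ j ∈ K8, tbl8 97 j < 240 ∧ V cs (par cs K7) (word8 97) j (word8 (tbl8 97 j)) := by
  intro j hj
  simp only [K8, List.mem_cons, List.not_mem_nil, or_false] at hj
  rcases hj with rfl | rfl | rfl | rfl | rfl | rfl | rfl | rfl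
  exacts [⟨by decide, v8_97_0⟩, ⟨by decide, v8_97_2⟩, ⟨by decide, v8_97_3⟩, ⟨by decide, v8_97_1⟩, ⟨by decide, v8_97_4⟩, ⟨by decide, v8_97_5⟩, ⟨by decide, v8_97_6⟩, ⟨by decide, v8_97_7⟩]
theorem row8_98 : ∀ j ∈ K8, tbl8 98 j < 240 ∧ V cs (par cs K7) (word8 98) j (word8 (tbl8 98 j)) := by
  intro j hj
  simp only [K8, List.mem_cons, List.not_mem_nil, or_false] at hj
  rcases hj with rfl | rfl | rfl | rfl | rfl | rfl | rfl | rfl
  exacts [⟨by decide, v8_98_0⟩, ⟨by decide, v8_98_2⟩, ⟨by decide, v8_98_3⟩, ⟨by decide, v8_98_1⟩, ⟨by decide, v8_98_4⟩, ⟨by decide, v8_98_5⟩, ⟨by decide, v8_98_6⟩, ⟨by decide, v8_98_7⟩]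
theorem row8_99 : ∀ j ∈ K8, tbl8 99 j < 240 ∧ V cs (par cs K7) (word8 99) j (word8 (tbl8 99 j)) := by
  intro j hj
  simp only [K8, List.mem_cons, List.not_mem_nil, or_false] at hj
  rcases hj with rfl | rfl | rfl | rfl | rfl | rfl | rfl | rfl
  exacts [⟨by decide, v8_99_0⟩, ⟨by decide, v8_99_2⟩, ⟨by decide, v8_99_3⟩, ⟨by decide, v8_99_1⟩, ⟨by decide, v8_99_4⟩, ⟨by decide, v8_99_5⟩, ⟨by decide, v8_99_6⟩, ⟨by decide, v8_99_7⟩]
theorem row8_100 : ∀ j ∈ K8, tbl8 100 j < 240 ∧ V cs (par cs K7) (word8 100) j (word8 (tbl8 100 j)) := by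
  intro j hj
  simp only [K8, List.mem_cons, List.not_mem_nil, or_false] at hj
  rcases hj with rfl | rfl | rfl | rfl | rfl | rfl | rfl | rfl
  exacts [⟨by decide, v8_100_0⟩, ⟨by decide, v8_100_2⟩, ⟨by decide, v8_100_3⟩, ⟨by decide, v8_100_1⟩, ⟨by decide, v8_100_4⟩, ⟨by decide, v8_100_5⟩, ⟨by decide, v8_100_6⟩, ⟨by decide, v8_100_7⟩]
theorem row8_101 : ∀ j ∈ K8, tbl8 101 j < 240 ∧ V cs (par cs K7) (word8 101) j (word8 (tbl8 101 j)) := by
  intro j hj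
  simp only [K8, List.mem_cons, List.not_mem_nil, or_false] at hj
  rcases hj with rfl | rfl | rfl | rfl | rfl | rfl | rfl | rfl
  exacts [⟨by decide, v8_101_0⟩, ⟨by decide, v8_101_2⟩, ⟨by decide, v8_101_3⟩, ⟨by decide, v8_101_1⟩, ⟨by decide, v8_101_4⟩, ⟨by decide, v8_101_5⟩, ⟨by decide, v8_101_6⟩, ⟨by decide, v8_101_7⟩]
theorem row8_102 : ∀ j ∈ K8, tbl8 102 j < 240 ∧ V cs (par cs K7) (word8 102) j (word8 (tbl8 102 j)) := by
  intro j hj
  simp only [K8, List.mem_cons, List.not_mem_nil, or_false] at hj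
  rcases hj with rfl | rfl | rfl | rfl | rfl | rfl | rfl | rfl
  exacts [⟨by decide, v8_102_0⟩, ⟨by decide, v8_102_2⟩, ⟨by decide, v8_102_3⟩, ⟨by decide, v8_102_1⟩, ⟨by decide, v8_102_4⟩, ⟨by decide, v8_102_5⟩, ⟨by decide, v8_102_6⟩, ⟨by decide, v8_102_7⟩]
theorem row8_103 : ∀ j ∈ K8, tbl8 103 j < 240 ∧ V cs (par cs K7) (word8 103) j (word8 (tbl8 103 j)) := by
  intro j hj
  simp only [K8, List.mem_cons, List.not_mem_nil, or_false] at hj
  rcases hj with rfl | rfl | rfl | rfl | rfl | rfl | rfl | rfl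
  exacts [⟨by decide, v8_103_0⟩, ⟨by decide, v8_103_2⟩, ⟨by decide, v8_103_3⟩, ⟨by decide, v8_103_1⟩, ⟨by decide, v8_103_4⟩, ⟨by decide, v8_103_5⟩, ⟨by decide, v8_103_6⟩, ⟨by decide, v8_103_7⟩]
theorem row8_104 : ∀ j ∈ K8, tbl8 104 j < 240 ∧ V cs (par cs K7) (word8 104) j (word8 (tbl8 104 j)) := by
  intro j hj
  simp only [K8, List.mem_cons, List.not_mem_nil, or_false] at hj
  rcases hj with rfl | rfl | rfl | rfl | rfl | rfl | rfl | rfl
  exacts [⟨by decide, v8_104_0⟩, ⟨by decide, v8_104_2⟩, ⟨by decide, v8_104_3⟩, ⟨by decide, v8_104_1⟩, ⟨by decide, v8_104_4⟩, ⟨by decide, v8_104_5⟩, ⟨by decide, v8_104_6⟩, ⟨by decide, v8_104_7⟩]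
theorem row8_105 : ∀ j ∈ K8, tbl8 105 j < 240 ∧ V cs (par cs K7) (word8 105) j (word8 (tbl8 105 j)) := by
  intro j hj
  simp only [K8, List.mem_cons, List.not_mem_nil, or_false] at hj
  rcases hj with rfl | rfl | rfl | rfl | rfl | rfl | rfl | rfl
  exacts [⟨by decide, v8_105_0⟩, ⟨by decide, v8_105_2⟩, ⟨by decide, v8_105_3⟩, ⟨by decide, v8_105_1⟩, ⟨by decide, v8_105_4⟩, ⟨by decide, v8_105_5⟩, ⟨by decide, v8_105_6⟩, ⟨by decide, v8_105_7⟩]
theorem row8_106 : ∀ j ∈ K8, tbl8 106 j < 240 ∧ V cs (par cs K7) (word8 106) j (word8 (tbl8 106 j)) := by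
  intro j hj
  simp only [K8, List.mem_cons, List.not_mem_nil, or_false] at hj
  rcases hj with rfl | rfl | rfl | rfl | rfl | rfl | rfl | rfl
  exacts [⟨by decide, v8_106_0⟩, ⟨by decide, v8_106_2⟩, ⟨by decide, v8_106_3⟩, ⟨by decide, v8_106_1⟩, ⟨by decide, v8_106_4⟩, ⟨by decide, v8_106_5⟩, ⟨by decide, v8_106_6⟩, ⟨by decide, v8_106_7⟩]
theorem row8_107 : ∀ j ∈ K8, tbl8 107 j < 240 ∧ V cs (par cs K7) (word8 107) j (word8 (tbl8 107 j)) := by
  intro j hj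
  simp only [K8, List.mem_cons, List.not_mem_nil, or_false] at hj
  rcases hj with rfl | rfl | rfl | rfl | rfl | rfl | rfl | rfl
  exacts [⟨by decide, v8_107_0⟩, ⟨by decide, v8_107_2⟩, ⟨by decide, v8_107_3⟩, ⟨by decide, v8_107_1⟩, ⟨by decide, v8_107_4⟩, ⟨by decide, v8_107_5⟩, ⟨by decide, v8_107_6⟩, ⟨by decide, v8_107_7⟩]
theorem row8_108 : ∀ j ∈ K8, tbl8 108 j < 240 ∧ V cs (par cs K7) (word8 108) j (word8 (tbl8 108 j)) := by
  intro j hj
  simp only [K8, List.mem_cons, List.not_mem_nil, or_false] at hj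
  rcases hj with rfl | rfl | rfl | rfl | rfl | rfl | rfl | rfl
  exacts [⟨by decide, v8_108_0⟩, ⟨by decide, v8_108_2⟩, ⟨by decide, v8_108_3⟩, ⟨by decide, v8_108_1⟩, ⟨by decide, v8_108_4⟩, ⟨by decide, v8_108_5⟩, ⟨by decide, v8_108_6⟩, ⟨by decide, v8_108_7⟩]
theorem row8_109 : ∀ j ∈ K8, tbl8 109 j < 240 ∧ V cs (par cs K7) (word8 109) j (word8 (tbl8 109 j)) := by
  intro j hj
  simp only [K8, List.mem_cons, List.not_mem_nil, or_false] at hj
  rcases hj with rfl | rfl | rfl | rfl | rfl | rfl | rfl | rfl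
  exacts [⟨by decide, v8_109_0⟩, ⟨by decide, v8_109_2⟩, ⟨by decide, v8_109_3⟩, ⟨by decide, v8_109_1⟩, ⟨by decide, v8_109_4⟩, ⟨by decide, v8_109_5⟩, ⟨by decide, v8_109_6⟩, ⟨by decide, v8_109_7⟩]
theorem row8_110 : ∀ j ∈ K8, tbl8 110 j < 240 ∧ V cs (par cs K7) (word8 110) j (word8 (tbl8 110 j)) := by
  intro j hj
  simp only [K8, List.mem_cons, List.not_mem_nil, or_false] at hj
  rcases hj with rfl | rfl | rfl | rfl | rfl | rfl | rfl | rfl
  exacts [⟨by decide, v8_110_0⟩, ⟨by decide, v8_110_2⟩, ⟨by decide, v8_110_3⟩, ⟨by decide, v8_110_1⟩, ⟨by decide, v8_110_4⟩, ⟨by decide, v8_110_5⟩, ⟨by decide, v8_110_6⟩, ⟨by decide, v8_110_7⟩]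
theorem row8_111 : ∀ j ∈ K8, tbl8 111 j < 240 ∧ V cs (par cs K7) (word8 111) j (word8 (tbl8 111 j)) := by
  intro j hj
  simp only [K8, List.mem_cons, List.not_mem_nil, or_false] at hj
  rcases hj with rfl | rfl | rfl | rfl | rfl | rfl | rfl | rfl
  exacts [⟨by decide, v8_111_0⟩, ⟨by decide, v8_111_2⟩, ⟨by decide, v8_111_3⟩, ⟨by decide, v8_111_1⟩, ⟨by decide, v8_111_4⟩, ⟨by decide, v8_111_5⟩, ⟨by decide, v8_111_6⟩, ⟨by decide, v8_111_7⟩]
theorem row8_112 : ∀ j ∈ K8, tbl8 112 j < 240 ∧ V cs (par cs K7) (word8 112) j (word8 (tbl8 112 j)) := by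
  intro j hj
  simp only [K8, List.mem_cons, List.not_mem_nil, or_false] at hj
  rcases hj with rfl | rfl | rfl | rfl | rfl | rfl | rfl | rfl
  exacts [⟨by decide, v8_112_0⟩, ⟨by decide, v8_112_2⟩, ⟨by decide, v8_112_3⟩, ⟨by decide, v8_112_1⟩, ⟨by decide, v8_112_4⟩, ⟨by decide, v8_112_5⟩, ⟨by decide, v8_112_6⟩, ⟨by decide, v8_112_7⟩]
theorem row8_113 : ∀ j ∈ K8, tbl8 113 j < 240 ∧ V cs (par cs K7) (word8 113) j (word8 (tbl8 113 j)) := by
  intro j hj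
  simp only [K8, List.mem_cons, List.not_mem_nil, or_false] at hj
  rcases hj with rfl | rfl | rfl | rfl | rfl | rfl | rfl | rfl
  exacts [⟨by decide, v8_113_0⟩, ⟨by decide, v8_113_2⟩, ⟨by decide, v8_113_3⟩, ⟨by decide, v8_113_1⟩, ⟨by decide, v8_113_4⟩, ⟨by decide, v8_113_5⟩, ⟨by decide, v8_113_6⟩, ⟨by decide, v8_113_7⟩]
theorem row8_114 : ∀ j ∈ K8, tbl8 114 j < 240 ∧ V cs (par cs K7) (word8 114) j (word8 (tbl8 114 j)) := by
  intro j hj
  simp only [K8, List.mem_cons, List.not_mem_nil, or_false] at hj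
  rcases hj with rfl | rfl | rfl | rfl | rfl | rfl | rfl | rfl
  exacts [⟨by decide, v8_114_0⟩, ⟨by decide, v8_114_2⟩, ⟨by decide, v8_114_3⟩, ⟨by decide, v8_114_1⟩, ⟨by decide, v8_114_4⟩, ⟨by decide, v8_114_5⟩, ⟨by decide, v8_114_6⟩, ⟨by decide, v8_114_7⟩]
theorem row8_115 : ∀ j ∈ K8, tbl8 115 j < 240 ∧ V cs (par cs K7) (word8 115) j (word8 (tbl8 115 j)) := by
  intro j hj
  simp only [K8, List.mem_cons, List.not_mem_nil, or_false] at hj
  rcases hj with rfl | rfl | rfl | rfl | rfl | rfl | rfl | rfl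
  exacts [⟨by decide, v8_115_0⟩, ⟨by decide, v8_115_2⟩, ⟨by decide, v8_115_3⟩, ⟨by decide, v8_115_1⟩, ⟨by decide, v8_115_4⟩, ⟨by decide, v8_115_5⟩, ⟨by decide, v8_115_6⟩, ⟨by decide, v8_115_7⟩]
theorem row8_116 : ∀ j ∈ K8, tbl8 116 j < 240 ∧ V cs (par cs K7) (word8 116) j (word8 (tbl8 116 j)) := by
  intro j hj
  simp only [K8, List.mem_cons, List.not_mem_nil, or_false] at hj
  rcases hj with rfl | rfl | rfl | rfl | rfl | rfl | rfl | rfl
  exacts [⟨by decide, v8_116_0⟩, ⟨by decide, v8_116_2⟩, ⟨by decide, v8_116_3⟩, ⟨by decide, v8_116_1⟩, ⟨by decide, v8_116_4⟩, ⟨by decide, v8_116_5⟩, ⟨by decide, v8_116_6⟩, ⟨by decide, v8_116_7⟩]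
theorem row8_117 : ∀ j ∈ K8, tbl8 117 j < 240 ∧ V cs (par cs K7) (word8 117) j (word8 (tbl8 117 j)) := by
  intro j hj
  simp only [K8, List.mem_cons, List.not_mem_nil, or_false] at hj
  rcases hj with rfl | rfl | rfl | rfl | rfl | rfl | rfl | rfl
  exacts [⟨by decide, v8_117_0⟩, ⟨by decide, v8_117_2⟩, ⟨by decide, v8_117_3⟩, ⟨by decide, v8_117_1⟩, ⟨by decide, v8_117_4⟩, ⟨by decide, v8_117_5⟩, ⟨by decide, v8_117_6⟩, ⟨by decide, v8_117_7⟩]
theorem row8_118 : ∀ j ∈ K8, tbl8 118 j < 240 ∧ V cs (par cs K7) (word8 118) j (word8 (tbl8 118 j)) := by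
  intro j hj
  simp only [K8, List.mem_cons, List.not_mem_nil, or_false] at hj
  rcases hj with rfl | rfl | rfl | rfl | rfl | rfl | rfl | rfl
  exacts [⟨by decide, v8_118_0⟩, ⟨by decide, v8_118_2⟩, ⟨by decide, v8_118_3⟩, ⟨by decide, v8_118_1⟩, ⟨by decide, v8_118_4⟩, ⟨by decide, v8_118_5⟩, ⟨by decide, v8_118_6⟩, ⟨by decide, v8_118_7⟩]
theorem row8_119 : ∀ j ∈ K8, tbl8 119 j < 240 ∧ V cs (par cs K7) (word8 119) j (word8 (tbl8 119 j)) := by
  intro j hj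
  simp only [K8, List.mem_cons, List.not_mem_nil, or_false] at hj
  rcases hj with rfl | rfl | rfl | rfl | rfl | rfl | rfl | rfl
  exacts [⟨by decide, v8_119_0⟩, ⟨by decide, v8_119_2⟩, ⟨by decide, v8_119_3⟩, ⟨by decide, v8_119_1⟩, ⟨by decide, v8_119_4⟩, ⟨by decide, v8_119_5⟩, ⟨by decide, v8_119_6⟩, ⟨by decide, v8_119_7⟩]
theorem row8_120 : ∀ j ∈ K8, tbl8 120 j < 240 ∧ V cs (par cs K7) (word8 120) j (word8 (tbl8 120 j)) := by
  intro j hj
  simp only [K8, List.mem_cons, List.not_mem_nil, or_false] at hj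
  rcases hj with rfl | rfl | rfl | rfl | rfl | rfl | rfl | rfl
  exacts [⟨by decide, v8_120_0⟩, ⟨by decide, v8_120_2⟩, ⟨by decide, v8_120_3⟩, ⟨by decide, v8_120_1⟩, ⟨by decide, v8_120_4⟩, ⟨by decide, v8_120_5⟩, ⟨by decide, v8_120_6⟩, ⟨by decide, v8_120_7⟩]
theorem row8_121 : ∀ j ∈ K8, tbl8 121 j < 240 ∧ V cs (par cs K7) (word8 121) j (word8 (tbl8 121 j)) := by
  intro j hj
  simp only [K8, List.mem_cons, List.not_mem_nil, or_false] at hj
  rcases hj with rfl | rfl | rfl | rfl | rfl | rfl | rfl | rfl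
  exacts [⟨by decide, v8_121_0⟩, ⟨by decide, v8_121_2⟩, ⟨by decide, v8_121_3⟩, ⟨by decide, v8_121_1⟩, ⟨by decide, v8_121_4⟩, ⟨by decide, v8_121_5⟩, ⟨by decide, v8_121_6⟩, ⟨by decide, v8_121_7⟩]
theorem row8_122 : ∀ j ∈ K8, tbl8 122 j < 240 ∧ V cs (par cs K7) (word8 122) j (word8 (tbl8 122 j)) := by
  intro j hj
  simp only [K8, List.mem_cons, List.not_mem_nil, or_false] at hj
  rcases hj with rfl | rfl | rfl | rfl | rfl | rfl | rfl | rfl
  exacts [⟨by decide, v8_122_0⟩, ⟨by decide, v8_122_2⟩, ⟨by decide, v8_122_3⟩, ⟨by decide, v8_122_1⟩, ⟨by decide, v8_122_4⟩, ⟨by decide, v8_122_5⟩, ⟨by decide, v8_122_6⟩, ⟨by decide, v8_122_7⟩]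
theorem row8_123 : ∀ j ∈ K8, tbl8 123 j < 240 ∧ V cs (par cs K7) (word8 123) j (word8 (tbl8 123 j)) := by
  intro j hj
  simp only [K8, List.mem_cons, List.not_mem_nil, or_false] at hj
  rcases hj with rfl | rfl | rfl | rfl | rfl | rfl | rfl | rfl
  exacts [⟨by decide, v8_123_0⟩, ⟨by decide, v8_123_2⟩, ⟨by decide, v8_123_3⟩, ⟨by decide, v8_123_1⟩, ⟨by decide, v8_123_4⟩, ⟨by decide, v8_123_5⟩, ⟨by decide, v8_123_6⟩, ⟨by decide, v8_123_7⟩]
theorem row8_124 : ∀ j ∈ K8, tbl8 124 j < 240 ∧ V cs (par cs K7) (word8 124) j (word8 (tbl8 124 j)) := by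
  intro j hj
  simp only [K8, List.mem_cons, List.not_mem_nil, or_false] at hj
  rcases hj with rfl | rfl | rfl | rfl | rfl | rfl | rfl | rfl
  exacts [⟨by decide, v8_124_0⟩, ⟨by decide, v8_124_2⟩, ⟨by decide, v8_124_3⟩, ⟨by decide, v8_124_1⟩, ⟨by decide, v8_124_4⟩, ⟨by decide, v8_124_5⟩, ⟨by decide, v8_124_6⟩, ⟨by decide, v8_124_7⟩]
theorem row8_125 : ∀ j ∈ K8, tbl8 125 j < 240 ∧ V cs (par cs K7) (word8 125) j (word8 (tbl8 125 j)) := by
  intro j hj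
  simp only [K8, List.mem_cons, List.not_mem_nil, or_false] at hj
  rcases hj with rfl | rfl | rfl | rfl | rfl | rfl | rfl | rfl
  exacts [⟨by decide, v8_125_0⟩, ⟨by decide, v8_125_2⟩, ⟨by decide, v8_125_3⟩, ⟨by decide, v8_125_1⟩, ⟨by decide, v8_125_4⟩, ⟨by decide, v8_125_5⟩, ⟨by decide, v8_125_6⟩, ⟨by decide, v8_125_7⟩]
theorem row8_126 : ∀ j ∈ K8, tbl8 126 j < 240 ∧ V cs (par cs K7) (word8 126) j (word8 (tbl8 126 j)) := by
  intro j hj
  simp only [K8, List.mem_cons, List.not_mem_nil, or_false] at hj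
  rcases hj with rfl | rfl | rfl | rfl | rfl | rfl | rfl | rfl
  exacts [⟨by decide, v8_126_0⟩, ⟨by decide, v8_126_2⟩, ⟨by decide, v8_126_3⟩, ⟨by decide, v8_126_1⟩, ⟨by decide, v8_126_4⟩, ⟨by decide, v8_126_5⟩, ⟨by decide, v8_126_6⟩, ⟨by decide, v8_126_7⟩]
theorem row8_127 : ∀ j ∈ K8, tbl8 127 j < 240 ∧ V cs (par cs K7) (word8 127) j (word8 (tbl8 127 j)) := by
  intro j hj
  simp only [K8, List.mem_cons, List.not_mem_nil, or_false] at hj
  rcases hj with rfl | rfl | rfl | rfl | rfl | rfl | rfl | rfl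
  exacts [⟨by decide, v8_127_0⟩, ⟨by decide, v8_127_2⟩, ⟨by decide, v8_127_3⟩, ⟨by decide, v8_127_1⟩, ⟨by decide, v8_127_4⟩, ⟨by decide, v8_127_5⟩, ⟨by decide, v8_127_6⟩, ⟨by decide, v8_127_7⟩]
theorem row8_128 : ∀ j ∈ K8, tbl8 128 j < 240 ∧ V cs (par cs K7) (word8 128) j (word8 (tbl8 128 j)) := by
  intro j hj
  simp only [K8, List.mem_cons, List.not_mem_nil, or_false] at hj
  rcases hj with rfl | rfl | rfl | rfl | rfl | rfl | rfl | rfl
  exacts [⟨by decide, v8_128_0⟩, ⟨by decide, v8_128_2⟩, ⟨by decide, v8_128_3⟩, ⟨by decide, v8_128_1⟩, ⟨by decide, v8_128_4⟩, ⟨by decide, v8_128_5⟩, ⟨by decide, v8_128_6⟩, ⟨by decide, v8_128_7⟩]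
theorem row8_129 : ∀ j ∈ K8, tbl8 129 j < 240 ∧ V cs (par cs K7) (word8 129) j (word8 (tbl8 129 j)) := by
  intro j hj
  simp only [K8, List.mem_cons, List.not_mem_nil, or_false] at hj
  rcases hj with rfl | rfl | rfl | rfl | rfl | rfl | rfl | rfl
  exacts [⟨by decide, v8_129_0⟩, ⟨by decide, v8_129_2⟩, ⟨by decide, v8_129_3⟩, ⟨by decide, v8_129_1⟩, ⟨by decide, v8_129_4⟩, ⟨by decide, v8_129_5⟩, ⟨by decide, v8_129_6⟩, ⟨by decide, v8_129_7⟩]
theorem row8_130 : ∀ j ∈ K8, tbl8 130 j < 240 ∧ V cs (par cs K7) (word8 130) j (word8 (tbl8 130 j)) := by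
  intro j hj
  simp only [K8, List.mem_cons, List.not_mem_nil, or_false] at hj
  rcases hj with rfl | rfl | rfl | rfl | rfl | rfl | rfl | rfl
  exacts [⟨by decide, v8_130_0⟩, ⟨by decide, v8_130_2⟩, ⟨by decide, v8_130_3⟩, ⟨by decide, v8_130_1⟩, ⟨by decide, v8_130_4⟩, ⟨by decide, v8_130_5⟩, ⟨by decide, v8_130_6⟩, ⟨by decide, v8_130_7⟩]
theorem row8_131 : ∀ j ∈ K8, tbl8 131 j < 240 ∧ V cs (par cs K7) (word8 131) j (word8 (tbl8 131 j)) := by
  intro j hj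
  simp only [K8, List.mem_cons, List.not_mem_nil, or_false] at hj
  rcases hj with rfl | rfl | rfl | rfl | rfl | rfl | rfl | rfl
  exacts [⟨by decide, v8_131_0⟩, ⟨by decide, v8_131_2⟩, ⟨by decide, v8_131_3⟩, ⟨by decide, v8_131_1⟩, ⟨by decide, v8_131_4⟩, ⟨by decide, v8_131_5⟩, ⟨by decide, v8_131_6⟩, ⟨by decide, v8_131_7⟩]
theorem row8_132 : ∀ j ∈ K8, tbl8 132 j < 240 ∧ V cs (par cs K7) (word8 132) j (word8 (tbl8 132 j)) := by
  intro j hj
  simp only [K8, List.mem_cons, List.not_mem_nil, or_false] at hj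
  rcases hj with rfl | rfl | rfl | rfl | rfl | rfl | rfl | rfl
  exacts [⟨by decide, v8_132_0⟩, ⟨by decide, v8_132_2⟩, ⟨by decide, v8_132_3⟩, ⟨by decide, v8_132_1⟩, ⟨by decide, v8_132_4⟩, ⟨by decide, v8_132_5⟩, ⟨by decide, v8_132_6⟩, ⟨by decide, v8_132_7⟩]
theorem row8_133 : ∀ j ∈ K8, tbl8 133 j < 240 ∧ V cs (par cs K7) (word8 133) j (word8 (tbl8 133 j)) := by
  intro j hj
  simp only [K8, List.mem_cons, List.not_mem_nil, or_false] at hj
  rcases hj with rfl | rfl | rfl | rfl | rfl | rfl | rfl | rfl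
  exacts [⟨by decide, v8_133_0⟩, ⟨by decide, v8_133_2⟩, ⟨by decide, v8_133_3⟩, ⟨by decide, v8_133_1⟩, ⟨by decide, v8_133_4⟩, ⟨by decide, v8_133_5⟩, ⟨by decide, v8_133_6⟩, ⟨by decide, v8_133_7⟩]
theorem row8_134 : ∀ j ∈ K8, tbl8 134 j < 240 ∧ V cs (par cs K7) (word8 134) j (word8 (tbl8 134 j)) := by
  intro j hj
  simp only [K8, List.mem_cons, List.not_mem_nil, or_false] at hj
  rcases hj with rfl | rfl | rfl | rfl | rfl | rfl | rfl | rfl
  exacts [⟨by decide, v8_134_0⟩, ⟨by decide, v8_134_2⟩, ⟨by decide, v8_134_3⟩, ⟨by decide, v8_134_1⟩, ⟨by decide, v8_134_4⟩, ⟨by decide, v8_134_5⟩, ⟨by decide, v8_134_6⟩, ⟨by decide, v8_134_7⟩]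
theorem row8_135 : ∀ j ∈ K8, tbl8 135 j < 240 ∧ V cs (par cs K7) (word8 135) j (word8 (tbl8 135 j)) := by
  intro j hj
  simp only [K8, List.mem_cons, List.not_mem_nil, or_false] at hj
  rcases hj with rfl | rfl | rfl | rfl | rfl | rfl | rfl | rfl
  exacts [⟨by decide, v8_135_0⟩, ⟨by decide, v8_135_2⟩, ⟨by decide, v8_135_3⟩, ⟨by decide, v8_135_1⟩, ⟨by decide, v8_135_4⟩, ⟨by decide, v8_135_5⟩, ⟨by decide, v8_135_6⟩, ⟨by decide, v8_135_7⟩]
theorem row8_136 : ∀ j ∈ K8, tbl8 136 j < 240 ∧ V cs (par cs K7) (word8 136) j (word8 (tbl8 136 j)) := by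
  intro j hj
  simp only [K8, List.mem_cons, List.not_mem_nil, or_false] at hj
  rcases hj with rfl | rfl | rfl | rfl | rfl | rfl | rfl | rfl
  exacts [⟨by decide, v8_136_0⟩, ⟨by decide, v8_136_2⟩, ⟨by decide, v8_136_3⟩, ⟨by decide, v8_136_1⟩, ⟨by decide, v8_136_4⟩, ⟨by decide, v8_136_5⟩, ⟨by decide, v8_136_6⟩, ⟨by decide, v8_136_7⟩]
theorem row8_137 : ∀ j ∈ K8, tbl8 137 j < 240 ∧ V cs (par cs K7) (word8 137) j (word8 (tbl8 137 j)) := by
  intro j hj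
  simp only [K8, List.mem_cons, List.not_mem_nil, or_false] at hj
  rcases hj with rfl | rfl | rfl | rfl | rfl | rfl | rfl | rfl
  exacts [⟨by decide, v8_137_0⟩, ⟨by decide, v8_137_2⟩, ⟨by decide, v8_137_3⟩, ⟨by decide, v8_137_1⟩, ⟨by decide, v8_137_4⟩, ⟨by decide, v8_137_5⟩, ⟨by decide, v8_137_6⟩, ⟨by decide, v8_137_7⟩]
theorem row8_138 : ∀ j ∈ K8, tbl8 138 j < 240 ∧ V cs (par cs K7) (word8 138) j (word8 (tbl8 138 j)) := by
  intro j hj
  simp only [K8, List.mem_cons, List.not_mem_nil, or_false] at hj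
  rcases hj with rfl | rfl | rfl | rfl | rfl | rfl | rfl | rfl
  exacts [⟨by decide, v8_138_0⟩, ⟨by decide, v8_138_2⟩, ⟨by decide, v8_138_3⟩, ⟨by decide, v8_138_1⟩, ⟨by decide, v8_138_4⟩, ⟨by decide, v8_138_5⟩, ⟨by decide, v8_138_6⟩, ⟨by decide, v8_138_7⟩]
theorem row8_139 : ∀ j ∈ K8, tbl8 139 j < 240 ∧ V cs (par cs K7) (word8 139) j (word8 (tbl8 139 j)) := by
  intro j hj
  simp only [K8, List.mem_cons, List.not_mem_nil, or_false] at hj
  rcases hj with rfl | rfl | rfl | rfl | rfl | rfl | rfl | rfl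
  exacts [⟨by decide, v8_139_0⟩, ⟨by decide, v8_139_2⟩, ⟨by decide, v8_139_3⟩, ⟨by decide, v8_139_1⟩, ⟨by decide, v8_139_4⟩, ⟨by decide, v8_139_5⟩, ⟨by decide, v8_139_6⟩, ⟨by decide, v8_139_7⟩]
theorem row8_140 : ∀ j ∈ K8, tbl8 140 j < 240 ∧ V cs (par cs K7) (word8 140) j (word8 (tbl8 140 j)) := by
  intro j hj
  simp only [K8, List.mem_cons, List.not_mem_nil, or_false] at hj
  rcases hj with rfl | rfl | rfl | rfl | rfl | rfl | rfl | rfl
  exacts [⟨by decide, v8_140_0⟩, ⟨by decide, v8_140_2⟩, ⟨by decide, v8_140_3⟩, ⟨by decide, v8_140_1⟩, ⟨by decide, v8_140_4⟩, ⟨by decide, v8_140_5⟩, ⟨by decide, v8_140_6⟩, ⟨by decide, v8_140_7⟩]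
theorem row8_141 : ∀ j ∈ K8, tbl8 141 j < 240 ∧ V cs (par cs K7) (word8 141) j (word8 (tbl8 141 j)) := by
  intro j hj
  simp only [K8, List.mem_cons, List.not_mem_nil, or_false] at hj
  rcases hj with rfl | rfl | rfl | rfl | rfl | rfl | rfl | rfl
  exacts [⟨by decide, v8_141_0⟩, ⟨by decide, v8_141_2⟩, ⟨by decide, v8_141_3⟩, ⟨by decide, v8_141_1⟩, ⟨by decide, v8_141_4⟩, ⟨by decide, v8_141_5⟩, ⟨by decide, v8_141_6⟩, ⟨by decide, v8_141_7⟩]
theorem row8_142 : ∀ j ∈ K8, tbl8 142 j < 240 ∧ V cs (par cs K7) (word8 142) j (word8 (tbl8 142 j)) := by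
  intro j hj
  simp only [K8, List.mem_cons, List.not_mem_nil, or_false] at hj
  rcases hj with rfl | rfl | rfl | rfl | rfl | rfl | rfl | rfl
  exacts [⟨by decide, v8_142_0⟩, ⟨by decide, v8_142_2⟩, ⟨by decide, v8_142_3⟩, ⟨by decide, v8_142_1⟩, ⟨by decide, v8_142_4⟩, ⟨by decide, v8_142_5⟩, ⟨by decide, v8_142_6⟩, ⟨by decide, v8_142_7⟩]
theorem row8_143 : ∀ j ∈ K8, tbl8 143 j < 240 ∧ V cs (par cs K7) (word8 143) j (word8 (tbl8 143 j)) := by
  intro j hj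
  simp only [K8, List.mem_cons, List.not_mem_nil, or_false] at hj
  rcases hj with rfl | rfl | rfl | rfl | rfl | rfl | rfl | rfl
  exacts [⟨by decide, v8_143_0⟩, ⟨by decide, v8_143_2⟩, ⟨by decide, v8_143_3⟩, ⟨by decide, v8_143_1⟩, ⟨by decide, v8_143_4⟩, ⟨by decide, v8_143_5⟩, ⟨by decide, v8_143_6⟩, ⟨by decide, v8_143_7⟩]
theorem row8_144 : ∀ j ∈ K8, tbl8 144 j < 240 ∧ V cs (par cs K7) (word8 144) j (word8 (tbl8 144 j)) := by
  intro j hj
  simp only [K8, List.mem_cons, List.not_mem_nil, or_false] at hj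
  rcases hj with rfl | rfl | rfl | rfl | rfl | rfl | rfl | rfl
  exacts [⟨by decide, v8_144_0⟩, ⟨by decide, v8_144_2⟩, ⟨by decide, v8_144_3⟩, ⟨by decide, v8_144_1⟩, ⟨by decide, v8_144_4⟩, ⟨by decide, v8_144_5⟩, ⟨by decide, v8_144_6⟩, ⟨by decide, v8_144_7⟩]
theorem row8_145 : ∀ j ∈ K8, tbl8 145 j < 240 ∧ V cs (par cs K7) (word8 145) j (word8 (tbl8 145 j)) := by
  intro j hj
  simp only [K8, List.mem_cons, List.not_mem_nil, or_false] at hj
  rcases hj with rfl | rfl | rfl | rfl | rfl | rfl | rfl | rfl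
  exacts [⟨by decide, v8_145_0⟩, ⟨by decide, v8_145_2⟩, ⟨by decide, v8_145_3⟩, ⟨by decide, v8_145_1⟩, ⟨by decide, v8_145_4⟩, ⟨by decide, v8_145_5⟩, ⟨by decide, v8_145_6⟩, ⟨by decide, v8_145_7⟩]
theorem row8_146 : ∀ j ∈ K8, tbl8 146 j < 240 ∧ V cs (par cs K7) (word8 146) j (word8 (tbl8 146 j)) := by
  intro j hj
  simp only [K8, List.mem_cons, List.not_mem_nil, or_false] at hj
  rcases hj with rfl | rfl | rfl | rfl | rfl | rfl | rfl | rfl
  exacts [⟨by decide, v8_146_0⟩, ⟨by decide, v8_146_2⟩, ⟨by decide, v8_146_3⟩, ⟨by decide, v8_146_1⟩, ⟨by decide, v8_146_4⟩, ⟨by decide, v8_146_5⟩, ⟨by decide, v8_146_6⟩, ⟨by decide, v8_146_7⟩]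
theorem row8_147 : ∀ j ∈ K8, tbl8 147 j < 240 ∧ V cs (par cs K7) (word8 147) j (word8 (tbl8 147 j)) := by
  intro j hj
  simp only [K8, List.mem_cons, List.not_mem_nil, or_false] at hj
  rcases hj with rfl | rfl | rfl | rfl | rfl | rfl | rfl | rfl
  exacts [⟨by decide, v8_147_0⟩, ⟨by decide, v8_147_2⟩, ⟨by decide, v8_147_3⟩, ⟨by decide, v8_147_1⟩, ⟨by decide, v8_147_4⟩, ⟨by decide, v8_147_5⟩, ⟨by decide, v8_147_6⟩, ⟨by decide, v8_147_7⟩]
theorem row8_148 : ∀ j ∈ K8, tbl8 148 j < 240 ∧ V cs (par cs K7) (word8 148) j (word8 (tbl8 148 j)) := by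
  intro j hj
  simp only [K8, List.mem_cons, List.not_mem_nil, or_false] at hj
  rcases hj with rfl | rfl | rfl | rfl | rfl | rfl | rfl | rfl
  exacts [⟨by decide, v8_148_0⟩, ⟨by decide, v8_148_2⟩, ⟨by decide, v8_148_3⟩, ⟨by decide, v8_148_1⟩, ⟨by decide, v8_148_4⟩, ⟨by decide, v8_148_5⟩, ⟨by decide, v8_148_6⟩, ⟨by decide, v8_148_7⟩]
theorem row8_149 : ∀ j ∈ K8, tbl8 149 j < 240 ∧ V cs (par cs K7) (word8 149) j (word8 (tbl8 149 j)) := by
  intro j hj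
  simp only [K8, List.mem_cons, List.not_mem_nil, or_false] at hj
  rcases hj with rfl | rfl | rfl | rfl | rfl | rfl | rfl | rfl
  exacts [⟨by decide, v8_149_0⟩, ⟨by decide, v8_149_2⟩, ⟨by decide, v8_149_3⟩, ⟨by decide, v8_149_1⟩, ⟨by decide, v8_149_4⟩, ⟨by decide, v8_149_5⟩, ⟨by decide, v8_149_6⟩, ⟨by decide, v8_149_7⟩]
theorem row8_150 : ∀ j ∈ K8, tbl8 150 j < 240 ∧ V cs (par cs K7) (word8 150) j (word8 (tbl8 150 j)) := by
  intro j hj
  simp only [K8, List.mem_cons, List.not_mem_nil, or_false] at hj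
  rcases hj with rfl | rfl | rfl | rfl | rfl | rfl | rfl | rfl
  exacts [⟨by decide, v8_150_0⟩, ⟨by decide, v8_150_2⟩, ⟨by decide, v8_150_3⟩, ⟨by decide, v8_150_1⟩, ⟨by decide, v8_150_4⟩, ⟨by decide, v8_150_5⟩, ⟨by decide, v8_150_6⟩, ⟨by decide, v8_150_7⟩]
theorem row8_151 : ∀ j ∈ K8, tbl8 151 j < 240 ∧ V cs (par cs K7) (word8 151) j (word8 (tbl8 151 j)) := by
  intro j hj
  simp only [K8, List.mem_cons, List.not_mem_nil, or_false] at hj
  rcases hj with rfl | rfl | rfl | rfl | rfl | rfl | rfl | rfl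
  exacts [⟨by decide, v8_151_0⟩, ⟨by decide, v8_151_2⟩, ⟨by decide, v8_151_3⟩, ⟨by decide, v8_151_1⟩, ⟨by decide, v8_151_4⟩, ⟨by decide, v8_151_5⟩, ⟨by decide, v8_151_6⟩, ⟨by decide, v8_151_7⟩]
theorem row8_152 : ∀ j ∈ K8, tbl8 152 j < 240 ∧ V cs (par cs K7) (word8 152) j (word8 (tbl8 152 j)) := by
  intro j hj
  simp only [K8, List.mem_cons, List.not_mem_nil, or_false] at hj
  rcases hj with rfl | rfl | rfl | rfl | rfl | rfl | rfl | rfl
  exacts [⟨by decide, v8_152_0⟩, ⟨by decide, v8_152_2⟩, ⟨by decide, v8_152_3⟩, ⟨by decide, v8_152_1⟩, ⟨by decide, v8_152_4⟩, ⟨by decide, v8_152_5⟩, ⟨by decide, v8_152_6⟩, ⟨by decide, v8_152_7⟩]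
theorem row8_153 : ∀ j ∈ K8, tbl8 153 j < 240 ∧ V cs (par cs K7) (word8 153) j (word8 (tbl8 153 j)) := by
  intro j hj
  simp only [K8, List.mem_cons, List.not_mem_nil, or_false] at hj
  rcases hj with rfl | rfl | rfl | rfl | rfl | rfl | rfl | rfl
  exacts [⟨by decide, v8_153_0⟩, ⟨by decide, v8_153_2⟩, ⟨by decide, v8_153_3⟩, ⟨by decide, v8_153_1⟩, ⟨by decide, v8_153_4⟩, ⟨by decide, v8_153_5⟩, ⟨by decide, v8_153_6⟩, ⟨by decide, v8_153_7⟩]
theorem row8_154 : ∀ j ∈ K8, tbl8 154 j < 240 ∧ V cs (par cs K7) (word8 154) j (word8 (tbl8 154 j)) := by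
  intro j hj
  simp only [K8, List.mem_cons, List.not_mem_nil, or_false] at hj
  rcases hj with rfl | rfl | rfl | rfl | rfl | rfl | rfl | rfl
  exacts [⟨by decide, v8_154_0⟩, ⟨by decide, v8_154_2⟩, ⟨by decide, v8_154_3⟩, ⟨by decide, v8_154_1⟩, ⟨by decide, v8_154_4⟩, ⟨by decide, v8_154_5⟩, ⟨by decide, v8_154_6⟩, ⟨by decide, v8_154_7⟩]
theorem row8_155 : ∀ j ∈ K8, tbl8 155 j < 240 ∧ V cs (par cs K7) (word8 155) j (word8 (tbl8 155 j)) := by
  intro j hj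
  simp only [K8, List.mem_cons, List.not_mem_nil, or_false] at hj
  rcases hj with rfl | rfl | rfl | rfl | rfl | rfl | rfl | rfl
  exacts [⟨by decide, v8_155_0⟩, ⟨by decide, v8_155_2⟩, ⟨by decide, v8_155_3⟩, ⟨by decide, v8_155_1⟩, ⟨by decide, v8_155_4⟩, ⟨by decide, v8_155_5⟩, ⟨by decide, v8_155_6⟩, ⟨by decide, v8_155_7⟩]
theorem row8_156 : ∀ j ∈ K8, tbl8 156 j < 240 ∧ V cs (par cs K7) (word8 156) j (word8 (tbl8 156 j)) := by
  intro j hj
  simp only [K8, List.mem_cons, List.not_mem_nil, or_false] at hj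
  rcases hj with rfl | rfl | rfl | rfl | rfl | rfl | rfl | rfl
  exacts [⟨by decide, v8_156_0⟩, ⟨by decide, v8_156_2⟩, ⟨by decide, v8_156_3⟩, ⟨by decide, v8_156_1⟩, ⟨by decide, v8_156_4⟩, ⟨by decide, v8_156_5⟩, ⟨by decide, v8_156_6⟩, ⟨by decide, v8_156_7⟩]
theorem row8_157 : ∀ j ∈ K8, tbl8 157 j < 240 ∧ V cs (par cs K7) (word8 157) j (word8 (tbl8 157 j)) := by
  intro j hj
  simp only [K8, List.mem_cons, List.not_mem_nil, or_false] at hj
  rcases hj with rfl | rfl | rfl | rfl | rfl | rfl | rfl | rfl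
  exacts [⟨by decide, v8_157_0⟩, ⟨by decide, v8_157_2⟩, ⟨by decide, v8_157_3⟩, ⟨by decide, v8_157_1⟩, ⟨by decide, v8_157_4⟩, ⟨by decide, v8_157_5⟩, ⟨by decide, v8_157_6⟩, ⟨by decide, v8_157_7⟩]
theorem row8_158 : ∀ j ∈ K8, tbl8 158 j < 240 ∧ V cs (par cs K7) (word8 158) j (word8 (tbl8 158 j)) := by
  intro j hj
  simp only [K8, List.mem_cons, List.not_mem_nil, or_false] at hj
  rcases hj with rfl | rfl | rfl | rfl | rfl | rfl | rfl | rfl
  exacts [⟨by decide, v8_158_0⟩, ⟨by decide, v8_158_2⟩, ⟨by decide, v8_158_3⟩, ⟨by decide, v8_158_1⟩, ⟨by decide, v8_158_4⟩, ⟨by decide, v8_158_5⟩, ⟨by decide, v8_158_6⟩, ⟨by decide, v8_158_7⟩]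
theorem row8_159 : ∀ j ∈ K8, tbl8 159 j < 240 ∧ V cs (par cs K7) (word8 159) j (word8 (tbl8 159 j)) := by
  intro j hj
  simp only [K8, List.mem_cons, List.not_mem_nil, or_false] at hj
  rcases hj with rfl | rfl | rfl | rfl | rfl | rfl | rfl | rfl
  exacts [⟨by decide, v8_159_0⟩, ⟨by decide, v8_159_2⟩, ⟨by decide, v8_159_3⟩, ⟨by decide, v8_159_1⟩, ⟨by decide, v8_159_4⟩, ⟨by decide, v8_159_5⟩, ⟨by decide, v8_159_6⟩, ⟨by decide, v8_159_7⟩]
theorem row8_160 : ∀ j ∈ K8, tbl8 160 j < 240 ∧ V cs (par cs K7) (word8 160) j (word8 (tbl8 160 j)) := by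
  intro j hj
  simp only [K8, List.mem_cons, List.not_mem_nil, or_false] at hj
  rcases hj with rfl | rfl | rfl | rfl | rfl | rfl | rfl | rfl
  exacts [⟨by decide, v8_160_0⟩, ⟨by decide, v8_160_2⟩, ⟨by decide, v8_160_3⟩, ⟨by decide, v8_160_1⟩, ⟨by decide, v8_160_4⟩, ⟨by decide, v8_160_5⟩, ⟨by decide, v8_160_6⟩, ⟨by decide, v8_160_7⟩]
theorem row8_161 : ∀ j ∈ K8, tbl8 161 j < 240 ∧ V cs (par cs K7) (word8 161) j (word8 (tbl8 161 j)) := by
  intro j hj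
  simp only [K8, List.mem_cons, List.not_mem_nil, or_false] at hj
  rcases hj with rfl | rfl | rfl | rfl | rfl | rfl | rfl | rfl
  exacts [⟨by decide, v8_161_0⟩, ⟨by decide, v8_161_2⟩, ⟨by decide, v8_161_3⟩, ⟨by decide, v8_161_1⟩, ⟨by decide, v8_161_4⟩, ⟨by decide, v8_161_5⟩, ⟨by decide, v8_161_6⟩, ⟨by decide, v8_161_7⟩]
theorem row8_162 : ∀ j ∈ K8, tbl8 162 j < 240 ∧ V cs (par cs K7) (word8 162) j (word8 (tbl8 162 j)) := by
  intro j hj
  simp only [K8, List.mem_cons, List.not_mem_nil, or_false] at hj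
  rcases hj with rfl | rfl | rfl | rfl | rfl | rfl | rfl | rfl
  exacts [⟨by decide, v8_162_0⟩, ⟨by decide, v8_162_2⟩, ⟨by decide, v8_162_3⟩, ⟨by decide, v8_162_1⟩, ⟨by decide, v8_162_4⟩, ⟨by decide, v8_162_5⟩, ⟨by decide, v8_162_6⟩, ⟨by decide, v8_162_7⟩]
theorem row8_163 : ∀ j ∈ K8, tbl8 163 j < 240 ∧ V cs (par cs K7) (word8 163) j (word8 (tbl8 163 j)) := by
  intro j hj
  simp only [K8, List.mem_cons, List.not_mem_nil, or_false] at hj
  rcases hj with rfl | rfl | rfl | rfl | rfl | rfl | rfl | rfl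
  exacts [⟨by decide, v8_163_0⟩, ⟨by decide, v8_163_2⟩, ⟨by decide, v8_163_3⟩, ⟨by decide, v8_163_1⟩, ⟨by decide, v8_163_4⟩, ⟨by decide, v8_163_5⟩, ⟨by decide, v8_163_6⟩, ⟨by decide, v8_163_7⟩]
theorem row8_164 : ∀ j ∈ K8, tbl8 164 j < 240 ∧ V cs (par cs K7) (word8 164) j (word8 (tbl8 164 j)) := by
  intro j hj
  simp only [K8, List.mem_cons, List.not_mem_nil, or_false] at hj
  rcases hj with rfl | rfl | rfl | rfl | rfl | rfl | rfl | rfl
  exacts [⟨by decide, v8_164_0⟩, ⟨by decide, v8_164_2⟩, ⟨by decide, v8_164_3⟩, ⟨by decide, v8_164_1⟩, ⟨by decide, v8_164_4⟩, ⟨by decide, v8_164_5⟩, ⟨by decide, v8_164_6⟩, ⟨by decide, v8_164_7⟩]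
theorem row8_165 : ∀ j ∈ K8, tbl8 165 j < 240 ∧ V cs (par cs K7) (word8 165) j (word8 (tbl8 165 j)) := by
  intro j hj
  simp only [K8, List.mem_cons, List.not_mem_nil, or_false] at hj
  rcases hj with rfl | rfl | rfl | rfl | rfl | rfl | rfl | rfl
  exacts [⟨by decide, v8_165_0⟩, ⟨by decide, v8_165_2⟩, ⟨by decide, v8_165_3⟩, ⟨by decide, v8_165_1⟩, ⟨by decide, v8_165_4⟩, ⟨by decide, v8_165_5⟩, ⟨by decide, v8_165_6⟩, ⟨by decide, v8_165_7⟩]
theorem row8_166 : ∀ j ∈ K8, tbl8 166 j < 240 ∧ V cs (par cs K7) (word8 166) j (word8 (tbl8 166 j)) := by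
  intro j hj
  simp only [K8, List.mem_cons, List.not_mem_nil, or_false] at hj
  rcases hj with rfl | rfl | rfl | rfl | rfl | rfl | rfl | rfl
  exacts [⟨by decide, v8_166_0⟩, ⟨by decide, v8_166_2⟩, ⟨by decide, v8_166_3⟩, ⟨by decide, v8_166_1⟩, ⟨by decide, v8_166_4⟩, ⟨by decide, v8_166_5⟩, ⟨by decide, v8_166_6⟩, ⟨by decide, v8_166_7⟩]
theorem row8_167 : ∀ j ∈ K8, tbl8 167 j < 240 ∧ V cs (par cs K7) (word8 167) j (word8 (tbl8 167 j)) := by
  intro j hj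
  simp only [K8, List.mem_cons, List.not_mem_nil, or_false] at hj
  rcases hj with rfl | rfl | rfl | rfl | rfl | rfl | rfl | rfl
  exacts [⟨by decide, v8_167_0⟩, ⟨by decide, v8_167_2⟩, ⟨by decide, v8_167_3⟩, ⟨by decide, v8_167_1⟩, ⟨by decide, v8_167_4⟩, ⟨by decide, v8_167_5⟩, ⟨by decide, v8_167_6⟩, ⟨by decide, v8_167_7⟩]
theorem row8_168 : ∀ j ∈ K8, tbl8 168 j < 240 ∧ V cs (par cs K7) (word8 168) j (word8 (tbl8 168 j)) := by
  intro j hj
  simp only [K8, List.mem_cons, List.not_mem_nil, or_false] at hj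
  rcases hj with rfl | rfl | rfl | rfl | rfl | rfl | rfl | rfl
  exacts [⟨by decide, v8_168_0⟩, ⟨by decide, v8_168_2⟩, ⟨by decide, v8_168_3⟩, ⟨by decide, v8_168_1⟩, ⟨by decide, v8_168_4⟩, ⟨by decide, v8_168_5⟩, ⟨by decide, v8_168_6⟩, ⟨by decide, v8_168_7⟩]
theorem row8_169 : ∀ j ∈ K8, tbl8 169 j < 240 ∧ V cs (par cs K7) (word8 169) j (word8 (tbl8 169 j)) := by
  intro j hj
  simp only [K8, List.mem_cons, List.not_mem_nil, or_false] at hj
  rcases hj with rfl | rfl | rfl | rfl | rfl | rfl | rfl | rfl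
  exacts [⟨by decide, v8_169_0⟩, ⟨by decide, v8_169_2⟩, ⟨by decide, v8_169_3⟩, ⟨by decide, v8_169_1⟩, ⟨by decide, v8_169_4⟩, ⟨by decide, v8_169_5⟩, ⟨by decide, v8_169_6⟩, ⟨by decide, v8_169_7⟩]
theorem row8_170 : ∀ j ∈ K8, tbl8 170 j < 240 ∧ V cs (par cs K7) (word8 170) j (word8 (tbl8 170 j)) := by
  intro j hj
  simp only [K8, List.mem_cons, List.not_mem_nil, or_false] at hj
  rcases hj with rfl | rfl | rfl | rfl | rfl | rfl | rfl | rfl
  exacts [⟨by decide, v8_170_0⟩, ⟨by decide, v8_170_2⟩, ⟨by decide, v8_170_3⟩, ⟨by decide, v8_170_1⟩, ⟨by decide, v8_170_4⟩, ⟨by decide, v8_170_5⟩, ⟨by decide, v8_170_6⟩, ⟨by decide, v8_170_7⟩]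
theorem row8_171 : ∀ j ∈ K8, tbl8 171 j < 240 ∧ V cs (par cs K7) (word8 171) j (word8 (tbl8 171 j)) := by
  intro j hj
  simp only [K8, List.mem_cons, List.not_mem_nil, or_false] at hj
  rcases hj with rfl | rfl | rfl | rfl | rfl | rfl | rfl | rfl
  exacts [⟨by decide, v8_171_0⟩, ⟨by decide, v8_171_2⟩, ⟨by decide, v8_171_3⟩, ⟨by decide, v8_171_1⟩, ⟨by decide, v8_171_4⟩, ⟨by decide, v8_171_5⟩, ⟨by decide, v8_171_6⟩, ⟨by decide, v8_171_7⟩]
theorem row8_172 : ∀ j ∈ K8, tbl8 172 j < 240 ∧ V cs (par cs K7) (word8 172) j (word8 (tbl8 172 j)) := by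
  intro j hj
  simp only [K8, List.mem_cons, List.not_mem_nil, or_false] at hj
  rcases hj with rfl | rfl | rfl | rfl | rfl | rfl | rfl | rfl
  exacts [⟨by decide, v8_172_0⟩, ⟨by decide, v8_172_2⟩, ⟨by decide, v8_172_3⟩, ⟨by decide, v8_172_1⟩, ⟨by decide, v8_172_4⟩, ⟨by decide, v8_172_5⟩, ⟨by decide, v8_172_6⟩, ⟨by decide, v8_172_7⟩]
theorem row8_173 : ∀ j ∈ K8, tbl8 173 j < 240 ∧ V cs (par cs K7) (word8 173) j (word8 (tbl8 173 j)) := by
  intro j hj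
  simp only [K8, List.mem_cons, List.not_mem_nil, or_false] at hj
  rcases hj with rfl | rfl | rfl | rfl | rfl | rfl | rfl | rfl
  exacts [⟨by decide, v8_173_0⟩, ⟨by decide, v8_173_2⟩, ⟨by decide, v8_173_3⟩, ⟨by decide, v8_173_1⟩, ⟨by decide, v8_173_4⟩, ⟨by decide, v8_173_5⟩, ⟨by decide, v8_173_6⟩, ⟨by decide, v8_173_7⟩]
theorem row8_174 : ∀ j ∈ K8, tbl8 174 j < 240 ∧ V cs (par cs K7) (word8 174) j (word8 (tbl8 174 j)) := by
  intro j hj
  simp only [K8, List.mem_cons, List.not_mem_nil, or_false] at hj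
  rcases hj with rfl | rfl | rfl | rfl | rfl | rfl | rfl | rfl
  exacts [⟨by decide, v8_174_0⟩, ⟨by decide, v8_174_2⟩, ⟨by decide, v8_174_3⟩, ⟨by decide, v8_174_1⟩, ⟨by decide, v8_174_4⟩, ⟨by decide, v8_174_5⟩, ⟨by decide, v8_174_6⟩, ⟨by decide, v8_174_7⟩]
theorem row8_175 : ∀ j ∈ K8, tbl8 175 j < 240 ∧ V cs (par cs K7) (word8 175) j (word8 (tbl8 175 j)) := by
  intro j hj
  simp only [K8, List.mem_cons, List.not_mem_nil, or_false] at hj
  rcases hj with rfl | rfl | rfl | rfl | rfl | rfl | rfl | rfl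
  exacts [⟨by decide, v8_175_0⟩, ⟨by decide, v8_175_2⟩, ⟨by decide, v8_175_3⟩, ⟨by decide, v8_175_1⟩, ⟨by decide, v8_175_4⟩, ⟨by decide, v8_175_5⟩, ⟨by decide, v8_175_6⟩, ⟨by decide, v8_175_7⟩]
theorem row8_176 : ∀ j ∈ K8, tbl8 176 j < 240 ∧ V cs (par cs K7) (word8 176) j (word8 (tbl8 176 j)) := by
  intro j hj
  simp only [K8, List.mem_cons, List.not_mem_nil, or_false] at hj
  rcases hj with rfl | rfl | rfl | rfl | rfl | rfl | rfl | rfl
  exacts [⟨by decide, v8_176_0⟩, ⟨by decide, v8_176_2⟩, ⟨by decide, v8_176_3⟩, ⟨by decide, v8_176_1⟩, ⟨by decide, v8_176_4⟩, ⟨by decide, v8_176_5⟩, ⟨by decide, v8_176_6⟩, ⟨by decide, v8_176_7⟩]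
theorem row8_177 : ∀ j ∈ K8, tbl8 177 j < 240 ∧ V cs (par cs K7) (word8 177) j (word8 (tbl8 177 j)) := by
  intro j hj
  simp only [K8, List.mem_cons, List.not_mem_nil, or_false] at hj
  rcases hj with rfl | rfl | rfl | rfl | rfl | rfl | rfl | rfl
  exacts [⟨by decide, v8_177_0⟩, ⟨by decide, v8_177_2⟩, ⟨by decide, v8_177_3⟩, ⟨by decide, v8_177_1⟩, ⟨by decide, v8_177_4⟩, ⟨by decide, v8_177_5⟩, ⟨by decide, v8_177_6⟩, ⟨by decide, v8_177_7⟩]
theorem row8_178 : ∀ j ∈ K8, tbl8 178 j < 240 ∧ V cs (par cs K7) (word8 178) j (word8 (tbl8 178 j)) := by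
  intro j hj
  simp only [K8, List.mem_cons, List.not_mem_nil, or_false] at hj
  rcases hj with rfl | rfl | rfl | rfl | rfl | rfl | rfl | rfl
  exacts [⟨by decide, v8_178_0⟩, ⟨by decide, v8_178_2⟩, ⟨by decide, v8_178_3⟩, ⟨by decide, v8_178_1⟩, ⟨by decide, v8_178_4⟩, ⟨by decide, v8_178_5⟩, ⟨by decide, v8_178_6⟩, ⟨by decide, v8_178_7⟩]
theorem row8_179 : ∀ j ∈ K8, tbl8 179 j < 240 ∧ V cs (par cs K7) (word8 179) j (word8 (tbl8 179 j)) := by
  intro j hj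
  simp only [K8, List.mem_cons, List.not_mem_nil, or_false] at hj
  rcases hj with rfl | rfl | rfl | rfl | rfl | rfl | rfl | rfl
  exacts [⟨by decide, v8_179_0⟩, ⟨by decide, v8_179_2⟩, ⟨by decide, v8_179_3⟩, ⟨by decide, v8_179_1⟩, ⟨by decide, v8_179_4⟩, ⟨by decide, v8_179_5⟩, ⟨by decide, v8_179_6⟩, ⟨by decide, v8_179_7⟩]
theorem row8_180 : ∀ j ∈ K8, tbl8 180 j < 240 ∧ V cs (par cs K7) (word8 180) j (word8 (tbl8 180 j)) := by
  intro j hj
  simp only [K8, List.mem_cons, List.not_mem_nil, or_false] at hj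
  rcases hj with rfl | rfl | rfl | rfl | rfl | rfl | rfl | rfl
  exacts [⟨by decide, v8_180_0⟩, ⟨by decide, v8_180_2⟩, ⟨by decide, v8_180_3⟩, ⟨by decide, v8_180_1⟩, ⟨by decide, v8_180_4⟩, ⟨by decide, v8_180_5⟩, ⟨by decide, v8_180_6⟩, ⟨by decide, v8_180_7⟩]
theorem row8_181 : ∀ j ∈ K8, tbl8 181 j < 240 ∧ V cs (par cs K7) (word8 181) j (word8 (tbl8 181 j)) := by
  intro j hj
  simp only [K8, List.mem_cons, List.not_mem_nil, or_false] at hj
  rcases hj with rfl | rfl | rfl | rfl | rfl | rfl | rfl | rfl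
  exacts [⟨by decide, v8_181_0⟩, ⟨by decide, v8_181_2⟩, ⟨by decide, v8_181_3⟩, ⟨by decide, v8_181_1⟩, ⟨by decide, v8_181_4⟩, ⟨by decide, v8_181_5⟩, ⟨by decide, v8_181_6⟩, ⟨by decide, v8_181_7⟩]
theorem row8_182 : ∀ j ∈ K8, tbl8 182 j < 240 ∧ V cs (par cs K7) (word8 182) j (word8 (tbl8 182 j)) := by
  intro j hj
  simp only [K8, List.mem_cons, List.not_mem_nil, or_false] at hj
  rcases hj with rfl | rfl | rfl | rfl | rfl | rfl | rfl | rfl
  exacts [⟨by decide, v8_182_0⟩, ⟨by decide, v8_182_2⟩, ⟨by decide, v8_182_3⟩, ⟨by decide, v8_182_1⟩, ⟨by decide, v8_182_4⟩, ⟨by decide, v8_182_5⟩, ⟨by decide, v8_182_6⟩, ⟨by decide, v8_182_7⟩]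
theorem row8_183 : ∀ j ∈ K8, tbl8 183 j < 240 ∧ V cs (par cs K7) (word8 183) j (word8 (tbl8 183 j)) := by
  intro j hj
  simp only [K8, List.mem_cons, List.not_mem_nil, or_false] at hj
  rcases hj with rfl | rfl | rfl | rfl | rfl | rfl | rfl | rfl
  exacts [⟨by decide, v8_183_0⟩, ⟨by decide, v8_183_2⟩, ⟨by decide, v8_183_3⟩, ⟨by decide, v8_183_1⟩, ⟨by decide, v8_183_4⟩, ⟨by decide, v8_183_5⟩, ⟨by decide, v8_183_6⟩, ⟨by decide, v8_183_7⟩]
theorem row8_184 : ∀ j ∈ K8, tbl8 184 j < 240 ∧ V cs (par cs K7) (word8 184) j (word8 (tbl8 184 j)) := by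
  intro j hj
  simp only [K8, List.mem_cons, List.not_mem_nil, or_false] at hj
  rcases hj with rfl | rfl | rfl | rfl | rfl | rfl | rfl | rfl
  exacts [⟨by decide, v8_184_0⟩, ⟨by decide, v8_184_2⟩, ⟨by decide, v8_184_3⟩, ⟨by decide, v8_184_1⟩, ⟨by decide, v8_184_4⟩, ⟨by decide, v8_184_5⟩, ⟨by decide, v8_184_6⟩, ⟨by decide, v8_184_7⟩]
theorem row8_185 : ∀ j ∈ K8, tbl8 185 j < 240 ∧ V cs (par cs K7) (word8 185) j (word8 (tbl8 185 j)) := by
  intro j hj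
  simp only [K8, List.mem_cons, List.not_mem_nil, or_false] at hj
  rcases hj with rfl | rfl | rfl | rfl | rfl | rfl | rfl | rfl
  exacts [⟨by decide, v8_185_0⟩, ⟨by decide, v8_185_2⟩, ⟨by decide, v8_185_3⟩, ⟨by decide, v8_185_1⟩, ⟨by decide, v8_185_4⟩, ⟨by decide, v8_185_5⟩, ⟨by decide, v8_185_6⟩, ⟨by decide, v8_185_7⟩]
theorem row8_186 : ∀ j ∈ K8, tbl8 186 j < 240 ∧ V cs (par cs K7) (word8 186) j (word8 (tbl8 186 j)) := by
  intro j hj
  simp only [K8, List.mem_cons, List.not_mem_nil, or_false] at hj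
  rcases hj with rfl | rfl | rfl | rfl | rfl | rfl | rfl | rfl
  exacts [⟨by decide, v8_186_0⟩, ⟨by decide, v8_186_2⟩, ⟨by decide, v8_186_3⟩, ⟨by decide, v8_186_1⟩, ⟨by decide, v8_186_4⟩, ⟨by decide, v8_186_5⟩, ⟨by decide, v8_186_6⟩, ⟨by decide, v8_186_7⟩]
theorem row8_187 : ∀ j ∈ K8, tbl8 187 j < 240 ∧ V cs (par cs K7) (word8 187) j (word8 (tbl8 187 j)) := by
  intro j hj
  simp only [K8, List.mem_cons, List.not_mem_nil, or_false] at hj
  rcases hj with rfl | rfl | rfl | rfl | rfl | rfl | rfl | rfl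
  exacts [⟨by decide, v8_187_0⟩, ⟨by decide, v8_187_2⟩, ⟨by decide, v8_187_3⟩, ⟨by decide, v8_187_1⟩, ⟨by decide, v8_187_4⟩, ⟨by decide, v8_187_5⟩, ⟨by decide, v8_187_6⟩, ⟨by decide, v8_187_7⟩]
theorem row8_188 : ∀ j ∈ K8, tbl8 188 j < 240 ∧ V cs (par cs K7) (word8 188) j (word8 (tbl8 188 j)) := by
  intro j hj
  simp only [K8, List.mem_cons, List.not_mem_nil, or_false] at hj
  rcases hj with rfl | rfl | rfl | rfl | rfl | rfl | rfl | rfl
  exacts [⟨by decide, v8_188_0⟩, ⟨by decide, v8_188_2⟩, ⟨by decide, v8_188_3⟩, ⟨by decide, v8_188_1⟩, ⟨by decide, v8_188_4⟩, ⟨by decide, v8_188_5⟩, ⟨by decide, v8_188_6⟩, ⟨by decide, v8_188_7⟩]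
theorem row8_189 : ∀ j ∈ K8, tbl8 189 j < 240 ∧ V cs (par cs K7) (word8 189) j (word8 (tbl8 189 j)) := by
  intro j hj
  simp only [K8, List.mem_cons, List.not_mem_nil, or_false] at hj
  rcases hj with rfl | rfl | rfl | rfl | rfl | rfl | rfl | rfl
  exacts [⟨by decide, v8_189_0⟩, ⟨by decide, v8_189_2⟩, ⟨by decide, v8_189_3⟩, ⟨by decide, v8_189_1⟩, ⟨by decide, v8_189_4⟩, ⟨by decide, v8_189_5⟩, ⟨by decide, v8_189_6⟩, ⟨by decide, v8_189_7⟩]
theorem row8_190 : ∀ j ∈ K8, tbl8 190 j < 240 ∧ V cs (par cs K7) (word8 190) j (word8 (tbl8 190 j)) := by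
  intro j hj
  simp only [K8, List.mem_cons, List.not_mem_nil, or_false] at hj
  rcases hj with rfl | rfl | rfl | rfl | rfl | rfl | rfl | rfl
  exacts [⟨by decide, v8_190_0⟩, ⟨by decide, v8_190_2⟩, ⟨by decide, v8_190_3⟩, ⟨by decide, v8_190_1⟩, ⟨by decide, v8_190_4⟩, ⟨by decide, v8_190_5⟩, ⟨by decide, v8_190_6⟩, ⟨by decide, v8_190_7⟩]
theorem row8_191 : ∀ j ∈ K8, tbl8 191 j < 240 ∧ V cs (par cs K7) (word8 191) j (word8 (tbl8 191 j)) := by
  intro j hj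
  simp only [K8, List.mem_cons, List.not_mem_nil, or_false] at hj
  rcases hj with rfl | rfl | rfl | rfl | rfl | rfl | rfl | rfl
  exacts [⟨by decide, v8_191_0⟩, ⟨by decide, v8_191_2⟩, ⟨by decide, v8_191_3⟩, ⟨by decide, v8_191_1⟩, ⟨by decide, v8_191_4⟩, ⟨by decide, v8_191_5⟩, ⟨by decide, v8_191_6⟩, ⟨by decide, v8_191_7⟩]
theorem row8_192 : ∀ j ∈ K8, tbl8 192 j < 240 ∧ V cs (par cs K7) (word8 192) j (word8 (tbl8 192 j)) := by
  intro j hj
  simp only [K8, List.mem_cons, List.not_mem_nil, or_false] at hj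
  rcases hj with rfl | rfl | rfl | rfl | rfl | rfl | rfl | rfl
  exacts [⟨by decide, v8_192_0⟩, ⟨by decide, v8_192_2⟩, ⟨by decide, v8_192_3⟩, ⟨by decide, v8_192_1⟩, ⟨by decide, v8_192_4⟩, ⟨by decide, v8_192_5⟩, ⟨by decide, v8_192_6⟩, ⟨by decide, v8_192_7⟩]
theorem row8_193 : ∀ j ∈ K8, tbl8 193 j < 240 ∧ V cs (par cs K7) (word8 193) j (word8 (tbl8 193 j)) := by
  intro j hj
  simp only [K8, List.mem_cons, List.not_mem_nil, or_false] at hj
  rcases hj with rfl | rfl | rfl | rfl | rfl | rfl | rfl | rfl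
  exacts [⟨by decide, v8_193_0⟩, ⟨by decide, v8_193_2⟩, ⟨by decide, v8_193_3⟩, ⟨by decide, v8_193_1⟩, ⟨by decide, v8_193_4⟩, ⟨by decide, v8_193_5⟩, ⟨by decide, v8_193_6⟩, ⟨by decide, v8_193_7⟩]
theorem row8_194 : ∀ j ∈ K8, tbl8 194 j < 240 ∧ V cs (par cs K7) (word8 194) j (word8 (tbl8 194 j)) := by
  intro j hj
  simp only [K8, List.mem_cons, List.not_mem_nil, or_false] at hj
  rcases hj with rfl | rfl | rfl | rfl | rfl | rfl | rfl | rfl
  exacts [⟨by decide, v8_194_0⟩, ⟨by decide, v8_194_2⟩, ⟨by decide, v8_194_3⟩, ⟨by decide, v8_194_1⟩, ⟨by decide, v8_194_4⟩, ⟨by decide, v8_194_5⟩, ⟨by decide, v8_194_6⟩, ⟨by decide, v8_194_7⟩]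
theorem row8_195 : ∀ j ∈ K8, tbl8 195 j < 240 ∧ V cs (par cs K7) (word8 195) j (word8 (tbl8 195 j)) := by
  intro j hj
  simp only [K8, List.mem_cons, List.not_mem_nil, or_false] at hj
  rcases hj with rfl | rfl | rfl | rfl | rfl | rfl | rfl | rfl
  exacts [⟨by decide, v8_195_0⟩, ⟨by decide, v8_195_2⟩, ⟨by decide, v8_195_3⟩, ⟨by decide, v8_195_1⟩, ⟨by decide, v8_195_4⟩, ⟨by decide, v8_195_5⟩, ⟨by decide, v8_195_6⟩, ⟨by decide, v8_195_7⟩]
theorem row8_196 : ∀ j ∈ K8, tbl8 196 j < 240 ∧ V cs (par cs K7) (word8 196) j (word8 (tbl8 196 j)) := by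
  intro j hj
  simp only [K8, List.mem_cons, List.not_mem_nil, or_false] at hj
  rcases hj with rfl | rfl | rfl | rfl | rfl | rfl | rfl | rfl
  exacts [⟨by decide, v8_196_0⟩, ⟨by decide, v8_196_2⟩, ⟨by decide, v8_196_3⟩, ⟨by decide, v8_196_1⟩, ⟨by decide, v8_196_4⟩, ⟨by decide, v8_196_5⟩, ⟨by decide, v8_196_6⟩, ⟨by decide, v8_196_7⟩]
theorem row8_197 : ∀ j ∈ K8, tbl8 197 j < 240 ∧ V cs (par cs K7) (word8 197) j (word8 (tbl8 197 j)) := by
  intro j hj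
  simp only [K8, List.mem_cons, List.not_mem_nil, or_false] at hj
  rcases hj with rfl | rfl | rfl | rfl | rfl | rfl | rfl | rfl
  exacts [⟨by decide, v8_197_0⟩, ⟨by decide, v8_197_2⟩, ⟨by decide, v8_197_3⟩, ⟨by decide, v8_197_1⟩, ⟨by decide, v8_197_4⟩, ⟨by decide, v8_197_5⟩, ⟨by decide, v8_197_6⟩, ⟨by decide, v8_197_7⟩]
theorem row8_198 : ∀ j ∈ K8, tbl8 198 j < 240 ∧ V cs (par cs K7) (word8 198) j (word8 (tbl8 198 j)) := by
  intro j hj
  simp only [K8, List.mem_cons, List.not_mem_nil, or_false] at hj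
  rcases hj with rfl | rfl | rfl | rfl | rfl | rfl | rfl | rfl
  exacts [⟨by decide, v8_198_0⟩, ⟨by decide, v8_198_2⟩, ⟨by decide, v8_198_3⟩, ⟨by decide, v8_198_1⟩, ⟨by decide, v8_198_4⟩, ⟨by decide, v8_198_5⟩, ⟨by decide, v8_198_6⟩, ⟨by decide, v8_198_7⟩]
theorem row8_199 : ∀ j ∈ K8, tbl8 199 j < 240 ∧ V cs (par cs K7) (word8 199) j (word8 (tbl8 199 j)) := by
  intro j hj
  simp only [K8, List.mem_cons, List.not_mem_nil, or_false] at hj
  rcases hj with rfl | rfl | rfl | rfl | rfl | rfl | rfl | rfl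
  exacts [⟨by decide, v8_199_0⟩, ⟨by decide, v8_199_2⟩, ⟨by decide, v8_199_3⟩, ⟨by decide, v8_199_1⟩, ⟨by decide, v8_199_4⟩, ⟨by decide, v8_199_5⟩, ⟨by decide, v8_199_6⟩, ⟨by decide, v8_199_7⟩]
theorem row8_200 : ∀ j ∈ K8, tbl8 200 j < 240 ∧ V cs (par cs K7) (word8 200) j (word8 (tbl8 200 j)) := by
  intro j hj
  simp only [K8, List.mem_cons, List.not_mem_nil, or_false] at hj
  rcases hj with rfl | rfl | rfl | rfl | rfl | rfl | rfl | rfl
  exacts [⟨by decide, v8_200_0⟩, ⟨by decide, v8_200_2⟩, ⟨by decide, v8_200_3⟩, ⟨by decide, v8_200_1⟩, ⟨by decide, v8_200_4⟩, ⟨by decide, v8_200_5⟩, ⟨by decide, v8_200_6⟩, ⟨by decide, v8_200_7⟩]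
theorem row8_201 : ∀ j ∈ K8, tbl8 201 j < 240 ∧ V cs (par cs K7) (word8 201) j (word8 (tbl8 201 j)) := by
  intro j hj
  simp only [K8, List.mem_cons, List.not_mem_nil, or_false] at hj
  rcases hj with rfl | rfl | rfl | rfl | rfl | rfl | rfl | rfl
  exacts [⟨by decide, v8_201_0⟩, ⟨by decide, v8_201_2⟩, ⟨by decide, v8_201_3⟩, ⟨by decide, v8_201_1⟩, ⟨by decide, v8_201_4⟩, ⟨by decide, v8_201_5⟩, ⟨by decide, v8_201_6⟩, ⟨by decide, v8_201_7⟩]
theorem row8_202 : ∀ j ∈ K8, tbl8 202 j < 240 ∧ V cs (par cs K7) (word8 202) j (word8 (tbl8 202 j)) := by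
  intro j hj
  simp only [K8, List.mem_cons, List.not_mem_nil, or_false] at hj
  rcases hj with rfl | rfl | rfl | rfl | rfl | rfl | rfl | rfl
  exacts [⟨by decide, v8_202_0⟩, ⟨by decide, v8_202_2⟩, ⟨by decide, v8_202_3⟩, ⟨by decide, v8_202_1⟩, ⟨by decide, v8_202_4⟩, ⟨by decide, v8_202_5⟩, ⟨by decide, v8_202_6⟩, ⟨by decide, v8_202_7⟩]
theorem row8_203 : ∀ j ∈ K8, tbl8 203 j < 240 ∧ V cs (par cs K7) (word8 203) j (word8 (tbl8 203 j)) := by
  intro j hj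
  simp only [K8, List.mem_cons, List.not_mem_nil, or_false] at hj
  rcases hj with rfl | rfl | rfl | rfl | rfl | rfl | rfl | rfl
  exacts [⟨by decide, v8_203_0⟩, ⟨by decide, v8_203_2⟩, ⟨by decide, v8_203_3⟩, ⟨by decide, v8_203_1⟩, ⟨by decide, v8_203_4⟩, ⟨by decide, v8_203_5⟩, ⟨by decide, v8_203_6⟩, ⟨by decide, v8_203_7⟩]
theorem row8_204 : ∀ j ∈ K8, tbl8 204 j < 240 ∧ V cs (par cs K7) (word8 204) j (word8 (tbl8 204 j)) := by
  intro j hj
  simp only [K8, List.mem_cons, List.not_mem_nil, or_false] at hj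
  rcases hj with rfl | rfl | rfl | rfl | rfl | rfl | rfl | rfl
  exacts [⟨by decide, v8_204_0⟩, ⟨by decide, v8_204_2⟩, ⟨by decide, v8_204_3⟩, ⟨by decide, v8_204_1⟩, ⟨by decide, v8_204_4⟩, ⟨by decide, v8_204_5⟩, ⟨by decide, v8_204_6⟩, ⟨by decide, v8_204_7⟩]
theorem row8_205 : ∀ j ∈ K8, tbl8 205 j < 240 ∧ V cs (par cs K7) (word8 205) j (word8 (tbl8 205 j)) := by
  intro j hj
  simp only [K8, List.mem_cons, List.not_mem_nil, or_false] at hj
  rcases hj with rfl | rfl | rfl | rfl | rfl | rfl | rfl | rfl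
  exacts [⟨by decide, v8_205_0⟩, ⟨by decide, v8_205_2⟩, ⟨by decide, v8_205_3⟩, ⟨by decide, v8_205_1⟩, ⟨by decide, v8_205_4⟩, ⟨by decide, v8_205_5⟩, ⟨by decide, v8_205_6⟩, ⟨by decide, v8_205_7⟩]
theorem row8_206 : ∀ j ∈ K8, tbl8 206 j < 240 ∧ V cs (par cs K7) (word8 206) j (word8 (tbl8 206 j)) := by
  intro j hj
  simp only [K8, List.mem_cons, List.not_mem_nil, or_false] at hj
  rcases hj with rfl | rfl | rfl | rfl | rfl | rfl | rfl | rfl
  exacts [⟨by decide, v8_206_0⟩, ⟨by decide, v8_206_2⟩, ⟨by decide, v8_206_3⟩, ⟨by decide, v8_206_1⟩, ⟨by decide, v8_206_4⟩, ⟨by decide, v8_206_5⟩, ⟨by decide, v8_206_6⟩, ⟨by decide, v8_206_7⟩]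
theorem row8_207 : ∀ j ∈ K8, tbl8 207 j < 240 ∧ V cs (par cs K7) (word8 207) j (word8 (tbl8 207 j)) := by
  intro j hj
  simp only [K8, List.mem_cons, List.not_mem_nil, or_false] at hj
  rcases hj with rfl | rfl | rfl | rfl | rfl | rfl | rfl | rfl
  exacts [⟨by decide, v8_207_0⟩, ⟨by decide, v8_207_2⟩, ⟨by decide, v8_207_3⟩, ⟨by decide, v8_207_1⟩, ⟨by decide, v8_207_4⟩, ⟨by decide, v8_207_5⟩, ⟨by decide, v8_207_6⟩, ⟨by decide, v8_207_7⟩]
theorem row8_208 : ∀ j ∈ K8, tbl8 208 j < 240 ∧ V cs (par cs K7) (word8 208) j (word8 (tbl8 208 j)) := by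
  intro j hj
  simp only [K8, List.mem_cons, List.not_mem_nil, or_false] at hj
  rcases hj with rfl | rfl | rfl | rfl | rfl | rfl | rfl | rfl
  exacts [⟨by decide, v8_208_0⟩, ⟨by decide, v8_208_2⟩, ⟨by decide, v8_208_3⟩, ⟨by decide, v8_208_1⟩, ⟨by decide, v8_208_4⟩, ⟨by decide, v8_208_5⟩, ⟨by decide, v8_208_6⟩, ⟨by decide, v8_208_7⟩]
theorem row8_209 : ∀ j ∈ K8, tbl8 209 j < 240 ∧ V cs (par cs K7) (word8 209) j (word8 (tbl8 209 j)) := by
  intro j hj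
  simp only [K8, List.mem_cons, List.not_mem_nil, or_false] at hj
  rcases hj with rfl | rfl | rfl | rfl | rfl | rfl | rfl | rfl
  exacts [⟨by decide, v8_209_0⟩, ⟨by decide, v8_209_2⟩, ⟨by decide, v8_209_3⟩, ⟨by decide, v8_209_1⟩, ⟨by decide, v8_209_4⟩, ⟨by decide, v8_209_5⟩, ⟨by decide, v8_209_6⟩, ⟨by decide, v8_209_7⟩]
theorem row8_210 : ∀ j ∈ K8, tbl8 210 j < 240 ∧ V cs (par cs K7) (word8 210) j (word8 (tbl8 210 j)) := by
  intro j hj
  simp only [K8, List.mem_cons, List.not_mem_nil, or_false] at hj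
  rcases hj with rfl | rfl | rfl | rfl | rfl | rfl | rfl | rfl
  exacts [⟨by decide, v8_210_0⟩, ⟨by decide, v8_210_2⟩, ⟨by decide, v8_210_3⟩, ⟨by decide, v8_210_1⟩, ⟨by decide, v8_210_4⟩, ⟨by decide, v8_210_5⟩, ⟨by decide, v8_210_6⟩, ⟨by decide, v8_210_7⟩]
theorem row8_211 : ∀ j ∈ K8, tbl8 211 j < 240 ∧ V cs (par cs K7) (word8 211) j (word8 (tbl8 211 j)) := by
  intro j hj
  simp only [K8, List.mem_cons, List.not_mem_nil, or_false] at hj
  rcases hj with rfl | rfl | rfl | rfl | rfl | rfl | rfl | rfl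
  exacts [⟨by decide, v8_211_0⟩, ⟨by decide, v8_211_2⟩, ⟨by decide, v8_211_3⟩, ⟨by decide, v8_211_1⟩, ⟨by decide, v8_211_4⟩, ⟨by decide, v8_211_5⟩, ⟨by decide, v8_211_6⟩, ⟨by decide, v8_211_7⟩]
theorem row8_212 : ∀ j ∈ K8, tbl8 212 j < 240 ∧ V cs (par cs K7) (word8 212) j (word8 (tbl8 212 j)) := by
  intro j hj
  simp only [K8, List.mem_cons, List.not_mem_nil, or_false] at hj
  rcases hj with rfl | rfl | rfl | rfl | rfl | rfl | rfl | rfl
  exacts [⟨by decide, v8_212_0⟩, ⟨by decide, v8_212_2⟩, ⟨by decide, v8_212_3⟩, ⟨by decide, v8_212_1⟩, ⟨by decide, v8_212_4⟩, ⟨by decide, v8_212_5⟩, ⟨by decide, v8_212_6⟩, ⟨by decide, v8_212_7⟩]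
theorem row8_213 : ∀ j ∈ K8, tbl8 213 j < 240 ∧ V cs (par cs K7) (word8 213) j (word8 (tbl8 213 j)) := by
  intro j hj
  simp only [K8, List.mem_cons, List.not_mem_nil, or_false] at hj
  rcases hj with rfl | rfl | rfl | rfl | rfl | rfl | rfl | rfl
  exacts [⟨by decide, v8_213_0⟩, ⟨by decide, v8_213_2⟩, ⟨by decide, v8_213_3⟩, ⟨by decide, v8_213_1⟩, ⟨by decide, v8_213_4⟩, ⟨by decide, v8_213_5⟩, ⟨by decide, v8_213_6⟩, ⟨by decide, v8_213_7⟩]
theorem row8_214 : ∀ j ∈ K8, tbl8 214 j < 240 ∧ V cs (par cs K7) (word8 214) j (word8 (tbl8 214 j)) := by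
  intro j hj
  simp only [K8, List.mem_cons, List.not_mem_nil, or_false] at hj
  rcases hj with rfl | rfl | rfl | rfl | rfl | rfl | rfl | rfl
  exacts [⟨by decide, v8_214_0⟩, ⟨by decide, v8_214_2⟩, ⟨by decide, v8_214_3⟩, ⟨by decide, v8_214_1⟩, ⟨by decide, v8_214_4⟩, ⟨by decide, v8_214_5⟩, ⟨by decide, v8_214_6⟩, ⟨by decide, v8_214_7⟩]
theorem row8_215 : ∀ j ∈ K8, tbl8 215 j < 240 ∧ V cs (par cs K7) (word8 215) j (word8 (tbl8 215 j)) := by
  intro j hj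
  simp only [K8, List.mem_cons, List.not_mem_nil, or_false] at hj
  rcases hj with rfl | rfl | rfl | rfl | rfl | rfl | rfl | rfl
  exacts [⟨by decide, v8_215_0⟩, ⟨by decide, v8_215_2⟩, ⟨by decide, v8_215_3⟩, ⟨by decide, v8_215_1⟩, ⟨by decide, v8_215_4⟩, ⟨by decide, v8_215_5⟩, ⟨by decide, v8_215_6⟩, ⟨by decide, v8_215_7⟩]
theorem row8_216 : ∀ j ∈ K8, tbl8 216 j < 240 ∧ V cs (par cs K7) (word8 216) j (word8 (tbl8 216 j)) := by
  intro j hj
  simp only [K8, List.mem_cons, List.not_mem_nil, or_false] at hj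
  rcases hj with rfl | rfl | rfl | rfl | rfl | rfl | rfl | rfl
  exacts [⟨by decide, v8_216_0⟩, ⟨by decide, v8_216_2⟩, ⟨by decide, v8_216_3⟩, ⟨by decide, v8_216_1⟩, ⟨by decide, v8_216_4⟩, ⟨by decide, v8_216_5⟩, ⟨by decide, v8_216_6⟩, ⟨by decide, v8_216_7⟩]
theorem row8_217 : ∀ j ∈ K8, tbl8 217 j < 240 ∧ V cs (par cs K7) (word8 217) j (word8 (tbl8 217 j)) := by
  intro j hj
  simp only [K8, List.mem_cons, List.not_mem_nil, or_false] at hj
  rcases hj with rfl | rfl | rfl | rfl | rfl | rfl | rfl | rfl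
  exacts [⟨by decide, v8_217_0⟩, ⟨by decide, v8_217_2⟩, ⟨by decide, v8_217_3⟩, ⟨by decide, v8_217_1⟩, ⟨by decide, v8_217_4⟩, ⟨by decide, v8_217_5⟩, ⟨by decide, v8_217_6⟩, ⟨by decide, v8_217_7⟩]
theorem row8_218 : ∀ j ∈ K8, tbl8 218 j < 240 ∧ V cs (par cs K7) (word8 218) j (word8 (tbl8 218 j)) := by
  intro j hj
  simp only [K8, List.mem_cons, List.not_mem_nil, or_false] at hj
  rcases hj with rfl | rfl | rfl | rfl | rfl | rfl | rfl | rfl
  exacts [⟨by decide, v8_218_0⟩, ⟨by decide, v8_218_2⟩, ⟨by decide, v8_218_3⟩, ⟨by decide, v8_218_1⟩, ⟨by decide, v8_218_4⟩, ⟨by decide, v8_218_5⟩, ⟨by decide, v8_218_6⟩, ⟨by decide, v8_218_7⟩]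
theorem row8_219 : ∀ j ∈ K8, tbl8 219 j < 240 ∧ V cs (par cs K7) (word8 219) j (word8 (tbl8 219 j)) := by
  intro j hj
  simp only [K8, List.mem_cons, List.not_mem_nil, or_false] at hj
  rcases hj with rfl | rfl | rfl | rfl | rfl | rfl | rfl | rfl
  exacts [⟨by decide, v8_219_0⟩, ⟨by decide, v8_219_2⟩, ⟨by decide, v8_219_3⟩, ⟨by decide, v8_219_1⟩, ⟨by decide, v8_219_4⟩, ⟨by decide, v8_219_5⟩, ⟨by decide, v8_219_6⟩, ⟨by decide, v8_219_7⟩]
theorem row8_220 : ∀ j ∈ K8, tbl8 220 j < 240 ∧ V cs (par cs K7) (word8 220) j (word8 (tbl8 220 j)) := by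
  intro j hj
  simp only [K8, List.mem_cons, List.not_mem_nil, or_false] at hj
  rcases hj with rfl | rfl | rfl | rfl | rfl | rfl | rfl | rfl
  exacts [⟨by decide, v8_220_0⟩, ⟨by decide, v8_220_2⟩, ⟨by decide, v8_220_3⟩, ⟨by decide, v8_220_1⟩, ⟨by decide, v8_220_4⟩, ⟨by decide, v8_220_5⟩, ⟨by decide, v8_220_6⟩, ⟨by decide, v8_220_7⟩]
theorem row8_221 : ∀ j ∈ K8, tbl8 221 j < 240 ∧ V cs (par cs K7) (word8 221) j (word8 (tbl8 221 j)) := by
  intro j hj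
  simp only [K8, List.mem_cons, List.not_mem_nil, or_false] at hj
  rcases hj with rfl | rfl | rfl | rfl | rfl | rfl | rfl | rfl
  exacts [⟨by decide, v8_221_0⟩, ⟨by decide, v8_221_2⟩, ⟨by decide, v8_221_3⟩, ⟨by decide, v8_221_1⟩, ⟨by decide, v8_221_4⟩, ⟨by decide, v8_221_5⟩, ⟨by decide, v8_221_6⟩, ⟨by decide, v8_221_7⟩]
theorem row8_222 : ∀ j ∈ K8, tbl8 222 j < 240 ∧ V cs (par cs K7) (word8 222) j (word8 (tbl8 222 j)) := by
  intro j hj
  simp only [K8, List.mem_cons, List.not_mem_nil, or_false] at hj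
  rcases hj with rfl | rfl | rfl | rfl | rfl | rfl | rfl | rfl
  exacts [⟨by decide, v8_222_0⟩, ⟨by decide, v8_222_2⟩, ⟨by decide, v8_222_3⟩, ⟨by decide, v8_222_1⟩, ⟨by decide, v8_222_4⟩, ⟨by decide, v8_222_5⟩, ⟨by decide, v8_222_6⟩, ⟨by decide, v8_222_7⟩]
theorem row8_223 : ∀ j ∈ K8, tbl8 223 j < 240 ∧ V cs (par cs K7) (word8 223) j (word8 (tbl8 223 j)) := by
  intro j hj
  simp only [K8, List.mem_cons, List.not_mem_nil, or_false] at hj
  rcases hj with rfl | rfl | rfl | rfl | rfl | rfl | rfl | rfl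
  exacts [⟨by decide, v8_223_0⟩, ⟨by decide, v8_223_2⟩, ⟨by decide, v8_223_3⟩, ⟨by decide, v8_223_1⟩, ⟨by decide, v8_223_4⟩, ⟨by decide, v8_223_5⟩, ⟨by decide, v8_223_6⟩, ⟨by decide, v8_223_7⟩]
theorem row8_224 : ∀ j ∈ K8, tbl8 224 j < 240 ∧ V cs (par cs K7) (word8 224) j (word8 (tbl8 224 j)) := by
  intro j hj
  simp only [K8, List.mem_cons, List.not_mem_nil, or_false] at hj
  rcases hj with rfl | rfl | rfl | rfl | rfl | rfl | rfl | rfl
  exacts [⟨by decide, v8_224_0⟩, ⟨by decide, v8_224_2⟩, ⟨by decide, v8_224_3⟩, ⟨by decide, v8_224_1⟩, ⟨by decide, v8_224_4⟩, ⟨by decide, v8_224_5⟩, ⟨by decide, v8_224_6⟩, ⟨by decide, v8_224_7⟩]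
theorem row8_225 : ∀ j ∈ K8, tbl8 225 j < 240 ∧ V cs (par cs K7) (word8 225) j (word8 (tbl8 225 j)) := by
  intro j hj
  simp only [K8, List.mem_cons, List.not_mem_nil, or_false] at hj
  rcases hj with rfl | rfl | rfl | rfl | rfl | rfl | rfl | rfl
  exacts [⟨by decide, v8_225_0⟩, ⟨by decide, v8_225_2⟩, ⟨by decide, v8_225_3⟩, ⟨by decide, v8_225_1⟩, ⟨by decide, v8_225_4⟩, ⟨by decide, v8_225_5⟩, ⟨by decide, v8_225_6⟩, ⟨by decide, v8_225_7⟩]
theorem row8_226 : ∀ j ∈ K8, tbl8 226 j < 240 ∧ V cs (par cs K7) (word8 226) j (word8 (tbl8 226 j)) := by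
  intro j hj
  simp only [K8, List.mem_cons, List.not_mem_nil, or_false] at hj
  rcases hj with rfl | rfl | rfl | rfl | rfl | rfl | rfl | rfl
  exacts [⟨by decide, v8_226_0⟩, ⟨by decide, v8_226_2⟩, ⟨by decide, v8_226_3⟩, ⟨by decide, v8_226_1⟩, ⟨by decide, v8_226_4⟩, ⟨by decide, v8_226_5⟩, ⟨by decide, v8_226_6⟩, ⟨by decide, v8_226_7⟩]
theorem row8_227 : ∀ j ∈ K8, tbl8 227 j < 240 ∧ V cs (par cs K7) (word8 227) j (word8 (tbl8 227 j)) := by
  intro j hj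
  simp only [K8, List.mem_cons, List.not_mem_nil, or_false] at hj
  rcases hj with rfl | rfl | rfl | rfl | rfl | rfl | rfl | rfl
  exacts [⟨by decide, v8_227_0⟩, ⟨by decide, v8_227_2⟩, ⟨by decide, v8_227_3⟩, ⟨by decide, v8_227_1⟩, ⟨by decide, v8_227_4⟩, ⟨by decide, v8_227_5⟩, ⟨by decide, v8_227_6⟩, ⟨by decide, v8_227_7⟩]
theorem row8_228 : ∀ j ∈ K8, tbl8 228 j < 240 ∧ V cs (par cs K7) (word8 228) j (word8 (tbl8 228 j)) := by
  intro j hj
  simp only [K8, List.mem_cons, List.not_mem_nil, or_false] at hj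
  rcases hj with rfl | rfl | rfl | rfl | rfl | rfl | rfl | rfl
  exacts [⟨by decide, v8_228_0⟩, ⟨by decide, v8_228_2⟩, ⟨by decide, v8_228_3⟩, ⟨by decide, v8_228_1⟩, ⟨by decide, v8_228_4⟩, ⟨by decide, v8_228_5⟩, ⟨by decide, v8_228_6⟩, ⟨by decide, v8_228_7⟩]
theorem row8_229 : ∀ j ∈ K8, tbl8 229 j < 240 ∧ V cs (par cs K7) (word8 229) j (word8 (tbl8 229 j)) := by
  intro j hj
  simp only [K8, List.mem_cons, List.not_mem_nil, or_false] at hj
  rcases hj with rfl | rfl | rfl | rfl | rfl | rfl | rfl | rfl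
  exacts [⟨by decide, v8_229_0⟩, ⟨by decide, v8_229_2⟩, ⟨by decide, v8_229_3⟩, ⟨by decide, v8_229_1⟩, ⟨by decide, v8_229_4⟩, ⟨by decide, v8_229_5⟩, ⟨by decide, v8_229_6⟩, ⟨by decide, v8_229_7⟩]
theorem row8_230 : ∀ j ∈ K8, tbl8 230 j < 240 ∧ V cs (par cs K7) (word8 230) j (word8 (tbl8 230 j)) := by
  intro j hj
  simp only [K8, List.mem_cons, List.not_mem_nil, or_false] at hj
  rcases hj with rfl | rfl | rfl | rfl | rfl | rfl | rfl | rfl
  exacts [⟨by decide, v8_230_0⟩, ⟨by decide, v8_230_2⟩, ⟨by decide, v8_230_3⟩, ⟨by decide, v8_230_1⟩, ⟨by decide, v8_230_4⟩, ⟨by decide, v8_230_5⟩, ⟨by decide, v8_230_6⟩, ⟨by decide, v8_230_7⟩]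
theorem row8_231 : ∀ j ∈ K8, tbl8 231 j < 240 ∧ V cs (par cs K7) (word8 231) j (word8 (tbl8 231 j)) := by
  intro j hj
  simp only [K8, List.mem_cons, List.not_mem_nil, or_false] at hj
  rcases hj with rfl | rfl | rfl | rfl | rfl | rfl | rfl | rfl
  exacts [⟨by decide, v8_231_0⟩, ⟨by decide, v8_231_2⟩, ⟨by decide, v8_231_3⟩, ⟨by decide, v8_231_1⟩, ⟨by decide, v8_231_4⟩, ⟨by decide, v8_231_5⟩, ⟨by decide, v8_231_6⟩, ⟨by decide, v8_231_7⟩]
theorem row8_232 : ∀ j ∈ K8, tbl8 232 j < 240 ∧ V cs (par cs K7) (word8 232) j (word8 (tbl8 232 j)) := by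
  intro j hj
  simp only [K8, List.mem_cons, List.not_mem_nil, or_false] at hj
  rcases hj with rfl | rfl | rfl | rfl | rfl | rfl | rfl | rfl
  exacts [⟨by decide, v8_232_0⟩, ⟨by decide, v8_232_2⟩, ⟨by decide, v8_232_3⟩, ⟨by decide, v8_232_1⟩, ⟨by decide, v8_232_4⟩, ⟨by decide, v8_232_5⟩, ⟨by decide, v8_232_6⟩, ⟨by decide, v8_232_7⟩]
theorem row8_233 : ∀ j ∈ K8, tbl8 233 j < 240 ∧ V cs (par cs K7) (word8 233) j (word8 (tbl8 233 j)) := by
  intro j hj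
  simp only [K8, List.mem_cons, List.not_mem_nil, or_false] at hj
  rcases hj with rfl | rfl | rfl | rfl | rfl | rfl | rfl | rfl
  exacts [⟨by decide, v8_233_0⟩, ⟨by decide, v8_233_2⟩, ⟨by decide, v8_233_3⟩, ⟨by decide, v8_233_1⟩, ⟨by decide, v8_233_4⟩, ⟨by decide, v8_233_5⟩, ⟨by decide, v8_233_6⟩, ⟨by decide, v8_233_7⟩]
theorem row8_234 : ∀ j ∈ K8, tbl8 234 j < 240 ∧ V cs (par cs K7) (word8 234) j (word8 (tbl8 234 j)) := by
  intro j hj
  simp only [K8, List.mem_cons, List.not_mem_nil, or_false] at hj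
  rcases hj with rfl | rfl | rfl | rfl | rfl | rfl | rfl | rfl
  exacts [⟨by decide, v8_234_0⟩, ⟨by decide, v8_234_2⟩, ⟨by decide, v8_234_3⟩, ⟨by decide, v8_234_1⟩, ⟨by decide, v8_234_4⟩, ⟨by decide, v8_234_5⟩, ⟨by decide, v8_234_6⟩, ⟨by decide, v8_234_7⟩]
theorem row8_235 : ∀ j ∈ K8, tbl8 235 j < 240 ∧ V cs (par cs K7) (word8 235) j (word8 (tbl8 235 j)) := by
  intro j hj
  simp only [K8, List.mem_cons, List.not_mem_nil, or_false] at hj
  rcases hj with rfl | rfl | rfl | rfl | rfl | rfl | rfl | rfl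
  exacts [⟨by decide, v8_235_0⟩, ⟨by decide, v8_235_2⟩, ⟨by decide, v8_235_3⟩, ⟨by decide, v8_235_1⟩, ⟨by decide, v8_235_4⟩, ⟨by decide, v8_235_5⟩, ⟨by decide, v8_235_6⟩, ⟨by decide, v8_235_7⟩]
theorem row8_236 : ∀ j ∈ K8, tbl8 236 j < 240 ∧ V cs (par cs K7) (word8 236) j (word8 (tbl8 236 j)) := by
  intro j hj
  simp only [K8, List.mem_cons, List.not_mem_nil, or_false] at hj
  rcases hj with rfl | rfl | rfl | rfl | rfl | rfl | rfl | rfl
  exacts [⟨by decide, v8_236_0⟩, ⟨by decide, v8_236_2⟩, ⟨by decide, v8_236_3⟩, ⟨by decide, v8_236_1⟩, ⟨by decide, v8_236_4⟩, ⟨by decide, v8_236_5⟩, ⟨by decide, v8_236_6⟩, ⟨by decide, v8_236_7⟩]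
theorem row8_237 : ∀ j ∈ K8, tbl8 237 j < 240 ∧ V cs (par cs K7) (word8 237) j (word8 (tbl8 237 j)) := by
  intro j hj
  simp only [K8, List.mem_cons, List.not_mem_nil, or_false] at hj
  rcases hj with rfl | rfl | rfl | rfl | rfl | rfl | rfl | rfl
  exacts [⟨by decide, v8_237_0⟩, ⟨by decide, v8_237_2⟩, ⟨by decide, v8_237_3⟩, ⟨by decide, v8_237_1⟩, ⟨by decide, v8_237_4⟩, ⟨by decide, v8_237_5⟩, ⟨by decide, v8_237_6⟩, ⟨by decide, v8_237_7⟩]
theorem row8_238 : ∀ j ∈ K8, tbl8 238 j < 240 ∧ V cs (par cs K7) (word8 238) j (word8 (tbl8 238 j)) := by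
  intro j hj
  simp only [K8, List.mem_cons, List.not_mem_nil, or_false] at hj
  rcases hj with rfl | rfl | rfl | rfl | rfl | rfl | rfl | rfl
  exacts [⟨by decide, v8_238_0⟩, ⟨by decide, v8_238_2⟩, ⟨by decide, v8_238_3⟩, ⟨by decide, v8_238_1⟩, ⟨by decide, v8_238_4⟩, ⟨by decide, v8_238_5⟩, ⟨by decide, v8_238_6⟩, ⟨by decide, v8_238_7⟩]
theorem row8_239 : ∀ j ∈ K8, tbl8 239 j < 240 ∧ V cs (par cs K7) (word8 239) j (word8 (tbl8 239 j)) := by
  intro j hj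
  simp only [K8, List.mem_cons, List.not_mem_nil, or_false] at hj
  rcases hj with rfl | rfl | rfl | rfl | rfl | rfl | rfl | rfl
  exacts [⟨by decide, v8_239_0⟩, ⟨by decide, v8_239_2⟩, ⟨by decide, v8_239_3⟩, ⟨by decide, v8_239_1⟩, ⟨by decide, v8_239_4⟩, ⟨by decide, v8_239_5⟩, ⟨by decide, v8_239_6⟩, ⟨by decide, v8_239_7⟩]
theorem htbl8 : ∀ x < 240, ∀ j ∈ K8, tbl8 x j < 240 ∧ V cs (par cs K7) (word8 x) j (word8 (tbl8 x j)) := by
  intro x hx
  interval_cases x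
  exacts [row8_0, row8_1, row8_2, row8_3, row8_4, row8_5, row8_6, row8_7, row8_8, row8_9, row8_10, row8_11, row8_12, row8_13, row8_14, row8_15, row8_16, row8_17, row8_18, row8_19, row8_20, row8_21, row8_22, row8_23, row8_24, row8_25, row8_26, row8_27, row8_28, row8_29, row8_30, row8_31, row8_32, row8_33, row8_34, row8_35, row8_36, row8_37, row8_38, row8_39, row8_40, row8_41, row8_42, row8_43, row8_44, row8_45, row8_46, row8_47, row8_48, row8_49, row8_50, row8_51, row8_52, row8_53, row8_54, row8_55, row8_56, row8_57, row8_58, row8_59, row8_60, row8_61, row8_62, row8_63, row8_64, row8_65, row8_66, row8_67, row8_68, row8_69, row8_70, row8_71, row8_72, row8_73, row8_74, row8_75, row8_76, row8_77, row8_78, row8_79, row8_80, row8_81, row8_82, row8_83, row8_84, row8_85, row8_86, row8_87, row8_88, row8_89, row8_90, row8_91, row8_92, row8_93, row8_94, row8_95, row8_96, row8_97, row8_98, row8_99, row8_100,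 row8_101, row8_102, row8_103, row8_104, row8_105, row8_106, row8_107, row8_108, row8_109, row8_110, row8_111, row8_112, row8_113, row8_114, row8_115, row8_116, row8_117, row8_118, row8_119, row8_120, row8_121, row8_122, row8_123, row8_124, row8_125, row8_126, row8_127, row8_128, row8_129, row8_130, row8_131, row8_132, row8_133, row8_134, row8_135, row8_136, row8_137, row8_138, row8_139, row8_140, row8_141, row8_142, row8_143, row8_144, row8_145, row8_146, row8_147, row8_148, row8_149, row8_150, row8_151, row8_152, row8_153, row8_154, row8_155, row8_156, row8_157, row8_158, row8_159, row8_160, row8_161, row8_162, row8_163, row8_164, row8_165, row8_166, row8_167, row8_168, row8_169, row8_170, row8_171, row8_172, row8_173, row8_174, row8_175, row8_176, row8_177, row8_178, row8_179, row8_180, row8_181, row8_182, row8_183, row8_184, row8_185, row8_186, row8_187, row8_188, row8_189, row8_190, row8_191,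 row8_192, row8_193, row8_194, row8_195, row8_196, row8_197, row8_198, row8_199, row8_200, row8_201, row8_202, row8_203, row8_204, row8_205, row8_206, row8_207, row8_208, row8_209, row8_210, row8_211, row8_212, row8_213, row8_214, row8_215, row8_216, row8_217, row8_218, row8_219, row8_220, row8_221, row8_222, row8_223, row8_224, row8_225, row8_226, row8_227, row8_228, row8_229, row8_230, row8_231, row8_232, row8_233, row8_234, row8_235, row8_236, row8_237, row8_238, row8_239]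
theorem pt8_0 : φ (cs.wordProd (word8 0)) p8 = ![0, 0, 0, 0, 0, 0, 0, 1] := pt_base cs φ (by decide) _
theorem pt8_1 : φ (cs.wordProd (word8 1)) p8 = ![0, 0, 0, 0, 0, 0, 1, -1] := pt_step A cs hA φ hφ (j := 7) (w := word8 0) (by decide) pt8_0 (by decide)
theorem pt8_2 : φ (cs.wordProd (word8 2)) p8 = ![0, 0, 0, 0, 0, 1, -1, 0] := pt_step A cs hA φ hφ (j := 6) (w := word8 1) (by decide) pt8_1 (by decide)
theorem pt8_3 : φ (cs.wordProd (word8 3)) p8 = ![0, 0, 0, 0, 1, -1, 0, 0] := pt_step A cs hA φ hφ (j := 5) (w := word8 2) (by decide) pt8_2 (by decide)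
theorem pt8_4 : φ (cs.wordProd (word8 4)) p8 = ![0, 0, 0, 1, -1, 0, 0, 0] := pt_step A cs hA φ hφ (j := 4) (w := word8 3) (by decide) pt8_3 (by decide)
theorem pt8_5 : φ (cs.wordProd (word8 5)) p8 = ![0, 1, 1, -1, 0, 0, 0, 0] := pt_step A cs hA φ hφ (j := 3) (w := word8 4) (by decide) pt8_4 (by decide)
theorem pt8_6 : φ (cs.wordProd (word8 6)) p8 = ![1, 1, -1, 0, 0, 0, 0, 0] := pt_step A cs hA φ hφ (j := 2) (w := word8 5) (by decide) pt8_5 (by decide)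
theorem pt8_7 : φ (cs.wordProd (word8 7)) p8 = ![0, -1, 1, 0, 0, 0, 0, 0] := pt_step A cs hA φ hφ (j := 1) (w := word8 5) (by decide) pt8_5 (by decide)
theorem pt8_8 : φ (cs.wordProd (word8 8)) p8 = ![-1, 1, 0, 0, 0, 0, 0, 0] := pt_step A cs hA φ hφ (j := 0) (w := word8 6) (by decide) pt8_6 (by decide)
theorem pt8_9 : φ (cs.wordProd (word8 9)) p8 = ![1, -1, -1, 1, 0, 0, 0, 0] := pt_step A cs hA φ hφ (j := 1) (w := word8 6) (by decide) pt8_6 (by decide)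
theorem pt8_10 : φ (cs.wordProd (word8 10)) p8 = ![-1, -1, 0, 1, 0, 0, 0, 0] := pt_step A cs hA φ hφ (j := 1) (w := word8 8) (by decide) pt8_8 (by decide)
theorem pt8_11 : φ (cs.wordProd (word8 11)) p8 = ![1, 0, 0, -1, 1, 0, 0, 0] := pt_step A cs hA φ hφ (j := 3) (w := word8 9) (by decide) pt8_9 (by decide)
theorem pt8_12 : φ (cs.wordProd (word8 12)) p8 = ![-1, 0, 1, -1, 1, 0, 0, 0] := pt_step A cs hA φ hφ (j := 3) (w := word8 10) (by decide) pt8_10 (by decide)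
theorem pt8_13 : φ (cs.wordProd (word8 13)) p8 = ![1, 0, 0, 0, -1, 1, 0, 0] := pt_step A cs hA φ hφ (j := 4) (w := word8 11) (by decide) pt8_11 (by decide)
theorem pt8_14 : φ (cs.wordProd (word8 14)) p8 = ![0, 0, -1, 0, 1, 0, 0, 0] := pt_step A cs hA φ hφ (j := 2) (w := word8 12) (by decide) pt8_12 (by decide)
theorem pt8_15 : φ (cs.wordProd (word8 15)) p8 = ![-1, 0, 1, 0, -1, 1, 0, 0] := pt_step A cs hA φ hφ (j := 4) (w := word8 12) (by decide) pt8_12 (by decide)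
theorem pt8_16 : φ (cs.wordProd (word8 16)) p8 = ![1, 0, 0, 0, 0, -1, 1, 0] := pt_step A cs hA φ hφ (j := 5) (w := word8 13) (by decide) pt8_13 (by decide)
theorem pt8_17 : φ (cs.wordProd (word8 17)) p8 = ![0, 0, -1, 1, -1, 1, 0, 0] := pt_step A cs hA φ hφ (j := 4) (w := word8 14) (by decide) pt8_14 (by decide)
theorem pt8_18 : φ (cs.wordProd (word8 18)) p8 = ![-1, 0, 1, 0, 0, -1, 1, 0] := pt_step A cs hA φ hφ (j := 5) (w := word8 15) (by decide) pt8_15 (by decide)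
theorem pt8_19 : φ (cs.wordProd (word8 19)) p8 = ![1, 0, 0, 0, 0, 0, -1, 1] := pt_step A cs hA φ hφ (j := 6) (w := word8 16) (by decide) pt8_16 (by decide)
theorem pt8_20 : φ (cs.wordProd (word8 20)) p8 = ![0, 1, 0, -1, 0, 1, 0, 0] := pt_step A cs hA φ hφ (j := 3) (w := word8 17) (by decide) pt8_17 (by decide)
theorem pt8_21 : φ (cs.wordProd (word8 21)) p8 = ![0, 0, -1, 1, 0, -1, 1, 0] := pt_step A cs hA φ hφ (j := 5) (w := word8 17) (by decide) pt8_17 (by decide)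
theorem pt8_22 : φ (cs.wordProd (word8 22)) p8 = ![-1, 0, 1, 0, 0, 0, -1, 1] := pt_step A cs hA φ hφ (j := 6) (w := word8 18) (by decide) pt8_18 (by decide)
theorem pt8_23 : φ (cs.wordProd (word8 23)) p8 = ![1, 0, 0, 0, 0, 0, 0, -1] := pt_step A cs hA φ hφ (j := 7) (w := word8 19) (by decide) pt8_19 (by decide)
theorem pt8_24 : φ (cs.wordProd (word8 24)) p8 = ![0, -1, 0, 0, 0, 1, 0, 0] := pt_step A cs hA φ hφ (j := 1) (w := word8 20) (by decide) pt8_20 (by decide)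
theorem pt8_25 : φ (cs.wordProd (word8 25)) p8 = ![0, 1, 0, -1, 1, -1, 1, 0] := pt_step A cs hA φ hφ (j := 5) (w := word8 20) (by decide) pt8_20 (by decide)
theorem pt8_26 : φ (cs.wordProd (word8 26)) p8 = ![0, 0, -1, 1, 0, 0, -1, 1] := pt_step A cs hA φ hφ (j := 6) (w := word8 21) (by decide) pt8_21 (by decide)
theorem pt8_27 : φ (cs.wordProd (word8 27)) p8 = ![-1, 0, 1, 0, 0, 0, 0, -1] := pt_step A cs hA φ hφ (j := 7) (w := word8 22) (by decide) pt8_22 (by decide)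
theorem pt8_28 : φ (cs.wordProd (word8 28)) p8 = ![0, -1, 0, 0, 1, -1, 1, 0] := pt_step A cs hA φ hφ (j := 5) (w := word8 24) (by decide) pt8_24 (by decide)
theorem pt8_29 : φ (cs.wordProd (word8 29)) p8 = ![0, 1, 0, 0, -1, 0, 1, 0] := pt_step A cs hA φ hφ (j := 4) (w := word8 25) (by decide) pt8_25 (by decide)
theorem pt8_30 : φ (cs.wordProd (word8 30)) p8 = ![0, 1, 0, -1, 1, 0, -1, 1] := pt_step A cs hA φ hφ (j := 6) (w := word8 25) (by decide) pt8_25 (by decide)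
theorem pt8_31 : φ (cs.wordProd (word8 31)) p8 = ![0, 0, -1, 1, 0, 0, 0, -1] := pt_step A cs hA φ hφ (j := 7) (w := word8 26) (by decide) pt8_26 (by decide)
theorem pt8_32 : φ (cs.wordProd (word8 32)) p8 = ![0, -1, 0, 1, -1, 0, 1, 0] := pt_step A cs hA φ hφ (j := 4) (w := word8 28) (by decide) pt8_28 (by decide)
theorem pt8_33 : φ (cs.wordProd (word8 33)) p8 = ![0, -1, 0, 0, 1, 0, -1, 1] := pt_step A cs hA φ hφ (j := 6) (w := word8 28) (by decide) pt8_28 (by decide)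
theorem pt8_34 : φ (cs.wordProd (word8 34)) p8 = ![0, 1, 0, 0, -1, 1, -1, 1] := pt_step A cs hA φ hφ (j := 6) (w := word8 29) (by decide) pt8_29 (by decide)
theorem pt8_35 : φ (cs.wordProd (word8 35)) p8 = ![0, 1, 0, -1, 1, 0, 0, -1] := pt_step A cs hA φ hφ (j := 7) (w := word8 30) (by decide) pt8_30 (by decide)
theorem pt8_36 : φ (cs.wordProd (word8 36)) p8 = ![0, 0, 1, -1, 0, 0, 1, 0] := pt_step A cs hA φ hφ (j := 3) (w := word8 32) (by decide) pt8_32 (by decide)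
theorem pt8_37 : φ (cs.wordProd (word8 37)) p8 = ![0, -1, 0, 1, -1, 1, -1, 1] := pt_step A cs hA φ hφ (j := 6) (w := word8 32) (by decide) pt8_32 (by decide)
theorem pt8_38 : φ (cs.wordProd (word8 38)) p8 = ![0, -1, 0, 0, 1, 0, 0, -1] := pt_step A cs hA φ hφ (j := 7) (w := word8 33) (by decide) pt8_33 (by decide)
theorem pt8_39 : φ (cs.wordProd (word8 39)) p8 = ![0, 1, 0, 0, 0, -1, 0, 1] := pt_step A cs hA φ hφ (j := 5) (w := word8 34) (by decide) pt8_34 (by decide)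
theorem pt8_40 : φ (cs.wordProd (word8 40)) p8 = ![0, 1, 0, 0, -1, 1, 0, -1] := pt_step A cs hA φ hφ (j := 7) (w := word8 34) (by decide) pt8_34 (by decide)
theorem pt8_41 : φ (cs.wordProd (word8 41)) p8 = ![1, 0, -1, 0, 0, 0, 1, 0] := pt_step A cs hA φ hφ (j := 2) (w := word8 36) (by decide) pt8_36 (by decide)
theorem pt8_42 : φ (cs.wordProd (word8 42)) p8 = ![0, 0, 1, -1, 0, 1, -1, 1] := pt_step A cs hA φ hφ (j := 6) (w := word8 36) (by decide) pt8_36 (by decide)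
theorem pt8_43 : φ (cs.wordProd (word8 43)) p8 = ![0, -1, 0, 1, 0, -1, 0, 1] := pt_step A cs hA φ hφ (j := 5) (w := word8 37) (by decide) pt8_37 (by decide)
theorem pt8_44 : φ (cs.wordProd (word8 44)) p8 = ![0, -1, 0, 1, -1, 1, 0, -1] := pt_step A cs hA φ hφ (j := 7) (w := word8 37) (by decide) pt8_37 (by decide)
theorem pt8_45 : φ (cs.wordProd (word8 45)) p8 = ![0, 1, 0, 0, 0, -1, 1, -1] := pt_step A cs hA φ hφ (j := 7) (w := word8 39) (by decide) pt8_39 (by decide)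
theorem pt8_46 : φ (cs.wordProd (word8 46)) p8 = ![-1, 0, 0, 0, 0, 0, 1, 0] := pt_step A cs hA φ hφ (j := 0) (w := word8 41) (by decide) pt8_41 (by decide)
theorem pt8_47 : φ (cs.wordProd (word8 47)) p8 = ![1, 0, -1, 0, 0, 1, -1, 1] := pt_step A cs hA φ hφ (j := 6) (w := word8 41) (by decide) pt8_41 (by decide)
theorem pt8_48 : φ (cs.wordProd (word8 48)) p8 = ![0, 0, 1, -1, 1, -1, 0, 1] := pt_step A cs hA φ hφ (j := 5) (w := word8 42) (by decide) pt8_42 (by decide)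
theorem pt8_49 : φ (cs.wordProd (word8 49)) p8 = ![0, 0, 1, -1, 0, 1, 0, -1] := pt_step A cs hA φ hφ (j := 7) (w := word8 42) (by decide) pt8_42 (by decide)
theorem pt8_50 : φ (cs.wordProd (word8 50)) p8 = ![0, -1, 0, 1, 0, -1, 1, -1] := pt_step A cs hA φ hφ (j := 7) (w := word8 43) (by decide) pt8_43 (by decide)
theorem pt8_51 : φ (cs.wordProd (word8 51)) p8 = ![0, 1, 0, 0, 0, 0, -1, 0] := pt_step A cs hA φ hφ (j := 6) (w := word8 45) (by decide) pt8_45 (by decide)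
theorem pt8_52 : φ (cs.wordProd (word8 52)) p8 = ![-1, 0, 0, 0, 0, 1, -1, 1] := pt_step A cs hA φ hφ (j := 6) (w := word8 46) (by decide) pt8_46 (by decide)
theorem pt8_53 : φ (cs.wordProd (word8 53)) p8 = ![1, 0, -1, 0, 1, -1, 0, 1] := pt_step A cs hA φ hφ (j := 5) (w := word8 47) (by decide) pt8_47 (by decide)
theorem pt8_54 : φ (cs.wordProd (word8 54)) p8 = ![1, 0, -1, 0, 0, 1, 0, -1] := pt_step A cs hA φ hφ (j := 7) (w := word8 47) (by decide) pt8_47 (by decide)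
theorem pt8_55 : φ (cs.wordProd (word8 55)) p8 = ![0, 0, 1, 0, -1, 0, 0, 1] := pt_step A cs hA φ hφ (j := 4) (w := word8 48) (by decide) pt8_48 (by decide)
theorem pt8_56 : φ (cs.wordProd (word8 56)) p8 = ![0, 0, 1, -1, 1, -1, 1, -1] := pt_step A cs hA φ hφ (j := 7) (w := word8 48) (by decide) pt8_48 (by decide)
theorem pt8_57 : φ (cs.wordProd (word8 57)) p8 = ![0, -1, 0, 1, 0, 0, -1, 0] := pt_step A cs hA φ hφ (j := 6) (w := word8 50) (by decide) pt8_50 (by decide)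
theorem pt8_58 : φ (cs.wordProd (word8 58)) p8 = ![-1, 0, 0, 0, 1, -1, 0, 1] := pt_step A cs hA φ hφ (j := 5) (w := word8 52) (by decide) pt8_52 (by decide)
theorem pt8_59 : φ (cs.wordProd (word8 59)) p8 = ![-1, 0, 0, 0, 0, 1, 0, -1] := pt_step A cs hA φ hφ (j := 7) (w := word8 52) (by decide) pt8_52 (by decide)
theorem pt8_60 : φ (cs.wordProd (word8 60)) p8 = ![1, 0, -1, 1, -1, 0, 0, 1] := pt_step A cs hA φ hφ (j := 4) (w := word8 53) (by decide) pt8_53 (by decide)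
theorem pt8_61 : φ (cs.wordProd (word8 61)) p8 = ![1, 0, -1, 0, 1, -1, 1, -1] := pt_step A cs hA φ hφ (j := 7) (w := word8 53) (by decide) pt8_53 (by decide)
theorem pt8_62 : φ (cs.wordProd (word8 62)) p8 = ![0, 0, 1, 0, -1, 0, 1, -1] := pt_step A cs hA φ hφ (j := 7) (w := word8 55) (by decide) pt8_55 (by decide)
theorem pt8_63 : φ (cs.wordProd (word8 63)) p8 = ![0, 0, 1, -1, 1, 0, -1, 0] := pt_step A cs hA φ hφ (j := 6) (w := word8 56) (by decide) pt8_56 (by decide)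
theorem pt8_64 : φ (cs.wordProd (word8 64)) p8 = ![-1, 0, 0, 1, -1, 0, 0, 1] := pt_step A cs hA φ hφ (j := 4) (w := word8 58) (by decide) pt8_58 (by decide)
theorem pt8_65 : φ (cs.wordProd (word8 65)) p8 = ![-1, 0, 0, 0, 1, -1, 1, -1] := pt_step A cs hA φ hφ (j := 7) (w := word8 58) (by decide) pt8_58 (by decide)
theorem pt8_66 : φ (cs.wordProd (word8 66)) p8 = ![1, 1, 0, -1, 0, 0, 0, 1] := pt_step A cs hA φ hφ (j := 3) (w := word8 60) (by decide) pt8_60 (by decide)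
theorem pt8_67 : φ (cs.wordProd (word8 67)) p8 = ![1, 0, -1, 1, -1, 0, 1, -1] := pt_step A cs hA φ hφ (j := 7) (w := word8 60) (by decide) pt8_60 (by decide)
theorem pt8_68 : φ (cs.wordProd (word8 68)) p8 = ![1, 0, -1, 0, 1, 0, -1, 0] := pt_step A cs hA φ hφ (j := 6) (w := word8 61) (by decide) pt8_61 (by decide)
theorem pt8_69 : φ (cs.wordProd (word8 69)) p8 = ![0, 0, 1, 0, -1, 1, -1, 0] := pt_step A cs hA φ hφ (j := 6) (w := word8 62) (by decide) pt8_62 (by decide)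
theorem pt8_70 : φ (cs.wordProd (word8 70)) p8 = ![-1, 1, 1, -1, 0, 0, 0, 1] := pt_step A cs hA φ hφ (j := 3) (w := word8 64) (by decide) pt8_64 (by decide)
theorem pt8_71 : φ (cs.wordProd (word8 71)) p8 = ![-1, 0, 0, 1, -1, 0, 1, -1] := pt_step A cs hA φ hφ (j := 7) (w := word8 64) (by decide) pt8_64 (by decide)
theorem pt8_72 : φ (cs.wordProd (word8 72)) p8 = ![-1, 0, 0, 0, 1, 0, -1, 0] := pt_step A cs hA φ hφ (j := 6) (w := word8 65) (by decide) pt8_65 (by decide)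
theorem pt8_73 : φ (cs.wordProd (word8 73)) p8 = ![1, -1, 0, 0, 0, 0, 0, 1] := pt_step A cs hA φ hφ (j := 1) (w := word8 66) (by decide) pt8_66 (by decide)
theorem pt8_74 : φ (cs.wordProd (word8 74)) p8 = ![1, 1, 0, -1, 0, 0, 1, -1] := pt_step A cs hA φ hφ (j := 7) (w := word8 66) (by decide) pt8_66 (by decide)
theorem pt8_75 : φ (cs.wordProd (word8 75)) p8 = ![1, 0, -1, 1, -1, 1, -1, 0] := pt_step A cs hA φ hφ (j := 6) (w := word8 67) (by decide) pt8_67 (by decide)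
theorem pt8_76 : φ (cs.wordProd (word8 76)) p8 = ![0, 0, 1, 0, 0, -1, 0, 0] := pt_step A cs hA φ hφ (j := 5) (w := word8 69) (by decide) pt8_69 (by decide)
theorem pt8_77 : φ (cs.wordProd (word8 77)) p8 = ![0, 1, -1, 0, 0, 0, 0, 1] := pt_step A cs hA φ hφ (j := 2) (w := word8 70) (by decide) pt8_70 (by decide)
theorem pt8_78 : φ (cs.wordProd (word8 78)) p8 = ![-1, -1, 1, 0, 0, 0, 0, 1] := pt_step A cs hA φ hφ (j := 1) (w := word8 70) (by decide) pt8_70 (by decide)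
theorem pt8_79 : φ (cs.wordProd (word8 79)) p8 = ![-1, 1, 1, -1, 0, 0, 1, -1] := pt_step A cs hA φ hφ (j := 7) (w := word8 70) (by decide) pt8_70 (by decide)
theorem pt8_80 : φ (cs.wordProd (word8 80)) p8 = ![-1, 0, 0, 1, -1, 1, -1, 0] := pt_step A cs hA φ hφ (j := 6) (w := word8 71) (by decide) pt8_71 (by decide)
theorem pt8_81 : φ (cs.wordProd (word8 81)) p8 = ![1, -1, 0, 0, 0, 0, 1, -1] := pt_step A cs hA φ hφ (j := 7) (w := word8 73) (by decide) pt8_73 (by decide)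
theorem pt8_82 : φ (cs.wordProd (word8 82)) p8 = ![1, 1, 0, -1, 0, 1, -1, 0] := pt_step A cs hA φ hφ (j := 6) (w := word8 74) (by decide) pt8_74 (by decide)
theorem pt8_83 : φ (cs.wordProd (word8 83)) p8 = ![1, 0, -1, 1, 0, -1, 0, 0] := pt_step A cs hA φ hφ (j := 5) (w := word8 75) (by decide) pt8_75 (by decide)
theorem pt8_84 : φ (cs.wordProd (word8 84)) p8 = ![0, -1, -1, 1, 0, 0, 0, 1] := pt_step A cs hA φ hφ (j := 1) (w := word8 77) (by decide) pt8_77 (by decide)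
theorem pt8_85 : φ (cs.wordProd (word8 85)) p8 = ![0, 1, -1, 0, 0, 0, 1, -1] := pt_step A cs hA φ hφ (j := 7) (w := word8 77) (by decide) pt8_77 (by decide)
theorem pt8_86 : φ (cs.wordProd (word8 86)) p8 = ![-1, -1, 1, 0, 0, 0, 1, -1] := pt_step A cs hA φ hφ (j := 7) (w := word8 78) (by decide) pt8_78 (by decide)
theorem pt8_87 : φ (cs.wordProd (word8 87)) p8 = ![-1, 1, 1, -1, 0, 1, -1, 0] := pt_step A cs hA φ hφ (j := 6) (w := word8 79) (by decide) pt8_79 (by decide)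
theorem pt8_88 : φ (cs.wordProd (word8 88)) p8 = ![-1, 0, 0, 1, 0, -1, 0, 0] := pt_step A cs hA φ hφ (j := 5) (w := word8 80) (by decide) pt8_80 (by decide)
theorem pt8_89 : φ (cs.wordProd (word8 89)) p8 = ![1, -1, 0, 0, 0, 1, -1, 0] := pt_step A cs hA φ hφ (j := 6) (w := word8 81) (by decide) pt8_81 (by decide)
theorem pt8_90 : φ (cs.wordProd (word8 90)) p8 = ![1, 1, 0, -1, 1, -1, 0, 0] := pt_step A cs hA φ hφ (j := 5) (w := word8 82) (by decide) pt8_82 (by decide)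
theorem pt8_91 : φ (cs.wordProd (word8 91)) p8 = ![0, 0, 0, -1, 1, 0, 0, 1] := pt_step A cs hA φ hφ (j := 3) (w := word8 84) (by decide) pt8_84 (by decide)
theorem pt8_92 : φ (cs.wordProd (word8 92)) p8 = ![0, -1, -1, 1, 0, 0, 1, -1] := pt_step A cs hA φ hφ (j := 7) (w := word8 84) (by decide) pt8_84 (by decide)
theorem pt8_93 : φ (cs.wordProd (word8 93)) p8 = ![0, 1, -1, 0, 0, 1, -1, 0] := pt_step A cs hA φ hφ (j := 6) (w := word8 85) (by decide) pt8_85 (by decide)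
theorem pt8_94 : φ (cs.wordProd (word8 94)) p8 = ![-1, -1, 1, 0, 0, 1, -1, 0] := pt_step A cs hA φ hφ (j := 6) (w := word8 86) (by decide) pt8_86 (by decide)
theorem pt8_95 : φ (cs.wordProd (word8 95)) p8 = ![-1, 1, 1, -1, 1, -1, 0, 0] := pt_step A cs hA φ hφ (j := 5) (w := word8 87) (by decide) pt8_87 (by decide)
theorem pt8_96 : φ (cs.wordProd (word8 96)) p8 = ![1, -1, 0, 0, 1, -1, 0, 0] := pt_step A cs hA φ hφ (j := 5) (w := word8 89) (by decide) pt8_89 (by decide)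
theorem pt8_97 : φ (cs.wordProd (word8 97)) p8 = ![1, 1, 0, 0, -1, 0, 0, 0] := pt_step A cs hA φ hφ (j := 4) (w := word8 90) (by decide) pt8_90 (by decide)
theorem pt8_98 : φ (cs.wordProd (word8 98)) p8 = ![0, 0, 0, 0, -1, 1, 0, 1] := pt_step A cs hA φ hφ (j := 4) (w := word8 91) (by decide) pt8_91 (by decide)
theorem pt8_99 : φ (cs.wordProd (word8 99)) p8 = ![0, 0, 0, -1, 1, 0, 1, -1] := pt_step A cs hA φ hφ (j := 7) (w := word8 91) (by decide) pt8_91 (by decide)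
theorem pt8_100 : φ (cs.wordProd (word8 100)) p8 = ![0, -1, -1, 1, 0, 1, -1, 0] := pt_step A cs hA φ hφ (j := 6) (w := word8 92) (by decide) pt8_92 (by decide)
theorem pt8_101 : φ (cs.wordProd (word8 101)) p8 = ![0, 1, -1, 0, 1, -1, 0, 0] := pt_step A cs hA φ hφ (j := 5) (w := word8 93) (by decide) pt8_93 (by decide)
theorem pt8_102 : φ (cs.wordProd (word8 102)) p8 = ![-1, -1, 1, 0, 1, -1, 0, 0] := pt_step A cs hA φ hφ (j := 5) (w := word8 94) (by decide) pt8_94 (by decide)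
theorem pt8_103 : φ (cs.wordProd (word8 103)) p8 = ![-1, 1, 1, 0, -1, 0, 0, 0] := pt_step A cs hA φ hφ (j := 4) (w := word8 95) (by decide) pt8_95 (by decide)
theorem pt8_104 : φ (cs.wordProd (word8 104)) p8 = ![1, -1, 0, 1, -1, 0, 0, 0] := pt_step A cs hA φ hφ (j := 4) (w := word8 96) (by decide) pt8_96 (by decide)
theorem pt8_105 : φ (cs.wordProd (word8 105)) p8 = ![0, 0, 0, 0, 0, -1, 1, 1] := pt_step A cs hA φ hφ (j := 5) (w := word8 98) (by decide) pt8_98 (by decide)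
theorem pt8_106 : φ (cs.wordProd (word8 106)) p8 = ![0, 0, 0, 0, -1, 1, 1, -1] := pt_step A cs hA φ hφ (j := 7) (w := word8 98) (by decide) pt8_98 (by decide)
theorem pt8_107 : φ (cs.wordProd (word8 107)) p8 = ![0, 0, 0, -1, 1, 1, -1, 0] := pt_step A cs hA φ hφ (j := 6) (w := word8 99) (by decide) pt8_99 (by decide)
theorem pt8_108 : φ (cs.wordProd (word8 108)) p8 = ![0, -1, -1, 1, 1, -1, 0, 0] := pt_step A cs hA φ hφ (j := 5) (w := word8 100) (by decide) pt8_100 (by decide)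
theorem pt8_109 : φ (cs.wordProd (word8 109)) p8 = ![0, 1, -1, 1, -1, 0, 0, 0] := pt_step A cs hA φ hφ (j := 4) (w := word8 101) (by decide) pt8_101 (by decide)
theorem pt8_110 : φ (cs.wordProd (word8 110)) p8 = ![-1, -1, 1, 1, -1, 0, 0, 0] := pt_step A cs hA φ hφ (j := 4) (w := word8 102) (by decide) pt8_102 (by decide)
theorem pt8_111 : φ (cs.wordProd (word8 111)) p8 = ![1, 0, 1, -1, 0, 0, 0, 0] := pt_step A cs hA φ hφ (j := 3) (w := word8 104) (by decide) pt8_104 (by decide)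
theorem pt8_112 : φ (cs.wordProd (word8 112)) p8 = ![0, 0, 0, 0, 0, 0, -1, 2] := pt_step A cs hA φ hφ (j := 6) (w := word8 105) (by decide) pt8_105 (by decide)
theorem pt8_113 : φ (cs.wordProd (word8 113)) p8 = ![0, 0, 0, 0, 0, -1, 2, -1] := pt_step A cs hA φ hφ (j := 7) (w := word8 105) (by decide) pt8_105 (by decide)
theorem pt8_114 : φ (cs.wordProd (word8 114)) p8 = ![0, 0, 0, 0, -1, 2, -1, 0] := pt_step A cs hA φ hφ (j := 6) (w := word8 106) (by decide) pt8_106 (by decide)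
theorem pt8_115 : φ (cs.wordProd (word8 115)) p8 = ![0, 0, 0, -1, 2, -1, 0, 0] := pt_step A cs hA φ hφ (j := 5) (w := word8 107) (by decide) pt8_107 (by decide)
theorem pt8_116 : φ (cs.wordProd (word8 116)) p8 = ![0, -1, -1, 2, -1, 0, 0, 0] := pt_step A cs hA φ hφ (j := 4) (w := word8 108) (by decide) pt8_108 (by decide)
theorem pt8_117 : φ (cs.wordProd (word8 117)) p8 = ![0, 2, 0, -1, 0, 0, 0, 0] := pt_step A cs hA φ hφ (j := 3) (w := word8 109) (by decide) pt8_109 (by decide)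
theorem pt8_118 : φ (cs.wordProd (word8 118)) p8 = ![-1, 0, 2, -1, 0, 0, 0, 0] := pt_step A cs hA φ hφ (j := 3) (w := word8 110) (by decide) pt8_110 (by decide)
theorem pt8_119 : φ (cs.wordProd (word8 119)) p8 = ![2, 0, -1, 0, 0, 0, 0, 0] := pt_step A cs hA φ hφ (j := 2) (w := word8 111) (by decide) pt8_111 (by decide)
theorem pt8_120 : φ (cs.wordProd (word8 120)) p8 = ![0, 0, 0, 0, 0, 0, 1, -2] := pt_step A cs hA φ hφ (j := 7) (w := word8 112) (by decide) pt8_112 (by decide)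
theorem pt8_121 : φ (cs.wordProd (word8 121)) p8 = ![0, 0, 0, 0, 0, 1, -2, 1] := pt_step A cs hA φ hφ (j := 6) (w := word8 113) (by decide) pt8_113 (by decide)
theorem pt8_122 : φ (cs.wordProd (word8 122)) p8 = ![0, 0, 0, 0, 1, -2, 1, 0] := pt_step A cs hA φ hφ (j := 5) (w := word8 114) (by decide) pt8_114 (by decide)
theorem pt8_123 : φ (cs.wordProd (word8 123)) p8 = ![0, 0, 0, 1, -2, 1, 0, 0] := pt_step A cs hA φ hφ (j := 4) (w := word8 115) (by decide) pt8_115 (by decide)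
theorem pt8_124 : φ (cs.wordProd (word8 124)) p8 = ![0, 1, 1, -2, 1, 0, 0, 0] := pt_step A cs hA φ hφ (j := 3) (w := word8 116) (by decide) pt8_116 (by decide)
theorem pt8_125 : φ (cs.wordProd (word8 125)) p8 = ![0, -2, 0, 1, 0, 0, 0, 0] := pt_step A cs hA φ hφ (j := 1) (w := word8 117) (by decide) pt8_117 (by decide)
theorem pt8_126 : φ (cs.wordProd (word8 126)) p8 = ![1, 0, -2, 1, 0, 0, 0, 0] := pt_step A cs hA φ hφ (j := 2) (w := word8 118) (by decide) pt8_118 (by decide)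
theorem pt8_127 : φ (cs.wordProd (word8 127)) p8 = ![-2, 0, 1, 0, 0, 0, 0, 0] := pt_step A cs hA φ hφ (j := 0) (w := word8 119) (by decide) pt8_119 (by decide)
theorem pt8_128 : φ (cs.wordProd (word8 128)) p8 = ![0, 0, 0, 0, 0, 1, -1, -1] := pt_step A cs hA φ hφ (j := 6) (w := word8 120) (by decide) pt8_120 (by decide)
theorem pt8_129 : φ (cs.wordProd (word8 129)) p8 = ![0, 0, 0, 0, 1, -1, -1, 1] := pt_step A cs hA φ hφ (j := 5) (w := word8 121) (by decide) pt8_121 (by decide)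
theorem pt8_130 : φ (cs.wordProd (word8 130)) p8 = ![0, 0, 0, 1, -1, -1, 1, 0] := pt_step A cs hA φ hφ (j := 4) (w := word8 122) (by decide) pt8_122 (by decide)
theorem pt8_131 : φ (cs.wordProd (word8 131)) p8 = ![0, 1, 1, -1, -1, 1, 0, 0] := pt_step A cs hA φ hφ (j := 3) (w := word8 123) (by decide) pt8_123 (by decide)
theorem pt8_132 : φ (cs.wordProd (word8 132)) p8 = ![1, 1, -1, -1, 1, 0, 0, 0] := pt_step A cs hA φ hφ (j := 2) (w := word8 124) (by decide) pt8_124 (by decide)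
theorem pt8_133 : φ (cs.wordProd (word8 133)) p8 = ![0, -1, 1, -1, 1, 0, 0, 0] := pt_step A cs hA φ hφ (j := 1) (w := word8 124) (by decide) pt8_124 (by decide)
theorem pt8_134 : φ (cs.wordProd (word8 134)) p8 = ![-1, 0, -1, 1, 0, 0, 0, 0] := pt_step A cs hA φ hφ (j := 0) (w := word8 126) (by decide) pt8_126 (by decide)
theorem pt8_135 : φ (cs.wordProd (word8 135)) p8 = ![0, 0, 0, 0, 1, -1, 0, -1] := pt_step A cs hA φ hφ (j := 5) (w := word8 128) (by decide) pt8_128 (by decide)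
theorem pt8_136 : φ (cs.wordProd (word8 136)) p8 = ![0, 0, 0, 1, -1, 0, -1, 1] := pt_step A cs hA φ hφ (j := 4) (w := word8 129) (by decide) pt8_129 (by decide)
theorem pt8_137 : φ (cs.wordProd (word8 137)) p8 = ![0, 1, 1, -1, 0, -1, 1, 0] := pt_step A cs hA φ hφ (j := 3) (w := word8 130) (by decide) pt8_130 (by decide)
theorem pt8_138 : φ (cs.wordProd (word8 138)) p8 = ![1, 1, -1, 0, -1, 1, 0, 0] := pt_step A cs hA φ hφ (j := 2) (w := word8 131) (by decide) pt8_131 (by decide)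
theorem pt8_139 : φ (cs.wordProd (word8 139)) p8 = ![0, -1, 1, 0, -1, 1, 0, 0] := pt_step A cs hA φ hφ (j := 1) (w := word8 131) (by decide) pt8_131 (by decide)
theorem pt8_140 : φ (cs.wordProd (word8 140)) p8 = ![-1, 1, 0, -1, 1, 0, 0, 0] := pt_step A cs hA φ hφ (j := 0) (w := word8 132) (by decide) pt8_132 (by decide)
theorem pt8_141 : φ (cs.wordProd (word8 141)) p8 = ![1, -1, -1, 0, 1, 0, 0, 0] := pt_step A cs hA φ hφ (j := 1) (w := word8 132) (by decide) pt8_132 (by decide)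
theorem pt8_142 : φ (cs.wordProd (word8 142)) p8 = ![0, 0, 0, 1, -1, 0, 0, -1] := pt_step A cs hA φ hφ (j := 4) (w := word8 135) (by decide) pt8_135 (by decide)
theorem pt8_143 : φ (cs.wordProd (word8 143)) p8 = ![0, 1, 1, -1, 0, 0, -1, 1] := pt_step A cs hA φ hφ (j := 3) (w := word8 136) (by decide) pt8_136 (by decide)
theorem pt8_144 : φ (cs.wordProd (word8 144)) p8 = ![1, 1, -1, 0, 0, -1, 1, 0] := pt_step A cs hA φ hφ (j := 2) (w := word8 137) (by decide) pt8_137 (by decide)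
theorem pt8_145 : φ (cs.wordProd (word8 145)) p8 = ![0, -1, 1, 0, 0, -1, 1, 0] := pt_step A cs hA φ hφ (j := 1) (w := word8 137) (by decide) pt8_137 (by decide)
theorem pt8_146 : φ (cs.wordProd (word8 146)) p8 = ![-1, 1, 0, 0, -1, 1, 0, 0] := pt_step A cs hA φ hφ (j := 0) (w := word8 138) (by decide) pt8_138 (by decide)
theorem pt8_147 : φ (cs.wordProd (word8 147)) p8 = ![1, -1, -1, 1, -1, 1, 0, 0] := pt_step A cs hA φ hφ (j := 1) (w := word8 138) (by decide) pt8_138 (by decide)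
theorem pt8_148 : φ (cs.wordProd (word8 148)) p8 = ![-1, -1, 0, 0, 1, 0, 0, 0] := pt_step A cs hA φ hφ (j := 1) (w := word8 140) (by decide) pt8_140 (by decide)
theorem pt8_149 : φ (cs.wordProd (word8 149)) p8 = ![0, 1, 1, -1, 0, 0, 0, -1] := pt_step A cs hA φ hφ (j := 3) (w := word8 142) (by decide) pt8_142 (by decide)
theorem pt8_150 : φ (cs.wordProd (word8 150)) p8 = ![1, 1, -1, 0, 0, 0, -1, 1] := pt_step A cs hA φ hφ (j := 2) (w := word8 143) (by decide) pt8_143 (by decide)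
theorem pt8_151 : φ (cs.wordProd (word8 151)) p8 = ![0, -1, 1, 0, 0, 0, -1, 1] := pt_step A cs hA φ hφ (j := 1) (w := word8 143) (by decide) pt8_143 (by decide)
theorem pt8_152 : φ (cs.wordProd (word8 152)) p8 = ![-1, 1, 0, 0, 0, -1, 1, 0] := pt_step A cs hA φ hφ (j := 0) (w := word8 144) (by decide) pt8_144 (by decide)
theorem pt8_153 : φ (cs.wordProd (word8 153)) p8 = ![1, -1, -1, 1, 0, -1, 1, 0] := pt_step A cs hA φ hφ (j := 1) (w := word8 144) (by decide) pt8_144 (by decide)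
theorem pt8_154 : φ (cs.wordProd (word8 154)) p8 = ![-1, -1, 0, 1, -1, 1, 0, 0] := pt_step A cs hA φ hφ (j := 1) (w := word8 146) (by decide) pt8_146 (by decide)
theorem pt8_155 : φ (cs.wordProd (word8 155)) p8 = ![1, 0, 0, -1, 0, 1, 0, 0] := pt_step A cs hA φ hφ (j := 3) (w := word8 147) (by decide) pt8_147 (by decide)
theorem pt8_156 : φ (cs.wordProd (word8 156)) p8 = ![1, 1, -1, 0, 0, 0, 0, -1] := pt_step A cs hA φ hφ (j := 2) (w := word8 149) (by decide) pt8_149 (by decide)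
theorem pt8_157 : φ (cs.wordProd (word8 157)) p8 = ![0, -1, 1, 0, 0, 0, 0, -1] := pt_step A cs hA φ hφ (j := 1) (w := word8 149) (by decide) pt8_149 (by decide)
theorem pt8_158 : φ (cs.wordProd (word8 158)) p8 = ![-1, 1, 0, 0, 0, 0, -1, 1] := pt_step A cs hA φ hφ (j := 0) (w := word8 150) (by decide) pt8_150 (by decide)
theorem pt8_159 : φ (cs.wordProd (word8 159)) p8 = ![1, -1, -1, 1, 0, 0, -1, 1] := pt_step A cs hA φ hφ (j := 1) (w := word8 150) (by decide) pt8_150 (by decide)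
theorem pt8_160 : φ (cs.wordProd (word8 160)) p8 = ![-1, -1, 0, 1, 0, -1, 1, 0] := pt_step A cs hA φ hφ (j := 1) (w := word8 152) (by decide) pt8_152 (by decide)
theorem pt8_161 : φ (cs.wordProd (word8 161)) p8 = ![1, 0, 0, -1, 1, -1, 1, 0] := pt_step A cs hA φ hφ (j := 3) (w := word8 153) (by decide) pt8_153 (by decide)
theorem pt8_162 : φ (cs.wordProd (word8 162)) p8 = ![-1, 0, 1, -1, 0, 1, 0, 0] := pt_step A cs hA φ hφ (j := 3) (w := word8 154) (by decide) pt8_154 (by decide)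
theorem pt8_163 : φ (cs.wordProd (word8 163)) p8 = ![-1, 1, 0, 0, 0, 0, 0, -1] := pt_step A cs hA φ hφ (j := 0) (w := word8 156) (by decide) pt8_156 (by decide)
theorem pt8_164 : φ (cs.wordProd (word8 164)) p8 = ![1, -1, -1, 1, 0, 0, 0, -1] := pt_step A cs hA φ hφ (j := 1) (w := word8 156) (by decide) pt8_156 (by decide)
theorem pt8_165 : φ (cs.wordProd (word8 165)) p8 = ![-1, -1, 0, 1, 0, 0, -1, 1] := pt_step A cs hA φ hφ (j := 1) (w := word8 158) (by decide) pt8_158 (by decide)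
theorem pt8_166 : φ (cs.wordProd (word8 166)) p8 = ![1, 0, 0, -1, 1, 0, -1, 1] := pt_step A cs hA φ hφ (j := 3) (w := word8 159) (by decide) pt8_159 (by decide)
theorem pt8_167 : φ (cs.wordProd (word8 167)) p8 = ![-1, 0, 1, -1, 1, -1, 1, 0] := pt_step A cs hA φ hφ (j := 3) (w := word8 160) (by decide) pt8_160 (by decide)
theorem pt8_168 : φ (cs.wordProd (word8 168)) p8 = ![1, 0, 0, 0, -1, 0, 1, 0] := pt_step A cs hA φ hφ (j := 4) (w := word8 161) (by decide) pt8_161 (by decide)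
theorem pt8_169 : φ (cs.wordProd (word8 169)) p8 = ![0, 0, -1, 0, 0, 1, 0, 0] := pt_step A cs hA φ hφ (j := 2) (w := word8 162) (by decide) pt8_162 (by decide)
theorem pt8_170 : φ (cs.wordProd (word8 170)) p8 = ![-1, -1, 0, 1, 0, 0, 0, -1] := pt_step A cs hA φ hφ (j := 1) (w := word8 163) (by decide) pt8_163 (by decide)
theorem pt8_171 : φ (cs.wordProd (word8 171)) p8 = ![1, 0, 0, -1, 1, 0, 0, -1] := pt_step A cs hA φ hφ (j := 3) (w := word8 164) (by decide) pt8_164 (by decide)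
theorem pt8_172 : φ (cs.wordProd (word8 172)) p8 = ![-1, 0, 1, -1, 1, 0, -1, 1] := pt_step A cs hA φ hφ (j := 3) (w := word8 165) (by decide) pt8_165 (by decide)
theorem pt8_173 : φ (cs.wordProd (word8 173)) p8 = ![1, 0, 0, 0, -1, 1, -1, 1] := pt_step A cs hA φ hφ (j := 4) (w := word8 166) (by decide) pt8_166 (by decide)
theorem pt8_174 : φ (cs.wordProd (word8 174)) p8 = ![0, 0, -1, 0, 1, -1, 1, 0] := pt_step A cs hA φ hφ (j := 2) (w := word8 167) (by decide) pt8_167 (by decide)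
theorem pt8_175 : φ (cs.wordProd (word8 175)) p8 = ![-1, 0, 1, 0, -1, 0, 1, 0] := pt_step A cs hA φ hφ (j := 4) (w := word8 167) (by decide) pt8_167 (by decide)
theorem pt8_176 : φ (cs.wordProd (word8 176)) p8 = ![-1, 0, 1, -1, 1, 0, 0, -1] := pt_step A cs hA φ hφ (j := 3) (w := word8 170) (by decide) pt8_170 (by decide)
theorem pt8_177 : φ (cs.wordProd (word8 177)) p8 = ![1, 0, 0, 0, -1, 1, 0, -1] := pt_step A cs hA φ hφ (j := 4) (w := word8 171) (by decide) pt8_171 (by decide)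
theorem pt8_178 : φ (cs.wordProd (word8 178)) p8 = ![0, 0, -1, 0, 1, 0, -1, 1] := pt_step A cs hA φ hφ (j := 2) (w := word8 172) (by decide) pt8_172 (by decide)
theorem pt8_179 : φ (cs.wordProd (word8 179)) p8 = ![-1, 0, 1, 0, -1, 1, -1, 1] := pt_step A cs hA φ hφ (j := 4) (w := word8 172) (by decide) pt8_172 (by decide)
theorem pt8_180 : φ (cs.wordProd (word8 180)) p8 = ![1, 0, 0, 0, 0, -1, 0, 1] := pt_step A cs hA φ hφ (j := 5) (w := word8 173) (by decide) pt8_173 (by decide)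
theorem pt8_181 : φ (cs.wordProd (word8 181)) p8 = ![0, 0, -1, 1, -1, 0, 1, 0] := pt_step A cs hA φ hφ (j := 4) (w := word8 174) (by decide) pt8_174 (by decide)
theorem pt8_182 : φ (cs.wordProd (word8 182)) p8 = ![0, 0, -1, 0, 1, 0, 0, -1] := pt_step A cs hA φ hφ (j := 2) (w := word8 176) (by decide) pt8_176 (by decide)
theorem pt8_183 : φ (cs.wordProd (word8 183)) p8 = ![-1, 0, 1, 0, -1, 1, 0, -1] := pt_step A cs hA φ hφ (j := 4) (w := word8 176) (by decide) pt8_176 (by decide)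
theorem pt8_184 : φ (cs.wordProd (word8 184)) p8 = ![1, 0, 0, 0, 0, -1, 1, -1] := pt_step A cs hA φ hφ (j := 5) (w := word8 177) (by decide) pt8_177 (by decide)
theorem pt8_185 : φ (cs.wordProd (word8 185)) p8 = ![0, 0, -1, 1, -1, 1, -1, 1] := pt_step A cs hA φ hφ (j := 4) (w := word8 178) (by decide) pt8_178 (by decide)
theorem pt8_186 : φ (cs.wordProd (word8 186)) p8 = ![-1, 0, 1, 0, 0, -1, 0, 1] := pt_step A cs hA φ hφ (j := 5) (w := word8 179) (by decide) pt8_179 (by decide)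
theorem pt8_187 : φ (cs.wordProd (word8 187)) p8 = ![0, 1, 0, -1, 0, 0, 1, 0] := pt_step A cs hA φ hφ (j := 3) (w := word8 181) (by decide) pt8_181 (by decide)
theorem pt8_188 : φ (cs.wordProd (word8 188)) p8 = ![0, 0, -1, 1, -1, 1, 0, -1] := pt_step A cs hA φ hφ (j := 4) (w := word8 182) (by decide) pt8_182 (by decide)
theorem pt8_189 : φ (cs.wordProd (word8 189)) p8 = ![-1, 0, 1, 0, 0, -1, 1, -1] := pt_step A cs hA φ hφ (j := 5) (w := word8 183) (by decide) pt8_183 (by decide)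
theorem pt8_190 : φ (cs.wordProd (word8 190)) p8 = ![1, 0, 0, 0, 0, 0, -1, 0] := pt_step A cs hA φ hφ (j := 6) (w := word8 184) (by decide) pt8_184 (by decide)
theorem pt8_191 : φ (cs.wordProd (word8 191)) p8 = ![0, 1, 0, -1, 0, 1, -1, 1] := pt_step A cs hA φ hφ (j := 3) (w := word8 185) (by decide) pt8_185 (by decide)
theorem pt8_192 : φ (cs.wordProd (word8 192)) p8 = ![0, 0, -1, 1, 0, -1, 0, 1] := pt_step A cs hA φ hφ (j := 5) (w := word8 185) (by decide) pt8_185 (by decide)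
theorem pt8_193 : φ (cs.wordProd (word8 193)) p8 = ![0, -1, 0, 0, 0, 0, 1, 0] := pt_step A cs hA φ hφ (j := 1) (w := word8 187) (by decide) pt8_187 (by decide)
theorem pt8_194 : φ (cs.wordProd (word8 194)) p8 = ![0, 1, 0, -1, 0, 1, 0, -1] := pt_step A cs hA φ hφ (j := 3) (w := word8 188) (by decide) pt8_188 (by decide)
theorem pt8_195 : φ (cs.wordProd (word8 195)) p8 = ![0, 0, -1, 1, 0, -1, 1, -1] := pt_step A cs hA φ hφ (j := 5) (w := word8 188) (by decide) pt8_188 (by decide)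
theorem pt8_196 : φ (cs.wordProd (word8 196)) p8 = ![-1, 0, 1, 0, 0, 0, -1, 0] := pt_step A cs hA φ hφ (j := 6) (w := word8 189) (by decide) pt8_189 (by decide)
theorem pt8_197 : φ (cs.wordProd (word8 197)) p8 = ![0, -1, 0, 0, 0, 1, -1, 1] := pt_step A cs hA φ hφ (j := 1) (w := word8 191) (by decide) pt8_191 (by decide)
theorem pt8_198 : φ (cs.wordProd (word8 198)) p8 = ![0, 1, 0, -1, 1, -1, 0, 1] := pt_step A cs hA φ hφ (j := 5) (w := word8 191) (by decide) pt8_191 (by decide)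
theorem pt8_199 : φ (cs.wordProd (word8 199)) p8 = ![0, -1, 0, 0, 0, 1, 0, -1] := pt_step A cs hA φ hφ (j := 1) (w := word8 194) (by decide) pt8_194 (by decide)
theorem pt8_200 : φ (cs.wordProd (word8 200)) p8 = ![0, 1, 0, -1, 1, -1, 1, -1] := pt_step A cs hA φ hφ (j := 5) (w := word8 194) (by decide) pt8_194 (by decide)
theorem pt8_201 : φ (cs.wordProd (word8 201)) p8 = ![0, 0, -1, 1, 0, 0, -1, 0] := pt_step A cs hA φ hφ (j := 6) (w := word8 195) (by decide) pt8_195 (by decide)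
theorem pt8_202 : φ (cs.wordProd (word8 202)) p8 = ![0, -1, 0, 0, 1, -1, 0, 1] := pt_step A cs hA φ hφ (j := 5) (w := word8 197) (by decide) pt8_197 (by decide)
theorem pt8_203 : φ (cs.wordProd (word8 203)) p8 = ![0, 1, 0, 0, -1, 0, 0, 1] := pt_step A cs hA φ hφ (j := 4) (w := word8 198) (by decide) pt8_198 (by decide)
theorem pt8_204 : φ (cs.wordProd (word8 204)) p8 = ![0, -1, 0, 0, 1, -1, 1, -1] := pt_step A cs hA φ hφ (j := 5) (w := word8 199) (by decide) pt8_199 (by decide)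
theorem pt8_205 : φ (cs.wordProd (word8 205)) p8 = ![0, 1, 0, 0, -1, 0, 1, -1] := pt_step A cs hA φ hφ (j := 4) (w := word8 200) (by decide) pt8_200 (by decide)
theorem pt8_206 : φ (cs.wordProd (word8 206)) p8 = ![0, 1, 0, -1, 1, 0, -1, 0] := pt_step A cs hA φ hφ (j := 6) (w := word8 200) (by decide) pt8_200 (by decide)
theorem pt8_207 : φ (cs.wordProd (word8 207)) p8 = ![0, -1, 0, 1, -1, 0, 0, 1] := pt_step A cs hA φ hφ (j := 4) (w := word8 202) (by decide) pt8_202 (by decide)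
theorem pt8_208 : φ (cs.wordProd (word8 208)) p8 = ![0, -1, 0, 1, -1, 0, 1, -1] := pt_step A cs hA φ hφ (j := 4) (w := word8 204) (by decide) pt8_204 (by decide)
theorem pt8_209 : φ (cs.wordProd (word8 209)) p8 = ![0, -1, 0, 0, 1, 0, -1, 0] := pt_step A cs hA φ hφ (j := 6) (w := word8 204) (by decide) pt8_204 (by decide)
theorem pt8_210 : φ (cs.wordProd (word8 210)) p8 = ![0, 1, 0, 0, -1, 1, -1, 0] := pt_step A cs hA φ hφ (j := 6) (w := word8 205) (by decide) pt8_205 (by decide)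
theorem pt8_211 : φ (cs.wordProd (word8 211)) p8 = ![0, 0, 1, -1, 0, 0, 0, 1] := pt_step A cs hA φ hφ (j := 3) (w := word8 207) (by decide) pt8_207 (by decide)
theorem pt8_212 : φ (cs.wordProd (word8 212)) p8 = ![0, 0, 1, -1, 0, 0, 1, -1] := pt_step A cs hA φ hφ (j := 3) (w := word8 208) (by decide) pt8_208 (by decide)
theorem pt8_213 : φ (cs.wordProd (word8 213)) p8 = ![0, -1, 0, 1, -1, 1, -1, 0] := pt_step A cs hA φ hφ (j := 6) (w := word8 208) (by decide) pt8_208 (by decide)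
theorem pt8_214 : φ (cs.wordProd (word8 214)) p8 = ![0, 1, 0, 0, 0, -1, 0, 0] := pt_step A cs hA φ hφ (j := 5) (w := word8 210) (by decide) pt8_210 (by decide)
theorem pt8_215 : φ (cs.wordProd (word8 215)) p8 = ![1, 0, -1, 0, 0, 0, 0, 1] := pt_step A cs hA φ hφ (j := 2) (w := word8 211) (by decide) pt8_211 (by decide)
theorem pt8_216 : φ (cs.wordProd (word8 216)) p8 = ![1, 0, -1, 0, 0, 0, 1, -1] := pt_step A cs hA φ hφ (j := 2) (w := word8 212) (by decide) pt8_212 (by decide)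
theorem pt8_217 : φ (cs.wordProd (word8 217)) p8 = ![0, 0, 1, -1, 0, 1, -1, 0] := pt_step A cs hA φ hφ (j := 6) (w := word8 212) (by decide) pt8_212 (by decide)
theorem pt8_218 : φ (cs.wordProd (word8 218)) p8 = ![0, -1, 0, 1, 0, -1, 0, 0] := pt_step A cs hA φ hφ (j := 5) (w := word8 213) (by decide) pt8_213 (by decide)
theorem pt8_219 : φ (cs.wordProd (word8 219)) p8 = ![-1, 0, 0, 0, 0, 0, 0, 1] := pt_step A cs hA φ hφ (j := 0) (w := word8 215) (by decide) pt8_215 (by decide)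
theorem pt8_220 : φ (cs.wordProd (word8 220)) p8 = ![-1, 0, 0, 0, 0, 0, 1, -1] := pt_step A cs hA φ hφ (j := 0) (w := word8 216) (by decide) pt8_216 (by decide)
theorem pt8_221 : φ (cs.wordProd (word8 221)) p8 = ![1, 0, -1, 0, 0, 1, -1, 0] := pt_step A cs hA φ hφ (j := 6) (w := word8 216) (by decide) pt8_216 (by decide)
theorem pt8_222 : φ (cs.wordProd (word8 222)) p8 = ![0, 0, 1, -1, 1, -1, 0, 0] := pt_step A cs hA φ hφ (j := 5) (w := word8 217) (by decide) pt8_217 (by decide)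
theorem pt8_223 : φ (cs.wordProd (word8 223)) p8 = ![-1, 0, 0, 0, 0, 1, -1, 0] := pt_step A cs hA φ hφ (j := 6) (w := word8 220) (by decide) pt8_220 (by decide)
theorem pt8_224 : φ (cs.wordProd (word8 224)) p8 = ![1, 0, -1, 0, 1, -1, 0, 0] := pt_step A cs hA φ hφ (j := 5) (w := word8 221) (by decide) pt8_221 (by decide)
theorem pt8_225 : φ (cs.wordProd (word8 225)) p8 = ![0, 0, 1, 0, -1, 0, 0, 0] := pt_step A cs hA φ hφ (j := 4) (w := word8 222) (by decide) pt8_222 (by decide)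
theorem pt8_226 : φ (cs.wordProd (word8 226)) p8 = ![-1, 0, 0, 0, 1, -1, 0, 0] := pt_step A cs hA φ hφ (j := 5) (w := word8 223) (by decide) pt8_223 (by decide)
theorem pt8_227 : φ (cs.wordProd (word8 227)) p8 = ![1, 0, -1, 1, -1, 0, 0, 0] := pt_step A cs hA φ hφ (j := 4) (w := word8 224) (by decide) pt8_224 (by decide)
theorem pt8_228 : φ (cs.wordProd (word8 228)) p8 = ![-1, 0, 0, 1, -1, 0, 0, 0] := pt_step A cs hA φ hφ (j := 4) (w := word8 226) (by decide) pt8_226 (by decide)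
theorem pt8_229 : φ (cs.wordProd (word8 229)) p8 = ![1, 1, 0, -1, 0, 0, 0, 0] := pt_step A cs hA φ hφ (j := 3) (w := word8 227) (by decide) pt8_227 (by decide)
theorem pt8_230 : φ (cs.wordProd (word8 230)) p8 = ![-1, 1, 1, -1, 0, 0, 0, 0] := pt_step A cs hA φ hφ (j := 3) (w := word8 228) (by decide) pt8_228 (by decide)
theorem pt8_231 : φ (cs.wordProd (word8 231)) p8 = ![1, -1, 0, 0, 0, 0, 0, 0] := pt_step A cs hA φ hφ (j := 1) (w := word8 229) (by decide) pt8_229 (by decide)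
theorem pt8_232 : φ (cs.wordProd (word8 232)) p8 = ![0, 1, -1, 0, 0, 0, 0, 0] := pt_step A cs hA φ hφ (j := 2) (w := word8 230) (by decide) pt8_230 (by decide)
theorem pt8_233 : φ (cs.wordProd (word8 233)) p8 = ![-1, -1, 1, 0, 0, 0, 0, 0] := pt_step A cs hA φ hφ (j := 1) (w := word8 230) (by decide) pt8_230 (by decide)
theorem pt8_234 : φ (cs.wordProd (word8 234)) p8 = ![0, -1, -1, 1, 0, 0, 0, 0] := pt_step A cs hA φ hφ (j := 1) (w := word8 232) (by decide) pt8_232 (by decide)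
theorem pt8_235 : φ (cs.wordProd (word8 235)) p8 = ![0, 0, 0, -1, 1, 0, 0, 0] := pt_step A cs hA φ hφ (j := 3) (w := word8 234) (by decide) pt8_234 (by decide)
theorem pt8_236 : φ (cs.wordProd (word8 236)) p8 = ![0, 0, 0, 0, -1, 1, 0, 0] := pt_step A cs hA φ hφ (j := 4) (w := word8 235) (by decide) pt8_235 (by decide)
theorem pt8_237 : φ (cs.wordProd (word8 237)) p8 = ![0, 0, 0, 0, 0, -1, 1, 0] := pt_step A cs hA φ hφ (j := 5) (w := word8 236) (by decide) pt8_236 (by decide)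
theorem pt8_238 : φ (cs.wordProd (word8 238)) p8 = ![0, 0, 0, 0, 0, 0, -1, 1] := pt_step A cs hA φ hφ (j := 6) (w := word8 237) (by decide) pt8_237 (by decide)
theorem pt8_239 : φ (cs.wordProd (word8 239)) p8 = ![0, 0, 0, 0, 0, 0, 0, -1] := pt_step A cs hA φ hφ (j := 7) (w := word8 238) (by decide) pt8_238 (by decide)
theorem key8_0 : key (φ (cs.wordProd (word8 0)) p8) = keys8.getD 0 0 := by rw [pt8_0]; decide
theorem key8_1 : key (φ (cs.wordProd (word8 1)) p8) = keys8.getD 1 0 := by rw [pt8_1]; decide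
theorem key8_2 : key (φ (cs.wordProd (word8 2)) p8) = keys8.getD 2 0 := by rw [pt8_2]; decide
theorem key8_3 : key (φ (cs.wordProd (word8 3)) p8) = keys8.getD 3 0 := by rw [pt8_3]; decide
theorem key8_4 : key (φ (cs.wordProd (word8 4)) p8) = keys8.getD 4 0 := by rw [pt8_4]; decide
theorem key8_5 : key (φ (cs.wordProd (word8 5)) p8) = keys8.getD 5 0 := by rw [pt8_5]; decide
theorem key8_6 : key (φ (cs.wordProd (word8 6)) p8) = keys8.getD 6 0 := by rw [pt8_6]; decide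
theorem key8_7 : key (φ (cs.wordProd (word8 7)) p8) = keys8.getD 7 0 := by rw [pt8_7]; decide
theorem key8_8 : key (φ (cs.wordProd (word8 8)) p8) = keys8.getD 8 0 := by rw [pt8_8]; decide
theorem key8_9 : key (φ (cs.wordProd (word8 9)) p8) = keys8.getD 9 0 := by rw [pt8_9]; decide
theorem key8_10 : key (φ (cs.wordProd (word8 10)) p8) = keys8.getD 10 0 := by rw [pt8_10]; decide
theorem key8_11 : key (φ (cs.wordProd (word8 11)) p8) = keys8.getD 11 0 := by rw [pt8_11]; decide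
theorem key8_12 : key (φ (cs.wordProd (word8 12)) p8) = keys8.getD 12 0 := by rw [pt8_12]; decide
theorem key8_13 : key (φ (cs.wordProd (word8 13)) p8) = keys8.getD 13 0 := by rw [pt8_13]; decide
theorem key8_14 : key (φ (cs.wordProd (word8 14)) p8) = keys8.getD 14 0 := by rw [pt8_14]; decide
theorem key8_15 : key (φ (cs.wordProd (word8 15)) p8) = keys8.getD 15 0 := by rw [pt8_15]; decide
theorem key8_16 : key (φ (cs.wordProd (word8 16)) p8) = keys8.getD 16 0 := by rw [pt8_16]; decide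
theorem key8_17 : key (φ (cs.wordProd (word8 17)) p8) = keys8.getD 17 0 := by rw [pt8_17]; decide
theorem key8_18 : key (φ (cs.wordProd (word8 18)) p8) = keys8.getD 18 0 := by rw [pt8_18]; decide
theorem key8_19 : key (φ (cs.wordProd (word8 19)) p8) = keys8.getD 19 0 := by rw [pt8_19]; decide
theorem key8_20 : key (φ (cs.wordProd (word8 20)) p8) = keys8.getD 20 0 := by rw [pt8_20]; decide
theorem key8_21 : key (φ (cs.wordProd (word8 21)) p8) = keys8.getD 21 0 := by rw [pt8_21]; decide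
theorem key8_22 : key (φ (cs.wordProd (word8 22)) p8) = keys8.getD 22 0 := by rw [pt8_22]; decide
theorem key8_23 : key (φ (cs.wordProd (word8 23)) p8) = keys8.getD 23 0 := by rw [pt8_23]; decide
theorem key8_24 : key (φ (cs.wordProd (word8 24)) p8) = keys8.getD 24 0 := by rw [pt8_24]; decide
theorem key8_25 : key (φ (cs.wordProd (word8 25)) p8) = keys8.getD 25 0 := by rw [pt8_25]; decide
theorem key8_26 : key (φ (cs.wordProd (word8 26)) p8) = keys8.getD 26 0 := by rw [pt8_26]; decide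
theorem key8_27 : key (φ (cs.wordProd (word8 27)) p8) = keys8.getD 27 0 := by rw [pt8_27]; decide
theorem key8_28 : key (φ (cs.wordProd (word8 28)) p8) = keys8.getD 28 0 := by rw [pt8_28]; decide
theorem key8_29 : key (φ (cs.wordProd (word8 29)) p8) = keys8.getD 29 0 := by rw [pt8_29]; decide
theorem key8_30 : key (φ (cs.wordProd (word8 30)) p8) = keys8.getD 30 0 := by rw [pt8_30]; decide
theorem key8_31 : key (φ (cs.wordProd (word8 31)) p8) = keys8.getD 31 0 := by rw [pt8_31]; decide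
theorem key8_32 : key (φ (cs.wordProd (word8 32)) p8) = keys8.getD 32 0 := by rw [pt8_32]; decide
theorem key8_33 : key (φ (cs.wordProd (word8 33)) p8) = keys8.getD 33 0 := by rw [pt8_33]; decide
theorem key8_34 : key (φ (cs.wordProd (word8 34)) p8) = keys8.getD 34 0 := by rw [pt8_34]; decide
theorem key8_35 : key (φ (cs.wordProd (word8 35)) p8) = keys8.getD 35 0 := by rw [pt8_35]; decide
theorem key8_36 : key (φ (cs.wordProd (word8 36)) p8) = keys8.getD 36 0 := by rw [pt8_36]; decide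
theorem key8_37 : key (φ (cs.wordProd (word8 37)) p8) = keys8.getD 37 0 := by rw [pt8_37]; decide
theorem key8_38 : key (φ (cs.wordProd (word8 38)) p8) = keys8.getD 38 0 := by rw [pt8_38]; decide
theorem key8_39 : key (φ (cs.wordProd (word8 39)) p8) = keys8.getD 39 0 := by rw [pt8_39]; decide
theorem key8_40 : key (φ (cs.wordProd (word8 40)) p8) = keys8.getD 40 0 := by rw [pt8_40]; decide
theorem key8_41 : key (φ (cs.wordProd (word8 41)) p8) = keys8.getD 41 0 := by rw [pt8_41]; decide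
theorem key8_42 : key (φ (cs.wordProd (word8 42)) p8) = keys8.getD 42 0 := by rw [pt8_42]; decide
theorem key8_43 : key (φ (cs.wordProd (word8 43)) p8) = keys8.getD 43 0 := by rw [pt8_43]; decide
theorem key8_44 : key (φ (cs.wordProd (word8 44)) p8) = keys8.getD 44 0 := by rw [pt8_44]; decide
theorem key8_45 : key (φ (cs.wordProd (word8 45)) p8) = keys8.getD 45 0 := by rw [pt8_45]; decide
theorem key8_46 : key (φ (cs.wordProd (word8 46)) p8) = keys8.getD 46 0 := by rw [pt8_46]; decide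
theorem key8_47 : key (φ (cs.wordProd (word8 47)) p8) = keys8.getD 47 0 := by rw [pt8_47]; decide
theorem key8_48 : key (φ (cs.wordProd (word8 48)) p8) = keys8.getD 48 0 := by rw [pt8_48]; decide
theorem key8_49 : key (φ (cs.wordProd (word8 49)) p8) = keys8.getD 49 0 := by rw [pt8_49]; decide
theorem key8_50 : key (φ (cs.wordProd (word8 50)) p8) = keys8.getD 50 0 := by rw [pt8_50]; decide
theorem key8_51 : key (φ (cs.wordProd (word8 51)) p8) = keys8.getD 51 0 := by rw [pt8_51]; decide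
theorem key8_52 : key (φ (cs.wordProd (word8 52)) p8) = keys8.getD 52 0 := by rw [pt8_52]; decide
theorem key8_53 : key (φ (cs.wordProd (word8 53)) p8) = keys8.getD 53 0 := by rw [pt8_53]; decide
theorem key8_54 : key (φ (cs.wordProd (word8 54)) p8) = keys8.getD 54 0 := by rw [pt8_54]; decide
theorem key8_55 : key (φ (cs.wordProd (word8 55)) p8) = keys8.getD 55 0 := by rw [pt8_55]; decide
theorem key8_56 : key (φ (cs.wordProd (word8 56)) p8) = keys8.getD 56 0 := by rw [pt8_56]; decide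
theorem key8_57 : key (φ (cs.wordProd (word8 57)) p8) = keys8.getD 57 0 := by rw [pt8_57]; decide
theorem key8_58 : key (φ (cs.wordProd (word8 58)) p8) = keys8.getD 58 0 := by rw [pt8_58]; decide
theorem key8_59 : key (φ (cs.wordProd (word8 59)) p8) = keys8.getD 59 0 := by rw [pt8_59]; decide
theorem key8_60 : key (φ (cs.wordProd (word8 60)) p8) = keys8.getD 60 0 := by rw [pt8_60]; decide
theorem key8_61 : key (φ (cs.wordProd (word8 61)) p8) = keys8.getD 61 0 := by rw [pt8_61]; decide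
theorem key8_62 : key (φ (cs.wordProd (word8 62)) p8) = keys8.getD 62 0 := by rw [pt8_62]; decide
theorem key8_63 : key (φ (cs.wordProd (word8 63)) p8) = keys8.getD 63 0 := by rw [pt8_63]; decide
theorem key8_64 : key (φ (cs.wordProd (word8 64)) p8) = keys8.getD 64 0 := by rw [pt8_64]; decide
theorem key8_65 : key (φ (cs.wordProd (word8 65)) p8) = keys8.getD 65 0 := by rw [pt8_65]; decide
theorem key8_66 : key (φ (cs.wordProd (word8 66)) p8) = keys8.getD 66 0 := by rw [pt8_66]; decide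
theorem key8_67 : key (φ (cs.wordProd (word8 67)) p8) = keys8.getD 67 0 := by rw [pt8_67]; decide
theorem key8_68 : key (φ (cs.wordProd (word8 68)) p8) = keys8.getD 68 0 := by rw [pt8_68]; decide
theorem key8_69 : key (φ (cs.wordProd (word8 69)) p8) = keys8.getD 69 0 := by rw [pt8_69]; decide
theorem key8_70 : key (φ (cs.wordProd (word8 70)) p8) = keys8.getD 70 0 := by rw [pt8_70]; decide
theorem key8_71 : key (φ (cs.wordProd (word8 71)) p8) = keys8.getD 71 0 := by rw [pt8_71]; decide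
theorem key8_72 : key (φ (cs.wordProd (word8 72)) p8) = keys8.getD 72 0 := by rw [pt8_72]; decide
theorem key8_73 : key (φ (cs.wordProd (word8 73)) p8) = keys8.getD 73 0 := by rw [pt8_73]; decide
theorem key8_74 : key (φ (cs.wordProd (word8 74)) p8) = keys8.getD 74 0 := by rw [pt8_74]; decide
theorem key8_75 : key (φ (cs.wordProd (word8 75)) p8) = keys8.getD 75 0 := by rw [pt8_75]; decide
theorem key8_76 : key (φ (cs.wordProd (word8 76)) p8) = keys8.getD 76 0 := by rw [pt8_76]; decide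
theorem key8_77 : key (φ (cs.wordProd (word8 77)) p8) = keys8.getD 77 0 := by rw [pt8_77]; decide
theorem key8_78 : key (φ (cs.wordProd (word8 78)) p8) = keys8.getD 78 0 := by rw [pt8_78]; decide
theorem key8_79 : key (φ (cs.wordProd (word8 79)) p8) = keys8.getD 79 0 := by rw [pt8_79]; decide
theorem key8_80 : key (φ (cs.wordProd (word8 80)) p8) = keys8.getD 80 0 := by rw [pt8_80]; decide
theorem key8_81 : key (φ (cs.wordProd (word8 81)) p8) = keys8.getD 81 0 := by rw [pt8_81]; decide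
theorem key8_82 : key (φ (cs.wordProd (word8 82)) p8) = keys8.getD 82 0 := by rw [pt8_82]; decide
theorem key8_83 : key (φ (cs.wordProd (word8 83)) p8) = keys8.getD 83 0 := by rw [pt8_83]; decide
theorem key8_84 : key (φ (cs.wordProd (word8 84)) p8) = keys8.getD 84 0 := by rw [pt8_84]; decide
theorem key8_85 : key (φ (cs.wordProd (word8 85)) p8) = keys8.getD 85 0 := by rw [pt8_85]; decide
theorem key8_86 : key (φ (cs.wordProd (word8 86)) p8) = keys8.getD 86 0 := by rw [pt8_86]; decide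
theorem key8_87 : key (φ (cs.wordProd (word8 87)) p8) = keys8.getD 87 0 := by rw [pt8_87]; decide
theorem key8_88 : key (φ (cs.wordProd (word8 88)) p8) = keys8.getD 88 0 := by rw [pt8_88]; decide
theorem key8_89 : key (φ (cs.wordProd (word8 89)) p8) = keys8.getD 89 0 := by rw [pt8_89]; decide
theorem key8_90 : key (φ (cs.wordProd (word8 90)) p8) = keys8.getD 90 0 := by rw [pt8_90]; decide
theorem key8_91 : key (φ (cs.wordProd (word8 91)) p8) = keys8.getD 91 0 := by rw [pt8_91]; decide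
theorem key8_92 : key (φ (cs.wordProd (word8 92)) p8) = keys8.getD 92 0 := by rw [pt8_92]; decide
theorem key8_93 : key (φ (cs.wordProd (word8 93)) p8) = keys8.getD 93 0 := by rw [pt8_93]; decide
theorem key8_94 : key (φ (cs.wordProd (word8 94)) p8) = keys8.getD 94 0 := by rw [pt8_94]; decide
theorem key8_95 : key (φ (cs.wordProd (word8 95)) p8) = keys8.getD 95 0 := by rw [pt8_95]; decide
theorem key8_96 : key (φ (cs.wordProd (word8 96)) p8) = keys8.getD 96 0 := by rw [pt8_96]; decide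
theorem key8_97 : key (φ (cs.wordProd (word8 97)) p8) = keys8.getD 97 0 := by rw [pt8_97]; decide
theorem key8_98 : key (φ (cs.wordProd (word8 98)) p8) = keys8.getD 98 0 := by rw [pt8_98]; decide
theorem key8_99 : key (φ (cs.wordProd (word8 99)) p8) = keys8.getD 99 0 := by rw [pt8_99]; decide
theorem key8_100 : key (φ (cs.wordProd (word8 100)) p8) = keys8.getD 100 0 := by rw [pt8_100]; decide
theorem key8_101 : key (φ (cs.wordProd (word8 101)) p8) = keys8.getD 101 0 := by rw [pt8_101]; decide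
theorem key8_102 : key (φ (cs.wordProd (word8 102)) p8) = keys8.getD 102 0 := by rw [pt8_102]; decide
theorem key8_103 : key (φ (cs.wordProd (word8 103)) p8) = keys8.getD 103 0 := by rw [pt8_103]; decide
theorem key8_104 : key (φ (cs.wordProd (word8 104)) p8) = keys8.getD 104 0 := by rw [pt8_104]; decide
theorem key8_105 : key (φ (cs.wordProd (word8 105)) p8) = keys8.getD 105 0 := by rw [pt8_105]; decide
theorem key8_106 : key (φ (cs.wordProd (word8 106)) p8) = keys8.getD 106 0 := by rw [pt8_106]; decide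
theorem key8_107 : key (φ (cs.wordProd (word8 107)) p8) = keys8.getD 107 0 := by rw [pt8_107]; decide
theorem key8_108 : key (φ (cs.wordProd (word8 108)) p8) = keys8.getD 108 0 := by rw [pt8_108]; decide
theorem key8_109 : key (φ (cs.wordProd (word8 109)) p8) = keys8.getD 109 0 := by rw [pt8_109]; decide
theorem key8_110 : key (φ (cs.wordProd (word8 110)) p8) = keys8.getD 110 0 := by rw [pt8_110]; decide
theorem key8_111 : key (φ (cs.wordProd (word8 111)) p8) = keys8.getD 111 0 := by rw [pt8_111]; decide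
theorem key8_112 : key (φ (cs.wordProd (word8 112)) p8) = keys8.getD 112 0 := by rw [pt8_112]; decide
theorem key8_113 : key (φ (cs.wordProd (word8 113)) p8) = keys8.getD 113 0 := by rw [pt8_113]; decide
theorem key8_114 : key (φ (cs.wordProd (word8 114)) p8) = keys8.getD 114 0 := by rw [pt8_114]; decide
theorem key8_115 : key (φ (cs.wordProd (word8 115)) p8) = keys8.getD 115 0 := by rw [pt8_115]; decide
theorem key8_116 : key (φ (cs.wordProd (word8 116)) p8) = keys8.getD 116 0 := by rw [pt8_116]; decide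
theorem key8_117 : key (φ (cs.wordProd (word8 117)) p8) = keys8.getD 117 0 := by rw [pt8_117]; decide
theorem key8_118 : key (φ (cs.wordProd (word8 118)) p8) = keys8.getD 118 0 := by rw [pt8_118]; decide
theorem key8_119 : key (φ (cs.wordProd (word8 119)) p8) = keys8.getD 119 0 := by rw [pt8_119]; decide
theorem key8_120 : key (φ (cs.wordProd (word8 120)) p8) = keys8.getD 120 0 := by rw [pt8_120]; decide
theorem key8_121 : key (φ (cs.wordProd (word8 121)) p8) = keys8.getD 121 0 := by rw [pt8_121]; decide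
theorem key8_122 : key (φ (cs.wordProd (word8 122)) p8) = keys8.getD 122 0 := by rw [pt8_122]; decide
theorem key8_123 : key (φ (cs.wordProd (word8 123)) p8) = keys8.getD 123 0 := by rw [pt8_123]; decide
theorem key8_124 : key (φ (cs.wordProd (word8 124)) p8) = keys8.getD 124 0 := by rw [pt8_124]; decide
theorem key8_125 : key (φ (cs.wordProd (word8 125)) p8) = keys8.getD 125 0 := by rw [pt8_125]; decide
theorem key8_126 : key (φ (cs.wordProd (word8 126)) p8) = keys8.getD 126 0 := by rw [pt8_126]; decide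
theorem key8_127 : key (φ (cs.wordProd (word8 127)) p8) = keys8.getD 127 0 := by rw [pt8_127]; decide
theorem key8_128 : key (φ (cs.wordProd (word8 128)) p8) = keys8.getD 128 0 := by rw [pt8_128]; decide
theorem key8_129 : key (φ (cs.wordProd (word8 129)) p8) = keys8.getD 129 0 := by rw [pt8_129]; decide
theorem key8_130 : key (φ (cs.wordProd (word8 130)) p8) = keys8.getD 130 0 := by rw [pt8_130]; decide
theorem key8_131 : key (φ (cs.wordProd (word8 131)) p8) = keys8.getD 131 0 := by rw [pt8_131]; decide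
theorem key8_132 : key (φ (cs.wordProd (word8 132)) p8) = keys8.getD 132 0 := by rw [pt8_132]; decide
theorem key8_133 : key (φ (cs.wordProd (word8 133)) p8) = keys8.getD 133 0 := by rw [pt8_133]; decide
theorem key8_134 : key (φ (cs.wordProd (word8 134)) p8) = keys8.getD 134 0 := by rw [pt8_134]; decide
theorem key8_135 : key (φ (cs.wordProd (word8 135)) p8) = keys8.getD 135 0 := by rw [pt8_135]; decide
theorem key8_136 : key (φ (cs.wordProd (word8 136)) p8) = keys8.getD 136 0 := by rw [pt8_136]; decide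
theorem key8_137 : key (φ (cs.wordProd (word8 137)) p8) = keys8.getD 137 0 := by rw [pt8_137]; decide
theorem key8_138 : key (φ (cs.wordProd (word8 138)) p8) = keys8.getD 138 0 := by rw [pt8_138]; decide
theorem key8_139 : key (φ (cs.wordProd (word8 139)) p8) = keys8.getD 139 0 := by rw [pt8_139]; decide
theorem key8_140 : key (φ (cs.wordProd (word8 140)) p8) = keys8.getD 140 0 := by rw [pt8_140]; decide
theorem key8_141 : key (φ (cs.wordProd (word8 141)) p8) = keys8.getD 141 0 := by rw [pt8_141]; decide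
theorem key8_142 : key (φ (cs.wordProd (word8 142)) p8) = keys8.getD 142 0 := by rw [pt8_142]; decide
theorem key8_143 : key (φ (cs.wordProd (word8 143)) p8) = keys8.getD 143 0 := by rw [pt8_143]; decide
theorem key8_144 : key (φ (cs.wordProd (word8 144)) p8) = keys8.getD 144 0 := by rw [pt8_144]; decide
theorem key8_145 : key (φ (cs.wordProd (word8 145)) p8) = keys8.getD 145 0 := by rw [pt8_145]; decide
theorem key8_146 : key (φ (cs.wordProd (word8 146)) p8) = keys8.getD 146 0 := by rw [pt8_146]; decide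
theorem key8_147 : key (φ (cs.wordProd (word8 147)) p8) = keys8.getD 147 0 := by rw [pt8_147]; decide
theorem key8_148 : key (φ (cs.wordProd (word8 148)) p8) = keys8.getD 148 0 := by rw [pt8_148]; decide
theorem key8_149 : key (φ (cs.wordProd (word8 149)) p8) = keys8.getD 149 0 := by rw [pt8_149]; decide
theorem key8_150 : key (φ (cs.wordProd (word8 150)) p8) = keys8.getD 150 0 := by rw [pt8_150]; decide
theorem key8_151 : key (φ (cs.wordProd (word8 151)) p8) = keys8.getD 151 0 := by rw [pt8_151]; decide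
theorem key8_152 : key (φ (cs.wordProd (word8 152)) p8) = keys8.getD 152 0 := by rw [pt8_152]; decide
theorem key8_153 : key (φ (cs.wordProd (word8 153)) p8) = keys8.getD 153 0 := by rw [pt8_153]; decide
theorem key8_154 : key (φ (cs.wordProd (word8 154)) p8) = keys8.getD 154 0 := by rw [pt8_154]; decide
theorem key8_155 : key (φ (cs.wordProd (word8 155)) p8) = keys8.getD 155 0 := by rw [pt8_155]; decide
theorem key8_156 : key (φ (cs.wordProd (word8 156)) p8) = keys8.getD 156 0 := by rw [pt8_156]; decide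
theorem key8_157 : key (φ (cs.wordProd (word8 157)) p8) = keys8.getD 157 0 := by rw [pt8_157]; decide
theorem key8_158 : key (φ (cs.wordProd (word8 158)) p8) = keys8.getD 158 0 := by rw [pt8_158]; decide
theorem key8_159 : key (φ (cs.wordProd (word8 159)) p8) = keys8.getD 159 0 := by rw [pt8_159]; decide
theorem key8_160 : key (φ (cs.wordProd (word8 160)) p8) = keys8.getD 160 0 := by rw [pt8_160]; decide
theorem key8_161 : key (φ (cs.wordProd (word8 161)) p8) = keys8.getD 161 0 := by rw [pt8_161]; decide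
theorem key8_162 : key (φ (cs.wordProd (word8 162)) p8) = keys8.getD 162 0 := by rw [pt8_162]; decide
theorem key8_163 : key (φ (cs.wordProd (word8 163)) p8) = keys8.getD 163 0 := by rw [pt8_163]; decide
theorem key8_164 : key (φ (cs.wordProd (word8 164)) p8) = keys8.getD 164 0 := by rw [pt8_164]; decide
theorem key8_165 : key (φ (cs.wordProd (word8 165)) p8) = keys8.getD 165 0 := by rw [pt8_165]; decide
theorem key8_166 : key (φ (cs.wordProd (word8 166)) p8) = keys8.getD 166 0 := by rw [pt8_166]; decide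
theorem key8_167 : key (φ (cs.wordProd (word8 167)) p8) = keys8.getD 167 0 := by rw [pt8_167]; decide
theorem key8_168 : key (φ (cs.wordProd (word8 168)) p8) = keys8.getD 168 0 := by rw [pt8_168]; decide
theorem key8_169 : key (φ (cs.wordProd (word8 169)) p8) = keys8.getD 169 0 := by rw [pt8_169]; decide
theorem key8_170 : key (φ (cs.wordProd (word8 170)) p8) = keys8.getD 170 0 := by rw [pt8_170]; decide
theorem key8_171 : key (φ (cs.wordProd (word8 171)) p8) = keys8.getD 171 0 := by rw [pt8_171]; decide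
theorem key8_172 : key (φ (cs.wordProd (word8 172)) p8) = keys8.getD 172 0 := by rw [pt8_172]; decide
theorem key8_173 : key (φ (cs.wordProd (word8 173)) p8) = keys8.getD 173 0 := by rw [pt8_173]; decide
theorem key8_174 : key (φ (cs.wordProd (word8 174)) p8) = keys8.getD 174 0 := by rw [pt8_174]; decide
theorem key8_175 : key (φ (cs.wordProd (word8 175)) p8) = keys8.getD 175 0 := by rw [pt8_175]; decide
theorem key8_176 : key (φ (cs.wordProd (word8 176)) p8) = keys8.getD 176 0 := by rw [pt8_176]; decide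
theorem key8_177 : key (φ (cs.wordProd (word8 177)) p8) = keys8.getD 177 0 := by rw [pt8_177]; decide
theorem key8_178 : key (φ (cs.wordProd (word8 178)) p8) = keys8.getD 178 0 := by rw [pt8_178]; decide
theorem key8_179 : key (φ (cs.wordProd (word8 179)) p8) = keys8.getD 179 0 := by rw [pt8_179]; decide
theorem key8_180 : key (φ (cs.wordProd (word8 180)) p8) = keys8.getD 180 0 := by rw [pt8_180]; decide
theorem key8_181 : key (φ (cs.wordProd (word8 181)) p8) = keys8.getD 181 0 := by rw [pt8_181]; decide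
theorem key8_182 : key (φ (cs.wordProd (word8 182)) p8) = keys8.getD 182 0 := by rw [pt8_182]; decide
theorem key8_183 : key (φ (cs.wordProd (word8 183)) p8) = keys8.getD 183 0 := by rw [pt8_183]; decide
theorem key8_184 : key (φ (cs.wordProd (word8 184)) p8) = keys8.getD 184 0 := by rw [pt8_184]; decide
theorem key8_185 : key (φ (cs.wordProd (word8 185)) p8) = keys8.getD 185 0 := by rw [pt8_185]; decide
theorem key8_186 : key (φ (cs.wordProd (word8 186)) p8) = keys8.getD 186 0 := by rw [pt8_186]; decide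
theorem key8_187 : key (φ (cs.wordProd (word8 187)) p8) = keys8.getD 187 0 := by rw [pt8_187]; decide
theorem key8_188 : key (φ (cs.wordProd (word8 188)) p8) = keys8.getD 188 0 := by rw [pt8_188]; decide
theorem key8_189 : key (φ (cs.wordProd (word8 189)) p8) = keys8.getD 189 0 := by rw [pt8_189]; decide
theorem key8_190 : key (φ (cs.wordProd (word8 190)) p8) = keys8.getD 190 0 := by rw [pt8_190]; decide
theorem key8_191 : key (φ (cs.wordProd (word8 191)) p8) = keys8.getD 191 0 := by rw [pt8_191]; decide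
theorem key8_192 : key (φ (cs.wordProd (word8 192)) p8) = keys8.getD 192 0 := by rw [pt8_192]; decide
theorem key8_193 : key (φ (cs.wordProd (word8 193)) p8) = keys8.getD 193 0 := by rw [pt8_193]; decide
theorem key8_194 : key (φ (cs.wordProd (word8 194)) p8) = keys8.getD 194 0 := by rw [pt8_194]; decide
theorem key8_195 : key (φ (cs.wordProd (word8 195)) p8) = keys8.getD 195 0 := by rw [pt8_195]; decide
theorem key8_196 : key (φ (cs.wordProd (word8 196)) p8) = keys8.getD 196 0 := by rw [pt8_196]; decide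
theorem key8_197 : key (φ (cs.wordProd (word8 197)) p8) = keys8.getD 197 0 := by rw [pt8_197]; decide
theorem key8_198 : key (φ (cs.wordProd (word8 198)) p8) = keys8.getD 198 0 := by rw [pt8_198]; decide
theorem key8_199 : key (φ (cs.wordProd (word8 199)) p8) = keys8.getD 199 0 := by rw [pt8_199]; decide
theorem key8_200 : key (φ (cs.wordProd (word8 200)) p8) = keys8.getD 200 0 := by rw [pt8_200]; decide
theorem key8_201 : key (φ (cs.wordProd (word8 201)) p8) = keys8.getD 201 0 := by rw [pt8_201]; decide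
theorem key8_202 : key (φ (cs.wordProd (word8 202)) p8) = keys8.getD 202 0 := by rw [pt8_202]; decide
theorem key8_203 : key (φ (cs.wordProd (word8 203)) p8) = keys8.getD 203 0 := by rw [pt8_203]; decide
theorem key8_204 : key (φ (cs.wordProd (word8 204)) p8) = keys8.getD 204 0 := by rw [pt8_204]; decide
theorem key8_205 : key (φ (cs.wordProd (word8 205)) p8) = keys8.getD 205 0 := by rw [pt8_205]; decide
theorem key8_206 : key (φ (cs.wordProd (word8 206)) p8) = keys8.getD 206 0 := by rw [pt8_206]; decide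
theorem key8_207 : key (φ (cs.wordProd (word8 207)) p8) = keys8.getD 207 0 := by rw [pt8_207]; decide
theorem key8_208 : key (φ (cs.wordProd (word8 208)) p8) = keys8.getD 208 0 := by rw [pt8_208]; decide
theorem key8_209 : key (φ (cs.wordProd (word8 209)) p8) = keys8.getD 209 0 := by rw [pt8_209]; decide
theorem key8_210 : key (φ (cs.wordProd (word8 210)) p8) = keys8.getD 210 0 := by rw [pt8_210]; decide
theorem key8_211 : key (φ (cs.wordProd (word8 211)) p8) = keys8.getD 211 0 := by rw [pt8_211]; decide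
theorem key8_212 : key (φ (cs.wordProd (word8 212)) p8) = keys8.getD 212 0 := by rw [pt8_212]; decide
theorem key8_213 : key (φ (cs.wordProd (word8 213)) p8) = keys8.getD 213 0 := by rw [pt8_213]; decide
theorem key8_214 : key (φ (cs.wordProd (word8 214)) p8) = keys8.getD 214 0 := by rw [pt8_214]; decide
theorem key8_215 : key (φ (cs.wordProd (word8 215)) p8) = keys8.getD 215 0 := by rw [pt8_215]; decide
theorem key8_216 : key (φ (cs.wordProd (word8 216)) p8) = keys8.getD 216 0 := by rw [pt8_216]; decide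
theorem key8_217 : key (φ (cs.wordProd (word8 217)) p8) = keys8.getD 217 0 := by rw [pt8_217]; decide
theorem key8_218 : key (φ (cs.wordProd (word8 218)) p8) = keys8.getD 218 0 := by rw [pt8_218]; decide
theorem key8_219 : key (φ (cs.wordProd (word8 219)) p8) = keys8.getD 219 0 := by rw [pt8_219]; decide
theorem key8_220 : key (φ (cs.wordProd (word8 220)) p8) = keys8.getD 220 0 := by rw [pt8_220]; decide
theorem key8_221 : key (φ (cs.wordProd (word8 221)) p8) = keys8.getD 221 0 := by rw [pt8_221]; decide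
theorem key8_222 : key (φ (cs.wordProd (word8 222)) p8) = keys8.getD 222 0 := by rw [pt8_222]; decide
theorem key8_223 : key (φ (cs.wordProd (word8 223)) p8) = keys8.getD 223 0 := by rw [pt8_223]; decide
theorem key8_224 : key (φ (cs.wordProd (word8 224)) p8) = keys8.getD 224 0 := by rw [pt8_224]; decide
theorem key8_225 : key (φ (cs.wordProd (word8 225)) p8) = keys8.getD 225 0 := by rw [pt8_225]; decide
theorem key8_226 : key (φ (cs.wordProd (word8 226)) p8) = keys8.getD 226 0 := by rw [pt8_226]; decide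
theorem key8_227 : key (φ (cs.wordProd (word8 227)) p8) = keys8.getD 227 0 := by rw [pt8_227]; decide
theorem key8_228 : key (φ (cs.wordProd (word8 228)) p8) = keys8.getD 228 0 := by rw [pt8_228]; decide
theorem key8_229 : key (φ (cs.wordProd (word8 229)) p8) = keys8.getD 229 0 := by rw [pt8_229]; decide
theorem key8_230 : key (φ (cs.wordProd (word8 230)) p8) = keys8.getD 230 0 := by rw [pt8_230]; decide
theorem key8_231 : key (φ (cs.wordProd (word8 231)) p8) = keys8.getD 231 0 := by rw [pt8_231]; decide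
theorem key8_232 : key (φ (cs.wordProd (word8 232)) p8) = keys8.getD 232 0 := by rw [pt8_232]; decide
theorem key8_233 : key (φ (cs.wordProd (word8 233)) p8) = keys8.getD 233 0 := by rw [pt8_233]; decide
theorem key8_234 : key (φ (cs.wordProd (word8 234)) p8) = keys8.getD 234 0 := by rw [pt8_234]; decide
theorem key8_235 : key (φ (cs.wordProd (word8 235)) p8) = keys8.getD 235 0 := by rw [pt8_235]; decide
theorem key8_236 : key (φ (cs.wordProd (word8 236)) p8) = keys8.getD 236 0 := by rw [pt8_236]; decide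
theorem key8_237 : key (φ (cs.wordProd (word8 237)) p8) = keys8.getD 237 0 := by rw [pt8_237]; decide
theorem key8_238 : key (φ (cs.wordProd (word8 238)) p8) = keys8.getD 238 0 := by rw [pt8_238]; decide
theorem key8_239 : key (φ (cs.wordProd (word8 239)) p8) = keys8.getD 239 0 := by rw [pt8_239]; decide
theorem hkey8 : ∀ x < 240, key (φ (cs.wordProd (word8 x)) p8) = keys8.getD x 0 := by
  intro x hx
  interval_cases x
  exacts [key8_0, key8_1, key8_2, key8_3, key8_4, key8_5, key8_6, key8_7, key8_8, key8_9, key8_10, key8_11, key8_12, key8_13, key8_14, key8_15, key8_16, key8_17, key8_18, key8_19, key8_20, key8_21, key8_22, key8_23, key8_24, key8_25, key8_26, key8_27, key8_28, key8_29, key8_30, key8_31, key8_32, key8_33, key8_34, key8_35, key8_36, key8_37, key8_38, key8_39, key8_40, key8_41, key8_42, key8_43, key8_44, key8_45, key8_46, key8_47, key8_48, key8_49, key8_50, key8_51, key8_52, key8_53,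 key8_54, key8_55, key8_56, key8_57, key8_58, key8_59, key8_60, key8_61, key8_62, key8_63, key8_64, key8_65, key8_66, key8_67, key8_68, key8_69, key8_70, key8_71, key8_72, key8_73, key8_74, key8_75, key8_76, key8_77, key8_78, key8_79, key8_80, key8_81, key8_82, key8_83, key8_84, key8_85, key8_86, key8_87, key8_88, key8_89, key8_90, key8_91, key8_92, key8_93, key8_94, key8_95, key8_96, key8_97, key8_98, key8_99, key8_100, key8_101, key8_102, key8_103, key8_104, key8_105, key8_106, key8_107, key8_108, key8_109, key8_110, key8_111, key8_112, key8_113, key8_114, key8_115, key8_116, key8_117, key8_118, key8_119, key8_120, key8_121, key8_122, key8_123, key8_124, key8_125, key8_126, key8_127, key8_128, key8_129, key8_130, key8_131, key8_132, key8_133, key8_134, key8_135, key8_136, key8_137, key8_138, key8_139, key8_140, key8_141, key8_142, key8_143, key8_144, key8_145, key8_146, key8_147, key8_148, key8_149,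 key8_150, key8_151, key8_152, key8_153, key8_154, key8_155, key8_156, key8_157, key8_158, key8_159, key8_160, key8_161, key8_162, key8_163, key8_164, key8_165, key8_166, key8_167, key8_168, key8_169, key8_170, key8_171, key8_172, key8_173, key8_174, key8_175, key8_176, key8_177, key8_178, key8_179, key8_180, key8_181, key8_182, key8_183, key8_184, key8_185, key8_186, key8_187, key8_188, key8_189, key8_190, key8_191, key8_192, key8_193, key8_194, key8_195, key8_196, key8_197, key8_198, key8_199, key8_200, key8_201, key8_202, key8_203, key8_204, key8_205, key8_206, key8_207, key8_208, key8_209, key8_210, key8_211, key8_212, key8_213, key8_214, key8_215, key8_216, key8_217, key8_218, key8_219, key8_220, key8_221, key8_222, key8_223, key8_224, key8_225, key8_226, key8_227, key8_228, key8_229, key8_230, key8_231, key8_232, key8_233, key8_234, key8_235, key8_236, key8_237, key8_238, key8_239]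
theorem card8 : Nat.card (par cs K8) = 240 * Nat.card (par cs K7) :=
  link_card cs φ p8 K7 K8 240 word8 tbl8 (by decide) (by decide) (by decide) (by decide) htbl8
    (fix_of_refl A cs hA φ hφ K7 p8 (by decide))
    (hdist_of_keys cs φ p8 word8 240 key keys8 (by decide) (by decide) hkey8)

theorem card : Nat.card Mx.Group = 696729600 := by
  have h0 : Nat.card (par cs K0) = 1 := by rw [show K0 = [] from rfl, par_nil]; exact Subgroup.card_bot
  have htop : par cs K8 = ⊤ := par_top cs (by decide)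
  rw [← Subgroup.card_top (G := Mx.Group), ← htop, card8, card7, card6, card5, card4, card3, card2, card1, h0]

end Cfsg.Agent.Lib.Helper25.Cox.E8
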