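import Mathlib
import Cfsg.Agent.Lib.Helper25.CoxeterOrd
import Cfsg.Agent.Lib.Helper25.CoxE8

set_option autoImplicit false
set_option maxRecDepth 100000

namespace Cfsg.Agent.Lib.Helper25.Cox.E8

open Cfsg.Agent.Lib.Helper25.Cox

theorem ker1 : ∀ g ∈ par cs K1, φ g p1 = p1 → g ∈ par cs K0 :=
  link_ker cs φ p1 K0 K1 2 word1 tbl1 (by decide) (by decide) htbl1
    (fix_of_refl A cs hA φ hφ K0 p1 (by decide))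
    (hdist_of_keys cs φ p1 word1 2 key keys1 (by decide) (by decide) hkey1)
theorem ker2 : ∀ g ∈ par cs K2, φ g p2 = p2 → g ∈ par cs K1 :=
  link_ker cs φ p2 K1 K2 3 word2 tbl2 (by decide) (by decide) htbl2
    (fix_of_refl A cs hA φ hφ K1 p2 (by decide))
    (hdist_of_keys cs φ p2 word2 3 key keys2 (by decide) (by decide) hkey2)
theorem ker3 : ∀ g ∈ par cs K3, φ g p3 = p3 → g ∈ par cs K2 :=
  link_ker cs φ p3 K2 K3 4 word3 tbl3 (by decide) (by decide) htbl3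
    (fix_of_refl A cs hA φ hφ K2 p3 (by decide))
    (hdist_of_keys cs φ p3 word3 4 key keys3 (by decide) (by decide) hkey3)
theorem ker4 : ∀ g ∈ par cs K4, φ g p4 = p4 → g ∈ par cs K3 :=
  link_ker cs φ p4 K3 K4 5 word4 tbl4 (by decide) (by decide) htbl4
    (fix_of_refl A cs hA φ hφ K3 p4 (by decide))
    (hdist_of_keys cs φ p4 word4 5 key keys4 (by decide) (by decide) hkey4)
theorem ker5 : ∀ g ∈ par cs K5, φ g p5 = p5 → g ∈ par cs K4 :=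
  link_ker cs φ p5 K4 K5 16 word5 tbl5 (by decide) (by decide) htbl5
    (fix_of_refl A cs hA φ hφ K4 p5 (by decide))
    (hdist_of_keys cs φ p5 word5 16 key keys5 (by decide) (by decide) hkey5)
theorem ker6 : ∀ g ∈ par cs K6, φ g p6 = p6 → g ∈ par cs K5 :=
  link_ker cs φ p6 K5 K6 27 word6 tbl6 (by decide) (by decide) htbl6
    (fix_of_refl A cs hA φ hφ K5 p6 (by decide))
    (hdist_of_keys cs φ p6 word6 27 key keys6 (by decide) (by decide) hkey6)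
theorem ker7 : ∀ g ∈ par cs K7, φ g p7 = p7 → g ∈ par cs K6 :=
  link_ker cs φ p7 K6 K7 56 word7 tbl7 (by decide) (by decide) htbl7
    (fix_of_refl A cs hA φ hφ K6 p7 (by decide))
    (hdist_of_keys cs φ p7 word7 56 key keys7 (by decide) (by decide) hkey7)
theorem ker8 : ∀ g ∈ par cs K8, φ g p8 = p8 → g ∈ par cs K7 :=
  link_ker cs φ p8 K7 K8 240 word8 tbl8 (by decide) (by decide) htbl8
    (fix_of_refl A cs hA φ hφ K7 p8 (by decide))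
    (hdist_of_keys cs φ p8 word8 240 key keys8 (by decide) (by decide) hkey8)

theorem ker_trivial : ∀ g : Mx.Group, φ g = 1 → g = 1 := by
  intro g hg
  have hp : ∀ v, φ g v = v := fun v => by rw [hg]; rfl
  have h8 : g ∈ par cs K8 := by rw [par_top cs (by decide)]; trivial
  have h7 := ker8 g h8 (hp _)
  have h6 := ker7 g h7 (hp _)
  have h5 := ker6 g h6 (hp _)
  have h4 := ker5 g h5 (hp _)
  have h3 := ker4 g h4 (hp _)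
  have h2 := ker3 g h3 (hp _)
  have h1 := ker2 g h2 (hp _)
  have h0 := ker1 g h1 (hp _)
  rw [show K0 = [] from rfl, par_nil, Subgroup.mem_bot] at h0
  exact h0

theorem φ_injective : Function.Injective φ := (injective_iff_map_eq_one φ).mpr ker_trivial

def C : Matrix (Fin 8) (Fin 8) ℤ := !![-1, 0, -1, -1, -1, -1, -1, -1; 0, -1, 0, -1, -1, -1, -1, -1; 1, 0, 0, 0, 0, 0, 0, 0; 0, 1, 1, 1, 1, 1, 1, 1; 0, 0, 0, 1, 0, 0, 0, 0; 0, 0, 0, 0, 1, 0, 0, 0; 0, 0, 0, 0, 0, 1, 0, 0; 0, 0, 0, 0, 0, 0, 1, 0]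
theorem hφ' (i : Fin 8) : φ (Mx.simple i) = reflEquiv A hA i := hφ i
theorem hC : ∀ v, φ (((List.finRange 8).map Mx.simple).prod) v = C.mulVec v := by
  intro v
  have hl : List.finRange 8 = [0, 1, 2, 3, 4, 5, 6, 7] := by decide
  rw [hl]
  simp only [List.map_cons, List.map_nil, List.prod_cons, List.prod_nil, mul_one, map_mul, Equiv.Perm.mul_apply, hφ', reflEquiv_apply]
  funext j
  fin_cases j <;> simp [refl, A, C, Matrix.mulVec, dotProduct, Fin.sum_univ_succ] <;> ring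
def P1 : Matrix (Fin 8) (Fin 8) ℤ := !![-1, 0, -1, -1, -1, -1, -1, -1; 0, -1, 0, -1, -1, -1, -1, -1; 1, 0, 0, 0, 0, 0, 0, 0; 0, 1, 1, 1, 1, 1, 1, 1; 0, 0, 0, 1, 0, 0, 0, 0; 0, 0, 0, 0, 1, 0, 0, 0; 0, 0, 0, 0, 0, 1, 0, 0; 0, 0, 0, 0, 0, 0, 1, 0]
theorem Cpow1 : C ^ 1 = P1 := by rw [pow_one]; decide
def P2 : Matrix (Fin 8) (Fin 8) ℤ := !![0, -1, 0, -1, -1, -1, -1, 0; 0, 0, -1, -1, -1, -1, -1, 0; -1, 0, -1, -1, -1, -1, -1, -1; 1, 0, 1, 1, 1, 1, 1, 0; 0, 1, 1, 1, 1, 1, 1, 1; 0, 0, 0, 1, 0, 0, 0, 0; 0, 0, 0, 0, 1, 0, 0, 0; 0, 0, 0, 0, 0, 1, 0, 0]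
theorem Cpow2 : C ^ 2 = P2 := by rw [pow_succ, Cpow1]; decide
def P3 : Matrix (Fin 8) (Fin 8) ℤ := !![0, 0, -1, -1, -1, -1, 0, 0; -1, -1, -1, -2, -2, -2, -1, -1; 0, -1, 0, -1, -1, -1, -1, 0; 0, 1, 0, 1, 1, 1, 0, 0; 1, 0, 1, 1, 1, 1, 1, 0; 0, 1, 1, 1, 1, 1, 1, 1; 0, 0, 0, 1, 0, 0, 0, 0; 0, 0, 0, 0, 1, 0, 0, 0]
theorem Cpow3 : C ^ 3 = P3 := by rw [pow_succ, Cpow2]; decide
def P4 : Matrix (Fin 8) (Fin 8) ℤ := !![-1, -1, -1, -2, -2, -1, -1, -1; 0, -1, -1, -2, -2, -1, -1, 0; 0, 0, -1, -1, -1, -1, 0, 0; 0, 0, 1, 1, 1, 0, 0, 0; 0, 1, 0, 1, 1, 1, 0, 0; 1, 0, 1, 1, 1, 1, 1, 0; 0, 1, 1, 1, 1, 1, 1, 1; 0, 0, 0, 1, 0, 0, 0, 0]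
theorem Cpow4 : C ^ 4 = P4 := by rw [pow_succ, Cpow3]; decide
def P5 : Matrix (Fin 8) (Fin 8) ℤ := !![0, -1, -1, -2, -1, -1, -1, 0; -1, -1, -2, -3, -2, -2, -1, -1; -1, -1, -1, -2, -2, -1, -1, -1; 1, 1, 1, 2, 1, 1, 1, 1; 0, 0, 1, 1, 1, 0, 0, 0; 0, 1, 0, 1, 1, 1, 0, 0; 1, 0, 1, 1, 1, 1, 1, 0; 0, 1, 1, 1, 1, 1, 1, 1]
theorem Cpow5 : C ^ 5 = P5 := by rw [pow_succ, Cpow4]; decide
def P6 : Matrix (Fin 8) (Fin 8) ℤ := !![-1, -1, -2, -2, -2, -2, -1, -1; -1, -2, -2, -3, -3, -2, -2, -1; 0, -1, -1, -2, -1, -1, -1, 0; 0, 1, 1, 1, 1, 1, 1, 0; 1, 1, 1, 2, 1, 1, 1, 1; 0, 0, 1, 1, 1, 0, 0, 0; 0, 1, 0, 1, 1, 1, 0, 0; 1, 0, 1, 1, 1, 1, 1, 0]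
theorem Cpow6 : C ^ 6 = P6 := by rw [pow_succ, Cpow5]; decide
def P7 : Matrix (Fin 8) (Fin 8) ℤ := !![-1, -1, -1, -2, -2, -1, -1, 0; -1, -1, -2, -3, -2, -2, -1, 0; -1, -1, -2, -2, -2, -2, -1, -1; 1, 0, 1, 1, 1, 1, 0, 0; 0, 1, 1, 1, 1, 1, 1, 0; 1, 1, 1, 2, 1, 1, 1, 1; 0, 0, 1, 1, 1, 0, 0, 0; 0, 1, 0, 1, 1, 1, 0, 0]
theorem Cpow7 : C ^ 7 = P7 := by rw [pow_succ, Cpow6]; decide
def P8 : Matrix (Fin 8) (Fin 8) ℤ := !![0, -1, -1, -2, -1, -1, 0, 0; -1, -2, -2, -3, -3, -2, -1, -1; -1, -1, -1, -2, -2, -1, -1, 0; 0, 1, 0, 1, 1, 0, 0, 0; 1, 0, 1, 1, 1, 1, 0, 0; 0, 1, 1, 1, 1, 1, 1, 0; 1, 1, 1, 2, 1, 1, 1, 1; 0, 0, 1, 1, 1, 0, 0, 0]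
theorem Cpow8 : C ^ 8 = P8 := by rw [pow_succ, Cpow7]; decide
def P9 : Matrix (Fin 8) (Fin 8) ℤ := !![-1, -1, -2, -2, -2, -1, -1, -1; -1, -1, -2, -3, -2, -1, -1, 0; 0, -1, -1, -2, -1, -1, 0, 0; 0, 0, 1, 1, 0, 0, 0, 0; 0, 1, 0, 1, 1, 0, 0, 0; 1, 0, 1, 1, 1, 1, 0, 0; 0, 1, 1, 1, 1, 1, 1, 0; 1, 1, 1, 2, 1, 1, 1, 1]
theorem Cpow9 : C ^ 9 = P9 := by rw [pow_succ, Cpow8]; decide
def P10 : Matrix (Fin 8) (Fin 8) ℤ := !![-1, -1, -1, -2, -1, -1, -1, 0; -1, -2, -2, -3, -2, -2, -1, -1; -1, -1, -2, -2, -2, -1, -1, -1; 1, 1, 1, 1, 1, 1, 1, 1; 0, 0, 1, 1, 0, 0, 0, 0; 0, 1, 0, 1, 1, 0, 0, 0; 1, 0, 1, 1, 1, 1, 0, 0; 0, 1, 1, 1, 1, 1, 1, 0]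
theorem Cpow10 : C ^ 10 = P10 := by rw [pow_succ, Cpow9]; decide
def P11 : Matrix (Fin 8) (Fin 8) ℤ := !![0, -1, -1, -1, -1, -1, 0, 0; -1, -1, -2, -2, -2, -1, -1, 0; -1, -1, -1, -2, -1, -1, -1, 0; 0, 0, 0, 0, 0, 0, 0, -1; 1, 1, 1, 1, 1, 1, 1, 1; 0, 0, 1, 1, 0, 0, 0, 0; 0, 1, 0, 1, 1, 0, 0, 0; 1, 0, 1, 1, 1, 1, 0, 0]
theorem Cpow11 : C ^ 11 = P11 := by rw [pow_succ, Cpow10]; decide
def P12 : Matrix (Fin 8) (Fin 8) ℤ := !![-1, 0, -1, -1, -1, 0, 0, 0; -1, -1, -1, -2, -1, -1, 0, 0; 0, -1, -1, -1, -1, -1, 0, 0; 0, 0, 0, 0, 0, 0, -1, 0; 0, 0, 0, 0, 0, 0, 0, -1; 1, 1, 1, 1, 1, 1, 1, 1; 0, 0, 1, 1, 0, 0, 0, 0; 0, 1, 0, 1, 1, 0, 0, 0]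
theorem Cpow12 : C ^ 12 = P12 := by rw [pow_succ, Cpow11]; decide
def P13 : Matrix (Fin 8) (Fin 8) ℤ := !![0, -1, 0, -1, 0, 0, 0, 0; 0, -1, -1, -1, -1, 0, 0, 0; -1, 0, -1, -1, -1, 0, 0, 0; 0, 0, 0, 0, 0, -1, 0, 0; 0, 0, 0, 0, 0, 0, -1, 0; 0, 0, 0, 0, 0, 0, 0, -1; 1, 1, 1, 1, 1, 1, 1, 1; 0, 0, 1, 1, 0, 0, 0, 0]
theorem Cpow13 : C ^ 13 = P13 := by rw [pow_succ, Cpow12]; decide
def P14 : Matrix (Fin 8) (Fin 8) ℤ := !![0, 0, -1, 0, 0, 0, 0, 0; -1, 0, -1, -1, 0, 0, 0, 0; 0, -1, 0, -1, 0, 0, 0, 0; 0, 0, 0, 0, -1, 0, 0, 0; 0, 0, 0, 0, 0, -1, 0, 0; 0, 0, 0, 0, 0, 0, -1, 0; 0, 0, 0, 0, 0, 0, 0, -1; 1, 1, 1, 1, 1, 1, 1, 1]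
theorem Cpow14 : C ^ 14 = P14 := by rw [pow_succ, Cpow13]; decide
def P15 : Matrix (Fin 8) (Fin 8) ℤ := !![-1, 0, 0, 0, 0, 0, 0, 0; 0, -1, 0, 0, 0, 0, 0, 0; 0, 0, -1, 0, 0, 0, 0, 0; 0, 0, 0, -1, 0, 0, 0, 0; 0, 0, 0, 0, -1, 0, 0, 0; 0, 0, 0, 0, 0, -1, 0, 0; 0, 0, 0, 0, 0, 0, -1, 0; 0, 0, 0, 0, 0, 0, 0, -1]
theorem Cpow15 : C ^ 15 = P15 := by rw [pow_succ, Cpow14]; decide
def P16 : Matrix (Fin 8) (Fin 8) ℤ := !![1, 0, 1, 1, 1, 1, 1, 1; 0, 1, 0, 1, 1, 1, 1, 1; -1, 0, 0, 0, 0, 0, 0, 0; 0, -1, -1, -1, -1, -1, -1, -1; 0, 0, 0, -1, 0, 0, 0, 0; 0, 0, 0, 0, -1, 0, 0, 0; 0, 0, 0, 0, 0, -1, 0, 0; 0, 0, 0, 0, 0, 0, -1, 0]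
theorem Cpow16 : C ^ 16 = P16 := by rw [pow_succ, Cpow15]; decide
def P17 : Matrix (Fin 8) (Fin 8) ℤ := !![0, 1, 0, 1, 1, 1, 1, 0; 0, 0, 1, 1, 1, 1, 1, 0; 1, 0, 1, 1, 1, 1, 1, 1; -1, 0, -1, -1, -1, -1, -1, 0; 0, -1, -1, -1, -1, -1, -1, -1; 0, 0, 0, -1, 0, 0, 0, 0; 0, 0, 0, 0, -1, 0, 0, 0; 0, 0, 0, 0, 0, -1, 0, 0]
theorem Cpow17 : C ^ 17 = P17 := by rw [pow_succ, Cpow16]; decide
def P18 : Matrix (Fin 8) (Fin 8) ℤ := !![0, 0, 1, 1, 1, 1, 0, 0; 1, 1, 1, 2, 2, 2, 1, 1; 0, 1, 0, 1, 1, 1, 1, 0; 0, -1, 0, -1, -1, -1, 0, 0; -1, 0, -1, -1, -1, -1, -1, 0; 0, -1, -1, -1, -1, -1, -1, -1; 0, 0, 0, -1, 0, 0, 0, 0; 0, 0, 0, 0, -1, 0, 0, 0]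
theorem Cpow18 : C ^ 18 = P18 := by rw [pow_succ, Cpow17]; decide
def P19 : Matrix (Fin 8) (Fin 8) ℤ := !![1, 1, 1, 2, 2, 1, 1, 1; 0, 1, 1, 2, 2, 1, 1, 0; 0, 0, 1, 1, 1, 1, 0, 0; 0, 0, -1, -1, -1, 0, 0, 0; 0, -1, 0, -1, -1, -1, 0, 0; -1, 0, -1, -1, -1, -1, -1, 0; 0, -1, -1, -1, -1, -1, -1, -1; 0, 0, 0, -1, 0, 0, 0, 0]
theorem Cpow19 : C ^ 19 = P19 := by rw [pow_succ, Cpow18]; decide
def P20 : Matrix (Fin 8) (Fin 8) ℤ := !![0, 1, 1, 2, 1, 1, 1, 0; 1, 1, 2, 3, 2, 2, 1, 1; 1, 1, 1, 2, 2, 1, 1, 1; -1, -1, -1, -2, -1, -1, -1, -1; 0, 0, -1, -1, -1, 0, 0, 0; 0, -1, 0, -1, -1, -1, 0, 0; -1, 0, -1, -1, -1, -1, -1, 0; 0, -1, -1, -1, -1, -1, -1, -1]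
theorem Cpow20 : C ^ 20 = P20 := by rw [pow_succ, Cpow19]; decide
def P21 : Matrix (Fin 8) (Fin 8) ℤ := !![1, 1, 2, 2, 2, 2, 1, 1; 1, 2, 2, 3, 3, 2, 2, 1; 0, 1, 1, 2, 1, 1, 1, 0; 0, -1, -1, -1, -1, -1, -1, 0; -1, -1, -1, -2, -1, -1, -1, -1; 0, 0, -1, -1, -1, 0, 0, 0; 0, -1, 0, -1, -1, -1, 0, 0; -1, 0, -1, -1, -1, -1, -1, 0]
theorem Cpow21 : C ^ 21 = P21 := by rw [pow_succ, Cpow20]; decide
def P22 : Matrix (Fin 8) (Fin 8) ℤ := !![1, 1, 1, 2, 2, 1, 1, 0; 1, 1, 2, 3, 2, 2, 1, 0; 1, 1, 2, 2, 2, 2, 1, 1; -1, 0, -1, -1, -1, -1, 0, 0; 0, -1, -1, -1, -1, -1, -1, 0; -1, -1, -1, -2, -1, -1, -1, -1; 0, 0, -1, -1, -1, 0, 0, 0; 0, -1, 0, -1, -1, -1, 0, 0]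
theorem Cpow22 : C ^ 22 = P22 := by rw [pow_succ, Cpow21]; decide
def P23 : Matrix (Fin 8) (Fin 8) ℤ := !![0, 1, 1, 2, 1, 1, 0, 0; 1, 2, 2, 3, 3, 2, 1, 1; 1, 1, 1, 2, 2, 1, 1, 0; 0, -1, 0, -1, -1, 0, 0, 0; -1, 0, -1, -1, -1, -1, 0, 0; 0, -1, -1, -1, -1, -1, -1, 0; -1, -1, -1, -2, -1, -1, -1, -1; 0, 0, -1, -1, -1, 0, 0, 0]
theorem Cpow23 : C ^ 23 = P23 := by rw [pow_succ, Cpow22]; decide
def P24 : Matrix (Fin 8) (Fin 8) ℤ := !![1, 1, 2, 2, 2, 1, 1, 1; 1, 1, 2, 3, 2, 1, 1, 0; 0, 1, 1, 2, 1, 1, 0, 0; 0, 0, -1, -1, 0, 0, 0, 0; 0, -1, 0, -1, -1, 0, 0, 0; -1, 0, -1, -1, -1, -1, 0, 0; 0, -1, -1, -1, -1, -1, -1, 0; -1, -1, -1, -2, -1, -1, -1, -1]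
theorem Cpow24 : C ^ 24 = P24 := by rw [pow_succ, Cpow23]; decide
def P25 : Matrix (Fin 8) (Fin 8) ℤ := !![1, 1, 1, 2, 1, 1, 1, 0; 1, 2, 2, 3, 2, 2, 1, 1; 1, 1, 2, 2, 2, 1, 1, 1; -1, -1, -1, -1, -1, -1, -1, -1; 0, 0, -1, -1, 0, 0, 0, 0; 0, -1, 0, -1, -1, 0, 0, 0; -1, 0, -1, -1, -1, -1, 0, 0; 0, -1, -1, -1, -1, -1, -1, 0]
theorem Cpow25 : C ^ 25 = P25 := by rw [pow_succ, Cpow24]; decide
def P26 : Matrix (Fin 8) (Fin 8) ℤ := !![0, 1, 1, 1, 1, 1, 0, 0; 1, 1, 2, 2, 2, 1, 1, 0; 1, 1, 1, 2, 1, 1, 1, 0; 0, 0, 0, 0, 0, 0, 0, 1; -1, -1, -1, -1, -1, -1, -1, -1; 0, 0, -1, -1, 0, 0, 0, 0; 0, -1, 0, -1, -1, 0, 0, 0; -1, 0, -1, -1, -1, -1, 0, 0]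
theorem Cpow26 : C ^ 26 = P26 := by rw [pow_succ, Cpow25]; decide
def P27 : Matrix (Fin 8) (Fin 8) ℤ := !![1, 0, 1, 1, 1, 0, 0, 0; 1, 1, 1, 2, 1, 1, 0, 0; 0, 1, 1, 1, 1, 1, 0, 0; 0, 0, 0, 0, 0, 0, 1, 0; 0, 0, 0, 0, 0, 0, 0, 1; -1, -1, -1, -1, -1, -1, -1, -1; 0, 0, -1, -1, 0, 0, 0, 0; 0, -1, 0, -1, -1, 0, 0, 0]
theorem Cpow27 : C ^ 27 = P27 := by rw [pow_succ, Cpow26]; decide
def P28 : Matrix (Fin 8) (Fin 8) ℤ := !![0, 1, 0, 1, 0, 0, 0, 0; 0, 1, 1, 1, 1, 0, 0, 0; 1, 0, 1, 1, 1, 0, 0, 0; 0, 0, 0, 0, 0, 1, 0, 0; 0, 0, 0, 0, 0, 0, 1, 0; 0, 0, 0, 0, 0, 0, 0, 1; -1, -1, -1, -1, -1, -1, -1, -1; 0, 0, -1, -1, 0, 0, 0, 0]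
theorem Cpow28 : C ^ 28 = P28 := by rw [pow_succ, Cpow27]; decide
def P29 : Matrix (Fin 8) (Fin 8) ℤ := !![0, 0, 1, 0, 0, 0, 0, 0; 1, 0, 1, 1, 0, 0, 0, 0; 0, 1, 0, 1, 0, 0, 0, 0; 0, 0, 0, 0, 1, 0, 0, 0; 0, 0, 0, 0, 0, 1, 0, 0; 0, 0, 0, 0, 0, 0, 1, 0; 0, 0, 0, 0, 0, 0, 0, 1; -1, -1, -1, -1, -1, -1, -1, -1]
theorem Cpow29 : C ^ 29 = P29 := by rw [pow_succ, Cpow28]; decide
def P30 : Matrix (Fin 8) (Fin 8) ℤ := !![1, 0, 0, 0, 0, 0, 0, 0; 0, 1, 0, 0, 0, 0, 0, 0; 0, 0, 1, 0, 0, 0, 0, 0; 0, 0, 0, 1, 0, 0, 0, 0; 0, 0, 0, 0, 1, 0, 0, 0; 0, 0, 0, 0, 0, 1, 0, 0; 0, 0, 0, 0, 0, 0, 1, 0; 0, 0, 0, 0, 0, 0, 0, 1]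
theorem Cpow30 : C ^ 30 = P30 := by rw [pow_succ, Cpow29]; decide
theorem orderOf_C : orderOf C = 30 := by
  apply orderOf_eq_of_pow_and_pow_div_prime (by norm_num)
  · rw [Cpow30]; decide
  · intro p hp hdvd
    have hle : p ≤ 30 := Nat.le_of_dvd (by norm_num) hdvd
    interval_cases p
    · exact absurd hp (by decide)
    · exact absurd hp (by decide)
    · rw [show 30 / 2 = 15 from rfl, Cpow15]; decide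
    · rw [show 30 / 3 = 10 from rfl, Cpow10]; decide
    · exact absurd hdvd (by decide)
    · rw [show 30 / 5 = 6 from rfl, Cpow6]; decide
    · exact absurd hp (by decide)
    · exact absurd hdvd (by decide)
    · exact absurd hdvd (by decide)
    · exact absurd hdvd (by decide)
    · exact absurd hp (by decide)
    · exact absurd hdvd (by decide)
    · exact absurd hdvd (by decide)
    · exact absurd hdvd (by decide)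
    · exact absurd hdvd (by decide)
    · exact absurd hp (by decide)
    · exact absurd hdvd (by decide)
    · exact absurd hdvd (by decide)
    · exact absurd hdvd (by decide)
    · exact absurd hdvd (by decide)
    · exact absurd hdvd (by decide)
    · exact absurd hdvd (by decide)
    · exact absurd hdvd (by decide)
    · exact absurd hdvd (by decide)
    · exact absurd hdvd (by decide)
    · exact absurd hdvd (by decide)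
    · exact absurd hdvd (by decide)
    · exact absurd hdvd (by decide)
    · exact absurd hdvd (by decide)
    · exact absurd hdvd (by decide)
    · exact absurd hp (by decide)
theorem coxeter_order : orderOf (((List.finRange 8).map Mx.simple).prod) = 30 := by
  rw [← orderOf_injective φ φ_injective, orderOf_eq_of_mulVec _ C hC, orderOf_C]

end Cfsg.Agent.Lib.Helper25.Cox.E8
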