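import Mathlib
import Cfsg.Agent.Lib.Helper25.CoxE8Mat

set_option autoImplicit false
set_option maxRecDepth 100000

namespace Cfsg.Agent.Lib.Helper25.Cox.E8

open Cfsg.Agent.Lib.Helper25.Cox

noncomputable def Tset : Finset Mx.Group := {Mx.simple 3}
theorem Tset_card : Tset.card = 1 := Finset.card_singleton _
theorem mem_Tset {t : Mx.Group} : t ∈ Tset ↔ t = Mx.simple 3 := Finset.mem_singleton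
theorem Tset_refl : ∀ t ∈ Tset, ∃ (g : Mx.Group) (i : Fin 8), t = g * Mx.simple i * g⁻¹ := by
  intro t ht
  rw [mem_Tset] at ht
  exact ⟨1, 3, by rw [ht]; simp⟩
noncomputable def Hgen : Subgroup Mx.Group := Subgroup.closure (({cox} : Set Mx.Group) ∪ ↑Tset)
theorem cox_mem : cox ∈ Hgen := Subgroup.subset_closure (Or.inl rfl)
theorem t3_mem : Mx.simple 3 ∈ Hgen := Subgroup.subset_closure (Or.inr (Finset.mem_coe.mpr (mem_Tset.mpr (by simp))))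
def L0 : Matrix (Fin 8) (Fin 8) ℤ := !![0, 0, -1, 0, 0, 0, 0, 0; -1, 0, -1, -1, 0, 0, 0, 0; 0, -1, 0, -1, 0, 0, 0, 0; 0, 0, 0, 0, -1, 0, 0, 0; 0, 0, 0, 0, 0, -1, 0, 0; 0, 0, 0, 0, 0, 0, -1, 0; 0, 0, 0, 0, 0, 0, 0, -1; 1, 1, 1, 1, 1, 1, 1, 1]
noncomputable def e0 : Mx.Group := cox ^ 14
theorem m0 : e0 ∈ Hgen := Subgroup.pow_mem _ cox_mem _
theorem ψe0 : ψ e0 = L0 := by rw [e0, map_pow, ψ_cox, Cpow14]; decide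
def L1 : Matrix (Fin 8) (Fin 8) ℤ := !![1, 0, 0, 0, 0, 0, 0, 0; 0, 1, 0, 1, 0, 0, 0, 0; 0, 0, 1, 1, 0, 0, 0, 0; 0, 0, 0, -1, 0, 0, 0, 0; 0, 0, 0, 1, 1, 0, 0, 0; 0, 0, 0, 0, 0, 1, 0, 0; 0, 0, 0, 0, 0, 0, 1, 0; 0, 0, 0, 0, 0, 0, 0, 1]
noncomputable def e1 : Mx.Group := Mx.simple 3
theorem m1 : e1 ∈ Hgen := t3_mem
theorem ψe1 : ψ e1 = L1 := by rw [e1, hψ]; decide
def L2 : Matrix (Fin 8) (Fin 8) ℤ := !![-1, -1, -2, -2, -2, -2, -1, -1; -1, -2, -2, -3, -3, -2, -2, -1; 0, -1, -1, -2, -1, -1, -1, 0; 0, 1, 1, 1, 1, 1, 1, 0; 1, 1, 1, 2, 1, 1, 1, 1; 0, 0, 1, 1, 1, 0, 0, 0; 0, 1, 0, 1, 1, 1, 0, 0; 1, 0, 1, 1, 1, 1, 1, 0]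
noncomputable def e2 : Mx.Group := cox ^ 6
theorem m2 : e2 ∈ Hgen := Subgroup.pow_mem _ cox_mem _
theorem ψe2 : ψ e2 = L2 := by rw [e2, map_pow, ψ_cox, Cpow6]; decide
def L3 : Matrix (Fin 8) (Fin 8) ℤ := !![-1, -1, -2, -3, -2, -2, -1, -1; -1, -2, -2, -4, -3, -2, -2, -1; 0, -1, -1, -1, -1, -1, -1, 0; 0, 1, 1, 2, 1, 1, 1, 0; 1, 1, 1, 1, 1, 1, 1, 1; 0, 0, 1, 1, 1, 0, 0, 0; 0, 1, 0, 1, 1, 1, 0, 0; 1, 0, 1, 1, 1, 1, 1, 0]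
noncomputable def e3 : Mx.Group := e2 * e1
theorem m3 : e3 ∈ Hgen := Subgroup.mul_mem _ m2 m1
theorem ψe3 : ψ e3 = L3 := by rw [e3, map_mul, ψe2, ψe1]; decide
def L4 : Matrix (Fin 8) (Fin 8) ℤ := !![1, 1, 2, 2, 2, 1, 1, 1; 1, 1, 2, 3, 2, 1, 1, 0; 0, 1, 1, 2, 1, 1, 0, 0; 0, 0, -1, -1, 0, 0, 0, 0; 0, -1, 0, -1, -1, 0, 0, 0; -1, 0, -1, -1, -1, -1, 0, 0; 0, -1, -1, -1, -1, -1, -1, 0; -1, -1, -1, -2, -1, -1, -1, -1]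
noncomputable def e4 : Mx.Group := cox ^ 24
theorem m4 : e4 ∈ Hgen := Subgroup.pow_mem _ cox_mem _
theorem ψe4 : ψ e4 = L4 := by rw [e4, map_pow, ψ_cox, Cpow24]; decide
def L5 : Matrix (Fin 8) (Fin 8) ℤ := !![1, 0, 1, 1, 0, 0, 0, 0; 0, 1, 1, 1, 0, 0, 0, 0; 0, 0, 0, -1, 0, 0, 0, 0; 0, 0, -1, 0, 0, 0, 0, 0; 0, 0, 1, 1, 1, 0, 0, 0; 0, 0, 0, 0, 0, 1, 0, 0; 0, 0, 0, 0, 0, 0, 1, 0; 0, 0, 0, 0, 0, 0, 0, 1]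
noncomputable def e5 : Mx.Group := e3 * e4
theorem m5 : e5 ∈ Hgen := Subgroup.mul_mem _ m3 m4
theorem ψe5 : ψ e5 = L5 := by rw [e5, map_mul, ψe3, ψe4]; decide
def L6 : Matrix (Fin 8) (Fin 8) ℤ := !![1, 0, 1, 1, 0, 0, 0, 0; 0, 1, 0, 1, 0, 0, 0, 0; 0, 0, -1, -1, 0, 0, 0, 0; 0, 0, 1, 0, 0, 0, 0, 0; 0, 0, 0, 1, 1, 0, 0, 0; 0, 0, 0, 0, 0, 1, 0, 0; 0, 0, 0, 0, 0, 0, 1, 0; 0, 0, 0, 0, 0, 0, 0, 1]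
noncomputable def e6 : Mx.Group := e1 * e5
theorem m6 : e6 ∈ Hgen := Subgroup.mul_mem _ m1 m5
theorem ψe6 : ψ e6 = L6 := by rw [e6, map_mul, ψe1, ψe5]; decide
def L7 : Matrix (Fin 8) (Fin 8) ℤ := !![1, 0, 1, 0, 0, 0, 0, 0; 0, 1, 0, 0, 0, 0, 0, 0; 0, 0, -1, 0, 0, 0, 0, 0; 0, 0, 1, 1, 0, 0, 0, 0; 0, 0, 0, 0, 1, 0, 0, 0; 0, 0, 0, 0, 0, 1, 0, 0; 0, 0, 0, 0, 0, 0, 1, 0; 0, 0, 0, 0, 0, 0, 0, 1]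
noncomputable def e7 : Mx.Group := e6 * e1
theorem m7 : e7 ∈ Hgen := Subgroup.mul_mem _ m6 m1
theorem ψe7 : ψ e7 = L7 := by rw [e7, map_mul, ψe6, ψe1]; decide
def L8 : Matrix (Fin 8) (Fin 8) ℤ := !![0, 0, 1, 0, 0, 0, 0, 0; -1, 0, -1, -1, 0, 0, 0, 0; 0, -1, -1, -1, 0, 0, 0, 0; 0, 0, 0, 0, -1, 0, 0, 0; 0, 0, 0, 0, 0, -1, 0, 0; 0, 0, 0, 0, 0, 0, -1, 0; 0, 0, 0, 0, 0, 0, 0, -1; 1, 1, 1, 1, 1, 1, 1, 1]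
noncomputable def e8 : Mx.Group := e0 * e7
theorem m8 : e8 ∈ Hgen := Subgroup.mul_mem _ m0 m7
theorem ψe8 : ψ e8 = L8 := by rw [e8, map_mul, ψe0, ψe7]; decide
def L9 : Matrix (Fin 8) (Fin 8) ℤ := !![1, 0, 1, 1, 1, 1, 1, 1; 0, 1, 0, 1, 1, 1, 1, 1; -1, 0, 0, 0, 0, 0, 0, 0; 0, -1, -1, -1, -1, -1, -1, -1; 0, 0, 0, -1, 0, 0, 0, 0; 0, 0, 0, 0, -1, 0, 0, 0; 0, 0, 0, 0, 0, -1, 0, 0; 0, 0, 0, 0, 0, 0, -1, 0]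
noncomputable def e9 : Mx.Group := cox ^ 16
theorem m9 : e9 ∈ Hgen := Subgroup.pow_mem _ cox_mem _
theorem ψe9 : ψ e9 = L9 := by rw [e9, map_pow, ψ_cox, Cpow16]; decide
def L10 : Matrix (Fin 8) (Fin 8) ℤ := !![-1, 0, 0, 0, 0, 0, 0, 0; 0, 1, 0, 0, 0, 0, 0, 0; 1, 0, 1, 0, 0, 0, 0, 0; 0, 0, 0, 1, 0, 0, 0, 0; 0, 0, 0, 0, 1, 0, 0, 0; 0, 0, 0, 0, 0, 1, 0, 0; 0, 0, 0, 0, 0, 0, 1, 0; 0, 0, 0, 0, 0, 0, 0, 1]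
noncomputable def e10 : Mx.Group := e8 * e9
theorem m10 : e10 ∈ Hgen := Subgroup.mul_mem _ m8 m9
theorem ψe10 : ψ e10 = L10 := by rw [e10, map_mul, ψe8, ψe9]; decide
theorem simple0_mem : Mx.simple 0 ∈ Hgen := by
  have h : Mx.simple 0 = e10 := ψ_injective (by rw [hψ, ψe10]; decide)
  rw [h]; exact m10
def L11 : Matrix (Fin 8) (Fin 8) ℤ := !![-1, 0, -1, -1, -1, -1, -1, -1; 0, -1, 0, -1, -1, -1, -1, -1; 1, 0, 0, 0, 0, 0, 0, 0; 0, 1, 1, 1, 1, 1, 1, 1; 0, 0, 0, 1, 0, 0, 0, 0; 0, 0, 0, 0, 1, 0, 0, 0; 0, 0, 0, 0, 0, 1, 0, 0; 0, 0, 0, 0, 0, 0, 1, 0]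
noncomputable def e11 : Mx.Group := cox ^ 1
theorem m11 : e11 ∈ Hgen := Subgroup.pow_mem _ cox_mem _
theorem ψe11 : ψ e11 = L11 := by rw [e11, map_pow, ψ_cox, Cpow1]; decide
def L12 : Matrix (Fin 8) (Fin 8) ℤ := !![-1, 0, -1, -1, -1, -1, -1, -1; 0, -1, -1, -1, -1, -1, -1, -1; 1, 0, 1, 0, 0, 0, 0, 0; 0, 1, 0, 1, 1, 1, 1, 1; 0, 0, 1, 1, 0, 0, 0, 0; 0, 0, 0, 0, 1, 0, 0, 0; 0, 0, 0, 0, 0, 1, 0, 0; 0, 0, 0, 0, 0, 0, 1, 0]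
noncomputable def e12 : Mx.Group := e11 * e7
theorem m12 : e12 ∈ Hgen := Subgroup.mul_mem _ m11 m7
theorem ψe12 : ψ e12 = L12 := by rw [e12, map_mul, ψe11, ψe7]; decide
def L13 : Matrix (Fin 8) (Fin 8) ℤ := !![0, 0, 1, 0, 0, 0, 0, 0; 1, 0, 1, 1, 0, 0, 0, 0; 0, 1, 0, 1, 0, 0, 0, 0; 0, 0, 0, 0, 1, 0, 0, 0; 0, 0, 0, 0, 0, 1, 0, 0; 0, 0, 0, 0, 0, 0, 1, 0; 0, 0, 0, 0, 0, 0, 0, 1; -1, -1, -1, -1, -1, -1, -1, -1]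
noncomputable def e13 : Mx.Group := cox ^ 29
theorem m13 : e13 ∈ Hgen := Subgroup.pow_mem _ cox_mem _
theorem ψe13 : ψ e13 = L13 := by rw [e13, map_pow, ψ_cox, Cpow29]; decide
def L14 : Matrix (Fin 8) (Fin 8) ℤ := !![1, 0, 0, 0, 0, 0, 0, 0; 0, 0, 0, -1, 0, 0, 0, 0; 0, 1, 1, 1, 0, 0, 0, 0; 0, -1, 0, 0, 0, 0, 0, 0; 0, 1, 0, 1, 1, 0, 0, 0; 0, 0, 0, 0, 0, 1, 0, 0; 0, 0, 0, 0, 0, 0, 1, 0; 0, 0, 0, 0, 0, 0, 0, 1]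
noncomputable def e14 : Mx.Group := e12 * e13
theorem m14 : e14 ∈ Hgen := Subgroup.mul_mem _ m12 m13
theorem ψe14 : ψ e14 = L14 := by rw [e14, map_mul, ψe12, ψe13]; decide
def L15 : Matrix (Fin 8) (Fin 8) ℤ := !![1, 0, 0, 0, 0, 0, 0, 0; 0, -1, 0, -1, 0, 0, 0, 0; 0, 0, 1, 1, 0, 0, 0, 0; 0, 1, 0, 0, 0, 0, 0, 0; 0, 0, 0, 1, 1, 0, 0, 0; 0, 0, 0, 0, 0, 1, 0, 0; 0, 0, 0, 0, 0, 0, 1, 0; 0, 0, 0, 0, 0, 0, 0, 1]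
noncomputable def e15 : Mx.Group := e1 * e14
theorem m15 : e15 ∈ Hgen := Subgroup.mul_mem _ m1 m14
theorem ψe15 : ψ e15 = L15 := by rw [e15, map_mul, ψe1, ψe14]; decide
def L16 : Matrix (Fin 8) (Fin 8) ℤ := !![1, 0, 0, 0, 0, 0, 0, 0; 0, -1, 0, 0, 0, 0, 0, 0; 0, 0, 1, 0, 0, 0, 0, 0; 0, 1, 0, 1, 0, 0, 0, 0; 0, 0, 0, 0, 1, 0, 0, 0; 0, 0, 0, 0, 0, 1, 0, 0; 0, 0, 0, 0, 0, 0, 1, 0; 0, 0, 0, 0, 0, 0, 0, 1]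
noncomputable def e16 : Mx.Group := e15 * e1
theorem m16 : e16 ∈ Hgen := Subgroup.mul_mem _ m15 m1
theorem ψe16 : ψ e16 = L16 := by rw [e16, map_mul, ψe15, ψe1]; decide
theorem simple1_mem : Mx.simple 1 ∈ Hgen := by
  have h : Mx.simple 1 = e16 := ψ_injective (by rw [hψ, ψe16]; decide)
  rw [h]; exact m16
theorem simple2_mem : Mx.simple 2 ∈ Hgen := by
  have h : Mx.simple 2 = e7 := ψ_injective (by rw [hψ, ψe7]; decide)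
  rw [h]; exact m7
theorem simple3_mem : Mx.simple 3 ∈ Hgen := by
  have h : Mx.simple 3 = e1 := ψ_injective (by rw [hψ, ψe1]; decide)
  rw [h]; exact m1
def L17 : Matrix (Fin 8) (Fin 8) ℤ := !![-1, 0, -1, -1, -1, -1, -1, -1; 0, -1, 0, -1, -1, -1, -1, -1; 1, 0, 0, 0, 0, 0, 0, 0; 0, 1, 1, 2, 1, 1, 1, 1; 0, 0, 0, -1, 0, 0, 0, 0; 0, 0, 0, 1, 1, 0, 0, 0; 0, 0, 0, 0, 0, 1, 0, 0; 0, 0, 0, 0, 0, 0, 1, 0]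
noncomputable def e17 : Mx.Group := e11 * e1
theorem m17 : e17 ∈ Hgen := Subgroup.mul_mem _ m11 m1
theorem ψe17 : ψ e17 = L17 := by rw [e17, map_mul, ψe11, ψe1]; decide
def L18 : Matrix (Fin 8) (Fin 8) ℤ := !![1, 0, 0, 0, 0, 0, 0, 0; 0, 1, 0, 0, 0, 0, 0, 0; 0, 0, 1, 0, 0, 0, 0, 0; 0, 0, 0, 1, 1, 0, 0, 0; 0, 0, 0, 0, -1, 0, 0, 0; 0, 0, 0, 0, 1, 1, 0, 0; 0, 0, 0, 0, 0, 0, 1, 0; 0, 0, 0, 0, 0, 0, 0, 1]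
noncomputable def e18 : Mx.Group := e17 * e13
theorem m18 : e18 ∈ Hgen := Subgroup.mul_mem _ m17 m13
theorem ψe18 : ψ e18 = L18 := by rw [e18, map_mul, ψe17, ψe13]; decide
theorem simple4_mem : Mx.simple 4 ∈ Hgen := by
  have h : Mx.simple 4 = e18 := ψ_injective (by rw [hψ, ψe18]; decide)
  rw [h]; exact m18
def L19 : Matrix (Fin 8) (Fin 8) ℤ := !![0, -1, 0, -1, -1, -1, -1, 0; 0, 0, -1, -1, -1, -1, -1, 0; -1, 0, -1, -1, -1, -1, -1, -1; 1, 0, 1, 1, 1, 1, 1, 0; 0, 1, 1, 1, 1, 1, 1, 1; 0, 0, 0, 1, 0, 0, 0, 0; 0, 0, 0, 0, 1, 0, 0, 0; 0, 0, 0, 0, 0, 1, 0, 0]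
noncomputable def e19 : Mx.Group := cox ^ 2
theorem m19 : e19 ∈ Hgen := Subgroup.pow_mem _ cox_mem _
theorem ψe19 : ψ e19 = L19 := by rw [e19, map_pow, ψ_cox, Cpow2]; decide
def L20 : Matrix (Fin 8) (Fin 8) ℤ := !![0, -1, 0, -1, -1, -1, -1, 0; 0, 0, -1, -1, -1, -1, -1, 0; -1, 0, -1, -1, -1, -1, -1, -1; 1, 0, 1, 1, 1, 1, 1, 0; 0, 1, 1, 2, 1, 1, 1, 1; 0, 0, 0, -1, 0, 0, 0, 0; 0, 0, 0, 1, 1, 0, 0, 0; 0, 0, 0, 0, 0, 1, 0, 0]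
noncomputable def e20 : Mx.Group := e19 * e1
theorem m20 : e20 ∈ Hgen := Subgroup.mul_mem _ m19 m1
theorem ψe20 : ψ e20 = L20 := by rw [e20, map_mul, ψe19, ψe1]; decide
def L21 : Matrix (Fin 8) (Fin 8) ℤ := !![0, 1, 0, 1, 0, 0, 0, 0; 0, 1, 1, 1, 1, 0, 0, 0; 1, 0, 1, 1, 1, 0, 0, 0; 0, 0, 0, 0, 0, 1, 0, 0; 0, 0, 0, 0, 0, 0, 1, 0; 0, 0, 0, 0, 0, 0, 0, 1; -1, -1, -1, -1, -1, -1, -1, -1; 0, 0, -1, -1, 0, 0, 0, 0]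
noncomputable def e21 : Mx.Group := cox ^ 28
theorem m21 : e21 ∈ Hgen := Subgroup.pow_mem _ cox_mem _
theorem ψe21 : ψ e21 = L21 := by rw [e21, map_pow, ψ_cox, Cpow28]; decide
def L22 : Matrix (Fin 8) (Fin 8) ℤ := !![1, 0, 0, 0, 0, 0, 0, 0; 0, 1, 0, 0, 0, 0, 0, 0; 0, 0, 1, 0, 0, 0, 0, 0; 0, 0, 0, 1, 0, 0, 0, 0; 0, 0, 0, 0, 1, 1, 0, 0; 0, 0, 0, 0, 0, -1, 0, 0; 0, 0, 0, 0, 0, 1, 1, 0; 0, 0, 0, 0, 0, 0, 0, 1]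
noncomputable def e22 : Mx.Group := e20 * e21
theorem m22 : e22 ∈ Hgen := Subgroup.mul_mem _ m20 m21
theorem ψe22 : ψ e22 = L22 := by rw [e22, map_mul, ψe20, ψe21]; decide
theorem simple5_mem : Mx.simple 5 ∈ Hgen := by
  have h : Mx.simple 5 = e22 := ψ_injective (by rw [hψ, ψe22]; decide)
  rw [h]; exact m22
def L23 : Matrix (Fin 8) (Fin 8) ℤ := !![0, 0, -1, -1, -1, -1, 0, 0; -1, -1, -1, -2, -2, -2, -1, -1; 0, -1, 0, -1, -1, -1, -1, 0; 0, 1, 0, 1, 1, 1, 0, 0; 1, 0, 1, 1, 1, 1, 1, 0; 0, 1, 1, 1, 1, 1, 1, 1; 0, 0, 0, 1, 0, 0, 0, 0; 0, 0, 0, 0, 1, 0, 0, 0]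
noncomputable def e23 : Mx.Group := cox ^ 3
theorem m23 : e23 ∈ Hgen := Subgroup.pow_mem _ cox_mem _
theorem ψe23 : ψ e23 = L23 := by rw [e23, map_pow, ψ_cox, Cpow3]; decide
def L24 : Matrix (Fin 8) (Fin 8) ℤ := !![0, 0, -1, -1, -1, -1, 0, 0; -1, -1, -1, -2, -2, -2, -1, -1; 0, -1, 0, -1, -1, -1, -1, 0; 0, 1, 0, 1, 1, 1, 0, 0; 1, 0, 1, 1, 1, 1, 1, 0; 0, 1, 1, 2, 1, 1, 1, 1; 0, 0, 0, -1, 0, 0, 0, 0; 0, 0, 0, 1, 1, 0, 0, 0]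
noncomputable def e24 : Mx.Group := e23 * e1
theorem m24 : e24 ∈ Hgen := Subgroup.mul_mem _ m23 m1
theorem ψe24 : ψ e24 = L24 := by rw [e24, map_mul, ψe23, ψe1]; decide
def L25 : Matrix (Fin 8) (Fin 8) ℤ := !![1, 0, 1, 1, 1, 0, 0, 0; 1, 1, 1, 2, 1, 1, 0, 0; 0, 1, 1, 1, 1, 1, 0, 0; 0, 0, 0, 0, 0, 0, 1, 0; 0, 0, 0, 0, 0, 0, 0, 1; -1, -1, -1, -1, -1, -1, -1, -1; 0, 0, -1, -1, 0, 0, 0, 0; 0, -1, 0, -1, -1, 0, 0, 0]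
noncomputable def e25 : Mx.Group := cox ^ 27
theorem m25 : e25 ∈ Hgen := Subgroup.pow_mem _ cox_mem _
theorem ψe25 : ψ e25 = L25 := by rw [e25, map_pow, ψ_cox, Cpow27]; decide
def L26 : Matrix (Fin 8) (Fin 8) ℤ := !![1, 0, 0, 0, 0, 0, 0, 0; 0, 1, 0, 0, 0, 0, 0, 0; 0, 0, 1, 0, 0, 0, 0, 0; 0, 0, 0, 1, 0, 0, 0, 0; 0, 0, 0, 0, 1, 0, 0, 0; 0, 0, 0, 0, 0, 1, 1, 0; 0, 0, 0, 0, 0, 0, -1, 0; 0, 0, 0, 0, 0, 0, 1, 1]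
noncomputable def e26 : Mx.Group := e24 * e25
theorem m26 : e26 ∈ Hgen := Subgroup.mul_mem _ m24 m25
theorem ψe26 : ψ e26 = L26 := by rw [e26, map_mul, ψe24, ψe25]; decide
theorem simple6_mem : Mx.simple 6 ∈ Hgen := by
  have h : Mx.simple 6 = e26 := ψ_injective (by rw [hψ, ψe26]; decide)
  rw [h]; exact m26
def L27 : Matrix (Fin 8) (Fin 8) ℤ := !![-1, -1, -1, -2, -2, -1, -1, -1; 0, -1, -1, -2, -2, -1, -1, 0; 0, 0, -1, -1, -1, -1, 0, 0; 0, 0, 1, 1, 1, 0, 0, 0; 0, 1, 0, 1, 1, 1, 0, 0; 1, 0, 1, 1, 1, 1, 1, 0; 0, 1, 1, 1, 1, 1, 1, 1; 0, 0, 0, 1, 0, 0, 0, 0]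
noncomputable def e27 : Mx.Group := cox ^ 4
theorem m27 : e27 ∈ Hgen := Subgroup.pow_mem _ cox_mem _
theorem ψe27 : ψ e27 = L27 := by rw [e27, map_pow, ψ_cox, Cpow4]; decide
def L28 : Matrix (Fin 8) (Fin 8) ℤ := !![-1, -1, -1, -2, -2, -1, -1, -1; 0, -1, -1, -2, -2, -1, -1, 0; 0, 0, -1, -1, -1, -1, 0, 0; 0, 0, 1, 1, 1, 0, 0, 0; 0, 1, 0, 1, 1, 1, 0, 0; 1, 0, 1, 1, 1, 1, 1, 0; 0, 1, 1, 2, 1, 1, 1, 1; 0, 0, 0, -1, 0, 0, 0, 0]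
noncomputable def e28 : Mx.Group := e27 * e1
theorem m28 : e28 ∈ Hgen := Subgroup.mul_mem _ m27 m1
theorem ψe28 : ψ e28 = L28 := by rw [e28, map_mul, ψe27, ψe1]; decide
def L29 : Matrix (Fin 8) (Fin 8) ℤ := !![0, 1, 1, 1, 1, 1, 0, 0; 1, 1, 2, 2, 2, 1, 1, 0; 1, 1, 1, 2, 1, 1, 1, 0; 0, 0, 0, 0, 0, 0, 0, 1; -1, -1, -1, -1, -1, -1, -1, -1; 0, 0, -1, -1, 0, 0, 0, 0; 0, -1, 0, -1, -1, 0, 0, 0; -1, 0, -1, -1, -1, -1, 0, 0]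
noncomputable def e29 : Mx.Group := cox ^ 26
theorem m29 : e29 ∈ Hgen := Subgroup.pow_mem _ cox_mem _
theorem ψe29 : ψ e29 = L29 := by rw [e29, map_pow, ψ_cox, Cpow26]; decide
def L30 : Matrix (Fin 8) (Fin 8) ℤ := !![1, 0, 0, 0, 0, 0, 0, 0; 0, 1, 0, 0, 0, 0, 0, 0; 0, 0, 1, 0, 0, 0, 0, 0; 0, 0, 0, 1, 0, 0, 0, 0; 0, 0, 0, 0, 1, 0, 0, 0; 0, 0, 0, 0, 0, 1, 0, 0; 0, 0, 0, 0, 0, 0, 1, 1; 0, 0, 0, 0, 0, 0, 0, -1]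
noncomputable def e30 : Mx.Group := e28 * e29
theorem m30 : e30 ∈ Hgen := Subgroup.mul_mem _ m28 m29
theorem ψe30 : ψ e30 = L30 := by rw [e30, map_mul, ψe28, ψe29]; decide
theorem simple7_mem : Mx.simple 7 ∈ Hgen := by
  have h : Mx.simple 7 = e30 := ψ_injective (by rw [hψ, ψe30]; decide)
  rw [h]; exact m30
theorem Hgen_top : Hgen = ⊤ := by
  rw [eq_top_iff, ← cs.subgroup_closure_range_simple, Subgroup.closure_le]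
  rintro _ ⟨i, rfl⟩
  fin_cases i
  exacts [simple0_mem, simple1_mem, simple2_mem, simple3_mem, simple4_mem, simple5_mem, simple6_mem, simple7_mem]
theorem gen_result : ∃ T : Finset Mx.Group, T.card = 1 ∧ (∀ t ∈ T, ∃ (g : Mx.Group) (i : Fin 8), t = g * Mx.simple i * g⁻¹) ∧
    Subgroup.closure (({((List.finRange 8).map Mx.simple).prod} : Set Mx.Group) ∪ ↑T) = ⊤ :=
  ⟨Tset, Tset_card, Tset_refl, Hgen_top⟩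

end Cfsg.Agent.Lib.Helper25.Cox.E8
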