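import Mathlib
import Cfsg.Agent.Lib.Helper25.CoxeterAct

set_option autoImplicit false
set_option maxRecDepth 100000
set_option linter.unusedVariables false

namespace Cfsg.Agent.Lib.Helper25.Cox.F4

open Cfsg.Agent.Lib.Helper25.Cox

abbrev Mx : CoxeterMatrix (Fin 4) := CoxeterMatrix.F₄
abbrev cs : CoxeterSystem Mx Mx.Group := Mx.toCoxeterSystem
def A : Matrix (Fin 4) (Fin 4) ℤ := !![2, -1, 0, 0; -1, 2, -1, 0; 0, -2, 2, -1; 0, 0, -1, 2]
theorem hA : ∀ i, A i i = 2 := by decide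
theorem hcompat : Compat Mx A := compat_of_B (by decide)
noncomputable def φ : Mx.Group →* Equiv.Perm (Fin 4 → ℤ) := actHom A cs hA hcompat
theorem hφ (i : Fin 4) : φ (cs.simple i) = reflEquiv A hA i := actHom_simple A cs hA hcompat i
def key (v : Fin 4 → ℤ) : ℤ := v 0 + 100 * v 1 + 10000 * v 2 + 1000000 * v 3

def K0 : List (Fin 4) := []
-- link 1: K = [0], N = 2
def K1 : List (Fin 4) := [0]
def word1 : ℕ → List (Fin 4) := fun x => ([[], [0]] : List (List (Fin 4))).getD x []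
def tbl1 : ℕ → Fin 4 → ℕ := fun x j => (([[1, 0, 0, 0], [0, 0, 0, 0]] : List (List ℕ)).getD x []).getD j.val 0
def p1 : Fin 4 → ℤ := ![1, 0, 0, 0]
def keys1 : List ℤ := [1, 99]
theorem v1_0_0 : V cs (par cs K0) (word1 0) 0 (word1 1) := V_tree cs _ (by decide)
theorem v1_1_0 : V cs (par cs K0) (word1 1) 0 (word1 0) := V_symm cs v1_0_0
theorem row1_0 : ∀ j ∈ K1, tbl1 0 j < 2 ∧ V cs (par cs K0) (word1 0) j (word1 (tbl1 0 j)) := by
  intro j hj
  simp only [K1, List.mem_cons, List.not_mem_nil, or_false] at hj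
  subst hj
  exact ⟨by decide, v1_0_0⟩
theorem row1_1 : ∀ j ∈ K1, tbl1 1 j < 2 ∧ V cs (par cs K0) (word1 1) j (word1 (tbl1 1 j)) := by
  intro j hj
  simp only [K1, List.mem_cons, List.not_mem_nil, or_false] at hj
  subst hj
  exact ⟨by decide, v1_1_0⟩
theorem htbl1 : ∀ x < 2, ∀ j ∈ K1, tbl1 x j < 2 ∧ V cs (par cs K0) (word1 x) j (word1 (tbl1 x j)) := by
  intro x hx
  interval_cases x
  exacts [row1_0, row1_1]
theorem pt1_0 : φ (cs.wordProd (word1 0)) p1 = ![1, 0, 0, 0] := pt_base cs φ (by decide) _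
theorem pt1_1 : φ (cs.wordProd (word1 1)) p1 = ![-1, 1, 0, 0] := pt_step A cs hA φ hφ (j := 0) (w := word1 0) (by decide) pt1_0 (by decide)
theorem key1_0 : key (φ (cs.wordProd (word1 0)) p1) = keys1.getD 0 0 := by rw [pt1_0]; decide
theorem key1_1 : key (φ (cs.wordProd (word1 1)) p1) = keys1.getD 1 0 := by rw [pt1_1]; decide
theorem hkey1 : ∀ x < 2, key (φ (cs.wordProd (word1 x)) p1) = keys1.getD x 0 := by
  intro x hx
  interval_cases x
  exacts [key1_0, key1_1]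
theorem card1 : Nat.card (par cs K1) = 2 * Nat.card (par cs K0) :=
  link_card cs φ p1 K0 K1 2 word1 tbl1 (by decide) (by decide) (by decide) (by decide) htbl1
    (fix_of_refl A cs hA φ hφ K0 p1 (by decide))
    (hdist_of_keys cs φ p1 word1 2 key keys1 (by decide) (by decide) hkey1)

-- link 2: K = [0, 1], N = 3
def K2 : List (Fin 4) := [0, 1]
def word2 : ℕ → List (Fin 4) := fun x => ([[], [1], [0, 1]] : List (List (Fin 4))).getD x []
def tbl2 : ℕ → Fin 4 → ℕ := fun x j => (([[0, 1, 0, 0], [2, 0, 0, 0], [1, 2, 0, 0]] : List (List ℕ)).getD x []).getD j.val 0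
def p2 : Fin 4 → ℤ := ![0, 1, 0, 0]
def keys2 : List ℤ := [100, 9901, 9999]
theorem v2_0_1 : V cs (par cs K1) (word2 0) 1 (word2 1) := V_tree cs _ (by decide)
theorem v2_1_1 : V cs (par cs K1) (word2 1) 1 (word2 0) := V_symm cs v2_0_1
theorem v2_1_0 : V cs (par cs K1) (word2 1) 0 (word2 2) := V_tree cs _ (by decide)
theorem v2_2_0 : V cs (par cs K1) (word2 2) 0 (word2 1) := V_symm cs v2_1_0
theorem v2_0_0 : V cs (par cs K1) (word2 0) 0 (word2 0) := V_base cs (by decide) (simple_mem_par cs (by decide))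
theorem v2_2_1 : V cs (par cs K1) (word2 2) 1 (word2 2) := V_ded3 cs (a := 1) (b := 0) (by decide) v2_2_0 v2_1_1 v2_0_0 v2_0_1 v2_1_0
theorem row2_0 : ∀ j ∈ K2, tbl2 0 j < 3 ∧ V cs (par cs K1) (word2 0) j (word2 (tbl2 0 j)) := by
  intro j hj
  simp only [K2, List.mem_cons, List.not_mem_nil, or_false] at hj
  rcases hj with rfl | rfl
  exacts [⟨by decide, v2_0_0⟩, ⟨by decide, v2_0_1⟩]
theorem row2_1 : ∀ j ∈ K2, tbl2 1 j < 3 ∧ V cs (par cs K1) (word2 1) j (word2 (tbl2 1 j)) := by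
  intro j hj
  simp only [K2, List.mem_cons, List.not_mem_nil, or_false] at hj
  rcases hj with rfl | rfl
  exacts [⟨by decide, v2_1_0⟩, ⟨by decide, v2_1_1⟩]
theorem row2_2 : ∀ j ∈ K2, tbl2 2 j < 3 ∧ V cs (par cs K1) (word2 2) j (word2 (tbl2 2 j)) := by
  intro j hj
  simp only [K2, List.mem_cons, List.not_mem_nil, or_false] at hj
  rcases hj with rfl | rfl
  exacts [⟨by decide, v2_2_0⟩, ⟨by decide, v2_2_1⟩]
theorem htbl2 : ∀ x < 3, ∀ j ∈ K2, tbl2 x j < 3 ∧ V cs (par cs K1) (word2 x) j (word2 (tbl2 x j)) := by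
  intro x hx
  interval_cases x
  exacts [row2_0, row2_1, row2_2]
theorem pt2_0 : φ (cs.wordProd (word2 0)) p2 = ![0, 1, 0, 0] := pt_base cs φ (by decide) _
theorem pt2_1 : φ (cs.wordProd (word2 1)) p2 = ![1, -1, 1, 0] := pt_step A cs hA φ hφ (j := 1) (w := word2 0) (by decide) pt2_0 (by decide)
theorem pt2_2 : φ (cs.wordProd (word2 2)) p2 = ![-1, 0, 1, 0] := pt_step A cs hA φ hφ (j := 0) (w := word2 1) (by decide) pt2_1 (by decide)
theorem key2_0 : key (φ (cs.wordProd (word2 0)) p2) = keys2.getD 0 0 := by rw [pt2_0]; decide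
theorem key2_1 : key (φ (cs.wordProd (word2 1)) p2) = keys2.getD 1 0 := by rw [pt2_1]; decide
theorem key2_2 : key (φ (cs.wordProd (word2 2)) p2) = keys2.getD 2 0 := by rw [pt2_2]; decide
theorem hkey2 : ∀ x < 3, key (φ (cs.wordProd (word2 x)) p2) = keys2.getD x 0 := by
  intro x hx
  interval_cases x
  exacts [key2_0, key2_1, key2_2]
theorem card2 : Nat.card (par cs K2) = 3 * Nat.card (par cs K1) :=
  link_card cs φ p2 K1 K2 3 word2 tbl2 (by decide) (by decide) (by decide) (by decide) htbl2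
    (fix_of_refl A cs hA φ hφ K1 p2 (by decide))
    (hdist_of_keys cs φ p2 word2 3 key keys2 (by decide) (by decide) hkey2)

-- link 3: K = [0, 1, 2], N = 8
def K3 : List (Fin 4) := [0, 1, 2]
def word3 : ℕ → List (Fin 4) := fun x => ([[], [2], [1, 2], [0, 1, 2], [2, 1, 2], [2, 0, 1, 2], [1, 2, 0, 1, 2], [2, 1, 2, 0, 1, 2]] : List (List (Fin 4))).getD x []
def tbl3 : ℕ → Fin 4 → ℕ := fun x j => (([[0, 0, 1, 0], [1, 2, 0, 0], [3, 1, 4, 0], [2, 3, 5, 0], [5, 4, 2, 0], [4, 6, 3, 0], [6, 5, 7, 0], [7, 7, 6, 0]] : List (List ℕ)).getD x []).getD j.val 0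
def p3 : Fin 4 → ℤ := ![0, 0, 1, 0]
def keys3 : List ℤ := [10000, 990200, 1009802, 1009998, 1990002, 1990198, 2009800, 2990000]
theorem v3_0_2 : V cs (par cs K2) (word3 0) 2 (word3 1) := V_tree cs _ (by decide)
theorem v3_1_2 : V cs (par cs K2) (word3 1) 2 (word3 0) := V_symm cs v3_0_2
theorem v3_1_1 : V cs (par cs K2) (word3 1) 1 (word3 2) := V_tree cs _ (by decide)
theorem v3_2_1 : V cs (par cs K2) (word3 2) 1 (word3 1) := V_symm cs v3_1_1
theorem v3_2_0 : V cs (par cs K2) (word3 2) 0 (word3 3) := V_tree cs _ (by decide)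
theorem v3_3_0 : V cs (par cs K2) (word3 3) 0 (word3 2) := V_symm cs v3_2_0
theorem v3_2_2 : V cs (par cs K2) (word3 2) 2 (word3 4) := V_tree cs _ (by decide)
theorem v3_4_2 : V cs (par cs K2) (word3 4) 2 (word3 2) := V_symm cs v3_2_2
theorem v3_3_2 : V cs (par cs K2) (word3 3) 2 (word3 5) := V_tree cs _ (by decide)
theorem v3_5_2 : V cs (par cs K2) (word3 5) 2 (word3 3) := V_symm cs v3_3_2
theorem v3_5_1 : V cs (par cs K2) (word3 5) 1 (word3 6) := V_tree cs _ (by decide)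
theorem v3_6_1 : V cs (par cs K2) (word3 6) 1 (word3 5) := V_symm cs v3_5_1
theorem v3_6_2 : V cs (par cs K2) (word3 6) 2 (word3 7) := V_tree cs _ (by decide)
theorem v3_7_2 : V cs (par cs K2) (word3 7) 2 (word3 6) := V_symm cs v3_6_2
theorem v3_0_0 : V cs (par cs K2) (word3 0) 0 (word3 0) := V_base cs (by decide) (simple_mem_par cs (by decide))
theorem v3_0_1 : V cs (par cs K2) (word3 0) 1 (word3 0) := V_base cs (by decide) (simple_mem_par cs (by decide))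
theorem v3_1_0 : V cs (par cs K2) (word3 1) 0 (word3 1) := V_ded2 cs (a := 0) (b := 2) (by decide) v3_1_2 v3_0_0 v3_0_2
theorem v3_5_0 : V cs (par cs K2) (word3 5) 0 (word3 4) := V_ded2 cs (a := 0) (b := 2) (by decide) v3_4_2 v3_2_0 v3_3_2
theorem v3_4_0 : V cs (par cs K2) (word3 4) 0 (word3 5) := V_symm cs v3_5_0
theorem v3_3_1 : V cs (par cs K2) (word3 3) 1 (word3 3) := V_ded3 cs (a := 1) (b := 0) (by decide) v3_3_0 v3_2_1 v3_1_0 v3_1_1 v3_2_0
theorem v3_4_1 : V cs (par cs K2) (word3 4) 1 (word3 4) := V_ded4 cs (a := 1) (b := 2) (by decide) v3_4_2 v3_2_1 v3_1_2 v3_0_1 v3_0_2 v3_1_1 v3_2_2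
theorem v3_7_1 : V cs (par cs K2) (word3 7) 1 (word3 7) := V_ded4 cs (a := 1) (b := 2) (by decide) v3_7_2 v3_6_1 v3_5_2 v3_3_1 v3_3_2 v3_5_1 v3_6_2
theorem v3_6_0 : V cs (par cs K2) (word3 6) 0 (word3 6) := V_ded3 cs (a := 0) (b := 1) (by decide) v3_6_1 v3_5_0 v3_4_1 v3_4_0 v3_5_1
theorem v3_7_0 : V cs (par cs K2) (word3 7) 0 (word3 7) := V_ded2 cs (a := 0) (b := 2) (by decide) v3_7_2 v3_6_0 v3_6_2
theorem row3_0 : ∀ j ∈ K3, tbl3 0 j < 8 ∧ V cs (par cs K2) (word3 0) j (word3 (tbl3 0 j)) := by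
  intro j hj
  simp only [K3, List.mem_cons, List.not_mem_nil, or_false] at hj
  rcases hj with rfl | rfl | rfl
  exacts [⟨by decide, v3_0_0⟩, ⟨by decide, v3_0_1⟩, ⟨by decide, v3_0_2⟩]
theorem row3_1 : ∀ j ∈ K3, tbl3 1 j < 8 ∧ V cs (par cs K2) (word3 1) j (word3 (tbl3 1 j)) := by
  intro j hj
  simp only [K3, List.mem_cons, List.not_mem_nil, or_false] at hj
  rcases hj with rfl | rfl | rfl
  exacts [⟨by decide, v3_1_0⟩, ⟨by decide, v3_1_1⟩, ⟨by decide, v3_1_2⟩]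
theorem row3_2 : ∀ j ∈ K3, tbl3 2 j < 8 ∧ V cs (par cs K2) (word3 2) j (word3 (tbl3 2 j)) := by
  intro j hj
  simp only [K3, List.mem_cons, List.not_mem_nil, or_false] at hj
  rcases hj with rfl | rfl | rfl
  exacts [⟨by decide, v3_2_0⟩, ⟨by decide, v3_2_1⟩, ⟨by decide, v3_2_2⟩]
theorem row3_3 : ∀ j ∈ K3, tbl3 3 j < 8 ∧ V cs (par cs K2) (word3 3) j (word3 (tbl3 3 j)) := by
  intro j hj
  simp only [K3, List.mem_cons, List.not_mem_nil, or_false] at hj
  rcases hj with rfl | rfl | rfl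
  exacts [⟨by decide, v3_3_0⟩, ⟨by decide, v3_3_1⟩, ⟨by decide, v3_3_2⟩]
theorem row3_4 : ∀ j ∈ K3, tbl3 4 j < 8 ∧ V cs (par cs K2) (word3 4) j (word3 (tbl3 4 j)) := by
  intro j hj
  simp only [K3, List.mem_cons, List.not_mem_nil, or_false] at hj
  rcases hj with rfl | rfl | rfl
  exacts [⟨by decide, v3_4_0⟩, ⟨by decide, v3_4_1⟩, ⟨by decide, v3_4_2⟩]
theorem row3_5 : ∀ j ∈ K3, tbl3 5 j < 8 ∧ V cs (par cs K2) (word3 5) j (word3 (tbl3 5 j)) := by
  intro j hj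
  simp only [K3, List.mem_cons, List.not_mem_nil, or_false] at hj
  rcases hj with rfl | rfl | rfl
  exacts [⟨by decide, v3_5_0⟩, ⟨by decide, v3_5_1⟩, ⟨by decide, v3_5_2⟩]
theorem row3_6 : ∀ j ∈ K3, tbl3 6 j < 8 ∧ V cs (par cs K2) (word3 6) j (word3 (tbl3 6 j)) := by
  intro j hj
  simp only [K3, List.mem_cons, List.not_mem_nil, or_false] at hj
  rcases hj with rfl | rfl | rfl
  exacts [⟨by decide, v3_6_0⟩, ⟨by decide, v3_6_1⟩, ⟨by decide, v3_6_2⟩]
theorem row3_7 : ∀ j ∈ K3, tbl3 7 j < 8 ∧ V cs (par cs K2) (word3 7) j (word3 (tbl3 7 j)) := by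
  intro j hj
  simp only [K3, List.mem_cons, List.not_mem_nil, or_false] at hj
  rcases hj with rfl | rfl | rfl
  exacts [⟨by decide, v3_7_0⟩, ⟨by decide, v3_7_1⟩, ⟨by decide, v3_7_2⟩]
theorem htbl3 : ∀ x < 8, ∀ j ∈ K3, tbl3 x j < 8 ∧ V cs (par cs K2) (word3 x) j (word3 (tbl3 x j)) := by
  intro x hx
  interval_cases x
  exacts [row3_0, row3_1, row3_2, row3_3, row3_4, row3_5, row3_6, row3_7]
theorem pt3_0 : φ (cs.wordProd (word3 0)) p3 = ![0, 0, 1, 0] := pt_base cs φ (by decide) _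
theorem pt3_1 : φ (cs.wordProd (word3 1)) p3 = ![0, 2, -1, 1] := pt_step A cs hA φ hφ (j := 2) (w := word3 0) (by decide) pt3_0 (by decide)
theorem pt3_2 : φ (cs.wordProd (word3 2)) p3 = ![2, -2, 1, 1] := pt_step A cs hA φ hφ (j := 1) (w := word3 1) (by decide) pt3_1 (by decide)
theorem pt3_3 : φ (cs.wordProd (word3 3)) p3 = ![-2, 0, 1, 1] := pt_step A cs hA φ hφ (j := 0) (w := word3 2) (by decide) pt3_2 (by decide)
theorem pt3_4 : φ (cs.wordProd (word3 4)) p3 = ![2, 0, -1, 2] := pt_step A cs hA φ hφ (j := 2) (w := word3 2) (by decide) pt3_2 (by decide)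
theorem pt3_5 : φ (cs.wordProd (word3 5)) p3 = ![-2, 2, -1, 2] := pt_step A cs hA φ hφ (j := 2) (w := word3 3) (by decide) pt3_3 (by decide)
theorem pt3_6 : φ (cs.wordProd (word3 6)) p3 = ![0, -2, 1, 2] := pt_step A cs hA φ hφ (j := 1) (w := word3 5) (by decide) pt3_5 (by decide)
theorem pt3_7 : φ (cs.wordProd (word3 7)) p3 = ![0, 0, -1, 3] := pt_step A cs hA φ hφ (j := 2) (w := word3 6) (by decide) pt3_6 (by decide)
theorem key3_0 : key (φ (cs.wordProd (word3 0)) p3) = keys3.getD 0 0 := by rw [pt3_0]; decide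
theorem key3_1 : key (φ (cs.wordProd (word3 1)) p3) = keys3.getD 1 0 := by rw [pt3_1]; decide
theorem key3_2 : key (φ (cs.wordProd (word3 2)) p3) = keys3.getD 2 0 := by rw [pt3_2]; decide
theorem key3_3 : key (φ (cs.wordProd (word3 3)) p3) = keys3.getD 3 0 := by rw [pt3_3]; decide
theorem key3_4 : key (φ (cs.wordProd (word3 4)) p3) = keys3.getD 4 0 := by rw [pt3_4]; decide
theorem key3_5 : key (φ (cs.wordProd (word3 5)) p3) = keys3.getD 5 0 := by rw [pt3_5]; decide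
theorem key3_6 : key (φ (cs.wordProd (word3 6)) p3) = keys3.getD 6 0 := by rw [pt3_6]; decide
theorem key3_7 : key (φ (cs.wordProd (word3 7)) p3) = keys3.getD 7 0 := by rw [pt3_7]; decide
theorem hkey3 : ∀ x < 8, key (φ (cs.wordProd (word3 x)) p3) = keys3.getD x 0 := by
  intro x hx
  interval_cases x
  exacts [key3_0, key3_1, key3_2, key3_3, key3_4, key3_5, key3_6, key3_7]
theorem card3 : Nat.card (par cs K3) = 8 * Nat.card (par cs K2) :=
  link_card cs φ p3 K2 K3 8 word3 tbl3 (by decide) (by decide) (by decide) (by decide) htbl3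
    (fix_of_refl A cs hA φ hφ K2 p3 (by decide))
    (hdist_of_keys cs φ p3 word3 8 key keys3 (by decide) (by decide) hkey3)

-- link 4: K = [0, 1, 2, 3], N = 24
def K4 : List (Fin 4) := [0, 1, 2, 3]
def word4 : ℕ → List (Fin 4) := fun x => ([[], [3], [2, 3], [1, 2, 3], [0, 1, 2, 3], [2, 1, 2, 3], [2, 0, 1, 2, 3], [3, 2, 1, 2, 3], [1, 2, 0, 1, 2, 3], [3, 2, 0, 1, 2, 3], [2, 1, 2, 0, 1, 2, 3], [3, 1, 2, 0, 1, 2, 3], [3, 2, 1, 2, 0, 1, 2, 3], [2, 3, 1, 2, 0, 1, 2, 3], [2, 3, 2, 1, 2, 0, 1, 2, 3], [1, 2, 3, 1, 2, 0, 1, 2, 3], [1, 2, 3, 2, 1, 2, 0, 1, 2, 3], [0, 1, 2, 3, 1, 2, 0, 1, 2, 3], [0, 1, 2, 3, 2, 1, 2, 0, 1, 2, 3], [2, 1, 2, 3, 2, 1, 2, 0, 1, 2, 3], [2, 0, 1, 2, 3, 2, 1, 2, 0, 1, 2, 3], [1, 2, 0, 1, 2, 3, 2, 1, 2, 0, 1, 2, 3], [2, 1, 2, 0, 1, 2, 3, 2, 1, 2, 0, 1, 2, 3], [3, 2, 1, 2, 0, 1, 2, 3, 2, 1, 2, 0, 1, 2, 3]] : List (List (Fin 4))).getD x []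
def tbl4 : ℕ → Fin 4 → ℕ := fun x j => (([[0, 0, 0, 1], [1, 1, 2, 0], [2, 3, 1, 2], [4, 2, 5, 3], [3, 4, 6, 4], [6, 5, 3, 7], [5, 8, 4, 9], [9, 7, 7, 5], [8, 6, 10, 11], [7, 11, 9, 6], [10, 10, 8, 12], [11, 9, 13, 8], [12, 12, 14, 10], [13, 15, 11, 14], [14, 16, 12, 13], [17, 13, 15, 16], [18, 14, 19, 15], [15, 17, 17, 18], [16, 18, 20, 17], [20, 19, 16, 19], [19, 21, 18, 20], [21, 20, 22, 21], [22, 22, 21, 23], [23, 23, 23, 22]] : List (List ℕ)).getD x []).getD j.val 0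
def p4 : Fin 4 → ℤ := ![0, 0, 0, 1]
def keys4 : List ℤ := [1000000, -990000, -9800, 9802, 9998, 990002, 990198, -999998, 1009800, -999802, 1990000, -980200, -1990000, 980200, -1009800, 999802, -990198, 999998, -990002, -9998, -9802, 9800, 990000, -1000000]
theorem v4_0_3 : V cs (par cs K3) (word4 0) 3 (word4 1) := V_tree cs _ (by decide)
theorem v4_1_3 : V cs (par cs K3) (word4 1) 3 (word4 0) := V_symm cs v4_0_3
theorem v4_1_2 : V cs (par cs K3) (word4 1) 2 (word4 2) := V_tree cs _ (by decide)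
theorem v4_2_2 : V cs (par cs K3) (word4 2) 2 (word4 1) := V_symm cs v4_1_2
theorem v4_2_1 : V cs (par cs K3) (word4 2) 1 (word4 3) := V_tree cs _ (by decide)
theorem v4_3_1 : V cs (par cs K3) (word4 3) 1 (word4 2) := V_symm cs v4_2_1
theorem v4_3_0 : V cs (par cs K3) (word4 3) 0 (word4 4) := V_tree cs _ (by decide)
theorem v4_4_0 : V cs (par cs K3) (word4 4) 0 (word4 3) := V_symm cs v4_3_0
theorem v4_3_2 : V cs (par cs K3) (word4 3) 2 (word4 5) := V_tree cs _ (by decide)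
theorem v4_5_2 : V cs (par cs K3) (word4 5) 2 (word4 3) := V_symm cs v4_3_2
theorem v4_4_2 : V cs (par cs K3) (word4 4) 2 (word4 6) := V_tree cs _ (by decide)
theorem v4_6_2 : V cs (par cs K3) (word4 6) 2 (word4 4) := V_symm cs v4_4_2
theorem v4_5_3 : V cs (par cs K3) (word4 5) 3 (word4 7) := V_tree cs _ (by decide)
theorem v4_7_3 : V cs (par cs K3) (word4 7) 3 (word4 5) := V_symm cs v4_5_3
theorem v4_6_1 : V cs (par cs K3) (word4 6) 1 (word4 8) := V_tree cs _ (by decide)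
theorem v4_8_1 : V cs (par cs K3) (word4 8) 1 (word4 6) := V_symm cs v4_6_1
theorem v4_6_3 : V cs (par cs K3) (word4 6) 3 (word4 9) := V_tree cs _ (by decide)
theorem v4_9_3 : V cs (par cs K3) (word4 9) 3 (word4 6) := V_symm cs v4_6_3
theorem v4_8_2 : V cs (par cs K3) (word4 8) 2 (word4 10) := V_tree cs _ (by decide)
theorem v4_10_2 : V cs (par cs K3) (word4 10) 2 (word4 8) := V_symm cs v4_8_2
theorem v4_8_3 : V cs (par cs K3) (word4 8) 3 (word4 11) := V_tree cs _ (by decide)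
theorem v4_11_3 : V cs (par cs K3) (word4 11) 3 (word4 8) := V_symm cs v4_8_3
theorem v4_10_3 : V cs (par cs K3) (word4 10) 3 (word4 12) := V_tree cs _ (by decide)
theorem v4_12_3 : V cs (par cs K3) (word4 12) 3 (word4 10) := V_symm cs v4_10_3
theorem v4_11_2 : V cs (par cs K3) (word4 11) 2 (word4 13) := V_tree cs _ (by decide)
theorem v4_13_2 : V cs (par cs K3) (word4 13) 2 (word4 11) := V_symm cs v4_11_2
theorem v4_12_2 : V cs (par cs K3) (word4 12) 2 (word4 14) := V_tree cs _ (by decide)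
theorem v4_14_2 : V cs (par cs K3) (word4 14) 2 (word4 12) := V_symm cs v4_12_2
theorem v4_13_1 : V cs (par cs K3) (word4 13) 1 (word4 15) := V_tree cs _ (by decide)
theorem v4_15_1 : V cs (par cs K3) (word4 15) 1 (word4 13) := V_symm cs v4_13_1
theorem v4_14_1 : V cs (par cs K3) (word4 14) 1 (word4 16) := V_tree cs _ (by decide)
theorem v4_16_1 : V cs (par cs K3) (word4 16) 1 (word4 14) := V_symm cs v4_14_1
theorem v4_15_0 : V cs (par cs K3) (word4 15) 0 (word4 17) := V_tree cs _ (by decide)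
theorem v4_17_0 : V cs (par cs K3) (word4 17) 0 (word4 15) := V_symm cs v4_15_0
theorem v4_16_0 : V cs (par cs K3) (word4 16) 0 (word4 18) := V_tree cs _ (by decide)
theorem v4_18_0 : V cs (par cs K3) (word4 18) 0 (word4 16) := V_symm cs v4_16_0
theorem v4_16_2 : V cs (par cs K3) (word4 16) 2 (word4 19) := V_tree cs _ (by decide)
theorem v4_19_2 : V cs (par cs K3) (word4 19) 2 (word4 16) := V_symm cs v4_16_2
theorem v4_18_2 : V cs (par cs K3) (word4 18) 2 (word4 20) := V_tree cs _ (by decide)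
theorem v4_20_2 : V cs (par cs K3) (word4 20) 2 (word4 18) := V_symm cs v4_18_2
theorem v4_20_1 : V cs (par cs K3) (word4 20) 1 (word4 21) := V_tree cs _ (by decide)
theorem v4_21_1 : V cs (par cs K3) (word4 21) 1 (word4 20) := V_symm cs v4_20_1
theorem v4_21_2 : V cs (par cs K3) (word4 21) 2 (word4 22) := V_tree cs _ (by decide)
theorem v4_22_2 : V cs (par cs K3) (word4 22) 2 (word4 21) := V_symm cs v4_21_2
theorem v4_22_3 : V cs (par cs K3) (word4 22) 3 (word4 23) := V_tree cs _ (by decide)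
theorem v4_23_3 : V cs (par cs K3) (word4 23) 3 (word4 22) := V_symm cs v4_22_3
theorem v4_0_0 : V cs (par cs K3) (word4 0) 0 (word4 0) := V_base cs (by decide) (simple_mem_par cs (by decide))
theorem v4_0_1 : V cs (par cs K3) (word4 0) 1 (word4 0) := V_base cs (by decide) (simple_mem_par cs (by decide))
theorem v4_0_2 : V cs (par cs K3) (word4 0) 2 (word4 0) := V_base cs (by decide) (simple_mem_par cs (by decide))
theorem v4_6_0 : V cs (par cs K3) (word4 6) 0 (word4 5) := V_ded2 cs (a := 0) (b := 2) (by decide) v4_5_2 v4_3_0 v4_4_2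
theorem v4_5_0 : V cs (par cs K3) (word4 5) 0 (word4 6) := V_symm cs v4_6_0
theorem v4_20_0 : V cs (par cs K3) (word4 20) 0 (word4 19) := V_ded2 cs (a := 0) (b := 2) (by decide) v4_19_2 v4_16_0 v4_18_2
theorem v4_19_0 : V cs (par cs K3) (word4 19) 0 (word4 20) := V_symm cs v4_20_0
theorem v4_1_0 : V cs (par cs K3) (word4 1) 0 (word4 1) := V_ded2 cs (a := 0) (b := 3) (by decide) v4_1_3 v4_0_0 v4_0_3
theorem v4_9_0 : V cs (par cs K3) (word4 9) 0 (word4 7) := V_ded2 cs (a := 0) (b := 3) (by decide) v4_7_3 v4_5_0 v4_6_3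
theorem v4_7_0 : V cs (par cs K3) (word4 7) 0 (word4 9) := V_symm cs v4_9_0
theorem v4_1_1 : V cs (par cs K3) (word4 1) 1 (word4 1) := V_ded2 cs (a := 1) (b := 3) (by decide) v4_1_3 v4_0_1 v4_0_3
theorem v4_11_1 : V cs (par cs K3) (word4 11) 1 (word4 9) := V_ded2 cs (a := 1) (b := 3) (by decide) v4_9_3 v4_6_1 v4_8_3
theorem v4_9_1 : V cs (par cs K3) (word4 9) 1 (word4 11) := V_symm cs v4_11_1
theorem v4_2_3 : V cs (par cs K3) (word4 2) 3 (word4 2) := V_ded3 cs (a := 3) (b := 2) (by decide) v4_2_2 v4_1_3 v4_0_2 v4_0_3 v4_1_2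
theorem v4_14_3 : V cs (par cs K3) (word4 14) 3 (word4 13) := V_ded3 cs (a := 3) (b := 2) (by decide) v4_13_2 v4_11_3 v4_8_2 v4_10_3 v4_12_2
theorem v4_13_3 : V cs (par cs K3) (word4 13) 3 (word4 14) := V_symm cs v4_14_3
theorem v4_2_0 : V cs (par cs K3) (word4 2) 0 (word4 2) := V_ded2 cs (a := 0) (b := 2) (by decide) v4_2_2 v4_1_0 v4_1_2
theorem v4_4_1 : V cs (par cs K3) (word4 4) 1 (word4 4) := V_ded3 cs (a := 1) (b := 0) (by decide) v4_4_0 v4_3_1 v4_2_0 v4_2_1 v4_3_0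
theorem v4_5_1 : V cs (par cs K3) (word4 5) 1 (word4 5) := V_ded4 cs (a := 1) (b := 2) (by decide) v4_5_2 v4_3_1 v4_2_2 v4_1_1 v4_1_2 v4_2_1 v4_3_2
theorem v4_10_1 : V cs (par cs K3) (word4 10) 1 (word4 10) := V_ded4 cs (a := 1) (b := 2) (by decide) v4_10_2 v4_8_1 v4_6_2 v4_4_1 v4_4_2 v4_6_1 v4_8_2
theorem v4_7_1 : V cs (par cs K3) (word4 7) 1 (word4 7) := V_ded2 cs (a := 1) (b := 3) (by decide) v4_7_3 v4_5_1 v4_5_3
theorem v4_12_1 : V cs (par cs K3) (word4 12) 1 (word4 12) := V_ded2 cs (a := 1) (b := 3) (by decide) v4_12_3 v4_10_1 v4_10_3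
theorem v4_3_3 : V cs (par cs K3) (word4 3) 3 (word4 3) := V_ded2 cs (a := 3) (b := 1) (by decide) v4_3_1 v4_2_3 v4_2_1
theorem v4_16_3 : V cs (par cs K3) (word4 16) 3 (word4 15) := V_ded2 cs (a := 3) (b := 1) (by decide) v4_15_1 v4_13_3 v4_14_1
theorem v4_15_3 : V cs (par cs K3) (word4 15) 3 (word4 16) := V_symm cs v4_16_3
theorem v4_8_0 : V cs (par cs K3) (word4 8) 0 (word4 8) := V_ded3 cs (a := 0) (b := 1) (by decide) v4_8_1 v4_6_0 v4_5_1 v4_5_0 v4_6_1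
theorem v4_11_0 : V cs (par cs K3) (word4 11) 0 (word4 11) := V_ded3 cs (a := 0) (b := 1) (by decide) v4_11_1 v4_9_0 v4_7_1 v4_7_0 v4_9_1
theorem v4_10_0 : V cs (par cs K3) (word4 10) 0 (word4 10) := V_ded2 cs (a := 0) (b := 2) (by decide) v4_10_2 v4_8_0 v4_8_2
theorem v4_13_0 : V cs (par cs K3) (word4 13) 0 (word4 13) := V_ded2 cs (a := 0) (b := 2) (by decide) v4_13_2 v4_11_0 v4_11_2
theorem v4_12_0 : V cs (par cs K3) (word4 12) 0 (word4 12) := V_ded2 cs (a := 0) (b := 3) (by decide) v4_12_3 v4_10_0 v4_10_3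
theorem v4_14_0 : V cs (par cs K3) (word4 14) 0 (word4 14) := V_ded2 cs (a := 0) (b := 3) (by decide) v4_14_3 v4_13_0 v4_13_3
theorem v4_17_1 : V cs (par cs K3) (word4 17) 1 (word4 17) := V_ded3 cs (a := 1) (b := 0) (by decide) v4_17_0 v4_15_1 v4_13_0 v4_13_1 v4_15_0
theorem v4_18_1 : V cs (par cs K3) (word4 18) 1 (word4 18) := V_ded3 cs (a := 1) (b := 0) (by decide) v4_18_0 v4_16_1 v4_14_0 v4_14_1 v4_16_0
theorem v4_19_1 : V cs (par cs K3) (word4 19) 1 (word4 19) := V_ded4 cs (a := 1) (b := 2) (by decide) v4_19_2 v4_16_1 v4_14_2 v4_12_1 v4_12_2 v4_14_1 v4_16_2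
theorem v4_22_1 : V cs (par cs K3) (word4 22) 1 (word4 22) := V_ded4 cs (a := 1) (b := 2) (by decide) v4_22_2 v4_21_1 v4_20_2 v4_18_1 v4_18_2 v4_20_1 v4_21_2
theorem v4_23_1 : V cs (par cs K3) (word4 23) 1 (word4 23) := V_ded2 cs (a := 1) (b := 3) (by decide) v4_23_3 v4_22_1 v4_22_3
theorem v4_7_2 : V cs (par cs K3) (word4 7) 2 (word4 7) := V_ded3 cs (a := 2) (b := 3) (by decide) v4_7_3 v4_5_2 v4_3_3 v4_3_2 v4_5_3
theorem v4_4_3 : V cs (par cs K3) (word4 4) 3 (word4 4) := V_ded2 cs (a := 3) (b := 0) (by decide) v4_4_0 v4_3_3 v4_3_0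
theorem v4_18_3 : V cs (par cs K3) (word4 18) 3 (word4 17) := V_ded2 cs (a := 3) (b := 0) (by decide) v4_17_0 v4_15_3 v4_16_0
theorem v4_17_3 : V cs (par cs K3) (word4 17) 3 (word4 18) := V_symm cs v4_18_3
theorem v4_21_0 : V cs (par cs K3) (word4 21) 0 (word4 21) := V_ded3 cs (a := 0) (b := 1) (by decide) v4_21_1 v4_20_0 v4_19_1 v4_19_0 v4_20_1
theorem v4_22_0 : V cs (par cs K3) (word4 22) 0 (word4 22) := V_ded2 cs (a := 0) (b := 2) (by decide) v4_22_2 v4_21_0 v4_21_2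
theorem v4_23_0 : V cs (par cs K3) (word4 23) 0 (word4 23) := V_ded2 cs (a := 0) (b := 3) (by decide) v4_23_3 v4_22_0 v4_22_3
theorem v4_9_2 : V cs (par cs K3) (word4 9) 2 (word4 9) := V_ded2 cs (a := 2) (b := 0) (by decide) v4_9_0 v4_7_2 v4_7_0
theorem v4_15_2 : V cs (par cs K3) (word4 15) 2 (word4 15) := V_ded4 cs (a := 2) (b := 1) (by decide) v4_15_1 v4_13_2 v4_11_1 v4_9_2 v4_9_1 v4_11_2 v4_13_1
theorem v4_19_3 : V cs (par cs K3) (word4 19) 3 (word4 19) := V_ded3 cs (a := 3) (b := 2) (by decide) v4_19_2 v4_16_3 v4_15_2 v4_15_3 v4_16_2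
theorem v4_17_2 : V cs (par cs K3) (word4 17) 2 (word4 17) := V_ded2 cs (a := 2) (b := 0) (by decide) v4_17_0 v4_15_2 v4_15_0
theorem v4_20_3 : V cs (par cs K3) (word4 20) 3 (word4 20) := V_ded2 cs (a := 3) (b := 0) (by decide) v4_20_0 v4_19_3 v4_19_0
theorem v4_21_3 : V cs (par cs K3) (word4 21) 3 (word4 21) := V_ded2 cs (a := 3) (b := 1) (by decide) v4_21_1 v4_20_3 v4_20_1
theorem v4_23_2 : V cs (par cs K3) (word4 23) 2 (word4 23) := V_ded3 cs (a := 2) (b := 3) (by decide) v4_23_3 v4_22_2 v4_21_3 v4_21_2 v4_22_3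
theorem row4_0 : ∀ j ∈ K4, tbl4 0 j < 24 ∧ V cs (par cs K3) (word4 0) j (word4 (tbl4 0 j)) := by
  intro j hj
  simp only [K4, List.mem_cons, List.not_mem_nil, or_false] at hj
  rcases hj with rfl | rfl | rfl | rfl
  exacts [⟨by decide, v4_0_0⟩, ⟨by decide, v4_0_1⟩, ⟨by decide, v4_0_2⟩, ⟨by decide, v4_0_3⟩]
theorem row4_1 : ∀ j ∈ K4, tbl4 1 j < 24 ∧ V cs (par cs K3) (word4 1) j (word4 (tbl4 1 j)) := by
  intro j hj
  simp only [K4, List.mem_cons, List.not_mem_nil, or_false] at hj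
  rcases hj with rfl | rfl | rfl | rfl
  exacts [⟨by decide, v4_1_0⟩, ⟨by decide, v4_1_1⟩, ⟨by decide, v4_1_2⟩, ⟨by decide, v4_1_3⟩]
theorem row4_2 : ∀ j ∈ K4, tbl4 2 j < 24 ∧ V cs (par cs K3) (word4 2) j (word4 (tbl4 2 j)) := by
  intro j hj
  simp only [K4, List.mem_cons, List.not_mem_nil, or_false] at hj
  rcases hj with rfl | rfl | rfl | rfl
  exacts [⟨by decide, v4_2_0⟩, ⟨by decide, v4_2_1⟩, ⟨by decide, v4_2_2⟩, ⟨by decide, v4_2_3⟩]
theorem row4_3 : ∀ j ∈ K4, tbl4 3 j < 24 ∧ V cs (par cs K3) (word4 3) j (word4 (tbl4 3 j)) := by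
  intro j hj
  simp only [K4, List.mem_cons, List.not_mem_nil, or_false] at hj
  rcases hj with rfl | rfl | rfl | rfl
  exacts [⟨by decide, v4_3_0⟩, ⟨by decide, v4_3_1⟩, ⟨by decide, v4_3_2⟩, ⟨by decide, v4_3_3⟩]
theorem row4_4 : ∀ j ∈ K4, tbl4 4 j < 24 ∧ V cs (par cs K3) (word4 4) j (word4 (tbl4 4 j)) := by
  intro j hj
  simp only [K4, List.mem_cons, List.not_mem_nil, or_false] at hj
  rcases hj with rfl | rfl | rfl | rfl
  exacts [⟨by decide, v4_4_0⟩, ⟨by decide, v4_4_1⟩, ⟨by decide, v4_4_2⟩, ⟨by decide, v4_4_3⟩]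
theorem row4_5 : ∀ j ∈ K4, tbl4 5 j < 24 ∧ V cs (par cs K3) (word4 5) j (word4 (tbl4 5 j)) := by
  intro j hj
  simp only [K4, List.mem_cons, List.not_mem_nil, or_false] at hj
  rcases hj with rfl | rfl | rfl | rfl
  exacts [⟨by decide, v4_5_0⟩, ⟨by decide, v4_5_1⟩, ⟨by decide, v4_5_2⟩, ⟨by decide, v4_5_3⟩]
theorem row4_6 : ∀ j ∈ K4, tbl4 6 j < 24 ∧ V cs (par cs K3) (word4 6) j (word4 (tbl4 6 j)) := by
  intro j hj
  simp only [K4, List.mem_cons, List.not_mem_nil, or_false] at hj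
  rcases hj with rfl | rfl | rfl | rfl
  exacts [⟨by decide, v4_6_0⟩, ⟨by decide, v4_6_1⟩, ⟨by decide, v4_6_2⟩, ⟨by decide, v4_6_3⟩]
theorem row4_7 : ∀ j ∈ K4, tbl4 7 j < 24 ∧ V cs (par cs K3) (word4 7) j (word4 (tbl4 7 j)) := by
  intro j hj
  simp only [K4, List.mem_cons, List.not_mem_nil, or_false] at hj
  rcases hj with rfl | rfl | rfl | rfl
  exacts [⟨by decide, v4_7_0⟩, ⟨by decide, v4_7_1⟩, ⟨by decide, v4_7_2⟩, ⟨by decide, v4_7_3⟩]
theorem row4_8 : ∀ j ∈ K4, tbl4 8 j < 24 ∧ V cs (par cs K3) (word4 8) j (word4 (tbl4 8 j)) := by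
  intro j hj
  simp only [K4, List.mem_cons, List.not_mem_nil, or_false] at hj
  rcases hj with rfl | rfl | rfl | rfl
  exacts [⟨by decide, v4_8_0⟩, ⟨by decide, v4_8_1⟩, ⟨by decide, v4_8_2⟩, ⟨by decide, v4_8_3⟩]
theorem row4_9 : ∀ j ∈ K4, tbl4 9 j < 24 ∧ V cs (par cs K3) (word4 9) j (word4 (tbl4 9 j)) := by
  intro j hj
  simp only [K4, List.mem_cons, List.not_mem_nil, or_false] at hj
  rcases hj with rfl | rfl | rfl | rfl
  exacts [⟨by decide, v4_9_0⟩, ⟨by decide, v4_9_1⟩, ⟨by decide, v4_9_2⟩, ⟨by decide, v4_9_3⟩]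
theorem row4_10 : ∀ j ∈ K4, tbl4 10 j < 24 ∧ V cs (par cs K3) (word4 10) j (word4 (tbl4 10 j)) := by
  intro j hj
  simp only [K4, List.mem_cons, List.not_mem_nil, or_false] at hj
  rcases hj with rfl | rfl | rfl | rfl
  exacts [⟨by decide, v4_10_0⟩, ⟨by decide, v4_10_1⟩, ⟨by decide, v4_10_2⟩, ⟨by decide, v4_10_3⟩]
theorem row4_11 : ∀ j ∈ K4, tbl4 11 j < 24 ∧ V cs (par cs K3) (word4 11) j (word4 (tbl4 11 j)) := by
  intro j hj
  simp only [K4, List.mem_cons, List.not_mem_nil, or_false] at hj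
  rcases hj with rfl | rfl | rfl | rfl
  exacts [⟨by decide, v4_11_0⟩, ⟨by decide, v4_11_1⟩, ⟨by decide, v4_11_2⟩, ⟨by decide, v4_11_3⟩]
theorem row4_12 : ∀ j ∈ K4, tbl4 12 j < 24 ∧ V cs (par cs K3) (word4 12) j (word4 (tbl4 12 j)) := by
  intro j hj
  simp only [K4, List.mem_cons, List.not_mem_nil, or_false] at hj
  rcases hj with rfl | rfl | rfl | rfl
  exacts [⟨by decide, v4_12_0⟩, ⟨by decide, v4_12_1⟩, ⟨by decide, v4_12_2⟩, ⟨by decide, v4_12_3⟩]
theorem row4_13 : ∀ j ∈ K4, tbl4 13 j < 24 ∧ V cs (par cs K3) (word4 13) j (word4 (tbl4 13 j)) := by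
  intro j hj
  simp only [K4, List.mem_cons, List.not_mem_nil, or_false] at hj
  rcases hj with rfl | rfl | rfl | rfl
  exacts [⟨by decide, v4_13_0⟩, ⟨by decide, v4_13_1⟩, ⟨by decide, v4_13_2⟩, ⟨by decide, v4_13_3⟩]
theorem row4_14 : ∀ j ∈ K4, tbl4 14 j < 24 ∧ V cs (par cs K3) (word4 14) j (word4 (tbl4 14 j)) := by
  intro j hj
  simp only [K4, List.mem_cons, List.not_mem_nil, or_false] at hj
  rcases hj with rfl | rfl | rfl | rfl
  exacts [⟨by decide, v4_14_0⟩, ⟨by decide, v4_14_1⟩, ⟨by decide, v4_14_2⟩, ⟨by decide, v4_14_3⟩]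
theorem row4_15 : ∀ j ∈ K4, tbl4 15 j < 24 ∧ V cs (par cs K3) (word4 15) j (word4 (tbl4 15 j)) := by
  intro j hj
  simp only [K4, List.mem_cons, List.not_mem_nil, or_false] at hj
  rcases hj with rfl | rfl | rfl | rfl
  exacts [⟨by decide, v4_15_0⟩, ⟨by decide, v4_15_1⟩, ⟨by decide, v4_15_2⟩, ⟨by decide, v4_15_3⟩]
theorem row4_16 : ∀ j ∈ K4, tbl4 16 j < 24 ∧ V cs (par cs K3) (word4 16) j (word4 (tbl4 16 j)) := by
  intro j hj
  simp only [K4, List.mem_cons, List.not_mem_nil, or_false] at hj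
  rcases hj with rfl | rfl | rfl | rfl
  exacts [⟨by decide, v4_16_0⟩, ⟨by decide, v4_16_1⟩, ⟨by decide, v4_16_2⟩, ⟨by decide, v4_16_3⟩]
theorem row4_17 : ∀ j ∈ K4, tbl4 17 j < 24 ∧ V cs (par cs K3) (word4 17) j (word4 (tbl4 17 j)) := by
  intro j hj
  simp only [K4, List.mem_cons, List.not_mem_nil, or_false] at hj
  rcases hj with rfl | rfl | rfl | rfl
  exacts [⟨by decide, v4_17_0⟩, ⟨by decide, v4_17_1⟩, ⟨by decide, v4_17_2⟩, ⟨by decide, v4_17_3⟩]
theorem row4_18 : ∀ j ∈ K4, tbl4 18 j < 24 ∧ V cs (par cs K3) (word4 18) j (word4 (tbl4 18 j)) := by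
  intro j hj
  simp only [K4, List.mem_cons, List.not_mem_nil, or_false] at hj
  rcases hj with rfl | rfl | rfl | rfl
  exacts [⟨by decide, v4_18_0⟩, ⟨by decide, v4_18_1⟩, ⟨by decide, v4_18_2⟩, ⟨by decide, v4_18_3⟩]
theorem row4_19 : ∀ j ∈ K4, tbl4 19 j < 24 ∧ V cs (par cs K3) (word4 19) j (word4 (tbl4 19 j)) := by
  intro j hj
  simp only [K4, List.mem_cons, List.not_mem_nil, or_false] at hj
  rcases hj with rfl | rfl | rfl | rfl
  exacts [⟨by decide, v4_19_0⟩, ⟨by decide, v4_19_1⟩, ⟨by decide, v4_19_2⟩, ⟨by decide, v4_19_3⟩]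
theorem row4_20 : ∀ j ∈ K4, tbl4 20 j < 24 ∧ V cs (par cs K3) (word4 20) j (word4 (tbl4 20 j)) := by
  intro j hj
  simp only [K4, List.mem_cons, List.not_mem_nil, or_false] at hj
  rcases hj with rfl | rfl | rfl | rfl
  exacts [⟨by decide, v4_20_0⟩, ⟨by decide, v4_20_1⟩, ⟨by decide, v4_20_2⟩, ⟨by decide, v4_20_3⟩]
theorem row4_21 : ∀ j ∈ K4, tbl4 21 j < 24 ∧ V cs (par cs K3) (word4 21) j (word4 (tbl4 21 j)) := by
  intro j hj
  simp only [K4, List.mem_cons, List.not_mem_nil, or_false] at hj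
  rcases hj with rfl | rfl | rfl | rfl
  exacts [⟨by decide, v4_21_0⟩, ⟨by decide, v4_21_1⟩, ⟨by decide, v4_21_2⟩, ⟨by decide, v4_21_3⟩]
theorem row4_22 : ∀ j ∈ K4, tbl4 22 j < 24 ∧ V cs (par cs K3) (word4 22) j (word4 (tbl4 22 j)) := by
  intro j hj
  simp only [K4, List.mem_cons, List.not_mem_nil, or_false] at hj
  rcases hj with rfl | rfl | rfl | rfl
  exacts [⟨by decide, v4_22_0⟩, ⟨by decide, v4_22_1⟩, ⟨by decide, v4_22_2⟩, ⟨by decide, v4_22_3⟩]
theorem row4_23 : ∀ j ∈ K4, tbl4 23 j < 24 ∧ V cs (par cs K3) (word4 23) j (word4 (tbl4 23 j)) := by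
  intro j hj
  simp only [K4, List.mem_cons, List.not_mem_nil, or_false] at hj
  rcases hj with rfl | rfl | rfl | rfl
  exacts [⟨by decide, v4_23_0⟩, ⟨by decide, v4_23_1⟩, ⟨by decide, v4_23_2⟩, ⟨by decide, v4_23_3⟩]
theorem htbl4 : ∀ x < 24, ∀ j ∈ K4, tbl4 x j < 24 ∧ V cs (par cs K3) (word4 x) j (word4 (tbl4 x j)) := by
  intro x hx
  interval_cases x
  exacts [row4_0, row4_1, row4_2, row4_3, row4_4, row4_5, row4_6, row4_7, row4_8, row4_9, row4_10, row4_11, row4_12, row4_13, row4_14, row4_15, row4_16, row4_17, row4_18, row4_19, row4_20, row4_21, row4_22, row4_23]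
theorem pt4_0 : φ (cs.wordProd (word4 0)) p4 = ![0, 0, 0, 1] := pt_base cs φ (by decide) _
theorem pt4_1 : φ (cs.wordProd (word4 1)) p4 = ![0, 0, 1, -1] := pt_step A cs hA φ hφ (j := 3) (w := word4 0) (by decide) pt4_0 (by decide)
theorem pt4_2 : φ (cs.wordProd (word4 2)) p4 = ![0, 2, -1, 0] := pt_step A cs hA φ hφ (j := 2) (w := word4 1) (by decide) pt4_1 (by decide)
theorem pt4_3 : φ (cs.wordProd (word4 3)) p4 = ![2, -2, 1, 0] := pt_step A cs hA φ hφ (j := 1) (w := word4 2) (by decide) pt4_2 (by decide)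
theorem pt4_4 : φ (cs.wordProd (word4 4)) p4 = ![-2, 0, 1, 0] := pt_step A cs hA φ hφ (j := 0) (w := word4 3) (by decide) pt4_3 (by decide)
theorem pt4_5 : φ (cs.wordProd (word4 5)) p4 = ![2, 0, -1, 1] := pt_step A cs hA φ hφ (j := 2) (w := word4 3) (by decide) pt4_3 (by decide)
theorem pt4_6 : φ (cs.wordProd (word4 6)) p4 = ![-2, 2, -1, 1] := pt_step A cs hA φ hφ (j := 2) (w := word4 4) (by decide) pt4_4 (by decide)
theorem pt4_7 : φ (cs.wordProd (word4 7)) p4 = ![2, 0, 0, -1] := pt_step A cs hA φ hφ (j := 3) (w := word4 5) (by decide) pt4_5 (by decide)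
theorem pt4_8 : φ (cs.wordProd (word4 8)) p4 = ![0, -2, 1, 1] := pt_step A cs hA φ hφ (j := 1) (w := word4 6) (by decide) pt4_6 (by decide)
theorem pt4_9 : φ (cs.wordProd (word4 9)) p4 = ![-2, 2, 0, -1] := pt_step A cs hA φ hφ (j := 3) (w := word4 6) (by decide) pt4_6 (by decide)
theorem pt4_10 : φ (cs.wordProd (word4 10)) p4 = ![0, 0, -1, 2] := pt_step A cs hA φ hφ (j := 2) (w := word4 8) (by decide) pt4_8 (by decide)
theorem pt4_11 : φ (cs.wordProd (word4 11)) p4 = ![0, -2, 2, -1] := pt_step A cs hA φ hφ (j := 3) (w := word4 8) (by decide) pt4_8 (by decide)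
theorem pt4_12 : φ (cs.wordProd (word4 12)) p4 = ![0, 0, 1, -2] := pt_step A cs hA φ hφ (j := 3) (w := word4 10) (by decide) pt4_10 (by decide)
theorem pt4_13 : φ (cs.wordProd (word4 13)) p4 = ![0, 2, -2, 1] := pt_step A cs hA φ hφ (j := 2) (w := word4 11) (by decide) pt4_11 (by decide)
theorem pt4_14 : φ (cs.wordProd (word4 14)) p4 = ![0, 2, -1, -1] := pt_step A cs hA φ hφ (j := 2) (w := word4 12) (by decide) pt4_12 (by decide)
theorem pt4_15 : φ (cs.wordProd (word4 15)) p4 = ![2, -2, 0, 1] := pt_step A cs hA φ hφ (j := 1) (w := word4 13) (by decide) pt4_13 (by decide)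
theorem pt4_16 : φ (cs.wordProd (word4 16)) p4 = ![2, -2, 1, -1] := pt_step A cs hA φ hφ (j := 1) (w := word4 14) (by decide) pt4_14 (by decide)
theorem pt4_17 : φ (cs.wordProd (word4 17)) p4 = ![-2, 0, 0, 1] := pt_step A cs hA φ hφ (j := 0) (w := word4 15) (by decide) pt4_15 (by decide)
theorem pt4_18 : φ (cs.wordProd (word4 18)) p4 = ![-2, 0, 1, -1] := pt_step A cs hA φ hφ (j := 0) (w := word4 16) (by decide) pt4_16 (by decide)
theorem pt4_19 : φ (cs.wordProd (word4 19)) p4 = ![2, 0, -1, 0] := pt_step A cs hA φ hφ (j := 2) (w := word4 16) (by decide) pt4_16 (by decide)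
theorem pt4_20 : φ (cs.wordProd (word4 20)) p4 = ![-2, 2, -1, 0] := pt_step A cs hA φ hφ (j := 2) (w := word4 18) (by decide) pt4_18 (by decide)
theorem pt4_21 : φ (cs.wordProd (word4 21)) p4 = ![0, -2, 1, 0] := pt_step A cs hA φ hφ (j := 1) (w := word4 20) (by decide) pt4_20 (by decide)
theorem pt4_22 : φ (cs.wordProd (word4 22)) p4 = ![0, 0, -1, 1] := pt_step A cs hA φ hφ (j := 2) (w := word4 21) (by decide) pt4_21 (by decide)
theorem pt4_23 : φ (cs.wordProd (word4 23)) p4 = ![0, 0, 0, -1] := pt_step A cs hA φ hφ (j := 3) (w := word4 22) (by decide) pt4_22 (by decide)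
theorem key4_0 : key (φ (cs.wordProd (word4 0)) p4) = keys4.getD 0 0 := by rw [pt4_0]; decide
theorem key4_1 : key (φ (cs.wordProd (word4 1)) p4) = keys4.getD 1 0 := by rw [pt4_1]; decide
theorem key4_2 : key (φ (cs.wordProd (word4 2)) p4) = keys4.getD 2 0 := by rw [pt4_2]; decide
theorem key4_3 : key (φ (cs.wordProd (word4 3)) p4) = keys4.getD 3 0 := by rw [pt4_3]; decide
theorem key4_4 : key (φ (cs.wordProd (word4 4)) p4) = keys4.getD 4 0 := by rw [pt4_4]; decide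
theorem key4_5 : key (φ (cs.wordProd (word4 5)) p4) = keys4.getD 5 0 := by rw [pt4_5]; decide
theorem key4_6 : key (φ (cs.wordProd (word4 6)) p4) = keys4.getD 6 0 := by rw [pt4_6]; decide
theorem key4_7 : key (φ (cs.wordProd (word4 7)) p4) = keys4.getD 7 0 := by rw [pt4_7]; decide
theorem key4_8 : key (φ (cs.wordProd (word4 8)) p4) = keys4.getD 8 0 := by rw [pt4_8]; decide
theorem key4_9 : key (φ (cs.wordProd (word4 9)) p4) = keys4.getD 9 0 := by rw [pt4_9]; decide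
theorem key4_10 : key (φ (cs.wordProd (word4 10)) p4) = keys4.getD 10 0 := by rw [pt4_10]; decide
theorem key4_11 : key (φ (cs.wordProd (word4 11)) p4) = keys4.getD 11 0 := by rw [pt4_11]; decide
theorem key4_12 : key (φ (cs.wordProd (word4 12)) p4) = keys4.getD 12 0 := by rw [pt4_12]; decide
theorem key4_13 : key (φ (cs.wordProd (word4 13)) p4) = keys4.getD 13 0 := by rw [pt4_13]; decide
theorem key4_14 : key (φ (cs.wordProd (word4 14)) p4) = keys4.getD 14 0 := by rw [pt4_14]; decide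
theorem key4_15 : key (φ (cs.wordProd (word4 15)) p4) = keys4.getD 15 0 := by rw [pt4_15]; decide
theorem key4_16 : key (φ (cs.wordProd (word4 16)) p4) = keys4.getD 16 0 := by rw [pt4_16]; decide
theorem key4_17 : key (φ (cs.wordProd (word4 17)) p4) = keys4.getD 17 0 := by rw [pt4_17]; decide
theorem key4_18 : key (φ (cs.wordProd (word4 18)) p4) = keys4.getD 18 0 := by rw [pt4_18]; decide
theorem key4_19 : key (φ (cs.wordProd (word4 19)) p4) = keys4.getD 19 0 := by rw [pt4_19]; decide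
theorem key4_20 : key (φ (cs.wordProd (word4 20)) p4) = keys4.getD 20 0 := by rw [pt4_20]; decide
theorem key4_21 : key (φ (cs.wordProd (word4 21)) p4) = keys4.getD 21 0 := by rw [pt4_21]; decide
theorem key4_22 : key (φ (cs.wordProd (word4 22)) p4) = keys4.getD 22 0 := by rw [pt4_22]; decide
theorem key4_23 : key (φ (cs.wordProd (word4 23)) p4) = keys4.getD 23 0 := by rw [pt4_23]; decide
theorem hkey4 : ∀ x < 24, key (φ (cs.wordProd (word4 x)) p4) = keys4.getD x 0 := by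
  intro x hx
  interval_cases x
  exacts [key4_0, key4_1, key4_2, key4_3, key4_4, key4_5, key4_6, key4_7, key4_8, key4_9, key4_10, key4_11, key4_12, key4_13, key4_14, key4_15, key4_16, key4_17, key4_18, key4_19, key4_20, key4_21, key4_22, key4_23]
theorem card4 : Nat.card (par cs K4) = 24 * Nat.card (par cs K3) :=
  link_card cs φ p4 K3 K4 24 word4 tbl4 (by decide) (by decide) (by decide) (by decide) htbl4
    (fix_of_refl A cs hA φ hφ K3 p4 (by decide))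
    (hdist_of_keys cs φ p4 word4 24 key keys4 (by decide) (by decide) hkey4)

theorem card : Nat.card Mx.Group = 1152 := by
  have h0 : Nat.card (par cs K0) = 1 := by rw [show K0 = [] from rfl, par_nil]; exact Subgroup.card_bot
  have htop : par cs K4 = ⊤ := par_top cs (by decide)
  rw [← Subgroup.card_top (G := Mx.Group), ← htop, card4, card3, card2, card1, h0]

end Cfsg.Agent.Lib.Helper25.Cox.F4
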