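import Mathlib
import Cfsg.Agent.Lib.Helper25.CoxeterAct

set_option autoImplicit false
set_option maxRecDepth 100000
set_option linter.unusedVariables false

namespace Cfsg.Agent.Lib.Helper25.Cox.G2

open Cfsg.Agent.Lib.Helper25.Cox

abbrev Mx : CoxeterMatrix (Fin 2) := CoxeterMatrix.G₂
abbrev cs : CoxeterSystem Mx Mx.Group := Mx.toCoxeterSystem
def A : Matrix (Fin 2) (Fin 2) ℤ := !![2, -1; -3, 2]
theorem hA : ∀ i, A i i = 2 := by decide
theorem hcompat : Compat Mx A := compat_of_B (by decide)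
noncomputable def φ : Mx.Group →* Equiv.Perm (Fin 2 → ℤ) := actHom A cs hA hcompat
theorem hφ (i : Fin 2) : φ (cs.simple i) = reflEquiv A hA i := actHom_simple A cs hA hcompat i
def key (v : Fin 2 → ℤ) : ℤ := v 0 + 100 * v 1

def K0 : List (Fin 2) := []
-- link 1: K = [0], N = 2
def K1 : List (Fin 2) := [0]
def word1 : ℕ → List (Fin 2) := fun x => ([[], [0]] : List (List (Fin 2))).getD x []
def tbl1 : ℕ → Fin 2 → ℕ := fun x j => (([[1, 0], [0, 0]] : List (List ℕ)).getD x []).getD j.val 0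
def p1 : Fin 2 → ℤ := ![1, 0]
def keys1 : List ℤ := [1, 99]
theorem v1_0_0 : V cs (par cs K0) (word1 0) 0 (word1 1) := V_tree cs _ (by decide)
theorem v1_1_0 : V cs (par cs K0) (word1 1) 0 (word1 0) := V_symm cs v1_0_0
theorem row1_0 : ∀ j ∈ K1, tbl1 0 j < 2 ∧ V cs (par cs K0) (word1 0) j (word1 (tbl1 0 j)) := by
  intro j hj
  simp only [K1, List.mem_cons, List.not_mem_nil, or_false] at hj
  subst hj
  exact ⟨by decide, v1_0_0⟩
theorem row1_1 : ∀ j ∈ K1, tbl1 1 j < 2 ∧ V cs (par cs K0) (word1 1) j (word1 (tbl1 1 j)) := by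
  intro j hj
  simp only [K1, List.mem_cons, List.not_mem_nil, or_false] at hj
  subst hj
  exact ⟨by decide, v1_1_0⟩
theorem htbl1 : ∀ x < 2, ∀ j ∈ K1, tbl1 x j < 2 ∧ V cs (par cs K0) (word1 x) j (word1 (tbl1 x j)) := by
  intro x hx
  interval_cases x
  exacts [row1_0, row1_1]
theorem pt1_0 : φ (cs.wordProd (word1 0)) p1 = ![1, 0] := pt_base cs φ (by decide) _
theorem pt1_1 : φ (cs.wordProd (word1 1)) p1 = ![-1, 1] := pt_step A cs hA φ hφ (j := 0) (w := word1 0) (by decide) pt1_0 (by decide)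
theorem key1_0 : key (φ (cs.wordProd (word1 0)) p1) = keys1.getD 0 0 := by rw [pt1_0]; decide
theorem key1_1 : key (φ (cs.wordProd (word1 1)) p1) = keys1.getD 1 0 := by rw [pt1_1]; decide
theorem hkey1 : ∀ x < 2, key (φ (cs.wordProd (word1 x)) p1) = keys1.getD x 0 := by
  intro x hx
  interval_cases x
  exacts [key1_0, key1_1]
theorem card1 : Nat.card (par cs K1) = 2 * Nat.card (par cs K0) :=
  link_card cs φ p1 K0 K1 2 word1 tbl1 (by decide) (by decide) (by decide) (by decide) htbl1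
    (fix_of_refl A cs hA φ hφ K0 p1 (by decide))
    (hdist_of_keys cs φ p1 word1 2 key keys1 (by decide) (by decide) hkey1)

-- link 2: K = [0, 1], N = 6
def K2 : List (Fin 2) := [0, 1]
def word2 : ℕ → List (Fin 2) := fun x => ([[], [1], [0, 1], [1, 0, 1], [0, 1, 0, 1], [1, 0, 1, 0, 1]] : List (List (Fin 2))).getD x []
def tbl2 : ℕ → Fin 2 → ℕ := fun x j => (([[0, 1], [2, 0], [1, 3], [4, 2], [3, 5], [5, 4]] : List (List ℕ)).getD x []).getD j.val 0
def p2 : Fin 2 → ℤ := ![0, 1]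
def keys2 : List ℤ := [100, -97, 197, -197, 97, -100]
theorem v2_0_1 : V cs (par cs K1) (word2 0) 1 (word2 1) := V_tree cs _ (by decide)
theorem v2_1_1 : V cs (par cs K1) (word2 1) 1 (word2 0) := V_symm cs v2_0_1
theorem v2_1_0 : V cs (par cs K1) (word2 1) 0 (word2 2) := V_tree cs _ (by decide)
theorem v2_2_0 : V cs (par cs K1) (word2 2) 0 (word2 1) := V_symm cs v2_1_0
theorem v2_2_1 : V cs (par cs K1) (word2 2) 1 (word2 3) := V_tree cs _ (by decide)
theorem v2_3_1 : V cs (par cs K1) (word2 3) 1 (word2 2) := V_symm cs v2_2_1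
theorem v2_3_0 : V cs (par cs K1) (word2 3) 0 (word2 4) := V_tree cs _ (by decide)
theorem v2_4_0 : V cs (par cs K1) (word2 4) 0 (word2 3) := V_symm cs v2_3_0
theorem v2_4_1 : V cs (par cs K1) (word2 4) 1 (word2 5) := V_tree cs _ (by decide)
theorem v2_5_1 : V cs (par cs K1) (word2 5) 1 (word2 4) := V_symm cs v2_4_1
theorem v2_0_0 : V cs (par cs K1) (word2 0) 0 (word2 0) := V_base cs (by decide) (simple_mem_par cs (by decide))
theorem v2_5_0 : V cs (par cs K1) (word2 5) 0 (word2 5) := V_ded6 cs (a := 0) (b := 1) (by decide) v2_5_1 v2_4_0 v2_3_1 v2_2_0 v2_1_1 v2_0_0 v2_0_1 v2_1_0 v2_2_1 v2_3_0 v2_4_1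
theorem row2_0 : ∀ j ∈ K2, tbl2 0 j < 6 ∧ V cs (par cs K1) (word2 0) j (word2 (tbl2 0 j)) := by
  intro j hj
  simp only [K2, List.mem_cons, List.not_mem_nil, or_false] at hj
  rcases hj with rfl | rfl
  exacts [⟨by decide, v2_0_0⟩, ⟨by decide, v2_0_1⟩]
theorem row2_1 : ∀ j ∈ K2, tbl2 1 j < 6 ∧ V cs (par cs K1) (word2 1) j (word2 (tbl2 1 j)) := by
  intro j hj
  simp only [K2, List.mem_cons, List.not_mem_nil, or_false] at hj
  rcases hj with rfl | rfl
  exacts [⟨by decide, v2_1_0⟩, ⟨by decide, v2_1_1⟩]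
theorem row2_2 : ∀ j ∈ K2, tbl2 2 j < 6 ∧ V cs (par cs K1) (word2 2) j (word2 (tbl2 2 j)) := by
  intro j hj
  simp only [K2, List.mem_cons, List.not_mem_nil, or_false] at hj
  rcases hj with rfl | rfl
  exacts [⟨by decide, v2_2_0⟩, ⟨by decide, v2_2_1⟩]
theorem row2_3 : ∀ j ∈ K2, tbl2 3 j < 6 ∧ V cs (par cs K1) (word2 3) j (word2 (tbl2 3 j)) := by
  intro j hj
  simp only [K2, List.mem_cons, List.not_mem_nil, or_false] at hj
  rcases hj with rfl | rfl
  exacts [⟨by decide, v2_3_0⟩, ⟨by decide, v2_3_1⟩]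
theorem row2_4 : ∀ j ∈ K2, tbl2 4 j < 6 ∧ V cs (par cs K1) (word2 4) j (word2 (tbl2 4 j)) := by
  intro j hj
  simp only [K2, List.mem_cons, List.not_mem_nil, or_false] at hj
  rcases hj with rfl | rfl
  exacts [⟨by decide, v2_4_0⟩, ⟨by decide, v2_4_1⟩]
theorem row2_5 : ∀ j ∈ K2, tbl2 5 j < 6 ∧ V cs (par cs K1) (word2 5) j (word2 (tbl2 5 j)) := by
  intro j hj
  simp only [K2, List.mem_cons, List.not_mem_nil, or_false] at hj
  rcases hj with rfl | rfl
  exacts [⟨by decide, v2_5_0⟩, ⟨by decide, v2_5_1⟩]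
theorem htbl2 : ∀ x < 6, ∀ j ∈ K2, tbl2 x j < 6 ∧ V cs (par cs K1) (word2 x) j (word2 (tbl2 x j)) := by
  intro x hx
  interval_cases x
  exacts [row2_0, row2_1, row2_2, row2_3, row2_4, row2_5]
theorem pt2_0 : φ (cs.wordProd (word2 0)) p2 = ![0, 1] := pt_base cs φ (by decide) _
theorem pt2_1 : φ (cs.wordProd (word2 1)) p2 = ![3, -1] := pt_step A cs hA φ hφ (j := 1) (w := word2 0) (by decide) pt2_0 (by decide)
theorem pt2_2 : φ (cs.wordProd (word2 2)) p2 = ![-3, 2] := pt_step A cs hA φ hφ (j := 0) (w := word2 1) (by decide) pt2_1 (by decide)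
theorem pt2_3 : φ (cs.wordProd (word2 3)) p2 = ![3, -2] := pt_step A cs hA φ hφ (j := 1) (w := word2 2) (by decide) pt2_2 (by decide)
theorem pt2_4 : φ (cs.wordProd (word2 4)) p2 = ![-3, 1] := pt_step A cs hA φ hφ (j := 0) (w := word2 3) (by decide) pt2_3 (by decide)
theorem pt2_5 : φ (cs.wordProd (word2 5)) p2 = ![0, -1] := pt_step A cs hA φ hφ (j := 1) (w := word2 4) (by decide) pt2_4 (by decide)
theorem key2_0 : key (φ (cs.wordProd (word2 0)) p2) = keys2.getD 0 0 := by rw [pt2_0]; decide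
theorem key2_1 : key (φ (cs.wordProd (word2 1)) p2) = keys2.getD 1 0 := by rw [pt2_1]; decide
theorem key2_2 : key (φ (cs.wordProd (word2 2)) p2) = keys2.getD 2 0 := by rw [pt2_2]; decide
theorem key2_3 : key (φ (cs.wordProd (word2 3)) p2) = keys2.getD 3 0 := by rw [pt2_3]; decide
theorem key2_4 : key (φ (cs.wordProd (word2 4)) p2) = keys2.getD 4 0 := by rw [pt2_4]; decide
theorem key2_5 : key (φ (cs.wordProd (word2 5)) p2) = keys2.getD 5 0 := by rw [pt2_5]; decide
theorem hkey2 : ∀ x < 6, key (φ (cs.wordProd (word2 x)) p2) = keys2.getD x 0 := by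
  intro x hx
  interval_cases x
  exacts [key2_0, key2_1, key2_2, key2_3, key2_4, key2_5]
theorem card2 : Nat.card (par cs K2) = 6 * Nat.card (par cs K1) :=
  link_card cs φ p2 K1 K2 6 word2 tbl2 (by decide) (by decide) (by decide) (by decide) htbl2
    (fix_of_refl A cs hA φ hφ K1 p2 (by decide))
    (hdist_of_keys cs φ p2 word2 6 key keys2 (by decide) (by decide) hkey2)

theorem card : Nat.card Mx.Group = 12 := by
  have h0 : Nat.card (par cs K0) = 1 := by rw [show K0 = [] from rfl, par_nil]; exact Subgroup.card_bot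
  have htop : par cs K2 = ⊤ := par_top cs (by decide)
  rw [← Subgroup.card_top (G := Mx.Group), ← htop, card2, card1, h0]

end Cfsg.Agent.Lib.Helper25.Cox.G2
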