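import Mathlib
import Cfsg.Agent.Lib.Helper72.G42Defs
import Cfsg.Agent.Lib.Helper84.G42L4
import Cfsg.Agent.Lib.Helper62.Small120

/-!
# K-G42 pack (S2553), leaf L5: `|Δ| = 5` gives `K ≅ A_5` or `S_5`.
-/

set_option autoImplicit false

namespace Cfsg.Agent.Lib.Helper25.G42

open Cfsg.Agent.Lib.Helper72.G42 Equiv

/-- a non-solvable subgroup of `S_5` is `A_5` or `S_5` -/
theorem sub_S5 (R : Subgroup (Perm (Fin 5))) (hns : ¬ Group.IsSolvable ↥R) :
    R = alternatingGroup (Fin 5) ∨ R = ⊤ := by
  have h120 : Nat.card (Perm (Fin 5)) = 120 := by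
    rw [Nat.card_perm]; simp [Nat.factorial]
  have hidx : R.index * Nat.card ↥R = 120 := by
    rw [mul_comm, Subgroup.card_mul_index, h120]
  have h60 : 60 ≤ Nat.card ↥R := by
    by_contra hlt
    exact hns (Cfsg.Agent.Lib.Helper62.Small120.solvable_of_card_lt_sixty _ (not_le.mp hlt) ↥R rfl)
  have hi2 : R.index ≤ 2 := by
    by_contra hgt
    have : 3 ≤ R.index := by omega
    nlinarith
  have hA : alternatingGroup (Fin 5) ≤ R := Equiv.Perm.alternatingGroup_le_of_index_le_two hi2
  have hAc : Nat.card ↥(alternatingGroup (Fin 5)) = 60 := by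
    have := two_mul_nat_card_alternatingGroup (α := Fin 5)
    rw [h120] at this
    omega
  have hi0 : R.index ≠ 0 := by
    intro h0; rw [h0] at hidx; omega
  have hcases : R.index = 1 ∨ R.index = 2 := by omega
  rcases hcases with h1 | h2
  · right
    exact Subgroup.index_eq_one.mp h1
  · left
    have hc : Nat.card ↥R = 60 := by rw [h2] at hidx; omega
    exact (Subgroup.eq_of_le_of_card_ge hA (by rw [hc, hAc])).symm

/-- L5 -/
theorem case5 {K N : Subgroup (Equiv.Perm (Fin 8))} {Δ : Finset (Fin 8)} (h : Cfg K N Δ) (h5 : Δ.card = 5) :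
    Nonempty (↥K ≃* ↥(alternatingGroup (Fin 5))) ∨ Nonempty (↥K ≃* Equiv.Perm (Fin 5)) := by
  obtain ⟨hpres, hfaith⟩ := Cfsg.Agent.Lib.Helper84.G42.faithful_on h
  have hiff : ∀ k ∈ K, ∀ x, k x ∈ Δ ↔ x ∈ Δ := by
    intro k hk x
    constructor
    · intro hx
      have := hpres k⁻¹ (K.inv_mem hk) (k x) hx
      simpa using this
    · exact hpres k hk x
  let φ : ↥K →* Perm {x // x ∈ Δ} :=
    { toFun := fun k => Perm.subtypePerm k.1 (hiff k.1 k.2)
      map_one' := by ext x; simp
      map_mul' := by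
        intro a b
        ext x
        simp only [Perm.subtypePerm_apply, Perm.mul_apply, Subgroup.coe_mul] }
  have hφ : Function.Injective φ := by
    rw [injective_iff_map_eq_one]
    intro k hk
    have : (k : Perm (Fin 8)) = 1 := by
      apply hfaith k.1 k.2
      intro x hx
      have := congrArg (fun f : Perm {x // x ∈ Δ} => (f ⟨x, hx⟩ : Fin 8)) hk
      simpa [φ] using this
    exact Subtype.ext this
  have hcard : Fintype.card {x // x ∈ Δ} = 5 := by rw [Fintype.card_coe, h5]
  let e : {x // x ∈ Δ} ≃ Fin 5 := Fintype.equivFinOfCardEq hcard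
  let ψ : ↥K →* Perm (Fin 5) := (e.permCongrHom.toMonoidHom).comp φ
  have hψ : Function.Injective ψ := by
    intro a b hab
    exact hφ (e.permCongrHom.injective hab)
  have hKns : ¬ Group.IsSolvable ↥K := by
    intro hs
    have hKbot : K = ⊥ := h.hsolv K le_rfl (fun k hk m hm => K.mul_mem (K.mul_mem hk hm) (K.inv_mem hk)) hs
    apply h.hN1
    rw [eq_bot_iff, ← hKbot]
    exact h.hNK
  have eR : ↥K ≃* ↥ψ.range := MonoidHom.ofInjective hψ
  have hRns : ¬ Group.IsSolvable ↥ψ.range := by
    intro hs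
    exact hKns (Group.isSolvable_of_isSolvable_injective (f := eR.toMonoidHom) eR.injective)
  rcases sub_S5 ψ.range hRns with hR | hR
  · left
    exact ⟨eR.trans (MulEquiv.subgroupCongr hR)⟩
  · right
    exact ⟨(eR.trans (MulEquiv.subgroupCongr hR)).trans Subgroup.topEquiv⟩

end Cfsg.Agent.Lib.Helper25.G42
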