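import Mathlib
import Cfsg.Agent.S3742
import Cfsg.Agent.Lib.Helper83.GSDefs

/-!
# K-GS pack (S4840), leaf G3 `good_of_q8`.
-/

set_option autoImplicit false

namespace Cfsg.Agent.Lib.Helper25.GS

open Cfsg.Agent.Lib.Helper83.GS (Good)

universe u

theorem card_center_q8 : Nat.card ↥(Subgroup.center (QuaternionGroup 2)) = 2 := by
  rw [Nat.card_eq_fintype_card]
  decide

theorem card_mulAut_of_q8 {R : Type*} [Group R] (e : R ≃* QuaternionGroup 2) :
    Nat.card (MulAut R) = 24 := by
  obtain ⟨f⟩ := Cfsg.Agent.S3742.result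
  have e1 : MulAut R ≃* MulAut (QuaternionGroup 2) := MulAut.congr e
  rw [Nat.card_congr (e1.trans f).toEquiv, Nat.card_eq_fintype_card, Fintype.card_perm,
    Fintype.card_fin]
  rfl

variable {Γ : Type u} [Group Γ] [Finite Γ]

theorem ker_conjNormal (R : Subgroup Γ) [R.Normal] :
    (MulAut.conjNormal (H := R)).ker = Subgroup.centralizer (R : Set Γ) := by
  ext x
  rw [MonoidHom.mem_ker, Subgroup.mem_centralizer_iff]
  constructor
  · intro h r hr
    have h1 : ((MulAut.conjNormal x (⟨r, hr⟩ : ↥R) : ↥R) : Γ) = r := by rw [h]; rfl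
    rw [MulAut.conjNormal_apply] at h1
    have := congrArg (fun y => y * x) h1
    simpa [mul_assoc] using this.symm
  · intro h
    ext ⟨r, hr⟩
    rw [MulAut.conjNormal_apply]
    have := h r hr
    show x * r * x⁻¹ = r
    rw [← this]; group

theorem arith_q8 (k m n : ℕ) (hkm : k * m = 8) (hk2 : k ≤ 2) (hmn : m ∣ n) (hn24 : n ∣ 24)
    (hne : n ≠ 24) (h3 : 3 ∣ n) : m = 4 ∧ n = 12 := by
  have hn_le : n ≤ 24 := Nat.le_of_dvd (by norm_num) hn24
  have hk : k = 1 ∨ k = 2 := by
    rcases k with _ | _ | _ | k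
    · simp at hkm
    · left; rfl
    · right; rfl
    · omega
  rcases hk with rfl | rfl
  · have : m = 8 := by omega
    subst this
    interval_cases n <;> omega
  · have : m = 4 := by omega
    subst this
    interval_cases n <;> omega

/-- **G3**. -/
theorem good_of_q8 (p : ℕ) [Fact p.Prime] (hp2 : p ≠ 2) (R : Subgroup Γ) [R.Normal]
    (e : R ≃* QuaternionGroup 2)
    (hkill : p = 3 → Nat.card Γ ≠ 24 * Nat.card (Subgroup.centralizer (R : Set Γ))) : Good p R := by
  have hp := (Fact.out : p.Prime)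
  set φ : Γ →* MulAut ↥R := MulAut.conjNormal with hφ
  have hker : φ.ker = Subgroup.centralizer (R : Set Γ) := ker_conjNormal R
  have hA : Nat.card (MulAut ↥R) = 24 := card_mulAut_of_q8 e
  haveI : Finite (MulAut ↥R) := Nat.finite_of_card_ne_zero (by rw [hA]; norm_num)
  have hn24 : Nat.card ↥φ.range ∣ 24 := by
    rw [← hA]; exact Subgroup.card_subgroup_dvd_card _
  have hcardΓ : Nat.card ↥φ.ker * Nat.card ↥φ.range = Nat.card Γ := by
    rw [← Subgroup.index_ker]; exact Subgroup.card_mul_index _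
  have hpel : ∀ (T : Subgroup (MulAut ↥R)), ¬ p ∣ Nat.card ↥T → ∀ a ∈ T,
      (∃ k : ℕ, a ^ (p ^ k) = 1) → a = 1 := by
    intro T hT a ha ⟨k, hk⟩
    have h1 : orderOf a ∣ p ^ k := orderOf_dvd_of_pow_eq_one hk
    have h2 : orderOf a ∣ Nat.card ↥T := by
      have := orderOf_dvd_natCard (⟨a, ha⟩ : ↥T)
      rwa [Subgroup.orderOf_mk] at this
    obtain ⟨j, _, hj⟩ := (Nat.dvd_prime_pow hp).1 h1
    rcases Nat.eq_zero_or_pos j with rfl | hjpos
    · rw [pow_zero] at hj; exact orderOf_eq_one_iff.1 hj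
    · exfalso; apply hT
      exact (dvd_pow_self p hjpos.ne').trans (hj ▸ h2)
  have hpow : ∀ x : Γ, (∃ k : ℕ, x ^ (p ^ k) = 1) → ∃ k : ℕ, (φ x) ^ (p ^ k) = 1 := by
    rintro x ⟨k, hk⟩
    exact ⟨k, by rw [← map_pow, hk, map_one]⟩
  refine ⟨?_, ?_⟩
  · by_cases hpn : p ∣ Nat.card ↥φ.range
    · have hp24 : p ∣ 24 := hpn.trans hn24
      have hp3 : p = 3 := by
        have h : p ∣ 2 ^ 3 * 3 := by norm_num; exact hp24
        rcases (Nat.Prime.dvd_mul hp).1 h with h | h
        · exact absurd ((Nat.prime_dvd_prime_iff_eq hp Nat.prime_two).1 (hp.dvd_of_dvd_pow h)) hp2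
        · exact (Nat.prime_dvd_prime_iff_eq hp Nat.prime_three).1 h
      have hn_ne : Nat.card ↥φ.range ≠ 24 := by
        intro h
        apply hkill hp3
        rw [← hker, ← hcardΓ, h, mul_comm]
      set ψ : ↥R →* MulAut ↥R := φ.comp R.subtype with hψ
      have hle : ψ.range ≤ φ.range := by
        rintro _ ⟨r, rfl⟩; exact ⟨r.1, rfl⟩
      have hcardR : Nat.card ↥R = 8 := by
        rw [Nat.card_congr e.toEquiv, Nat.card_eq_fintype_card, QuaternionGroup.card]
      have hkm : Nat.card ↥ψ.ker * Nat.card ↥ψ.range = 8 := by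
        rw [← hcardR, ← Subgroup.index_ker]; exact Subgroup.card_mul_index _
      have hk2 : Nat.card ↥ψ.ker ≤ 2 := by
        rw [← card_center_q8]
        refine Nat.card_le_card_of_injective (fun z => ⟨e z.1, ?_⟩) ?_
        · rw [Subgroup.mem_center_iff]
          intro q
          obtain ⟨r, rfl⟩ := e.surjective q
          rw [← map_mul, ← map_mul]
          congr 1
          have hz : ψ z.1 = 1 := z.2
          have h1 : ((ψ z.1) r : ↥R) = r := by rw [hz]; rfl
          apply Subtype.ext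
          have h2 := congrArg Subtype.val h1
          simp only [hψ, hφ, MonoidHom.comp_apply, Subgroup.coe_subtype,
            MulAut.conjNormal_apply] at h2
          have := congrArg (fun y => y * ((z.1 : ↥R) : Γ)) h2
          simpa [mul_assoc] using this.symm
        · intro z z' h
          have := congrArg Subtype.val h
          exact Subtype.ext (e.injective this)
      have hm_dvd : Nat.card ↥ψ.range ∣ Nat.card ↥φ.range := Subgroup.card_dvd_of_le hle
      have hm := arith_q8 _ _ _ hkm hk2 hm_dvd hn24 hn_ne (hp3 ▸ hpn)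
      refine ⟨ψ.range.comap φ, ?_, ⟨1, ?_⟩, ?_⟩
      · refine ⟨fun x hx g => ?_⟩
        rw [Subgroup.mem_comap, MonoidHom.mem_range] at hx ⊢
        obtain ⟨r, hr⟩ := hx
        have hr' : φ r.1 = φ x := hr
        refine ⟨⟨g * r.1 * g⁻¹, Subgroup.Normal.conj_mem inferInstance r.1 r.2 g⟩, ?_⟩
        show φ (g * r.1 * g⁻¹) = φ (g * x * g⁻¹)
        simp only [map_mul, map_inv, hr']
      · rw [Subgroup.index_comap, pow_one, hp3]
        have := Subgroup.relIndex_mul_relIndex (⊥ : Subgroup (MulAut ↥R)) ψ.range φ.range bot_le hle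
        rw [Subgroup.relIndex_bot_left, Subgroup.relIndex_bot_left, hm.1, hm.2] at this
        omega
      · intro x hx hxp
        rw [← hker, MonoidHom.mem_ker]
        exact hpel ψ.range (by rw [hm.1, hp3]; norm_num) (φ x) hx (hpow x hxp)
    · refine ⟨⊤, inferInstance, ⟨0, by simp⟩, ?_⟩
      intro x _ hxp
      rw [← hker, MonoidHom.mem_ker]
      exact hpel φ.range hpn (φ x) ⟨x, rfl⟩ (hpow x hxp)
  · intro P x hx y hy
    rw [← hker, MonoidHom.mem_ker]
    have hTp : IsPGroup p ↥((P : Subgroup Γ).map φ) := P.2.map φ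
    obtain ⟨k, hk⟩ := IsPGroup.iff_card.1 hTp
    have hT24 : Nat.card ↥((P : Subgroup Γ).map φ) ∣ 24 := by
      rw [← hA]; exact Subgroup.card_subgroup_dvd_card _
    have hT3 : Nat.card ↥((P : Subgroup Γ).map φ) ∣ 3 := by
      rw [hk] at hT24 ⊢
      have hcop : Nat.Coprime (p ^ k) (2 ^ 3) :=
        Nat.Coprime.pow _ _ ((Nat.coprime_primes hp Nat.prime_two).2 hp2)
      exact hcop.dvd_of_dvd_mul_left (by norm_num; exact hT24)
    haveI : Fact (Nat.Prime 3) := ⟨Nat.prime_three⟩
    have hcyc : IsCyclic ↥((P : Subgroup Γ).map φ) := isCyclic_of_card_dvd_prime hT3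
    have hcomm : ∀ a b : ↥((P : Subgroup Γ).map φ), a * b = b * a := fun a b => by
      letI := IsCyclic.commGroup (α := ↥((P : Subgroup Γ).map φ)); exact mul_comm a b
    have hab := congrArg Subtype.val (hcomm ⟨φ x, ⟨x, hx, rfl⟩⟩ ⟨φ y, ⟨y, hy, rfl⟩⟩)
    simp only [Subgroup.coe_mul] at hab
    rw [map_mul, map_mul, map_mul, map_inv, map_inv, hab]; group

end Cfsg.Agent.Lib.Helper25.GS
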