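import Mathlib

/-!
# K-GAG pack (S4839), leaf G01: equal centralizer orders in `G` and `G/N` give the Camina property.
-/

set_option autoImplicit false

namespace Cfsg.Agent.Lib.Helper25.Gag

/-- class size times centralizer order -/
theorem ncard_conj_mul_card_centralizer {Γ : Type*} [Group Γ] [Finite Γ] (x : Γ) :
    {g : Γ | IsConj x g}.ncard * Nat.card (Subgroup.centralizer ({x} : Set Γ)) = Nat.card Γ := by
  have h1 : {g : Γ | IsConj x g} = MulAction.orbit (ConjAct Γ) x := by
    ext g
    rw [ConjAct.mem_orbit_conjAct, Set.mem_ofPred_eq, isConj_comm]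
  rw [h1, ← MulAction.index_stabilizer, Subgroup.nat_card_centralizer_nat_card_stabilizer,
    Subgroup.index_mul_card]
  rfl

variable {G : Type*} [Group G] [Finite G]

/-- G01 -/
theorem camina_of_card (N : Subgroup G) [N.Normal]
    (h : ∀ x : G, x ∉ N → Nat.card (Subgroup.centralizer ({x} : Set G)) =
      Nat.card (Subgroup.centralizer ({(x : G ⧸ N)} : Set (G ⧸ N)))) :
    ∀ x : G, x ∉ N → ∀ n ∈ N, IsConj x (x * n) := by
  intro x hx n hn
  set A : Set G := {g : G | IsConj x g} with hA
  set T : Set (G ⧸ N) := {y : G ⧸ N | IsConj (x : G ⧸ N) y} with hT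
  set B : Set G := (QuotientGroup.mk : G → G ⧸ N) ⁻¹' T with hB
  have hAB : A ⊆ B := by
    intro g hg
    obtain ⟨c, hc⟩ := isConj_iff.1 hg
    show IsConj (x : G ⧸ N) (g : G ⧸ N)
    rw [isConj_iff]
    refine ⟨(c : G ⧸ N), ?_⟩
    rw [← hc]
    simp
  have hcardB : B.ncard = Nat.card N * T.ncard := by
    rw [← Nat.card_coe_set_eq, ← Nat.card_coe_set_eq, hB, QuotientGroup.card_preimage_mk]
  have h1 := ncard_conj_mul_card_centralizer x
  have h2 := ncard_conj_mul_card_centralizer (x : G ⧸ N)
  have h3 : Nat.card N * Nat.card (G ⧸ N) = Nat.card G := by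
    rw [mul_comm]
    exact (Subgroup.card_eq_card_quotient_mul_card_subgroup N).symm
  have hc0 : 0 < Nat.card (Subgroup.centralizer ({x} : Set G)) := Nat.card_pos
  have hAB' : A.ncard = B.ncard := by
    have : A.ncard * Nat.card (Subgroup.centralizer ({x} : Set G)) =
        B.ncard * Nat.card (Subgroup.centralizer ({x} : Set G)) := by
      rw [h1, hcardB, h x hx, mul_assoc, h2, h3]
    exact Nat.eq_of_mul_eq_mul_right hc0 this
  have hEq : A = B := Set.eq_of_subset_of_ncard_le hAB (le_of_eq hAB'.symm) (Set.toFinite B)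
  have : x * n ∈ B := by
    show IsConj (x : G ⧸ N) ((x * n : G) : G ⧸ N)
    have : ((x * n : G) : G ⧸ N) = (x : G ⧸ N) := by
      rw [QuotientGroup.mk_mul, (QuotientGroup.eq_one_iff n).2 hn, mul_one]
    rw [this]
  rw [← hEq] at this
  exact this

end Cfsg.Agent.Lib.Helper25.Gag
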