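import Mathlib

/-!
# K-NSE3 pack (S3996), leaf L05b: the abstract double pairing sum.
-/

set_option autoImplicit false

namespace Cfsg.Agent.Lib.Helper25.NSE3

/-- L05b abstract double pairing sum. -/
theorem sum_pair (N p q : ℕ) (hp : p.Prime) (hq : q.Prime) (hpq : p ≠ q) (hpN : p ∣ N)
    (hqN : q ∣ N) (hN : N ≠ 0) (f : ℕ → ℕ) (c : ℕ)
    (hsqp : ∀ k, p * p ∣ k → f k = 0) (hsqq : ∀ k, q * q ∣ k → f k = 0)
    (hpair : ∀ k, k ∣ N → ¬ p ∣ k → ¬ q ∣ k →
      f (p * k) + f (p * q * k) = if f k = 0 then 0 else c) :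
    ∑ k ∈ N.divisors.filter (fun k => p ∣ k), f k =
      c * ((N.divisors.filter (fun k => ¬ p ∣ k ∧ ¬ q ∣ k ∧ f k ≠ 0)).card) := by
  classical
  have hp0 : p ≠ 0 := hp.ne_zero
  have hq0 : q ≠ 0 := hq.ne_zero
  have hpq0 : p * q ≠ 0 := mul_ne_zero hp0 hq0
  have hcop : Nat.Coprime p q := (Nat.coprime_primes hp hq).2 hpq
  have hqp : ¬ q ∣ p := fun h => hpq ((Nat.prime_dvd_prime_iff_eq hq hp).1 h).symm
  have hpq' : ¬ p ∣ q := fun h => hpq ((Nat.prime_dvd_prime_iff_eq hp hq).1 h)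
  set B : Finset ℕ := N.divisors.filter (fun k => ¬ p ∣ k ∧ ¬ q ∣ k) with hB
  have hBmem : ∀ m, m ∈ B ↔ m ∣ N ∧ ¬ p ∣ m ∧ ¬ q ∣ m := by
    intro m
    simp [hB, Nat.mem_divisors, hN]
  -- step 1: drop the vanishing terms
  have h1 : ∑ k ∈ N.divisors.filter (fun k => p ∣ k), f k =
      ∑ k ∈ (N.divisors.filter (fun k => p ∣ k)).filter (fun k => ¬ p * p ∣ k ∧ ¬ q * q ∣ k), f k := by
    symm
    apply Finset.sum_subset (Finset.filter_subset _ _)
    intro k hk hk'
    rw [Finset.mem_filter] at hk'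
    have : ¬ (¬ p * p ∣ k ∧ ¬ q * q ∣ k) := fun h => hk' ⟨hk, h⟩
    by_cases h2 : p * p ∣ k
    · exact hsqp k h2
    · by_cases h3 : q * q ∣ k
      · exact hsqq k h3
      · exact absurd ⟨h2, h3⟩ this
  -- step 2: the remaining index set is a disjoint union of two images of `B`
  have h2 : (N.divisors.filter (fun k => p ∣ k)).filter (fun k => ¬ p * p ∣ k ∧ ¬ q * q ∣ k) =
      B.image (fun m => p * m) ∪ B.image (fun m => p * q * m) := by
    ext k
    simp only [Finset.mem_filter, Nat.mem_divisors, Finset.mem_union, Finset.mem_image, hBmem]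
    constructor
    · rintro ⟨⟨⟨hkN, _⟩, hpk⟩, hnp, hnq⟩
      obtain ⟨m, rfl⟩ := hpk
      have hpm : ¬ p ∣ m := fun h => hnp (Nat.mul_dvd_mul_left p h)
      have hmN : m ∣ N := (Dvd.intro_left p rfl).trans hkN
      by_cases hqm : q ∣ m
      · right
        obtain ⟨m', rfl⟩ := hqm
        have hqm' : ¬ q ∣ m' := by
          intro h
          apply hnq
          obtain ⟨t, rfl⟩ := h
          exact ⟨p * t, by ring⟩
        have hpm' : ¬ p ∣ m' := fun h => hpm (Dvd.dvd.mul_left h q)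
        have hm'N : m' ∣ N := (Dvd.intro_left q rfl).trans hmN
        exact ⟨m', ⟨hm'N, hpm', hqm'⟩, by ring⟩
      · left
        exact ⟨m, ⟨hmN, hpm, hqm⟩, rfl⟩
    · rintro (⟨m, ⟨hmN, hpm, hqm⟩, rfl⟩ | ⟨m, ⟨hmN, hpm, hqm⟩, rfl⟩)
      · have hc : Nat.Coprime p m := (Nat.Prime.coprime_iff_not_dvd hp).2 hpm
        refine ⟨⟨⟨Nat.Coprime.mul_dvd_of_dvd_of_dvd hc hpN hmN, hN⟩, Dvd.intro _ rfl⟩, ?_, ?_⟩
        · intro h
          exact hpm ((Nat.mul_dvd_mul_iff_left hp.pos).1 h)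
        · intro h
          have : q ∣ p * m := (Dvd.intro _ rfl : q ∣ q * q).trans h
          rcases (Nat.Prime.dvd_mul hq).1 this with h' | h'
          · exact hqp h'
          · exact hqm h'
      · have hc1 : Nat.Coprime p m := (Nat.Prime.coprime_iff_not_dvd hp).2 hpm
        have hc2 : Nat.Coprime q m := (Nat.Prime.coprime_iff_not_dvd hq).2 hqm
        have hc : Nat.Coprime (p * q) m := Nat.Coprime.mul_left hc1 hc2
        have hpqN : p * q ∣ N := Nat.Coprime.mul_dvd_of_dvd_of_dvd hcop hpN hqN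
        refine ⟨⟨⟨Nat.Coprime.mul_dvd_of_dvd_of_dvd hc hpqN hmN, hN⟩, ⟨q * m, by ring⟩⟩, ?_, ?_⟩
        · intro h
          have h' : p * p ∣ p * (q * m) := by rwa [mul_assoc] at h
          have : p ∣ q * m := (Nat.mul_dvd_mul_iff_left hp.pos).1 h'
          rcases (Nat.Prime.dvd_mul hp).1 this with h'' | h''
          · exact hpq' h''
          · exact hpm h''
        · intro h
          have h' : q * q ∣ q * (p * m) := by
            have : p * q * m = q * (p * m) := by ring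
            rwa [this] at h
          have : q ∣ p * m := (Nat.mul_dvd_mul_iff_left hq.pos).1 h'
          rcases (Nat.Prime.dvd_mul hq).1 this with h'' | h''
          · exact hqp h''
          · exact hqm h''
  have hdisj : Disjoint (B.image (fun m => p * m)) (B.image (fun m => p * q * m)) := by
    rw [Finset.disjoint_left]
    intro k hk1 hk2
    rw [Finset.mem_image] at hk1 hk2
    obtain ⟨m1, hm1, rfl⟩ := hk1
    obtain ⟨m2, hm2, he⟩ := hk2
    have : m1 = q * m2 := by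
      have : p * (q * m2) = p * m1 := by rw [← he]; ring
      exact (Nat.eq_of_mul_eq_mul_left hp.pos this).symm
    exact ((hBmem m1).1 hm1).2.2 ⟨m2, this⟩
  have hinj1 : ∀ x ∈ B, ∀ y ∈ B, p * x = p * y → x = y := fun x _ y _ h =>
    Nat.eq_of_mul_eq_mul_left hp.pos h
  have hinj2 : ∀ x ∈ B, ∀ y ∈ B, p * q * x = p * q * y → x = y := fun x _ y _ h =>
    Nat.eq_of_mul_eq_mul_left (Nat.pos_of_ne_zero hpq0) h
  rw [h1, h2, Finset.sum_union hdisj, Finset.sum_image hinj1, Finset.sum_image hinj2,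
    ← Finset.sum_add_distrib]
  have h3 : ∀ m ∈ B, f (p * m) + f (p * q * m) = if f m ≠ 0 then c else 0 := by
    intro m hm
    obtain ⟨hmN, hpm, hqm⟩ := (hBmem m).1 hm
    rw [hpair m hmN hpm hqm]
    by_cases h0 : f m = 0 <;> simp [h0]
  rw [Finset.sum_congr rfl h3, Finset.sum_ite, Finset.sum_const_zero, add_zero, Finset.sum_const,
    smul_eq_mul, mul_comm]
  congr 2
  rw [hB, Finset.filter_filter]
  apply Finset.filter_congr
  intro k _
  tauto

end Cfsg.Agent.Lib.Helper25.NSE3
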