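import Mathlib
import Cfsg.Prelude.Def_SporCoxeter

set_option autoImplicit false

/-! Presentations (on involutions) used for the existence of J3: a presentation of L2(16):2 and one of J3
extending it. Found by computer; their correctness is established by the verified coset enumerations. -/

namespace Cfsg.Agent.Lib.Helper25.Pres

namespace L216

/-- generators -/
inductive Gen
  | a
  | b
  | c
  deriving DecidableEq

/-- the generator a as a word -/ abbrev a : FreeGroup Gen := FreeGroup.of Gen.a
/-- the generator b as a word -/ abbrev b : FreeGroup Gen := FreeGroup.of Gen.b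
/-- the generator c as a word -/ abbrev c : FreeGroup Gen := FreeGroup.of Gen.c

/-- pairwise orders -/
def edges : List (Gen × ℕ × Gen) :=
  [(.a, 17, .b), (.a, 10, .c), (.b, 4, .c)]

/-- further relators -/
def extra : List (FreeGroup Gen) := [
  c * b * c * a * c * b * c * a * c * b * c * a,
  c * a * b * c * b * a * c * a * b * c * b * a,
  c * b * a * c * a * b * a * c * b * a * c * a * b * a * c * b * a * c * a * b * a ]

end L216

namespace J3

/-- generators -/
inductive Gen
  | a
  | b
  | c
  | d
  deriving DecidableEq

/-- the generator a as a word -/ abbrev a : FreeGroup Gen := FreeGroup.of Gen.a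
/-- the generator b as a word -/ abbrev b : FreeGroup Gen := FreeGroup.of Gen.b
/-- the generator c as a word -/ abbrev c : FreeGroup Gen := FreeGroup.of Gen.c
/-- the generator d as a word -/ abbrev d : FreeGroup Gen := FreeGroup.of Gen.d

/-- pairwise orders -/
def edges : List (Gen × ℕ × Gen) :=
  [(.a, 17, .b), (.a, 10, .c), (.a, 10, .d), (.b, 4, .c), (.b, 12, .d), (.c, 15, .d)]

/-- further relators -/
def extra : List (FreeGroup Gen) := [
  c * b * c * a * c * b * c * a * c * b * c * a,
  c * a * b * c * b * a * c * a * b * c * b * a,
  c * b * a * c * a * b * a * c * b * a * c * a * b * a * c * b * a * c * a * b * a,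
  c * a * b * c * a * b * d * c * a * b * c * a * b * d,
  b * a * b * a * b * c * a * b * a * b * a * c * b * a * b * a * b * d * a * b * c * d * c * b * a * d,
  b * a * b * a * b * c * b * a * b * a * b * d * a * d * a * d * a * d * a * d,
  b * a * b * c * a * b * a * b * c * a * b * a * c * d * b * c * a * c * d * b * d * b * c * a * d,
  c * a * b * c * a * c * b * a * c * d * b * c * b * a * c * d * b * a * b * d,
  a * b * c * a * c * b * a * d * c * b * a * b * d * b * a * b * c * d,
  a * b * c * a * b * c * a * c * b * a * c * b * a * d * c * b * a * d * c * d * a * b * c * d ]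

/-- embedding of the generators of the subgroup presentation -/
def emb : L216.Gen → Gen
  | .a => .a
  | .b => .b
  | .c => .c

end J3

end Cfsg.Agent.Lib.Helper25.Pres
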