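import Mathlib
import Cfsg.Prelude.Def_SporCoxeter
import Cfsg.Prelude.Def_Spor_Suz

set_option autoImplicit false

/-! Sub-presentations of the presentation of the sporadic Suzuki group: the sub-diagrams on `a, b, c, d`
(a group of order at most 2160), on `a, …, e` (the Hall–Janko group) and on `a, …, f` (the group `G₂(4)`).
Their orders are bounded by verified coset enumerations. -/

namespace Cfsg.Agent.Lib.Helper25.Pres

namespace SK0

/-- generators -/
inductive Gen
  | a
  | b
  | c
  | d
  deriving DecidableEq

/-- the generator a as a word -/ abbrev a : FreeGroup Gen := FreeGroup.of Gen.a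
/-- the generator b as a word -/ abbrev b : FreeGroup Gen := FreeGroup.of Gen.b
/-- the generator c as a word -/ abbrev c : FreeGroup Gen := FreeGroup.of Gen.c
/-- the generator d as a word -/ abbrev d : FreeGroup Gen := FreeGroup.of Gen.d

/-- the Coxeter graph a5b3c8d -/
def edges : List (Gen × ℕ × Gen) := [(.a, 5, .b), (.b, 3, .c), (.c, 8, .d)]

/-- further relators -/
def extra : List (FreeGroup Gen) := [a * ((c * d) ^ 4)⁻¹]

end SK0

namespace SJ2

/-- generators -/
inductive Gen
  | a
  | b
  | c
  | d
  | e
  deriving DecidableEq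

/-- the generator a as a word -/ abbrev a : FreeGroup Gen := FreeGroup.of Gen.a
/-- the generator b as a word -/ abbrev b : FreeGroup Gen := FreeGroup.of Gen.b
/-- the generator c as a word -/ abbrev c : FreeGroup Gen := FreeGroup.of Gen.c
/-- the generator d as a word -/ abbrev d : FreeGroup Gen := FreeGroup.of Gen.d
/-- the generator e as a word -/ abbrev e : FreeGroup Gen := FreeGroup.of Gen.e

/-- the Coxeter graph a5b3c8d3e -/
def edges : List (Gen × ℕ × Gen) := [(.a, 5, .b), (.b, 3, .c), (.c, 8, .d), (.d, 3, .e)]

/-- further relators -/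
def extra : List (FreeGroup Gen) := [a * ((c * d) ^ 4)⁻¹, ((b * c * d * c * d) ^ 5 * e) ^ 3]

/-- embedding of the generators of the sub-presentation -/
def emb : SK0.Gen → Gen
  | .a => .a
  | .b => .b
  | .c => .c
  | .d => .d

end SJ2

namespace SG24

/-- generators -/
inductive Gen
  | a
  | b
  | c
  | d
  | e
  | f
  deriving DecidableEq

/-- the generator a as a word -/ abbrev a : FreeGroup Gen := FreeGroup.of Gen.a
/-- the generator b as a word -/ abbrev b : FreeGroup Gen := FreeGroup.of Gen.b
/-- the generator c as a word -/ abbrev c : FreeGroup Gen := FreeGroup.of Gen.c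
/-- the generator d as a word -/ abbrev d : FreeGroup Gen := FreeGroup.of Gen.d
/-- the generator e as a word -/ abbrev e : FreeGroup Gen := FreeGroup.of Gen.e
/-- the generator f as a word -/ abbrev f : FreeGroup Gen := FreeGroup.of Gen.f

/-- the Coxeter graph: path a5b3c8d3e and the edge b3f -/
def edges : List (Gen × ℕ × Gen) := [(.a, 5, .b), (.b, 3, .c), (.c, 8, .d), (.d, 3, .e), (.b, 3, .f)]

/-- further relators -/
def extra : List (FreeGroup Gen) := [a * ((c * d) ^ 4)⁻¹, (a * b * c * f) ^ 5, ((b * c * d * c * d) ^ 5 * e) ^ 3]

/-- embedding of the generators of the sub-presentation -/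
def emb : SJ2.Gen → Gen
  | .a => .a
  | .b => .b
  | .c => .c
  | .d => .d
  | .e => .e

/-- embedding into the generators of the presentation of the Suzuki group -/
def embSuz : Gen → Cfsg.Spor.Suz.Gen
  | .a => .a
  | .b => .b
  | .c => .c
  | .d => .d
  | .e => .e
  | .f => .f

end SG24

end Cfsg.Agent.Lib.Helper25.Pres
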