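import Mathlib
import Cfsg.Prelude.Def_SporCoxeter
import Cfsg.Agent.Lib.Helper25.PresFiChain

set_option autoImplicit false

/-! A presentation of the unitary group `U₆(2)` on eight transvections `c, d, e, f, g, h, i, x` (the first seven
forming a diagram of type `E₇`, generating a copy of `Sp₆(2)`), and the sub-presentation on the first seven. -/

namespace Cfsg.Agent.Lib.Helper25.Pres

namespace U6E7

/-- generators -/
inductive Gen
  | c
  | d
  | e
  | f
  | g
  | h
  | i
  deriving DecidableEq

/-- the generator c as a word -/ abbrev c : FreeGroup Gen := FreeGroup.of Gen.c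
/-- the generator d as a word -/ abbrev d : FreeGroup Gen := FreeGroup.of Gen.d
/-- the generator e as a word -/ abbrev e : FreeGroup Gen := FreeGroup.of Gen.e
/-- the generator f as a word -/ abbrev f : FreeGroup Gen := FreeGroup.of Gen.f
/-- the generator g as a word -/ abbrev g : FreeGroup Gen := FreeGroup.of Gen.g
/-- the generator h as a word -/ abbrev h : FreeGroup Gen := FreeGroup.of Gen.h
/-- the generator i as a word -/ abbrev i : FreeGroup Gen := FreeGroup.of Gen.i

/-- the Coxeter graph -/
def edges : List (Gen × ℕ × Gen) :=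
  [(.c, 3, .d), (.d, 3, .e), (.d, 3, .h), (.e, 3, .f), (.f, 3, .g), (.h, 3, .i)]

/-- further relators -/
def extra : List (FreeGroup Gen) := [
  (c * d * e * f * g * h * i) ^ 9 ]

/-- embedding of the generators of the sub-presentation -/
def emb : FE6.Gen → Gen
  | .c => .c
  | .d => .d
  | .e => .e
  | .f => .f
  | .h => .h
  | .i => .i

end U6E7

namespace U6Q

/-- generators -/
inductive Gen
  | c
  | d
  | e
  | f
  | g
  | h
  | i
  | x
  deriving DecidableEq

/-- the generator c as a word -/ abbrev c : FreeGroup Gen := FreeGroup.of Gen.c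
/-- the generator d as a word -/ abbrev d : FreeGroup Gen := FreeGroup.of Gen.d
/-- the generator e as a word -/ abbrev e : FreeGroup Gen := FreeGroup.of Gen.e
/-- the generator f as a word -/ abbrev f : FreeGroup Gen := FreeGroup.of Gen.f
/-- the generator g as a word -/ abbrev g : FreeGroup Gen := FreeGroup.of Gen.g
/-- the generator h as a word -/ abbrev h : FreeGroup Gen := FreeGroup.of Gen.h
/-- the generator i as a word -/ abbrev i : FreeGroup Gen := FreeGroup.of Gen.i
/-- the generator x as a word -/ abbrev x : FreeGroup Gen := FreeGroup.of Gen.x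

/-- the Coxeter graph -/
def edges : List (Gen × ℕ × Gen) :=
  [(.c, 3, .d), (.d, 3, .e), (.d, 3, .h), (.e, 3, .f), (.f, 3, .g), (.h, 3, .i), (.f, 3, .x), (.i, 3, .x)]

/-- further relators -/
def extra : List (FreeGroup Gen) := [
  (c * d * e * f * g * h * i) ^ 9,
  (d * e * f * x * i * h) ^ 5,
  (c * d * e * h * i * x) ^ 5,
  (e * f * g * x * i * h) ^ 5 ]

/-- embedding of the generators of the sub-presentation -/
def emb : U6E7.Gen → Gen
  | .c => .c
  | .d => .d
  | .e => .e
  | .f => .f
  | .g => .g
  | .h => .h
  | .i => .i

end U6Q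

end Cfsg.Agent.Lib.Helper25.Pres
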