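import Mathlib
import Cfsg.Agent.Lib.Helper49.RSU3Defs

set_option autoImplicit false
set_option linter.unusedSectionVars false
set_option linter.unusedVariables false
set_option maxHeartbeats 400000

namespace Cfsg.Agent.Lib.Helper25.RSU3

open Matrix Cfsg.Agent.Lib.Helper49.StSU Cfsg.Agent.Lib.Helper49.RSU3

namespace L18

variable {F : Type*} [Field F]

theorem mu_inv (μ : F) (hm : μ ^ 2 - μ + 1 = 0) (hp : (5 : F) = 0) : μ⁻¹ = 1 + 4 * μ := by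
  refine inv_eq_of_mul_eq_one_right ?_
  linear_combination (4) * hm + ((-1) + μ) * hp

theorem bet_eq (μ : F) (hm : μ ^ 2 - μ + 1 = 0) (hp : (5 : F) = 0) (h1 : μ - 1 ≠ 0) (h2 : μ + 1 ≠ 0) :
    bet μ = 4 + μ := by
  unfold bet
  rw [div_eq_iff (mul_ne_zero h1 (pow_ne_zero 3 h2))]
  linear_combination ((-5) + (-14) * μ + (-7) * μ ^ 2 + (-1) * μ ^ 3) * hm + (2 + 4 * μ) * hp

theorem bz_eq (μ : F) (hm : μ ^ 2 - μ + 1 = 0) (hp : (5 : F) = 0) : bz μ = 2 + μ := by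
  unfold bz
  rw [mu_inv μ hm hp]
  linear_combination (54 + 27 * μ) * hm + ((-11) + 7 * μ) * hp

theorem h11_eq (μ : F) (hm : μ ^ 2 - μ + 1 = 0) (hp : (5 : F) = 0) (h0 : μ ≠ 0) : μ ^ 5 / μ = 4 * μ := by
  rw [div_eq_iff h0]
  linear_combination ((-5) + μ ^ 2 + μ ^ 3) * hm + (1 + (-1) * μ) * hp

theorem h22_eq (μ : F) (hm : μ ^ 2 - μ + 1 = 0) (hp : (5 : F) = 0) : 1 / μ ^ 5 = μ := by
  rw [one_div]
  refine inv_eq_of_mul_eq_one_right ?_
  linear_combination ((-1) + (-1) * μ + μ ^ 3 + μ ^ 4) * hm + (0) * hp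

theorem c_eq (μ : F) (hm : μ ^ 2 - μ + 1 = 0) (hp : (5 : F) = 0) (h : (1 : F) + 4 * μ ≠ 0) :
    (2 + 2 * μ) / (1 + 4 * μ) = 3 + 4 * μ := by
  rw [div_eq_iff h]
  linear_combination ((-16)) * hm + (3 + (-6) * μ) * hp

theorem c5_eq (μ : F) (hm : μ ^ 2 - μ + 1 = 0) (hp : (5 : F) = 0) : (3 + 4 * μ) ^ 5 = 2 + μ := by
  linear_combination (9056 + 9600 * μ + 4864 * μ ^ 2 + 1024 * μ ^ 3) * hm + ((-1763) + 215 * μ) * hp

theorem p_UH (μ : F) (hm : μ ^ 2 - μ + 1 = 0) (hp : (5 : F) = 0) :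
    (!![1, 1, 4 + μ; 0, 1, 4; 0, 0, 1] : Matrix (Fin 3) (Fin 3) F) * !![μ, 0, 0; 0, 4 * μ, 0; 0, 0, μ] = !![μ, 4 * μ, 4; 0, 4 * μ, 4 * μ; 0, 0, μ] := by
  rw [Matrix.mul_fin_three]
  have e00 : (1) * (μ) + (1) * (0) + (4 + μ) * (0) = (μ : F) := by
    linear_combination (0) * hm + (0) * hp
  have e01 : (1) * (0) + (1) * (4 * μ) + (4 + μ) * (0) = (4 * μ : F) := by
    linear_combination (0) * hm + (0) * hp
  have e02 : (1) * (0) + (1) * (0) + (4 + μ) * (μ) = (4 : F) := by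
    linear_combination (1) * hm + ((-1) + μ) * hp
  have e10 : (0) * (μ) + (1) * (0) + (4) * (0) = (0 : F) := by
    linear_combination (0) * hm + (0) * hp
  have e11 : (0) * (0) + (1) * (4 * μ) + (4) * (0) = (4 * μ : F) := by
    linear_combination (0) * hm + (0) * hp
  have e12 : (0) * (0) + (1) * (0) + (4) * (μ) = (4 * μ : F) := by
    linear_combination (0) * hm + (0) * hp
  have e20 : (0) * (μ) + (0) * (0) + (1) * (0) = (0 : F) := by
    linear_combination (0) * hm + (0) * hp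
  have e21 : (0) * (0) + (0) * (4 * μ) + (1) * (0) = (0 : F) := by
    linear_combination (0) * hm + (0) * hp
  have e22 : (0) * (0) + (0) * (0) + (1) * (μ) = (μ : F) := by
    linear_combination (0) * hm + (0) * hp
  ext i j
  fin_cases i <;> fin_cases j
  · exact e00
  · exact e01
  · exact e02
  · exact e10
  · exact e11
  · exact e12
  · exact e20
  · exact e21
  · exact e22

theorem p_V (μ : F) (hm : μ ^ 2 - μ + 1 = 0) (hp : (5 : F) = 0) :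
    (!![μ, 4 * μ, 4; 0, 4 * μ, 4 * μ; 0, 0, μ] : Matrix (Fin 3) (Fin 3) F) * !![1, 0, 0; 0, 1, 0; 2 + μ, 0, 1] = !![3, 4 * μ, 4; 1 + 2 * μ, 4 * μ, 4 * μ; 4 + 3 * μ, 0, μ] := by
  rw [Matrix.mul_fin_three]
  have e00 : (μ) * (1) + (4 * μ) * (0) + (4) * (2 + μ) = (3 : F) := by
    linear_combination (0) * hm + (1 + μ) * hp
  have e01 : (μ) * (0) + (4 * μ) * (1) + (4) * (0) = (4 * μ : F) := by
    linear_combination (0) * hm + (0) * hp
  have e02 : (μ) * (0) + (4 * μ) * (0) + (4) * (1) = (4 : F) := by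
    linear_combination (0) * hm + (0) * hp
  have e10 : (0) * (1) + (4 * μ) * (0) + (4 * μ) * (2 + μ) = (1 + 2 * μ : F) := by
    linear_combination (4) * hm + ((-1) + 2 * μ) * hp
  have e11 : (0) * (0) + (4 * μ) * (1) + (4 * μ) * (0) = (4 * μ : F) := by
    linear_combination (0) * hm + (0) * hp
  have e12 : (0) * (0) + (4 * μ) * (0) + (4 * μ) * (1) = (4 * μ : F) := by
    linear_combination (0) * hm + (0) * hp
  have e20 : (0) * (1) + (0) * (0) + (μ) * (2 + μ) = (4 + 3 * μ : F) := by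
    linear_combination (1) * hm + ((-1)) * hp
  have e21 : (0) * (0) + (0) * (1) + (μ) * (0) = (0 : F) := by
    linear_combination (0) * hm + (0) * hp
  have e22 : (0) * (0) + (0) * (0) + (μ) * (1) = (μ : F) := by
    linear_combination (0) * hm + (0) * hp
  ext i j
  fin_cases i <;> fin_cases j
  · exact e00
  · exact e01
  · exact e02
  · exact e10
  · exact e11
  · exact e12
  · exact e20
  · exact e21
  · exact e22

theorem p_VinvV (μ : F) (hm : μ ^ 2 - μ + 1 = 0) (hp : (5 : F) = 0) :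
    (!![1 + 4 * μ, 4 + μ, 4; 0, 4 + μ, 4 + μ; 2 + 2 * μ, 3 + 3 * μ, 3] : Matrix (Fin 3) (Fin 3) F) * !![3, 4 * μ, 4; 1 + 2 * μ, 4 * μ, 4 * μ; 4 + 3 * μ, 0, μ] = !![1, 0, 0; 0, 1, 0; 0, 0, 1] := by
  rw [Matrix.mul_fin_three]
  have e00 : (1 + 4 * μ) * (3) + (4 + μ) * (1 + 2 * μ) + (4) * (4 + 3 * μ) = (1 : F) := by
    linear_combination (2) * hm + (4 + 7 * μ) * hp
  have e01 : (1 + 4 * μ) * (4 * μ) + (4 + μ) * (4 * μ) + (4) * (0) = (0 : F) := by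
    linear_combination (20) * hm + ((-4) + 8 * μ) * hp
  have e02 : (1 + 4 * μ) * (4) + (4 + μ) * (4 * μ) + (4) * (μ) = (0 : F) := by
    linear_combination (4) * hm + (8 * μ) * hp
  have e10 : (0) * (3) + (4 + μ) * (1 + 2 * μ) + (4 + μ) * (4 + 3 * μ) = (0 : F) := by
    linear_combination (5) * hm + (3 + 6 * μ) * hp
  have e11 : (0) * (4 * μ) + (4 + μ) * (4 * μ) + (4 + μ) * (0) = (1 : F) := by
    linear_combination (4) * hm + ((-1) + 4 * μ) * hp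
  have e12 : (0) * (4) + (4 + μ) * (4 * μ) + (4 + μ) * (μ) = (0 : F) := by
    linear_combination (5) * hm + ((-1) + 5 * μ) * hp
  have e20 : (2 + 2 * μ) * (3) + (3 + 3 * μ) * (1 + 2 * μ) + (3) * (4 + 3 * μ) = (0 : F) := by
    linear_combination (6) * hm + (3 + 6 * μ) * hp
  have e21 : (2 + 2 * μ) * (4 * μ) + (3 + 3 * μ) * (4 * μ) + (3) * (0) = (0 : F) := by
    linear_combination (20) * hm + ((-4) + 8 * μ) * hp
  have e22 : (2 + 2 * μ) * (4) + (3 + 3 * μ) * (4 * μ) + (3) * (μ) = (1 : F) := by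
    linear_combination (12) * hm + ((-1) + 7 * μ) * hp
  ext i j
  fin_cases i <;> fin_cases j
  · exact e00
  · exact e01
  · exact e02
  · exact e10
  · exact e11
  · exact e12
  · exact e20
  · exact e21
  · exact e22

theorem p_UU (μ : F) (hm : μ ^ 2 - μ + 1 = 0) (hp : (5 : F) = 0) :
    (!![1, 1, 4 + μ; 0, 1, 4; 0, 0, 1] : Matrix (Fin 3) (Fin 3) F) * !![1, 1, 4 + μ; 0, 1, 4; 0, 0, 1] = !![1, 2, 2 + 2 * μ; 0, 1, 3; 0, 0, 1] := by
  rw [Matrix.mul_fin_three]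
  have e00 : (1) * (1) + (1) * (0) + (4 + μ) * (0) = (1 : F) := by
    linear_combination (0) * hm + (0) * hp
  have e01 : (1) * (1) + (1) * (1) + (4 + μ) * (0) = (2 : F) := by
    linear_combination (0) * hm + (0) * hp
  have e02 : (1) * (4 + μ) + (1) * (4) + (4 + μ) * (1) = (2 + 2 * μ : F) := by
    linear_combination (0) * hm + (2) * hp
  have e10 : (0) * (1) + (1) * (0) + (4) * (0) = (0 : F) := by
    linear_combination (0) * hm + (0) * hp
  have e11 : (0) * (1) + (1) * (1) + (4) * (0) = (1 : F) := by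
    linear_combination (0) * hm + (0) * hp
  have e12 : (0) * (4 + μ) + (1) * (4) + (4) * (1) = (3 : F) := by
    linear_combination (0) * hm + (1) * hp
  have e20 : (0) * (1) + (0) * (0) + (1) * (0) = (0 : F) := by
    linear_combination (0) * hm + (0) * hp
  have e21 : (0) * (1) + (0) * (1) + (1) * (0) = (0 : F) := by
    linear_combination (0) * hm + (0) * hp
  have e22 : (0) * (4 + μ) + (0) * (4) + (1) * (1) = (1 : F) := by
    linear_combination (0) * hm + (0) * hp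
  ext i j
  fin_cases i <;> fin_cases j
  · exact e00
  · exact e01
  · exact e02
  · exact e10
  · exact e11
  · exact e12
  · exact e20
  · exact e21
  · exact e22

theorem p_A (μ : F) (hm : μ ^ 2 - μ + 1 = 0) (hp : (5 : F) = 0) :
    (!![1, 2, 2 + 2 * μ; 0, 1, 3; 0, 0, 1] : Matrix (Fin 3) (Fin 3) F) * !![3, 4 * μ, 4; 1 + 2 * μ, 4 * μ, 4 * μ; 4 + 3 * μ, 0, μ] = !![2 + 4 * μ, 2 * μ, 2 + 2 * μ; 3 + μ, 4 * μ, 2 * μ; 4 + 3 * μ, 0, μ] := by
  rw [Matrix.mul_fin_three]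
  have e00 : (1) * (3) + (2) * (1 + 2 * μ) + (2 + 2 * μ) * (4 + 3 * μ) = (2 + 4 * μ : F) := by
    linear_combination (6) * hm + (1 + 4 * μ) * hp
  have e01 : (1) * (4 * μ) + (2) * (4 * μ) + (2 + 2 * μ) * (0) = (2 * μ : F) := by
    linear_combination (0) * hm + (2 * μ) * hp
  have e02 : (1) * (4) + (2) * (4 * μ) + (2 + 2 * μ) * (μ) = (2 + 2 * μ : F) := by
    linear_combination (2) * hm + (2 * μ) * hp
  have e10 : (0) * (3) + (1) * (1 + 2 * μ) + (3) * (4 + 3 * μ) = (3 + μ : F) := by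
    linear_combination (0) * hm + (2 + 2 * μ) * hp
  have e11 : (0) * (4 * μ) + (1) * (4 * μ) + (3) * (0) = (4 * μ : F) := by
    linear_combination (0) * hm + (0) * hp
  have e12 : (0) * (4) + (1) * (4 * μ) + (3) * (μ) = (2 * μ : F) := by
    linear_combination (0) * hm + (μ) * hp
  have e20 : (0) * (3) + (0) * (1 + 2 * μ) + (1) * (4 + 3 * μ) = (4 + 3 * μ : F) := by
    linear_combination (0) * hm + (0) * hp
  have e21 : (0) * (4 * μ) + (0) * (4 * μ) + (1) * (0) = (0 : F) := by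
    linear_combination (0) * hm + (0) * hp
  have e22 : (0) * (4) + (0) * (4 * μ) + (1) * (μ) = (μ : F) := by
    linear_combination (0) * hm + (0) * hp
  ext i j
  fin_cases i <;> fin_cases j
  · exact e00
  · exact e01
  · exact e02
  · exact e10
  · exact e11
  · exact e12
  · exact e20
  · exact e21
  · exact e22

theorem p_VV (μ : F) (hm : μ ^ 2 - μ + 1 = 0) (hp : (5 : F) = 0) :
    (!![3, 4 * μ, 4; 1 + 2 * μ, 4 * μ, 4 * μ; 4 + 3 * μ, 0, μ] : Matrix (Fin 3) (Fin 3) F) * !![3, 4 * μ, 4; 1 + 2 * μ, 4 * μ, 4 * μ; 4 + 3 * μ, 0, μ] = !![2 + 4 * μ, 4 + 3 * μ, 1; 3 + μ, 1 + 3 * μ, 4 + 3 * μ; 4 + μ, 3 + 3 * μ, 3 * μ] := by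
  rw [Matrix.mul_fin_three]
  have e00 : (3) * (3) + (4 * μ) * (1 + 2 * μ) + (4) * (4 + 3 * μ) = (2 + 4 * μ : F) := by
    linear_combination (8) * hm + (3 + 4 * μ) * hp
  have e01 : (3) * (4 * μ) + (4 * μ) * (4 * μ) + (4) * (0) = (4 + 3 * μ : F) := by
    linear_combination (16) * hm + ((-4) + 5 * μ) * hp
  have e02 : (3) * (4) + (4 * μ) * (4 * μ) + (4) * (μ) = (1 : F) := by
    linear_combination (16) * hm + ((-1) + 4 * μ) * hp
  have e10 : (1 + 2 * μ) * (3) + (4 * μ) * (1 + 2 * μ) + (4 * μ) * (4 + 3 * μ) = (3 + μ : F) := by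
    linear_combination (20) * hm + ((-4) + 9 * μ) * hp
  have e11 : (1 + 2 * μ) * (4 * μ) + (4 * μ) * (4 * μ) + (4 * μ) * (0) = (1 + 3 * μ : F) := by
    linear_combination (24) * hm + ((-5) + 5 * μ) * hp
  have e12 : (1 + 2 * μ) * (4) + (4 * μ) * (4 * μ) + (4 * μ) * (μ) = (4 + 3 * μ : F) := by
    linear_combination (20) * hm + ((-4) + 5 * μ) * hp
  have e20 : (4 + 3 * μ) * (3) + (0) * (1 + 2 * μ) + (μ) * (4 + 3 * μ) = (4 + μ : F) := by
    linear_combination (3) * hm + (1 + 3 * μ) * hp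
  have e21 : (4 + 3 * μ) * (4 * μ) + (0) * (4 * μ) + (μ) * (0) = (3 + 3 * μ : F) := by
    linear_combination (12) * hm + ((-3) + 5 * μ) * hp
  have e22 : (4 + 3 * μ) * (4) + (0) * (4 * μ) + (μ) * (μ) = (3 * μ : F) := by
    linear_combination (1) * hm + (3 + 2 * μ) * hp
  ext i j
  fin_cases i <;> fin_cases j
  · exact e00
  · exact e01
  · exact e02
  · exact e10
  · exact e11
  · exact e12
  · exact e20
  · exact e21
  · exact e22

theorem p_HVV (μ : F) (hm : μ ^ 2 - μ + 1 = 0) (hp : (5 : F) = 0) :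
    (!![μ, 0, 0; 0, 4 * μ, 0; 0, 0, μ] : Matrix (Fin 3) (Fin 3) F) * !![2 + 4 * μ, 4 + 3 * μ, 1; 3 + μ, 1 + 3 * μ, 4 + 3 * μ; 4 + μ, 3 + 3 * μ, 3 * μ] = !![1 + μ, 2 + 2 * μ, μ; 1 + μ, 3 + μ, 3 + 3 * μ; 4, 2 + μ, 2 + 3 * μ] := by
  rw [Matrix.mul_fin_three]
  have e00 : (μ) * (2 + 4 * μ) + (0) * (3 + μ) + (0) * (4 + μ) = (1 + μ : F) := by
    linear_combination (4) * hm + ((-1) + μ) * hp
  have e01 : (μ) * (4 + 3 * μ) + (0) * (1 + 3 * μ) + (0) * (3 + 3 * μ) = (2 + 2 * μ : F) := by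
    linear_combination (3) * hm + ((-1) + μ) * hp
  have e02 : (μ) * (1) + (0) * (4 + 3 * μ) + (0) * (3 * μ) = (μ : F) := by
    linear_combination (0) * hm + (0) * hp
  have e10 : (0) * (2 + 4 * μ) + (4 * μ) * (3 + μ) + (0) * (4 + μ) = (1 + μ : F) := by
    linear_combination (4) * hm + ((-1) + 3 * μ) * hp
  have e11 : (0) * (4 + 3 * μ) + (4 * μ) * (1 + 3 * μ) + (0) * (3 + 3 * μ) = (3 + μ : F) := by
    linear_combination (12) * hm + ((-3) + 3 * μ) * hp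
  have e12 : (0) * (1) + (4 * μ) * (4 + 3 * μ) + (0) * (3 * μ) = (3 + 3 * μ : F) := by
    linear_combination (12) * hm + ((-3) + 5 * μ) * hp
  have e20 : (0) * (2 + 4 * μ) + (0) * (3 + μ) + (μ) * (4 + μ) = (4 : F) := by
    linear_combination (1) * hm + ((-1) + μ) * hp
  have e21 : (0) * (4 + 3 * μ) + (0) * (1 + 3 * μ) + (μ) * (3 + 3 * μ) = (2 + μ : F) := by
    linear_combination (3) * hm + ((-1) + μ) * hp
  have e22 : (0) * (1) + (0) * (4 + 3 * μ) + (μ) * (3 * μ) = (2 + 3 * μ : F) := by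
    linear_combination (3) * hm + ((-1)) * hp
  ext i j
  fin_cases i <;> fin_cases j
  · exact e00
  · exact e01
  · exact e02
  · exact e10
  · exact e11
  · exact e12
  · exact e20
  · exact e21
  · exact e22

theorem p_B (μ : F) (hm : μ ^ 2 - μ + 1 = 0) (hp : (5 : F) = 0) :
    (!![1 + 4 * μ, 4 + μ, 4; 0, 4 + μ, 4 + μ; 2 + 2 * μ, 3 + 3 * μ, 3] : Matrix (Fin 3) (Fin 3) F) * !![1 + μ, 2 + 2 * μ, μ; 1 + μ, 3 + μ, 3 + 3 * μ; 4, 2 + μ, 2 + 3 * μ] = !![1, 3, 3; 4, 3, 4; 2, 2, 4] := by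
  rw [Matrix.mul_fin_three]
  have e00 : (1 + 4 * μ) * (1 + μ) + (4 + μ) * (1 + μ) + (4) * (4) = (1 : F) := by
    linear_combination (5) * hm + (3 + 3 * μ) * hp
  have e01 : (1 + 4 * μ) * (2 + 2 * μ) + (4 + μ) * (3 + μ) + (4) * (2 + μ) = (3 : F) := by
    linear_combination (9) * hm + (2 + 6 * μ) * hp
  have e02 : (1 + 4 * μ) * (μ) + (4 + μ) * (3 + 3 * μ) + (4) * (2 + 3 * μ) = (3 : F) := by
    linear_combination (7) * hm + (2 + 7 * μ) * hp
  have e10 : (0) * (1 + μ) + (4 + μ) * (1 + μ) + (4 + μ) * (4) = (4 : F) := by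
    linear_combination (1) * hm + (3 + 2 * μ) * hp
  have e11 : (0) * (2 + 2 * μ) + (4 + μ) * (3 + μ) + (4 + μ) * (2 + μ) = (3 : F) := by
    linear_combination (2) * hm + (3 + 3 * μ) * hp
  have e12 : (0) * (μ) + (4 + μ) * (3 + 3 * μ) + (4 + μ) * (2 + 3 * μ) = (4 : F) := by
    linear_combination (6) * hm + (2 + 7 * μ) * hp
  have e20 : (2 + 2 * μ) * (1 + μ) + (3 + 3 * μ) * (1 + μ) + (3) * (4) = (2 : F) := by
    linear_combination (5) * hm + (2 + 3 * μ) * hp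
  have e21 : (2 + 2 * μ) * (2 + 2 * μ) + (3 + 3 * μ) * (3 + μ) + (3) * (2 + μ) = (2 : F) := by
    linear_combination (7) * hm + (2 + 6 * μ) * hp
  have e22 : (2 + 2 * μ) * (μ) + (3 + 3 * μ) * (3 + 3 * μ) + (3) * (2 + 3 * μ) = (4 : F) := by
    linear_combination (11) * hm + (8 * μ) * hp
  ext i j
  fin_cases i <;> fin_cases j
  · exact e00
  · exact e01
  · exact e02
  · exact e10
  · exact e11
  · exact e12
  · exact e20
  · exact e21
  · exact e22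

theorem p_AW (μ : F) (hm : μ ^ 2 - μ + 1 = 0) (hp : (5 : F) = 0) :
    (!![2 + 4 * μ, 2 * μ, 2 + 2 * μ; 3 + μ, 4 * μ, 2 * μ; 4 + 3 * μ, 0, μ] : Matrix (Fin 3) (Fin 3) F) * !![2 + 2 * μ, 2 + 2 * μ, 2 + μ; 0, 1 + 4 * μ, 4 + μ; 0, 0, 1 + μ] = !![1, 3, 3; 4, 3, 4; 2, 2, 4] := by
  rw [Matrix.mul_fin_three]
  have e00 : (2 + 4 * μ) * (2 + 2 * μ) + (2 * μ) * (0) + (2 + 2 * μ) * (0) = (1 : F) := by
    linear_combination (8) * hm + ((-1) + 4 * μ) * hp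
  have e01 : (2 + 4 * μ) * (2 + 2 * μ) + (2 * μ) * (1 + 4 * μ) + (2 + 2 * μ) * (0) = (3 : F) := by
    linear_combination (16) * hm + ((-3) + 6 * μ) * hp
  have e02 : (2 + 4 * μ) * (2 + μ) + (2 * μ) * (4 + μ) + (2 + 2 * μ) * (1 + μ) = (3 : F) := by
    linear_combination (8) * hm + ((-1) + 6 * μ) * hp
  have e10 : (3 + μ) * (2 + 2 * μ) + (4 * μ) * (0) + (2 * μ) * (0) = (4 : F) := by
    linear_combination (2) * hm + (2 * μ) * hp
  have e11 : (3 + μ) * (2 + 2 * μ) + (4 * μ) * (1 + 4 * μ) + (2 * μ) * (0) = (3 : F) := by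
    linear_combination (18) * hm + ((-3) + 6 * μ) * hp
  have e12 : (3 + μ) * (2 + μ) + (4 * μ) * (4 + μ) + (2 * μ) * (1 + μ) = (4 : F) := by
    linear_combination (7) * hm + ((-1) + 6 * μ) * hp
  have e20 : (4 + 3 * μ) * (2 + 2 * μ) + (0) * (0) + (μ) * (0) = (2 : F) := by
    linear_combination (6) * hm + (4 * μ) * hp
  have e21 : (4 + 3 * μ) * (2 + 2 * μ) + (0) * (1 + 4 * μ) + (μ) * (0) = (2 : F) := by
    linear_combination (6) * hm + (4 * μ) * hp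
  have e22 : (4 + 3 * μ) * (2 + μ) + (0) * (4 + μ) + (μ) * (1 + μ) = (4 : F) := by
    linear_combination (4) * hm + (3 * μ) * hp
  ext i j
  fin_cases i <;> fin_cases j
  · exact e00
  · exact e01
  · exact e02
  · exact e10
  · exact e11
  · exact e12
  · exact e20
  · exact e21
  · exact e22

end L18

variable {F : Type*} [Field F] [Fintype F] {q : ℕ}

theorem word_five (hq5 : q = 5) (hF : Fintype.card F = q ^ 2) (μ : F) (hμ : orderOf μ = q + 1)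
    (u hh zz : GJ 3 F q) (hu : mat u = xM q 1 (bet μ)) (hhm : mat hh = hM q μ)
    (hz : mat zz = yM q 0 (bz μ))
    (hhH : hh ∈ Subgroup.closure ({u, u * hh * zz} : Set (GJ 3 F q))) :
    ∃ W : GJ 3 F q, W ∈ Subgroup.closure ({u, u * hh * zz} : Set (GJ 3 F q)) ∧
      mat W 1 0 = 0 ∧ mat W 2 0 = 0 ∧ mat W 2 1 = 0 ∧
      (mat W 0 0 / mat W 1 1) ^ 5 ≠ mat W 0 0 / mat W 1 1 := by
  subst hq5
  have hp : (5 : F) = 0 := by
    have h := Nat.cast_card_eq_zero F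
    rw [hF] at h
    have h' : ((5 : F)) ^ 2 = 0 := by exact_mod_cast h
    exact pow_eq_zero_iff (two_ne_zero) |>.mp h'
  have hμ' : orderOf μ = 6 := by rw [hμ]
  have hμ6 : μ ^ 6 = 1 := by
    have := pow_orderOf_eq_one μ
    rwa [hμ'] at this
  have hμ3 : μ ^ 3 ≠ 1 := fun h => by
    have := orderOf_dvd_of_pow_eq_one h
    rw [hμ'] at this
    omega
  have hμ2 : μ ^ 2 ≠ 1 := fun h => by
    have := orderOf_dvd_of_pow_eq_one h
    rw [hμ'] at this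
    omega
  have hμ0 : μ ≠ 0 := by
    rintro rfl
    norm_num at hμ6
  have h1 : μ - 1 ≠ 0 := fun h => hμ2 (by rw [sub_eq_zero.mp h]; ring)
  have h2 : μ + 1 ≠ 0 := fun h => hμ2 (by
    have : μ = -1 := eq_neg_of_add_eq_zero_left h
    rw [this]; ring)
  have hm : μ ^ 2 - μ + 1 = 0 := by
    have : (μ ^ 3 - 1) * ((μ + 1) * (μ ^ 2 - μ + 1)) = 0 := by linear_combination hμ6
    rcases mul_eq_zero.mp this with h | h
    · exact absurd (sub_eq_zero.mp h) hμ3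
    · rcases mul_eq_zero.mp h with h | h
      · exact absurd h h2
      · exact h
  have hU : mat u = !![1, 1, 4 + μ; 0, 1, 4; 0, 0, 1] := by
    rw [hu, L18.bet_eq μ hm hp h1 h2]
    unfold xM
    have : -((1 : F) ^ 5) = 4 := by linear_combination (-1) * hp
    rw [this]
  have hH : mat hh = !![μ, 0, 0; 0, 4 * μ, 0; 0, 0, μ] := by
    rw [hhm]
    unfold hM
    rw [L18.h11_eq μ hm hp hμ0, L18.h22_eq μ hm hp]
  have hZ : mat zz = !![1, 0, 0; 0, 1, 0; 2 + μ, 0, 1] := by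
    rw [hz, L18.bz_eq μ hm hp]
    unfold yM
    have : -((0 : F) ^ 5) = 0 := by norm_num
    rw [this]
  obtain ⟨v, hv⟩ : ∃ v : GJ 3 F 5, v = u * hh * zz := ⟨_, rfl⟩
  rw [← hv] at hhH ⊢
  have hV : mat v = !![3, 4 * μ, 4; 1 + 2 * μ, 4 * μ, 4 * μ; 4 + 3 * μ, 0, μ] := by
    rw [hv, mat_mul, mat_mul, hU, hH, hZ, L18.p_UH μ hm hp, L18.p_V μ hm hp]
  have hVi : mat v⁻¹ = !![1 + 4 * μ, 4 + μ, 4; 0, 4 + μ, 4 + μ; 2 + 2 * μ, 3 + 3 * μ, 3] := by
    have h1 : (!![1 + 4 * μ, 4 + μ, 4; 0, 4 + μ, 4 + μ; 2 + 2 * μ, 3 + 3 * μ, 3] : Matrix (Fin 3) (Fin 3) F) * mat v = 1 := by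
      rw [hV, L18.p_VinvV μ hm hp]
      exact Matrix.one_fin_three.symm
    calc mat v⁻¹ = ((!![1 + 4 * μ, 4 + μ, 4; 0, 4 + μ, 4 + μ; 2 + 2 * μ, 3 + 3 * μ, 3] : Matrix (Fin 3) (Fin 3) F) * mat v) * mat v⁻¹ := by rw [h1, Matrix.one_mul]
      _ = !![1 + 4 * μ, 4 + μ, 4; 0, 4 + μ, 4 + μ; 2 + 2 * μ, 3 + 3 * μ, 3] := by rw [Matrix.mul_assoc, mat_mul_inv, Matrix.mul_one]
  have hA : mat (u * u * v) = !![2 + 4 * μ, 2 * μ, 2 + 2 * μ; 3 + μ, 4 * μ, 2 * μ; 4 + 3 * μ, 0, μ] := by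
    rw [mat_mul, mat_mul, hU, hV, L18.p_UU μ hm hp, L18.p_A μ hm hp]
  have hB : mat (v⁻¹ * hh * v * v) = !![1, 3, 3; 4, 3, 4; 2, 2, 4] := by
    rw [mat_mul, mat_mul, mat_mul, hVi, hH, hV, Matrix.mul_assoc, Matrix.mul_assoc,
      L18.p_VV μ hm hp, L18.p_HVV μ hm hp, L18.p_B μ hm hp]
  have hW : mat ((u * u * v)⁻¹ * (v⁻¹ * hh * v * v)) = !![2 + 2 * μ, 2 + 2 * μ, 2 + μ; 0, 1 + 4 * μ, 4 + μ; 0, 0, 1 + μ] := by
    rw [mat_mul, hB, ← L18.p_AW μ hm hp, ← hA, ← Matrix.mul_assoc, mat_inv_mul, Matrix.one_mul]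
  have hu' : u ∈ Subgroup.closure ({u, v} : Set (GJ 3 F 5)) := Subgroup.subset_closure (by simp)
  have hv' : v ∈ Subgroup.closure ({u, v} : Set (GJ 3 F 5)) := Subgroup.subset_closure (by simp)
  refine ⟨(u * u * v)⁻¹ * (v⁻¹ * hh * v * v), ?_, ?_, ?_, ?_, ?_⟩
  · exact mul_mem (inv_mem (mul_mem (mul_mem hu' hu') hv'))
      (mul_mem (mul_mem (mul_mem (inv_mem hv') hhH) hv') hv')
  · rw [hW]; rfl
  · rw [hW]; rfl
  · rw [hW]; rfl
  · rw [hW]
    show ((2 + 2 * μ) / (1 + 4 * μ)) ^ 5 ≠ (2 + 2 * μ) / (1 + 4 * μ)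
    have hne : (1 : F) + 4 * μ ≠ 0 := by
      rw [← L18.mu_inv μ hm hp]
      exact inv_ne_zero hμ0
    rw [L18.c_eq μ hm hp hne, L18.c5_eq μ hm hp]
    intro h
    have : (1 : F) = 0 := by linear_combination (2 * (3 * μ - 4)) * h + 18 * hm - 5 * hp
    exact one_ne_zero this

end Cfsg.Agent.Lib.Helper25.RSU3
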