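import Mathlib
import Cfsg.Agent.Lib.Helper49.RSU3Defs

set_option autoImplicit false
set_option linter.unusedSectionVars false
set_option linter.unusedVariables false
set_option maxHeartbeats 400000

namespace Cfsg.Agent.Lib.Helper25.RSU3

open Matrix Cfsg.Agent.Lib.Helper49.StSU Cfsg.Agent.Lib.Helper49.RSU3

namespace L19

variable {F : Type*} [Field F]

theorem mu_inv (μ : F) (hm : μ ^ 6 + μ ^ 3 + 1 = 0) (hp : (2 : F) = 0) : μ⁻¹ = μ ^ 2 + μ ^ 5 := by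
  refine inv_eq_of_mul_eq_one_right ?_
  linear_combination (1) * hm + ((-1)) * hp

theorem bet_eq (μ : F) (hm : μ ^ 6 + μ ^ 3 + 1 = 0) (hp : (2 : F) = 0) (h1 : μ - 1 ≠ 0) (h2 : μ + 1 ≠ 0) :
    bet μ = μ + μ ^ 2 + μ ^ 3 + μ ^ 4 := by
  unfold bet
  rw [div_eq_iff (mul_ne_zero h1 (pow_ne_zero 3 h2))]
  linear_combination ((-3) + (-3) * μ + (-1) * μ ^ 2) * hm + (2 + 3 * μ + 2 * μ ^ 2 + 3 * μ ^ 3 + 2 * μ ^ 4) * hp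

theorem bz_eq (μ : F) (hm : μ ^ 6 + μ ^ 3 + 1 = 0) (hp : (2 : F) = 0) : bz μ = 1 + μ + μ ^ 2 + μ ^ 5 := by
  unfold bz
  rw [mu_inv μ hm hp]
  linear_combination ((-1) + 3 * μ + (-3) * μ ^ 2 + (-3) * μ ^ 5 + 2 * μ ^ 6 + μ ^ 9) * hm + ((-2) * μ + μ ^ 2 + μ ^ 5) * hp

theorem h11_eq (μ : F) (hm : μ ^ 6 + μ ^ 3 + 1 = 0) (hp : (2 : F) = 0) (h0 : μ ≠ 0) : μ ^ 8 / μ = μ + μ ^ 4 := by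
  rw [div_eq_iff h0]
  linear_combination (μ ^ 2) * hm + ((-1) * μ ^ 2 + (-1) * μ ^ 5) * hp

theorem h22_eq (μ : F) (hm : μ ^ 6 + μ ^ 3 + 1 = 0) (hp : (2 : F) = 0) : 1 / μ ^ 8 = μ := by
  rw [one_div]
  refine inv_eq_of_mul_eq_one_right ?_
  linear_combination ((-1) + μ ^ 3) * hm + (0) * hp

theorem c_eq (μ : F) (hm : μ ^ 6 + μ ^ 3 + 1 = 0) (hp : (2 : F) = 0) (h : μ ≠ 0) :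
    (1 + μ ^ 2 + μ ^ 3) / μ = μ + μ ^ 5 := by
  rw [div_eq_iff h]
  linear_combination ((-1)) * hm + (1 + μ ^ 3) * hp

theorem c4_eq (μ : F) (hm : μ ^ 6 + μ ^ 3 + 1 = 0) (hp : (2 : F) = 0) : (μ + μ ^ 5) ^ 4 = μ ^ 2 + μ ^ 4 := by
  linear_combination (4 * μ + 3 * μ ^ 2 + (-6) * μ ^ 3 + μ ^ 5 + 6 * μ ^ 6 + (-4) * μ ^ 7 + 4 * μ ^ 10 + (-1) * μ ^ 11 + μ ^ 14) * hm + ((-2) * μ + (-2) * μ ^ 2 + 3 * μ ^ 3 + (-2) * μ ^ 4 + (-2) * μ ^ 5) * hp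

theorem c_ne (μ : F) (hm : μ ^ 6 + μ ^ 3 + 1 = 0) (hp : (2 : F) = 0) : μ ^ 2 + μ ^ 4 ≠ μ + μ ^ 5 := by
  intro h
  have h1 : (1 : F) = 0 := by
    linear_combination (1 + μ + μ ^ 3 + μ ^ 4 + μ ^ 5) * h + (1 + μ + μ ^ 4) * hm - (μ ^ 3 + μ ^ 4 + 2 * μ ^ 7) * hp
  exact one_ne_zero h1

theorem p_UH (μ : F) (hm : μ ^ 6 + μ ^ 3 + 1 = 0) (hp : (2 : F) = 0) :
    (!![1, 1, μ + μ ^ 2 + μ ^ 3 + μ ^ 4; 0, 1, 1; 0, 0, 1] : Matrix (Fin 3) (Fin 3) F) * !![μ, 0, 0; 0, μ + μ ^ 4, 0; 0, 0, μ] = !![μ, μ + μ ^ 4, μ ^ 2 + μ ^ 3 + μ ^ 4 + μ ^ 5; 0, μ + μ ^ 4, μ; 0, 0, μ] := by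
  rw [Matrix.mul_fin_three]
  have e00 : (1) * (μ) + (1) * (0) + (μ + μ ^ 2 + μ ^ 3 + μ ^ 4) * (0) = (μ : F) := by
    linear_combination (0) * hm + (0) * hp
  have e01 : (1) * (0) + (1) * (μ + μ ^ 4) + (μ + μ ^ 2 + μ ^ 3 + μ ^ 4) * (0) = (μ + μ ^ 4 : F) := by
    linear_combination (0) * hm + (0) * hp
  have e02 : (1) * (0) + (1) * (0) + (μ + μ ^ 2 + μ ^ 3 + μ ^ 4) * (μ) = (μ ^ 2 + μ ^ 3 + μ ^ 4 + μ ^ 5 : F) := by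
    linear_combination (0) * hm + (0) * hp
  have e10 : (0) * (μ) + (1) * (0) + (1) * (0) = (0 : F) := by
    linear_combination (0) * hm + (0) * hp
  have e11 : (0) * (0) + (1) * (μ + μ ^ 4) + (1) * (0) = (μ + μ ^ 4 : F) := by
    linear_combination (0) * hm + (0) * hp
  have e12 : (0) * (0) + (1) * (0) + (1) * (μ) = (μ : F) := by
    linear_combination (0) * hm + (0) * hp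
  have e20 : (0) * (μ) + (0) * (0) + (1) * (0) = (0 : F) := by
    linear_combination (0) * hm + (0) * hp
  have e21 : (0) * (0) + (0) * (μ + μ ^ 4) + (1) * (0) = (0 : F) := by
    linear_combination (0) * hm + (0) * hp
  have e22 : (0) * (0) + (0) * (0) + (1) * (μ) = (μ : F) := by
    linear_combination (0) * hm + (0) * hp
  ext i j
  fin_cases i <;> fin_cases j
  · exact e00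
  · exact e01
  · exact e02
  · exact e10
  · exact e11
  · exact e12
  · exact e20
  · exact e21
  · exact e22

theorem p_V (μ : F) (hm : μ ^ 6 + μ ^ 3 + 1 = 0) (hp : (2 : F) = 0) :
    (!![μ, μ + μ ^ 4, μ ^ 2 + μ ^ 3 + μ ^ 4 + μ ^ 5; 0, μ + μ ^ 4, μ; 0, 0, μ] : Matrix (Fin 3) (Fin 3) F) * !![1, 0, 0; 0, 1, 0; 1 + μ + μ ^ 2 + μ ^ 5, 0, 1] = !![1 + μ ^ 4, μ + μ ^ 4, μ ^ 2 + μ ^ 3 + μ ^ 4 + μ ^ 5; 1 + μ + μ ^ 2, μ + μ ^ 4, μ; 1 + μ + μ ^ 2, 0, μ] := by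
  rw [Matrix.mul_fin_three]
  have e00 : (μ) * (1) + (μ + μ ^ 4) * (0) + (μ ^ 2 + μ ^ 3 + μ ^ 4 + μ ^ 5) * (1 + μ + μ ^ 2 + μ ^ 5) = (1 + μ ^ 4 : F) := by
    linear_combination (1 + μ + μ ^ 2 + μ ^ 3 + μ ^ 4) * hm + ((-1) + μ ^ 5) * hp
  have e01 : (μ) * (0) + (μ + μ ^ 4) * (1) + (μ ^ 2 + μ ^ 3 + μ ^ 4 + μ ^ 5) * (0) = (μ + μ ^ 4 : F) := by
    linear_combination (0) * hm + (0) * hp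
  have e02 : (μ) * (0) + (μ + μ ^ 4) * (0) + (μ ^ 2 + μ ^ 3 + μ ^ 4 + μ ^ 5) * (1) = (μ ^ 2 + μ ^ 3 + μ ^ 4 + μ ^ 5 : F) := by
    linear_combination (0) * hm + (0) * hp
  have e10 : (0) * (1) + (μ + μ ^ 4) * (0) + (μ) * (1 + μ + μ ^ 2 + μ ^ 5) = (1 + μ + μ ^ 2 : F) := by
    linear_combination (1) * hm + ((-1)) * hp
  have e11 : (0) * (0) + (μ + μ ^ 4) * (1) + (μ) * (0) = (μ + μ ^ 4 : F) := by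
    linear_combination (0) * hm + (0) * hp
  have e12 : (0) * (0) + (μ + μ ^ 4) * (0) + (μ) * (1) = (μ : F) := by
    linear_combination (0) * hm + (0) * hp
  have e20 : (0) * (1) + (0) * (0) + (μ) * (1 + μ + μ ^ 2 + μ ^ 5) = (1 + μ + μ ^ 2 : F) := by
    linear_combination (1) * hm + ((-1)) * hp
  have e21 : (0) * (0) + (0) * (1) + (μ) * (0) = (0 : F) := by
    linear_combination (0) * hm + (0) * hp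
  have e22 : (0) * (0) + (0) * (0) + (μ) * (1) = (μ : F) := by
    linear_combination (0) * hm + (0) * hp
  ext i j
  fin_cases i <;> fin_cases j
  · exact e00
  · exact e01
  · exact e02
  · exact e10
  · exact e11
  · exact e12
  · exact e20
  · exact e21
  · exact e22

theorem p_VinvV (μ : F) (hm : μ ^ 6 + μ ^ 3 + 1 = 0) (hp : (2 : F) = 0) :
    (!![μ ^ 2 + μ ^ 5, μ ^ 2 + μ ^ 5, 1 + μ + μ ^ 3 + μ ^ 5; 0, μ ^ 2, μ ^ 2; 1 + μ + μ ^ 2 + μ ^ 4 + μ ^ 5, 1 + μ + μ ^ 2 + μ ^ 4 + μ ^ 5, 1 + μ ^ 5] : Matrix (Fin 3) (Fin 3) F) * !![1 + μ ^ 4, μ + μ ^ 4, μ ^ 2 + μ ^ 3 + μ ^ 4 + μ ^ 5; 1 + μ + μ ^ 2, μ + μ ^ 4, μ; 1 + μ + μ ^ 2, 0, μ] = !![1, 0, 0; 0, 1, 0; 0, 0, 1] := by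
  rw [Matrix.mul_fin_three]
  have e00 : (μ ^ 2 + μ ^ 5) * (1 + μ ^ 4) + (μ ^ 2 + μ ^ 5) * (1 + μ + μ ^ 2) + (1 + μ + μ ^ 3 + μ ^ 5) * (1 + μ + μ ^ 2) = (1 : F) := by
    linear_combination (2 + 2 * μ + μ ^ 3) * hm + ((-1) + 2 * μ ^ 2 + 2 * μ ^ 5) * hp
  have e01 : (μ ^ 2 + μ ^ 5) * (μ + μ ^ 4) + (μ ^ 2 + μ ^ 5) * (μ + μ ^ 4) + (1 + μ + μ ^ 3 + μ ^ 5) * (0) = (0 : F) := by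
    linear_combination (2 + 2 * μ ^ 3) * hm + ((-1) + (-1) * μ ^ 3) * hp
  have e02 : (μ ^ 2 + μ ^ 5) * (μ ^ 2 + μ ^ 3 + μ ^ 4 + μ ^ 5) + (μ ^ 2 + μ ^ 5) * (μ) + (1 + μ + μ ^ 3 + μ ^ 5) * (μ) = (0 : F) := by
    linear_combination (2 + μ + μ ^ 2 + μ ^ 3 + μ ^ 4) * hm + ((-1) + (-1) * μ ^ 3) * hp
  have e10 : (0) * (1 + μ ^ 4) + (μ ^ 2) * (1 + μ + μ ^ 2) + (μ ^ 2) * (1 + μ + μ ^ 2) = (0 : F) := by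
    linear_combination (0) * hm + (μ ^ 2 + μ ^ 3 + μ ^ 4) * hp
  have e11 : (0) * (μ + μ ^ 4) + (μ ^ 2) * (μ + μ ^ 4) + (μ ^ 2) * (0) = (1 : F) := by
    linear_combination (1) * hm + ((-1)) * hp
  have e12 : (0) * (μ ^ 2 + μ ^ 3 + μ ^ 4 + μ ^ 5) + (μ ^ 2) * (μ) + (μ ^ 2) * (μ) = (0 : F) := by
    linear_combination (0) * hm + (μ ^ 3) * hp
  have e20 : (1 + μ + μ ^ 2 + μ ^ 4 + μ ^ 5) * (1 + μ ^ 4) + (1 + μ + μ ^ 2 + μ ^ 4 + μ ^ 5) * (1 + μ + μ ^ 2) + (1 + μ ^ 5) * (1 + μ + μ ^ 2) = (0 : F) := by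
    linear_combination (3 + 2 * μ + μ ^ 2 + μ ^ 3) * hm + (μ + 2 * μ ^ 2 + (-1) * μ ^ 3 + μ ^ 4 + 2 * μ ^ 5) * hp
  have e21 : (1 + μ + μ ^ 2 + μ ^ 4 + μ ^ 5) * (μ + μ ^ 4) + (1 + μ + μ ^ 2 + μ ^ 4 + μ ^ 5) * (μ + μ ^ 4) + (1 + μ ^ 5) * (0) = (0 : F) := by
    linear_combination (2 + 2 * μ ^ 2 + 2 * μ ^ 3) * hm + ((-1) + μ + (-1) * μ ^ 3 + μ ^ 4 + μ ^ 5) * hp
  have e22 : (1 + μ + μ ^ 2 + μ ^ 4 + μ ^ 5) * (μ ^ 2 + μ ^ 3 + μ ^ 4 + μ ^ 5) + (1 + μ + μ ^ 2 + μ ^ 4 + μ ^ 5) * (μ) + (1 + μ ^ 5) * (μ) = (1 : F) := by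
    linear_combination (3 + 2 * μ + 2 * μ ^ 2 + 2 * μ ^ 3 + μ ^ 4) * hm + ((-2) + (-1) * μ ^ 3 + μ ^ 5) * hp
  ext i j
  fin_cases i <;> fin_cases j
  · exact e00
  · exact e01
  · exact e02
  · exact e10
  · exact e11
  · exact e12
  · exact e20
  · exact e21
  · exact e22

theorem p_UVi (μ : F) (hm : μ ^ 6 + μ ^ 3 + 1 = 0) (hp : (2 : F) = 0) :
    (!![1, 1, μ + μ ^ 2 + μ ^ 3 + μ ^ 4; 0, 1, 1; 0, 0, 1] : Matrix (Fin 3) (Fin 3) F) * !![μ ^ 2 + μ ^ 5, μ ^ 2 + μ ^ 5, 1 + μ + μ ^ 3 + μ ^ 5; 0, μ ^ 2, μ ^ 2; 1 + μ + μ ^ 2 + μ ^ 4 + μ ^ 5, 1 + μ + μ ^ 2 + μ ^ 4 + μ ^ 5, 1 + μ ^ 5] = !![μ + μ ^ 2 + μ ^ 4, μ + μ ^ 4, 1 + μ + μ ^ 2 + μ ^ 3; 1 + μ + μ ^ 2 + μ ^ 4 + μ ^ 5, 1 + μ + μ ^ 4 + μ ^ 5, 1 + μ ^ 2 + μ ^ 5; 1 + μ + μ ^ 2 + μ ^ 4 + μ ^ 5, 1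 + μ + μ ^ 2 + μ ^ 4 + μ ^ 5, 1 + μ ^ 5] := by
  rw [Matrix.mul_fin_three]
  have e00 : (1) * (μ ^ 2 + μ ^ 5) + (1) * (0) + (μ + μ ^ 2 + μ ^ 3 + μ ^ 4) * (1 + μ + μ ^ 2 + μ ^ 4 + μ ^ 5) = (μ + μ ^ 2 + μ ^ 4 : F) := by
    linear_combination (2 + 2 * μ + 2 * μ ^ 2 + μ ^ 3) * hm + ((-1) + (-1) * μ + μ ^ 5) * hp
  have e01 : (1) * (μ ^ 2 + μ ^ 5) + (1) * (μ ^ 2) + (μ + μ ^ 2 + μ ^ 3 + μ ^ 4) * (1 + μ + μ ^ 2 + μ ^ 4 + μ ^ 5) = (μ + μ ^ 4 : F) := by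
    linear_combination (2 + 2 * μ + 2 * μ ^ 2 + μ ^ 3) * hm + ((-1) + (-1) * μ + μ ^ 2 + μ ^ 5) * hp
  have e02 : (1) * (1 + μ + μ ^ 3 + μ ^ 5) + (1) * (μ ^ 2) + (μ + μ ^ 2 + μ ^ 3 + μ ^ 4) * (1 + μ ^ 5) = (1 + μ + μ ^ 2 + μ ^ 3 : F) := by
    linear_combination (μ + μ ^ 2 + μ ^ 3) * hm + (0) * hp
  have e10 : (0) * (μ ^ 2 + μ ^ 5) + (1) * (0) + (1) * (1 + μ + μ ^ 2 + μ ^ 4 + μ ^ 5) = (1 + μ + μ ^ 2 + μ ^ 4 + μ ^ 5 : F) := by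
    linear_combination (0) * hm + (0) * hp
  have e11 : (0) * (μ ^ 2 + μ ^ 5) + (1) * (μ ^ 2) + (1) * (1 + μ + μ ^ 2 + μ ^ 4 + μ ^ 5) = (1 + μ + μ ^ 4 + μ ^ 5 : F) := by
    linear_combination (0) * hm + (μ ^ 2) * hp
  have e12 : (0) * (1 + μ + μ ^ 3 + μ ^ 5) + (1) * (μ ^ 2) + (1) * (1 + μ ^ 5) = (1 + μ ^ 2 + μ ^ 5 : F) := by
    linear_combination (0) * hm + (0) * hp
  have e20 : (0) * (μ ^ 2 + μ ^ 5) + (0) * (0) + (1) * (1 + μ + μ ^ 2 + μ ^ 4 + μ ^ 5) = (1 + μ + μ ^ 2 + μ ^ 4 + μ ^ 5 : F) := by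
    linear_combination (0) * hm + (0) * hp
  have e21 : (0) * (μ ^ 2 + μ ^ 5) + (0) * (μ ^ 2) + (1) * (1 + μ + μ ^ 2 + μ ^ 4 + μ ^ 5) = (1 + μ + μ ^ 2 + μ ^ 4 + μ ^ 5 : F) := by
    linear_combination (0) * hm + (0) * hp
  have e22 : (0) * (1 + μ + μ ^ 3 + μ ^ 5) + (0) * (μ ^ 2) + (1) * (1 + μ ^ 5) = (1 + μ ^ 5 : F) := by
    linear_combination (0) * hm + (0) * hp
  ext i j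
  fin_cases i <;> fin_cases j
  · exact e00
  · exact e01
  · exact e02
  · exact e10
  · exact e11
  · exact e12
  · exact e20
  · exact e21
  · exact e22

theorem p_UViH (μ : F) (hm : μ ^ 6 + μ ^ 3 + 1 = 0) (hp : (2 : F) = 0) :
    (!![μ + μ ^ 2 + μ ^ 4, μ + μ ^ 4, 1 + μ + μ ^ 2 + μ ^ 3; 1 + μ + μ ^ 2 + μ ^ 4 + μ ^ 5, 1 + μ + μ ^ 4 + μ ^ 5, 1 + μ ^ 2 + μ ^ 5; 1 + μ + μ ^ 2 + μ ^ 4 + μ ^ 5, 1 + μ + μ ^ 2 + μ ^ 4 + μ ^ 5, 1 + μ ^ 5] : Matrix (Fin 3) (Fin 3) F) * !![μ, 0, 0; 0, μ + μ ^ 4, 0; 0, 0, μ] = !![μ ^ 2 + μ ^ 3 + μ ^ 5, μ ^ 5, μ + μ ^ 2 + μ ^ 3 + μ ^ 4; 1 + μ + μ ^ 2 + μ ^ 5, μ + μ ^ 3 + μ ^ 4 + μ ^ 5, 1 + μ; 1 + μ + μ ^ 2 + μ ^ 5, 1 + μ + μ ^ 3 + μ ^ 4 + μ ^ 5, 1 + μ + μ ^ 3] := by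
  rw [Matrix.mul_fin_three]
  have e00 : (μ + μ ^ 2 + μ ^ 4) * (μ) + (μ + μ ^ 4) * (0) + (1 + μ + μ ^ 2 + μ ^ 3) * (0) = (μ ^ 2 + μ ^ 3 + μ ^ 5 : F) := by
    linear_combination (0) * hm + (0) * hp
  have e01 : (μ + μ ^ 2 + μ ^ 4) * (0) + (μ + μ ^ 4) * (μ + μ ^ 4) + (1 + μ + μ ^ 2 + μ ^ 3) * (0) = (μ ^ 5 : F) := by
    linear_combination (μ ^ 2) * hm + (0) * hp
  have e02 : (μ + μ ^ 2 + μ ^ 4) * (0) + (μ + μ ^ 4) * (0) + (1 + μ + μ ^ 2 + μ ^ 3) * (μ) = (μ + μ ^ 2 + μ ^ 3 + μ ^ 4 : F) := by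
    linear_combination (0) * hm + (0) * hp
  have e10 : (1 + μ + μ ^ 2 + μ ^ 4 + μ ^ 5) * (μ) + (1 + μ + μ ^ 4 + μ ^ 5) * (0) + (1 + μ ^ 2 + μ ^ 5) * (0) = (1 + μ + μ ^ 2 + μ ^ 5 : F) := by
    linear_combination (1) * hm + ((-1)) * hp
  have e11 : (1 + μ + μ ^ 2 + μ ^ 4 + μ ^ 5) * (0) + (1 + μ + μ ^ 4 + μ ^ 5) * (μ + μ ^ 4) + (1 + μ ^ 2 + μ ^ 5) * (0) = (μ + μ ^ 3 + μ ^ 4 + μ ^ 5 : F) := by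
    linear_combination (μ ^ 2 + μ ^ 3) * hm + ((-1) * μ ^ 3) * hp
  have e12 : (1 + μ + μ ^ 2 + μ ^ 4 + μ ^ 5) * (0) + (1 + μ + μ ^ 4 + μ ^ 5) * (0) + (1 + μ ^ 2 + μ ^ 5) * (μ) = (1 + μ : F) := by
    linear_combination (1) * hm + ((-1)) * hp
  have e20 : (1 + μ + μ ^ 2 + μ ^ 4 + μ ^ 5) * (μ) + (1 + μ + μ ^ 2 + μ ^ 4 + μ ^ 5) * (0) + (1 + μ ^ 5) * (0) = (1 + μ + μ ^ 2 + μ ^ 5 : F) := by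
    linear_combination (1) * hm + ((-1)) * hp
  have e21 : (1 + μ + μ ^ 2 + μ ^ 4 + μ ^ 5) * (0) + (1 + μ + μ ^ 2 + μ ^ 4 + μ ^ 5) * (μ + μ ^ 4) + (1 + μ ^ 5) * (0) = (1 + μ + μ ^ 3 + μ ^ 4 + μ ^ 5 : F) := by
    linear_combination (1 + μ ^ 2 + μ ^ 3) * hm + ((-1) + (-1) * μ ^ 3) * hp
  have e22 : (1 + μ + μ ^ 2 + μ ^ 4 + μ ^ 5) * (0) + (1 + μ + μ ^ 2 + μ ^ 4 + μ ^ 5) * (0) + (1 + μ ^ 5) * (μ) = (1 + μ + μ ^ 3 : F) := by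
    linear_combination (1) * hm + ((-1) + (-1) * μ ^ 3) * hp
  ext i j
  fin_cases i <;> fin_cases j
  · exact e00
  · exact e01
  · exact e02
  · exact e10
  · exact e11
  · exact e12
  · exact e20
  · exact e21
  · exact e22

theorem p_A (μ : F) (hm : μ ^ 6 + μ ^ 3 + 1 = 0) (hp : (2 : F) = 0) :
    (!![μ ^ 2 + μ ^ 3 + μ ^ 5, μ ^ 5, μ + μ ^ 2 + μ ^ 3 + μ ^ 4; 1 + μ + μ ^ 2 + μ ^ 5, μ + μ ^ 3 + μ ^ 4 + μ ^ 5, 1 + μ; 1 + μ + μ ^ 2 + μ ^ 5, 1 + μ + μ ^ 3 + μ ^ 4 + μ ^ 5, 1 + μ + μ ^ 3] : Matrix (Fin 3) (Fin 3) F) * !![1 + μ ^ 4, μ + μ ^ 4, μ ^ 2 + μ ^ 3 + μ ^ 4 + μ ^ 5; 1 + μ + μ ^ 2, μ + μ ^ 4, μ; 1 + μ + μ ^ 2, 0, μ] = !![μ + μ ^ 2 + μ ^ 3 + μ ^ 4, 1 + μ, μ ^ 2 + μ ^ 4 + μ ^ 5; μ + μ ^ 5, 1 + μ ^ 2 + μ ^ 4, μ ^ 3 + μ ^ 5; 1 + μ ^ 2 + μ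 ^ 3 + μ ^ 4, 1 + μ + μ ^ 2, μ + μ ^ 3 + μ ^ 4 + μ ^ 5] := by
  rw [Matrix.mul_fin_three]
  have e00 : (μ ^ 2 + μ ^ 3 + μ ^ 5) * (1 + μ ^ 4) + (μ ^ 5) * (1 + μ + μ ^ 2) + (μ + μ ^ 2 + μ ^ 3 + μ ^ 4) * (1 + μ + μ ^ 2) = (μ + μ ^ 2 + μ ^ 3 + μ ^ 4 : F) := by
    linear_combination (2 + 2 * μ + μ ^ 3) * hm + ((-1) + (-1) * μ + μ ^ 2 + 2 * μ ^ 5) * hp
  have e01 : (μ ^ 2 + μ ^ 3 + μ ^ 5) * (μ + μ ^ 4) + (μ ^ 5) * (μ + μ ^ 4) + (μ + μ ^ 2 + μ ^ 3 + μ ^ 4) * (0) = (1 + μ : F) := by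
    linear_combination (1 + μ + 2 * μ ^ 3) * hm + ((-1) + (-1) * μ + (-1) * μ ^ 3) * hp
  have e02 : (μ ^ 2 + μ ^ 3 + μ ^ 5) * (μ ^ 2 + μ ^ 3 + μ ^ 4 + μ ^ 5) + (μ ^ 5) * (μ) + (μ + μ ^ 2 + μ ^ 3 + μ ^ 4) * (μ) = (μ ^ 2 + μ ^ 4 + μ ^ 5 : F) := by
    linear_combination (2 + 2 * μ + 2 * μ ^ 2 + μ ^ 3 + μ ^ 4) * hm + ((-1) + (-1) * μ + (-1) * μ ^ 2 + (-1) * μ ^ 3 + (-1) * μ ^ 4) * hp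
  have e10 : (1 + μ + μ ^ 2 + μ ^ 5) * (1 + μ ^ 4) + (μ + μ ^ 3 + μ ^ 4 + μ ^ 5) * (1 + μ + μ ^ 2) + (1 + μ) * (1 + μ + μ ^ 2) = (μ + μ ^ 5 : F) := by
    linear_combination (2 + μ + μ ^ 3) * hm + (μ + 2 * μ ^ 2 + μ ^ 4 + 2 * μ ^ 5) * hp
  have e11 : (1 + μ + μ ^ 2 + μ ^ 5) * (μ + μ ^ 4) + (μ + μ ^ 3 + μ ^ 4 + μ ^ 5) * (μ + μ ^ 4) + (1 + μ) * (0) = (1 + μ ^ 2 + μ ^ 4 : F) := by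
    linear_combination (1 + μ + μ ^ 2 + 2 * μ ^ 3) * hm + ((-1) + (-1) * μ ^ 3 + μ ^ 5) * hp
  have e12 : (1 + μ + μ ^ 2 + μ ^ 5) * (μ ^ 2 + μ ^ 3 + μ ^ 4 + μ ^ 5) + (μ + μ ^ 3 + μ ^ 4 + μ ^ 5) * (μ) + (1 + μ) * (μ) = (μ ^ 3 + μ ^ 5 : F) := by
    linear_combination (2 + μ + μ ^ 2 + μ ^ 3 + μ ^ 4) * hm + ((-1) + μ ^ 2 + (-1) * μ ^ 3 + μ ^ 4 + μ ^ 5) * hp
  have e20 : (1 + μ + μ ^ 2 + μ ^ 5) * (1 + μ ^ 4) + (1 + μ + μ ^ 3 + μ ^ 4 + μ ^ 5) * (1 + μ + μ ^ 2) + (1 + μ + μ ^ 3) * (1 + μ + μ ^ 2) = (1 + μ ^ 2 + μ ^ 3 + μ ^ 4 : F) := by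
    linear_combination (2 + μ + μ ^ 3) * hm + (2 * μ + 2 * μ ^ 2 + μ ^ 4 + 3 * μ ^ 5) * hp
  have e21 : (1 + μ + μ ^ 2 + μ ^ 5) * (μ + μ ^ 4) + (1 + μ + μ ^ 3 + μ ^ 4 + μ ^ 5) * (μ + μ ^ 4) + (1 + μ + μ ^ 3) * (0) = (1 + μ + μ ^ 2 : F) := by
    linear_combination (1 + μ + μ ^ 2 + 2 * μ ^ 3) * hm + ((-1) + (-1) * μ ^ 3 + μ ^ 4 + μ ^ 5) * hp
  have e22 : (1 + μ + μ ^ 2 + μ ^ 5) * (μ ^ 2 + μ ^ 3 + μ ^ 4 + μ ^ 5) + (1 + μ + μ ^ 3 + μ ^ 4 + μ ^ 5) * (μ) + (1 + μ + μ ^ 3) * (μ) = (μ + μ ^ 3 + μ ^ 4 + μ ^ 5 : F) := by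
    linear_combination (2 + μ + μ ^ 2 + μ ^ 3 + μ ^ 4) * hm + ((-1) + μ ^ 2 + (-1) * μ ^ 3 + μ ^ 4 + μ ^ 5) * hp
  ext i j
  fin_cases i <;> fin_cases j
  · exact e00
  · exact e01
  · exact e02
  · exact e10
  · exact e11
  · exact e12
  · exact e20
  · exact e21
  · exact e22

theorem p_ViH (μ : F) (hm : μ ^ 6 + μ ^ 3 + 1 = 0) (hp : (2 : F) = 0) :
    (!![μ ^ 2 + μ ^ 5, μ ^ 2 + μ ^ 5, 1 + μ + μ ^ 3 + μ ^ 5; 0, μ ^ 2, μ ^ 2; 1 + μ + μ ^ 2 + μ ^ 4 + μ ^ 5, 1 + μ + μ ^ 2 + μ ^ 4 + μ ^ 5, 1 + μ ^ 5] : Matrix (Fin 3) (Fin 3) F) * !![μ, 0, 0; 0, μ + μ ^ 4, 0; 0, 0, μ] = !![1, 1 + μ ^ 3, 1 + μ + μ ^ 2 + μ ^ 3 + μ ^ 4; 0, 1, μ ^ 3; 1 + μ + μ ^ 2 + μ ^ 5, 1 + μ + μ ^ 3 + μ ^ 4 + μ ^ 5, 1 + μ + μ ^ 3] := by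
  rw [Matrix.mul_fin_three]
  have e00 : (μ ^ 2 + μ ^ 5) * (μ) + (μ ^ 2 + μ ^ 5) * (0) + (1 + μ + μ ^ 3 + μ ^ 5) * (0) = (1 : F) := by
    linear_combination (1) * hm + ((-1)) * hp
  have e01 : (μ ^ 2 + μ ^ 5) * (0) + (μ ^ 2 + μ ^ 5) * (μ + μ ^ 4) + (1 + μ + μ ^ 3 + μ ^ 5) * (0) = (1 + μ ^ 3 : F) := by
    linear_combination (1 + μ ^ 3) * hm + ((-1) + (-1) * μ ^ 3) * hp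
  have e02 : (μ ^ 2 + μ ^ 5) * (0) + (μ ^ 2 + μ ^ 5) * (0) + (1 + μ + μ ^ 3 + μ ^ 5) * (μ) = (1 + μ + μ ^ 2 + μ ^ 3 + μ ^ 4 : F) := by
    linear_combination (1) * hm + ((-1) + (-1) * μ ^ 3) * hp
  have e10 : (0) * (μ) + (μ ^ 2) * (0) + (μ ^ 2) * (0) = (0 : F) := by
    linear_combination (0) * hm + (0) * hp
  have e11 : (0) * (0) + (μ ^ 2) * (μ + μ ^ 4) + (μ ^ 2) * (0) = (1 : F) := by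
    linear_combination (1) * hm + ((-1)) * hp
  have e12 : (0) * (0) + (μ ^ 2) * (0) + (μ ^ 2) * (μ) = (μ ^ 3 : F) := by
    linear_combination (0) * hm + (0) * hp
  have e20 : (1 + μ + μ ^ 2 + μ ^ 4 + μ ^ 5) * (μ) + (1 + μ + μ ^ 2 + μ ^ 4 + μ ^ 5) * (0) + (1 + μ ^ 5) * (0) = (1 + μ + μ ^ 2 + μ ^ 5 : F) := by
    linear_combination (1) * hm + ((-1)) * hp
  have e21 : (1 + μ + μ ^ 2 + μ ^ 4 + μ ^ 5) * (0) + (1 + μ + μ ^ 2 + μ ^ 4 + μ ^ 5) * (μ + μ ^ 4) + (1 + μ ^ 5) * (0) = (1 + μ + μ ^ 3 + μ ^ 4 + μ ^ 5 : F) := by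
    linear_combination (1 + μ ^ 2 + μ ^ 3) * hm + ((-1) + (-1) * μ ^ 3) * hp
  have e22 : (1 + μ + μ ^ 2 + μ ^ 4 + μ ^ 5) * (0) + (1 + μ + μ ^ 2 + μ ^ 4 + μ ^ 5) * (0) + (1 + μ ^ 5) * (μ) = (1 + μ + μ ^ 3 : F) := by
    linear_combination (1) * hm + ((-1) + (-1) * μ ^ 3) * hp
  ext i j
  fin_cases i <;> fin_cases j
  · exact e00
  · exact e01
  · exact e02
  · exact e10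
  · exact e11
  · exact e12
  · exact e20
  · exact e21
  · exact e22

theorem p_ViHVi (μ : F) (hm : μ ^ 6 + μ ^ 3 + 1 = 0) (hp : (2 : F) = 0) :
    (!![1, 1 + μ ^ 3, 1 + μ + μ ^ 2 + μ ^ 3 + μ ^ 4; 0, 1, μ ^ 3; 1 + μ + μ ^ 2 + μ ^ 5, 1 + μ + μ ^ 3 + μ ^ 4 + μ ^ 5, 1 + μ + μ ^ 3] : Matrix (Fin 3) (Fin 3) F) * !![μ ^ 2 + μ ^ 5, μ ^ 2 + μ ^ 5, 1 + μ + μ ^ 3 + μ ^ 5; 0, μ ^ 2, μ ^ 2; 1 + μ + μ ^ 2 + μ ^ 4 + μ ^ 5, 1 + μ + μ ^ 2 + μ ^ 4 + μ ^ 5, 1 + μ ^ 5] = !![1 + μ ^ 5, 1 + μ ^ 2, μ + μ ^ 2 + μ ^ 3; μ + μ ^ 2 + μ ^ 3, μ + μ ^ 3, μ ^ 3 + μ ^ 5; 1 + μ ^ 3 + μ ^ 5, μ + μ ^ 2 + μ ^ 3 + μ ^ 4, μ ^ 2 + μ ^ 4 + μ ^ 5] := by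
  rw [Matrix.mul_fin_three]
  have e00 : (1) * (μ ^ 2 + μ ^ 5) + (1 + μ ^ 3) * (0) + (1 + μ + μ ^ 2 + μ ^ 3 + μ ^ 4) * (1 + μ + μ ^ 2 + μ ^ 4 + μ ^ 5) = (1 + μ ^ 5 : F) := by
    linear_combination (2 + 2 * μ + 2 * μ ^ 2 + μ ^ 3) * hm + ((-1) + μ ^ 2 + μ ^ 4 + μ ^ 5) * hp
  have e01 : (1) * (μ ^ 2 + μ ^ 5) + (1 + μ ^ 3) * (μ ^ 2) + (1 + μ + μ ^ 2 + μ ^ 3 + μ ^ 4) * (1 + μ + μ ^ 2 + μ ^ 4 + μ ^ 5) = (1 + μ ^ 2 : F) := by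
    linear_combination (2 + 2 * μ + 2 * μ ^ 2 + μ ^ 3) * hm + ((-1) + μ ^ 2 + μ ^ 4 + 2 * μ ^ 5) * hp
  have e02 : (1) * (1 + μ + μ ^ 3 + μ ^ 5) + (1 + μ ^ 3) * (μ ^ 2) + (1 + μ + μ ^ 2 + μ ^ 3 + μ ^ 4) * (1 + μ ^ 5) = (μ + μ ^ 2 + μ ^ 3 : F) := by
    linear_combination (μ + μ ^ 2 + μ ^ 3) * hm + (1 + μ ^ 5) * hp
  have e10 : (0) * (μ ^ 2 + μ ^ 5) + (1) * (0) + (μ ^ 3) * (1 + μ + μ ^ 2 + μ ^ 4 + μ ^ 5) = (μ + μ ^ 2 + μ ^ 3 : F) := by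
    linear_combination (μ + μ ^ 2) * hm + ((-1) * μ + (-1) * μ ^ 2) * hp
  have e11 : (0) * (μ ^ 2 + μ ^ 5) + (1) * (μ ^ 2) + (μ ^ 3) * (1 + μ + μ ^ 2 + μ ^ 4 + μ ^ 5) = (μ + μ ^ 3 : F) := by
    linear_combination (μ + μ ^ 2) * hm + ((-1) * μ) * hp
  have e12 : (0) * (1 + μ + μ ^ 3 + μ ^ 5) + (1) * (μ ^ 2) + (μ ^ 3) * (1 + μ ^ 5) = (μ ^ 3 + μ ^ 5 : F) := by
    linear_combination (μ ^ 2) * hm + ((-1) * μ ^ 5) * hp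
  have e20 : (1 + μ + μ ^ 2 + μ ^ 5) * (μ ^ 2 + μ ^ 5) + (1 + μ + μ ^ 3 + μ ^ 4 + μ ^ 5) * (0) + (1 + μ + μ ^ 3) * (1 + μ + μ ^ 2 + μ ^ 4 + μ ^ 5) = (1 + μ ^ 3 + μ ^ 5 : F) := by
    linear_combination (2 + 2 * μ + μ ^ 2 + μ ^ 4) * hm + ((-1) + μ ^ 2 + μ ^ 5) * hp
  have e21 : (1 + μ + μ ^ 2 + μ ^ 5) * (μ ^ 2 + μ ^ 5) + (1 + μ + μ ^ 3 + μ ^ 4 + μ ^ 5) * (μ ^ 2) + (1 + μ + μ ^ 3) * (1 + μ + μ ^ 2 + μ ^ 4 + μ ^ 5) = (μ + μ ^ 2 + μ ^ 3 + μ ^ 4 : F) := by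
    linear_combination (3 + 3 * μ + μ ^ 2 + μ ^ 4) * hm + ((-1) + (-1) * μ + μ ^ 2 + (-1) * μ ^ 4 + 2 * μ ^ 5) * hp
  have e22 : (1 + μ + μ ^ 2 + μ ^ 5) * (1 + μ + μ ^ 3 + μ ^ 5) + (1 + μ + μ ^ 3 + μ ^ 4 + μ ^ 5) * (μ ^ 2) + (1 + μ + μ ^ 3) * (1 + μ ^ 5) = (μ ^ 2 + μ ^ 4 + μ ^ 5 : F) := by
    linear_combination (4 + μ + 2 * μ ^ 2 + μ ^ 4) * hm + ((-1) + μ + (-1) * μ ^ 4 + μ ^ 5) * hp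
  ext i j
  fin_cases i <;> fin_cases j
  · exact e00
  · exact e01
  · exact e02
  · exact e10
  · exact e11
  · exact e12
  · exact e20
  · exact e21
  · exact e22

theorem p_ViHViH (μ : F) (hm : μ ^ 6 + μ ^ 3 + 1 = 0) (hp : (2 : F) = 0) :
    (!![1 + μ ^ 5, 1 + μ ^ 2, μ + μ ^ 2 + μ ^ 3; μ + μ ^ 2 + μ ^ 3, μ + μ ^ 3, μ ^ 3 + μ ^ 5; 1 + μ ^ 3 + μ ^ 5, μ + μ ^ 2 + μ ^ 3 + μ ^ 4, μ ^ 2 + μ ^ 4 + μ ^ 5] : Matrix (Fin 3) (Fin 3) F) * !![μ, 0, 0; 0, μ + μ ^ 4, 0; 0, 0, μ] = !![1 + μ + μ ^ 3, 1 + μ + μ ^ 4, μ ^ 2 + μ ^ 3 + μ ^ 4; μ ^ 2 + μ ^ 3 + μ ^ 4, μ + μ ^ 2 + μ ^ 5, 1 + μ ^ 3 + μ ^ 4; 1 + μ + μ ^ 3 + μ ^ 4, 1 + μ + μ ^ 5, 1 + μ ^ 5] := by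
  rw [Matrix.mul_fin_three]
  have e00 : (1 + μ ^ 5) * (μ) + (1 + μ ^ 2) * (0) + (μ + μ ^ 2 + μ ^ 3) * (0) = (1 + μ + μ ^ 3 : F) := by
    linear_combination (1) * hm + ((-1) + (-1) * μ ^ 3) * hp
  have e01 : (1 + μ ^ 5) * (0) + (1 + μ ^ 2) * (μ + μ ^ 4) + (μ + μ ^ 2 + μ ^ 3) * (0) = (1 + μ + μ ^ 4 : F) := by
    linear_combination (1) * hm + ((-1)) * hp
  have e02 : (1 + μ ^ 5) * (0) + (1 + μ ^ 2) * (0) + (μ + μ ^ 2 + μ ^ 3) * (μ) = (μ ^ 2 + μ ^ 3 + μ ^ 4 : F) := by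
    linear_combination (0) * hm + (0) * hp
  have e10 : (μ + μ ^ 2 + μ ^ 3) * (μ) + (μ + μ ^ 3) * (0) + (μ ^ 3 + μ ^ 5) * (0) = (μ ^ 2 + μ ^ 3 + μ ^ 4 : F) := by
    linear_combination (0) * hm + (0) * hp
  have e11 : (μ + μ ^ 2 + μ ^ 3) * (0) + (μ + μ ^ 3) * (μ + μ ^ 4) + (μ ^ 3 + μ ^ 5) * (0) = (μ + μ ^ 2 + μ ^ 5 : F) := by
    linear_combination (μ) * hm + ((-1) * μ) * hp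
  have e12 : (μ + μ ^ 2 + μ ^ 3) * (0) + (μ + μ ^ 3) * (0) + (μ ^ 3 + μ ^ 5) * (μ) = (1 + μ ^ 3 + μ ^ 4 : F) := by
    linear_combination (1) * hm + ((-1) + (-1) * μ ^ 3) * hp
  have e20 : (1 + μ ^ 3 + μ ^ 5) * (μ) + (μ + μ ^ 2 + μ ^ 3 + μ ^ 4) * (0) + (μ ^ 2 + μ ^ 4 + μ ^ 5) * (0) = (1 + μ + μ ^ 3 + μ ^ 4 : F) := by
    linear_combination (1) * hm + ((-1) + (-1) * μ ^ 3) * hp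
  have e21 : (1 + μ ^ 3 + μ ^ 5) * (0) + (μ + μ ^ 2 + μ ^ 3 + μ ^ 4) * (μ + μ ^ 4) + (μ ^ 2 + μ ^ 4 + μ ^ 5) * (0) = (1 + μ + μ ^ 5 : F) := by
    linear_combination (1 + μ + μ ^ 2) * hm + ((-1) + (-1) * μ) * hp
  have e22 : (1 + μ ^ 3 + μ ^ 5) * (0) + (μ + μ ^ 2 + μ ^ 3 + μ ^ 4) * (0) + (μ ^ 2 + μ ^ 4 + μ ^ 5) * (μ) = (1 + μ ^ 5 : F) := by
    linear_combination (1) * hm + ((-1)) * hp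
  ext i j
  fin_cases i <;> fin_cases j
  · exact e00
  · exact e01
  · exact e02
  · exact e10
  · exact e11
  · exact e12
  · exact e20
  · exact e21
  · exact e22

theorem p_B (μ : F) (hm : μ ^ 6 + μ ^ 3 + 1 = 0) (hp : (2 : F) = 0) :
    (!![1 + μ + μ ^ 3, 1 + μ + μ ^ 4, μ ^ 2 + μ ^ 3 + μ ^ 4; μ ^ 2 + μ ^ 3 + μ ^ 4, μ + μ ^ 2 + μ ^ 5, 1 + μ ^ 3 + μ ^ 4; 1 + μ + μ ^ 3 + μ ^ 4, 1 + μ + μ ^ 5, 1 + μ ^ 5] : Matrix (Fin 3) (Fin 3) F) * !![1 + μ ^ 4, μ + μ ^ 4, μ ^ 2 + μ ^ 3 + μ ^ 4 + μ ^ 5; 1 + μ + μ ^ 2, μ + μ ^ 4, μ; 1 + μ + μ ^ 2, 0, μ] = !![μ ^ 2, μ + μ ^ 2, μ ^ 2 + μ ^ 3; μ ^ 2 + μ ^ 3, μ + μ ^ 3 + μ ^ 5, 1 + μ ^ 2 + μ ^ 3 + μ ^ 4 + μ ^ 5; 1 + μ + μ ^ 4, μ + μ ^ 2 + μ ^ 3, μ ^ 3 + μ ^ 5] := by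
  rw [Matrix.mul_fin_three]
  have e00 : (1 + μ + μ ^ 3) * (1 + μ ^ 4) + (1 + μ + μ ^ 4) * (1 + μ + μ ^ 2) + (μ ^ 2 + μ ^ 3 + μ ^ 4) * (1 + μ + μ ^ 2) = (μ ^ 2 : F) := by
    linear_combination (2 + μ) * hm + (μ + μ ^ 2 + μ ^ 3 + 2 * μ ^ 4 + 2 * μ ^ 5) * hp
  have e01 : (1 + μ + μ ^ 3) * (μ + μ ^ 4) + (1 + μ + μ ^ 4) * (μ + μ ^ 4) + (μ ^ 2 + μ ^ 3 + μ ^ 4) * (0) = (μ + μ ^ 2 : F) := by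
    linear_combination (μ + μ ^ 2) * hm + (μ ^ 4 + μ ^ 5) * hp
  have e02 : (1 + μ + μ ^ 3) * (μ ^ 2 + μ ^ 3 + μ ^ 4 + μ ^ 5) + (1 + μ + μ ^ 4) * (μ) + (μ ^ 2 + μ ^ 3 + μ ^ 4) * (μ) = (μ ^ 2 + μ ^ 3 : F) := by
    linear_combination (2 + μ + μ ^ 2) * hm + ((-1) + μ ^ 4 + 2 * μ ^ 5) * hp
  have e10 : (μ ^ 2 + μ ^ 3 + μ ^ 4) * (1 + μ ^ 4) + (μ + μ ^ 2 + μ ^ 5) * (1 + μ + μ ^ 2) + (1 + μ ^ 3 + μ ^ 4) * (1 + μ + μ ^ 2) = (μ ^ 2 + μ ^ 3 : F) := by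
    linear_combination (3 + 2 * μ + μ ^ 2) * hm + ((-1) + μ ^ 2 + μ ^ 4 + μ ^ 5) * hp
  have e11 : (μ ^ 2 + μ ^ 3 + μ ^ 4) * (μ + μ ^ 4) + (μ + μ ^ 2 + μ ^ 5) * (μ + μ ^ 4) + (1 + μ ^ 3 + μ ^ 4) * (0) = (μ + μ ^ 3 + μ ^ 5 : F) := by
    linear_combination (2 + μ + μ ^ 2 + μ ^ 3) * hm + ((-1) + (-1) * μ + (-1) * μ ^ 3) * hp
  have e12 : (μ ^ 2 + μ ^ 3 + μ ^ 4) * (μ ^ 2 + μ ^ 3 + μ ^ 4 + μ ^ 5) + (μ + μ ^ 2 + μ ^ 5) * (μ) + (1 + μ ^ 3 + μ ^ 4) * (μ) = (1 + μ ^ 2 + μ ^ 3 + μ ^ 4 + μ ^ 5 : F) := by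
    linear_combination (3 + 3 * μ + 2 * μ ^ 2 + μ ^ 3) * hm + ((-2) + (-1) * μ + (-1) * μ ^ 2 + (-2) * μ ^ 3 + (-1) * μ ^ 4) * hp
  have e20 : (1 + μ + μ ^ 3 + μ ^ 4) * (1 + μ ^ 4) + (1 + μ + μ ^ 5) * (1 + μ + μ ^ 2) + (1 + μ ^ 5) * (1 + μ + μ ^ 2) = (1 + μ + μ ^ 4 : F) := by
    linear_combination (2 + 3 * μ + μ ^ 2) * hm + (μ ^ 2 + (-1) * μ ^ 4 + μ ^ 5) * hp
  have e21 : (1 + μ + μ ^ 3 + μ ^ 4) * (μ + μ ^ 4) + (1 + μ + μ ^ 5) * (μ + μ ^ 4) + (1 + μ ^ 5) * (0) = (μ + μ ^ 2 + μ ^ 3 : F) := by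
    linear_combination (μ + μ ^ 2 + μ ^ 3) * hm + ((-1) * μ ^ 3 + μ ^ 4 + μ ^ 5) * hp
  have e22 : (1 + μ + μ ^ 3 + μ ^ 4) * (μ ^ 2 + μ ^ 3 + μ ^ 4 + μ ^ 5) + (1 + μ + μ ^ 5) * (μ) + (1 + μ ^ 5) * (μ) = (μ ^ 3 + μ ^ 5 : F) := by
    linear_combination (4 + 2 * μ + 2 * μ ^ 2 + μ ^ 3) * hm + ((-2) + (-2) * μ ^ 3) * hp
  ext i j
  fin_cases i <;> fin_cases j
  · exact e00
  · exact e01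
  · exact e02
  · exact e10
  · exact e11
  · exact e12
  · exact e20
  · exact e21
  · exact e22

theorem p_AW (μ : F) (hm : μ ^ 6 + μ ^ 3 + 1 = 0) (hp : (2 : F) = 0) :
    (!![μ + μ ^ 2 + μ ^ 3 + μ ^ 4, 1 + μ, μ ^ 2 + μ ^ 4 + μ ^ 5; μ + μ ^ 5, 1 + μ ^ 2 + μ ^ 4, μ ^ 3 + μ ^ 5; 1 + μ ^ 2 + μ ^ 3 + μ ^ 4, 1 + μ + μ ^ 2, μ + μ ^ 3 + μ ^ 4 + μ ^ 5] : Matrix (Fin 3) (Fin 3) F) * !![1 + μ ^ 2 + μ ^ 3, 0, 1 + μ ^ 2 + μ ^ 4 + μ ^ 5; 0, μ, 0; 0, 0, 1 + μ ^ 2 + μ ^ 4 + μ ^ 5] = !![μ ^ 2, μ + μ ^ 2, μ ^ 2 + μ ^ 3; μ ^ 2 + μ ^ 3, μ + μ ^ 3 + μ ^ 5, 1 + μ ^ 2 + μ ^ 3 + μ ^ 4 + μ ^ 5; 1 + μ + μ ^ 4, μ + μ ^ 2 + μ ^ 3, μ ^ 3 + μ ^ 5] := by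
  rw [Matrix.mul_fin_three]
  have e00 : (μ + μ ^ 2 + μ ^ 3 + μ ^ 4) * (1 + μ ^ 2 + μ ^ 3) + (1 + μ) * (0) + (μ ^ 2 + μ ^ 4 + μ ^ 5) * (0) = (μ ^ 2 : F) := by
    linear_combination (2 + μ) * hm + ((-1) + μ ^ 4 + μ ^ 5) * hp
  have e01 : (μ + μ ^ 2 + μ ^ 3 + μ ^ 4) * (0) + (1 + μ) * (μ) + (μ ^ 2 + μ ^ 4 + μ ^ 5) * (0) = (μ + μ ^ 2 : F) := by
    linear_combination (0) * hm + (0) * hp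
  have e02 : (μ + μ ^ 2 + μ ^ 3 + μ ^ 4) * (1 + μ ^ 2 + μ ^ 4 + μ ^ 5) + (1 + μ) * (0) + (μ ^ 2 + μ ^ 4 + μ ^ 5) * (1 + μ ^ 2 + μ ^ 4 + μ ^ 5) = (μ ^ 2 + μ ^ 3 : F) := by
    linear_combination (2 + 3 * μ + 3 * μ ^ 2 + 3 * μ ^ 3 + μ ^ 4) * hm + ((-1) + (-1) * μ + (-1) * μ ^ 2 + (-2) * μ ^ 3) * hp
  have e10 : (μ + μ ^ 5) * (1 + μ ^ 2 + μ ^ 3) + (1 + μ ^ 2 + μ ^ 4) * (0) + (μ ^ 3 + μ ^ 5) * (0) = (μ ^ 2 + μ ^ 3 : F) := by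
    linear_combination (μ + μ ^ 2) * hm + ((-1) * μ ^ 2) * hp
  have e11 : (μ + μ ^ 5) * (0) + (1 + μ ^ 2 + μ ^ 4) * (μ) + (μ ^ 3 + μ ^ 5) * (0) = (μ + μ ^ 3 + μ ^ 5 : F) := by
    linear_combination (0) * hm + (0) * hp
  have e12 : (μ + μ ^ 5) * (1 + μ ^ 2 + μ ^ 4 + μ ^ 5) + (1 + μ ^ 2 + μ ^ 4) * (0) + (μ ^ 3 + μ ^ 5) * (1 + μ ^ 2 + μ ^ 4 + μ ^ 5) = (1 + μ ^ 2 + μ ^ 3 + μ ^ 4 + μ ^ 5 : F) := by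
    linear_combination ((-1) + μ + μ ^ 2 + 2 * μ ^ 3 + 2 * μ ^ 4) * hm + ((-1) * μ ^ 2 + (-2) * μ ^ 4 + μ ^ 5) * hp
  have e20 : (1 + μ ^ 2 + μ ^ 3 + μ ^ 4) * (1 + μ ^ 2 + μ ^ 3) + (1 + μ + μ ^ 2) * (0) + (μ + μ ^ 3 + μ ^ 4 + μ ^ 5) * (0) = (1 + μ + μ ^ 4 : F) := by
    linear_combination (2 + μ) * hm + ((-1) + (-1) * μ + μ ^ 2 + μ ^ 5) * hp
  have e21 : (1 + μ ^ 2 + μ ^ 3 + μ ^ 4) * (0) + (1 + μ + μ ^ 2) * (μ) + (μ + μ ^ 3 + μ ^ 4 + μ ^ 5) * (0) = (μ + μ ^ 2 + μ ^ 3 : F) := by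
    linear_combination (0) * hm + (0) * hp
  have e22 : (1 + μ ^ 2 + μ ^ 3 + μ ^ 4) * (1 + μ ^ 2 + μ ^ 4 + μ ^ 5) + (1 + μ + μ ^ 2) * (0) + (μ + μ ^ 3 + μ ^ 4 + μ ^ 5) * (1 + μ ^ 2 + μ ^ 4 + μ ^ 5) = (μ ^ 3 + μ ^ 5 : F) := by
    linear_combination (1 + 3 * μ + 4 * μ ^ 2 + 3 * μ ^ 3 + μ ^ 4) * hm + ((-1) * μ + (-1) * μ ^ 2 + (-1) * μ ^ 3) * hp
  ext i j
  fin_cases i <;> fin_cases j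
  · exact e00
  · exact e01
  · exact e02
  · exact e10
  · exact e11
  · exact e12
  · exact e20
  · exact e21
  · exact e22

end L19

variable {F : Type*} [Field F] [Fintype F] {q : ℕ}

theorem word_eight (hq8 : q = 8) (hF : Fintype.card F = q ^ 2) (μ : F) (hμ : orderOf μ = q + 1)
    (u hh zz : GJ 3 F q) (hu : mat u = xM q 1 (bet μ)) (hhm : mat hh = hM q μ)
    (hz : mat zz = yM q 0 (bz μ))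
    (hhH : hh ∈ Subgroup.closure ({u, u * hh * zz} : Set (GJ 3 F q))) :
    ∃ W : GJ 3 F q, W ∈ Subgroup.closure ({u, u * hh * zz} : Set (GJ 3 F q)) ∧
      mat W 1 0 = 0 ∧ mat W 2 0 = 0 ∧ mat W 2 1 = 0 ∧
      (mat W 0 0 / mat W 1 1) ^ 4 ≠ mat W 0 0 / mat W 1 1 := by
  subst hq8
  have hp : (2 : F) = 0 := by
    have h := Nat.cast_card_eq_zero F
    rw [hF] at h
    have h' : ((8 : F)) ^ 2 = 0 := by exact_mod_cast h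
    have h'' : (2 : F) ^ 6 = 0 := by rw [← h']; norm_num
    exact pow_eq_zero_iff (by norm_num) |>.mp h''
  have hμ' : orderOf μ = 9 := by rw [hμ]
  have hμ9 : μ ^ 9 = 1 := by
    have := pow_orderOf_eq_one μ
    rwa [hμ'] at this
  have hμ3 : μ ^ 3 ≠ 1 := fun h => by
    have := orderOf_dvd_of_pow_eq_one h
    rw [hμ'] at this
    omega
  have hμ2 : μ ^ 2 ≠ 1 := fun h => by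
    have := orderOf_dvd_of_pow_eq_one h
    rw [hμ'] at this
    omega
  have hμ0 : μ ≠ 0 := by
    rintro rfl
    norm_num at hμ9
  have h1 : μ - 1 ≠ 0 := fun h => hμ2 (by rw [sub_eq_zero.mp h]; ring)
  have h2 : μ + 1 ≠ 0 := fun h => hμ2 (by
    have : μ = -1 := eq_neg_of_add_eq_zero_left h
    rw [this]; ring)
  have hm : μ ^ 6 + μ ^ 3 + 1 = 0 := by
    have : (μ ^ 3 - 1) * (μ ^ 6 + μ ^ 3 + 1) = 0 := by linear_combination hμ9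
    rcases mul_eq_zero.mp this with h | h
    · exact absurd (sub_eq_zero.mp h) hμ3
    · exact h
  have hU : mat u = !![1, 1, μ + μ ^ 2 + μ ^ 3 + μ ^ 4; 0, 1, 1; 0, 0, 1] := by
    rw [hu, L19.bet_eq μ hm hp h1 h2]
    unfold xM
    have : -((1 : F) ^ 8) = 1 := by linear_combination (-1) * hp
    rw [this]
  have hH : mat hh = !![μ, 0, 0; 0, μ + μ ^ 4, 0; 0, 0, μ] := by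
    rw [hhm]
    unfold hM
    rw [L19.h11_eq μ hm hp hμ0, L19.h22_eq μ hm hp]
  have hZ : mat zz = !![1, 0, 0; 0, 1, 0; 1 + μ + μ ^ 2 + μ ^ 5, 0, 1] := by
    rw [hz, L19.bz_eq μ hm hp]
    unfold yM
    have : -((0 : F) ^ 8) = 0 := by norm_num
    rw [this]
  obtain ⟨v, hv⟩ : ∃ v : GJ 3 F 8, v = u * hh * zz := ⟨_, rfl⟩
  rw [← hv] at hhH ⊢
  have hV : mat v = !![1 + μ ^ 4, μ + μ ^ 4, μ ^ 2 + μ ^ 3 + μ ^ 4 + μ ^ 5; 1 + μ + μ ^ 2, μ + μ ^ 4, μ; 1 + μ + μ ^ 2, 0, μ] := by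
    rw [hv, mat_mul, mat_mul, hU, hH, hZ, L19.p_UH μ hm hp, L19.p_V μ hm hp]
  have hVi : mat v⁻¹ = !![μ ^ 2 + μ ^ 5, μ ^ 2 + μ ^ 5, 1 + μ + μ ^ 3 + μ ^ 5; 0, μ ^ 2, μ ^ 2; 1 + μ + μ ^ 2 + μ ^ 4 + μ ^ 5, 1 + μ + μ ^ 2 + μ ^ 4 + μ ^ 5, 1 + μ ^ 5] := by
    have h1 : (!![μ ^ 2 + μ ^ 5, μ ^ 2 + μ ^ 5, 1 + μ + μ ^ 3 + μ ^ 5; 0, μ ^ 2, μ ^ 2; 1 + μ + μ ^ 2 + μ ^ 4 + μ ^ 5, 1 + μ + μ ^ 2 + μ ^ 4 + μ ^ 5, 1 + μ ^ 5] : Matrix (Fin 3) (Fin 3) F) * mat v = 1 := by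
      rw [hV, L19.p_VinvV μ hm hp]
      exact Matrix.one_fin_three.symm
    calc mat v⁻¹ = ((!![μ ^ 2 + μ ^ 5, μ ^ 2 + μ ^ 5, 1 + μ + μ ^ 3 + μ ^ 5; 0, μ ^ 2, μ ^ 2; 1 + μ + μ ^ 2 + μ ^ 4 + μ ^ 5, 1 + μ + μ ^ 2 + μ ^ 4 + μ ^ 5, 1 + μ ^ 5] : Matrix (Fin 3) (Fin 3) F) * mat v) * mat v⁻¹ := by rw [h1, Matrix.one_mul]
      _ = !![μ ^ 2 + μ ^ 5, μ ^ 2 + μ ^ 5, 1 + μ + μ ^ 3 + μ ^ 5; 0, μ ^ 2, μ ^ 2; 1 + μ + μ ^ 2 + μ ^ 4 + μ ^ 5, 1 + μ + μ ^ 2 + μ ^ 4 + μ ^ 5, 1 + μ ^ 5] := by rw [Matrix.mul_assoc, mat_mul_inv, Matrix.mul_one]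
  have hA : mat (u * v⁻¹ * hh * v) = !![μ + μ ^ 2 + μ ^ 3 + μ ^ 4, 1 + μ, μ ^ 2 + μ ^ 4 + μ ^ 5; μ + μ ^ 5, 1 + μ ^ 2 + μ ^ 4, μ ^ 3 + μ ^ 5; 1 + μ ^ 2 + μ ^ 3 + μ ^ 4, 1 + μ + μ ^ 2, μ + μ ^ 3 + μ ^ 4 + μ ^ 5] := by
    rw [mat_mul, mat_mul, mat_mul, hU, hVi, hH, hV, L19.p_UVi μ hm hp, L19.p_UViH μ hm hp,
      L19.p_A μ hm hp]
  have hB : mat (v⁻¹ * hh * v⁻¹ * hh * v) = !![μ ^ 2, μ + μ ^ 2, μ ^ 2 + μ ^ 3; μ ^ 2 + μ ^ 3, μ + μ ^ 3 + μ ^ 5, 1 + μ ^ 2 + μ ^ 3 + μ ^ 4 + μ ^ 5; 1 + μ + μ ^ 4, μ + μ ^ 2 + μ ^ 3, μ ^ 3 + μ ^ 5] := by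
    rw [mat_mul, mat_mul, mat_mul, mat_mul, hVi, hH, hV, L19.p_ViH μ hm hp, L19.p_ViHVi μ hm hp,
      L19.p_ViHViH μ hm hp, L19.p_B μ hm hp]
  have hW : mat ((u * v⁻¹ * hh * v)⁻¹ * (v⁻¹ * hh * v⁻¹ * hh * v)) = !![1 + μ ^ 2 + μ ^ 3, 0, 1 + μ ^ 2 + μ ^ 4 + μ ^ 5; 0, μ, 0; 0, 0, 1 + μ ^ 2 + μ ^ 4 + μ ^ 5] := by
    rw [mat_mul, hB, ← L19.p_AW μ hm hp, ← hA, ← Matrix.mul_assoc, mat_inv_mul, Matrix.one_mul]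
  have hu' : u ∈ Subgroup.closure ({u, v} : Set (GJ 3 F 8)) := Subgroup.subset_closure (by simp)
  have hv' : v ∈ Subgroup.closure ({u, v} : Set (GJ 3 F 8)) := Subgroup.subset_closure (by simp)
  refine ⟨(u * v⁻¹ * hh * v)⁻¹ * (v⁻¹ * hh * v⁻¹ * hh * v), ?_, ?_, ?_, ?_, ?_⟩
  · exact mul_mem (inv_mem (mul_mem (mul_mem (mul_mem hu' (inv_mem hv')) hhH) hv'))
      (mul_mem (mul_mem (mul_mem (mul_mem (inv_mem hv') hhH) (inv_mem hv')) hhH) hv')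
  · rw [hW]; rfl
  · rw [hW]; rfl
  · rw [hW]; rfl
  · rw [hW]
    show ((1 + μ ^ 2 + μ ^ 3) / μ) ^ 4 ≠ (1 + μ ^ 2 + μ ^ 3) / μ
    rw [L19.c_eq μ hm hp hμ0, L19.c4_eq μ hm hp]
    exact L19.c_ne μ hm hp

end Cfsg.Agent.Lib.Helper25.RSU3
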