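import Mathlib
import Cfsg.Prelude.Def_LieRecognition

set_option autoImplicit false

namespace Cfsg.Agent.Lib.Helper25

open MulAction

section
variable {G Ω : Type*} [Group G] [MulAction G Ω] {a : Ω} {t : G} {Q : Subgroup G}

/-- `t • a ≠ a`. -/
theorem ro_ta_ne (hS : Cfsg.IsRankOneSetup G Ω a t Q) : t • a ≠ a := fun h =>
  hS.not_mem (mem_stabilizer_iff.mpr h)

theorem ro_t_inv (hS : Cfsg.IsRankOneSetup G Ω a t Q) : t⁻¹ = t :=
  inv_eq_of_mul_eq_one_right hS.mul_self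

theorem ro_tta (hS : Cfsg.IsRankOneSetup G Ω a t Q) : t • t • a = a := by
  rw [smul_smul, hS.mul_self, one_smul]

/-- Elements of `Q` fix `a`. -/
theorem ro_Q_fix (hS : Cfsg.IsRankOneSetup G Ω a t Q) {x : G} (hx : x ∈ Q) : x • a = a :=
  mem_stabilizer_iff.mp (hS.le hx)

/-- `G_a` is transitive on the points different from `a`. -/
theorem ro_stab_trans (hS : Cfsg.IsRankOneSetup G Ω a t Q) {b c : Ω} (hb : b ≠ a) (hc : c ≠ a) :
    ∃ g ∈ stabilizer G a, g • b = c := by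
  have h2 := hS.two_transitive
  rw [is_two_pretransitive_iff] at h2
  obtain ⟨g, hga, hgb⟩ := h2 (Ne.symm hb) (Ne.symm hc)
  exact ⟨g, mem_stabilizer_iff.mpr hga, hgb⟩

/-- Every element of `G_a` is a product `x * d` with `x ∈ Q`, `d ∈ D`. -/
theorem ro_mem_QD (hS : Cfsg.IsRankOneSetup G Ω a t Q) {g : G} (hg : g ∈ stabilizer G a) :
    ∃ x ∈ Q, ∃ d ∈ stabilizer G a ⊓ stabilizer G (t • a), g = x * d := by
  rw [← hS.sup_eq, Subgroup.sup_eq_closure] at hg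
  induction hg using Subgroup.closure_induction with
  | mem g hg =>
    rcases hg with hg | hg
    · exact ⟨g, hg, 1, Subgroup.one_mem _, by simp⟩
    · exact ⟨1, Subgroup.one_mem _, g, hg, by simp⟩
  | one => exact ⟨1, Subgroup.one_mem _, 1, Subgroup.one_mem _, by simp⟩
  | mul g₁ g₂ _ _ ih₁ ih₂ =>
    obtain ⟨x₁, hx₁, d₁, hd₁, rfl⟩ := ih₁
    obtain ⟨x₂, hx₂, d₂, hd₂, rfl⟩ := ih₂
    refine ⟨x₁ * (d₁ * x₂ * d₁⁻¹), Q.mul_mem hx₁ (hS.conj_mem d₁ hd₁.1 x₂ hx₂), d₁ * d₂,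
      Subgroup.mul_mem _ hd₁ hd₂, by group⟩
  | inv g _ ih =>
    obtain ⟨x, hx, d, hd, rfl⟩ := ih
    refine ⟨d⁻¹ * x⁻¹ * d⁻¹⁻¹, hS.conj_mem d⁻¹ (Subgroup.inv_mem _ hd.1) x⁻¹ (Q.inv_mem hx), d⁻¹,
      Subgroup.inv_mem _ hd, by group⟩

/-- `Q` is transitive on the points different from `a` (through `t • a`). -/
theorem ro_Q_trans₀ (hS : Cfsg.IsRankOneSetup G Ω a t Q) {c : Ω} (hc : c ≠ a) :
    ∃ x ∈ Q, x • (t • a) = c := by
  obtain ⟨g, hg, hgc⟩ := ro_stab_trans hS (ro_ta_ne hS) hc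
  obtain ⟨x, hx, d, hd, rfl⟩ := ro_mem_QD hS hg
  refine ⟨x, hx, ?_⟩
  rw [← hgc, mul_smul, mem_stabilizer_iff.mp hd.2]

/-- A non-identity element of `Q` fixes no point other than `a`. -/
theorem ro_Q_free (hS : Cfsg.IsRankOneSetup G Ω a t Q) {x : G} (hx : x ∈ Q) {c : Ω} (hc : c ≠ a)
    (hxc : x • c = c) : x = 1 := by
  obtain ⟨y, hy, rfl⟩ := ro_Q_trans₀ hS hc
  have h1 : y⁻¹ * x * y ∈ Q ⊓ stabilizer G (t • a) := by
    refine ⟨Q.mul_mem (Q.mul_mem (Q.inv_mem hy) hx) hy, ?_⟩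
    show y⁻¹ * x * y ∈ stabilizer G (t • a)
    rw [mem_stabilizer_iff, mul_smul, mul_smul, hxc, inv_smul_smul]
  rw [hS.inf_eq_bot, Subgroup.mem_bot] at h1
  have : x = y * (y⁻¹ * x * y) * y⁻¹ := by group
  rw [this, h1]; group

/-- A non-identity element of `Q` has `a` as its only fixed point. -/
theorem ro_Q_fix_only (hS : Cfsg.IsRankOneSetup G Ω a t Q) {x : G} (hx : x ∈ Q) (hx1 : x ≠ 1) {c : Ω}
    (hxc : x • c = c) : c = a := by
  by_contra hc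
  exact hx1 (ro_Q_free hS hx hc hxc)

/-- `Q` is regular on the points different from `a`. -/
theorem ro_Q_regular (hS : Cfsg.IsRankOneSetup G Ω a t Q) {b c : Ω} (hb : b ≠ a) (hc : c ≠ a) :
    ∃! x : Q, (x : G) • b = c := by
  obtain ⟨x₁, hx₁, rfl⟩ := ro_Q_trans₀ hS hb
  obtain ⟨x₂, hx₂, rfl⟩ := ro_Q_trans₀ hS hc
  refine ⟨⟨x₂ * x₁⁻¹, Q.mul_mem hx₂ (Q.inv_mem hx₁)⟩, ?_, ?_⟩
  · show (x₂ * x₁⁻¹) • x₁ • t • a = x₂ • t • a
    rw [mul_smul, inv_smul_smul]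
  · rintro ⟨y, hy⟩ hyb
    have hyb' : y • x₁ • t • a = x₂ • t • a := hyb
    apply Subtype.ext
    show y = x₂ * x₁⁻¹
    have h1 : (x₂⁻¹ * y * x₁) • (t • a) = t • a := by
      rw [mul_smul, mul_smul, hyb', inv_smul_smul]
    have h2 := ro_Q_free hS (Q.mul_mem (Q.mul_mem (Q.inv_mem hx₂) hy) hx₁) (ro_ta_ne hS) h1
    have : y = x₂ * (x₂⁻¹ * y * x₁) * x₁⁻¹ := by group
    rw [this, h2]; group

/-- `Q` is not trivial. -/
theorem ro_Q_ne_bot (hS : Cfsg.IsRankOneSetup G Ω a t Q) : ∃ x ∈ Q, x ≠ 1 := by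
  by_contra h
  simp only [not_exists, not_and, not_not] at h
  have : Q = ⊥ := by
    rw [Subgroup.eq_bot_iff_forall]; exact h
  have h2 := hS.even_card
  rw [this, Subgroup.card_bot] at h2
  exact absurd h2 (by decide)

/-- If a non-identity element of `Q` is conjugated into `Q` by `g`, then `g` fixes `a`. -/
theorem ro_conj_mem_stab (hS : Cfsg.IsRankOneSetup G Ω a t Q) {x g : G} (hx : x ∈ Q) (hx1 : x ≠ 1)
    (hg : g * x * g⁻¹ ∈ Q) : g ∈ stabilizer G a := by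
  rw [mem_stabilizer_iff]
  have h1 : g * x * g⁻¹ ≠ 1 := by
    intro h
    apply hx1
    have : x = g⁻¹ * (g * x * g⁻¹) * g := by group
    rw [this, h]; group
  apply ro_Q_fix_only hS hg h1
  rw [mul_smul, mul_smul, inv_smul_smul, ro_Q_fix hS hx]

end

end Cfsg.Agent.Lib.Helper25
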