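import Mathlib
import Cfsg.Prelude.Def_LieRecognition
import Cfsg.Agent.Lib.Helper25.RankOne

set_option autoImplicit false

namespace Cfsg.Agent.Lib.Helper25

open MulAction

section
variable {G Ω : Type*} [Group G] [MulAction G Ω] {a : Ω} {t : G} {Q : Subgroup G}

theorem ro_pretransitive (hS : Cfsg.IsRankOneSetup G Ω a t Q) : IsPretransitive G Ω :=
  haveI := hS.two_transitive
  isPretransitive_of_is_two_pretransitive

/-- `Q ⊓ D = ⊥`. -/
theorem ro_Q_inf_D (hS : Cfsg.IsRankOneSetup G Ω a t Q) {x : G} (hx : x ∈ Q)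
    (hd : x ∈ stabilizer G a ⊓ stabilizer G (t • a)) : x = 1 := by
  have : x ∈ Q ⊓ stabilizer G (t • a) := ⟨hx, hd.2⟩
  rwa [hS.inf_eq_bot, Subgroup.mem_bot] at this

/-- The map `Option Q → Ω`, `none ↦ a`, `some x ↦ x • t • a`, is a bijection. -/
theorem ro_option_bij (hS : Cfsg.IsRankOneSetup G Ω a t Q) :
    Function.Bijective (fun o : Option Q => (o.elim a (fun x => (x : G) • t • a) : Ω)) := by
  constructor
  · rintro (_ | ⟨x, hx⟩) (_ | ⟨y, hy⟩) h
    · rfl
    · exfalso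
      have h' : a = y • t • a := h
      apply ro_ta_ne hS
      have : y⁻¹ • a = t • a := by rw [inv_smul_eq_iff]; exact h'
      rw [← this, inv_smul_eq_iff, ro_Q_fix hS hy]
    · exfalso
      have h' : x • t • a = a := h
      apply ro_ta_ne hS
      have : t • a = x⁻¹ • a := by rw [eq_inv_smul_iff]; exact h'
      rw [this, inv_smul_eq_iff, ro_Q_fix hS hx]
    · have h' : x • t • a = y • t • a := h
      have h1 : (y⁻¹ * x) • t • a = t • a := by rw [mul_smul, h', inv_smul_smul]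
      have h2 := ro_Q_free hS (Q.mul_mem (Q.inv_mem hy) hx) (ro_ta_ne hS) h1
      have : x = y := by
        have e : x = y * (y⁻¹ * x) := by group
        rw [e, h2, mul_one]
      subst this
      rfl
  · intro c
    by_cases hc : c = a
    · exact ⟨none, hc.symm⟩
    · obtain ⟨x, hx, hxc⟩ := ro_Q_trans₀ hS hc
      exact ⟨some ⟨x, hx⟩, hxc⟩

theorem ro_card_Omega [Finite G] (hS : Cfsg.IsRankOneSetup G Ω a t Q) :
    Nat.card Ω = Nat.card Q + 1 := by
  rw [← Finite.card_option]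
  exact (Nat.card_congr (Equiv.ofBijective _ (ro_option_bij hS))).symm

theorem ro_finite_Omega [Finite G] (hS : Cfsg.IsRankOneSetup G Ω a t Q) : Finite Ω :=
  Finite.of_equiv _ (Equiv.ofBijective _ (ro_option_bij hS))

theorem ro_card_stab (hS : Cfsg.IsRankOneSetup G Ω a t Q) :
    Nat.card (stabilizer G a) =
      Nat.card Q * Nat.card ↥(stabilizer G a ⊓ stabilizer G (t • a)) := by
  rw [← Nat.card_prod]
  symm
  let f : Q × ↥(stabilizer G a ⊓ stabilizer G (t • a)) → stabilizer G a :=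
    fun p => ⟨p.1.1 * p.2.1, Subgroup.mul_mem _ (hS.le p.1.2) p.2.2.1⟩
  apply Nat.card_congr
  refine Equiv.ofBijective f ⟨?_, ?_⟩
  · rintro ⟨⟨x, hx⟩, ⟨d, hd⟩⟩ ⟨⟨x', hx'⟩, ⟨d', hd'⟩⟩ h
    have h' : x * d = x' * d' := congrArg Subtype.val h
    have h1 : x'⁻¹ * x = d' * d⁻¹ := by
      have : x'⁻¹ * x = x'⁻¹ * (x * d) * d⁻¹ := by group
      rw [this, h']; group
    have h2 : x'⁻¹ * x = 1 := by
      apply ro_Q_inf_D hS (Q.mul_mem (Q.inv_mem hx') hx)
      rw [h1]
      exact Subgroup.mul_mem _ hd' (Subgroup.inv_mem _ hd)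
    have hxx : x = x' := by
      have e : x = x' * (x'⁻¹ * x) := by group
      rw [e, h2, mul_one]
    subst hxx
    have hdd : d = d' := mul_left_cancel h'
    subst hdd
    rfl
  · rintro ⟨g, hg⟩
    obtain ⟨x, hx, d, hd, rfl⟩ := ro_mem_QD hS hg
    exact ⟨(⟨x, hx⟩, ⟨d, hd⟩), rfl⟩

theorem ro_card_G [Finite G] (hS : Cfsg.IsRankOneSetup G Ω a t Q) :
    Nat.card G = Nat.card Q * Nat.card ↥(stabilizer G a ⊓ stabilizer G (t • a)) *
      (Nat.card Q + 1) := by
  have := ro_pretransitive hS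
  rw [← Subgroup.card_mul_index (stabilizer G a), index_stabilizer_of_transitive G a,
    ro_card_stab hS, ro_card_Omega hS]

/-- `|Q| + 1` is odd. -/
theorem ro_odd_succ (hS : Cfsg.IsRankOneSetup G Ω a t Q) : Odd (Nat.card Q + 1) :=
  hS.even_card.add_one

theorem ro_exists_sylow [Finite G] (hS : Cfsg.IsRankOneSetup G Ω a t Q) :
    ∃ P : Sylow 2 G, (P : Subgroup G) ≤ Q := by
  have : Fact (Nat.Prime 2) := ⟨Nat.prime_two⟩
  obtain ⟨P₀⟩ : Nonempty (Sylow 2 Q) := inferInstance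
  have hcard : Nat.card ((P₀ : Subgroup Q).map Q.subtype) = 2 ^ (Nat.card G).factorization 2 := by
    rw [Subgroup.card_subtype, Sylow.card_eq_multiplicity, ro_card_G hS]
    congr 1
    have hQ0 : Nat.card Q ≠ 0 := Nat.card_pos.ne'
    have hD0 : Nat.card ↥(stabilizer G a ⊓ stabilizer G (t • a)) ≠ 0 := Nat.card_pos.ne'
    rw [Nat.factorization_mul (mul_ne_zero hQ0 hD0) (Nat.succ_ne_zero _),
      Nat.factorization_mul hQ0 hD0]
    have h1 : (Nat.card ↥(stabilizer G a ⊓ stabilizer G (t • a))).factorization 2 = 0 := by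
      apply Nat.factorization_eq_zero_of_not_dvd
      rw [← even_iff_two_dvd, Nat.not_even_iff_odd]
      exact hS.odd_card
    have h2 : (Nat.card Q + 1).factorization 2 = 0 := by
      apply Nat.factorization_eq_zero_of_not_dvd
      rw [← even_iff_two_dvd, Nat.not_even_iff_odd]
      exact ro_odd_succ hS
    rw [Finsupp.add_apply, Finsupp.add_apply, h1, h2, add_zero, add_zero]
  refine ⟨Sylow.ofCard _ hcard, ?_⟩
  show (P₀ : Subgroup Q).map Q.subtype ≤ Q
  exact Subgroup.map_subtype_le _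

/-- Canonical form of the elements outside `G_a`. -/
theorem ro_canonical (hS : Cfsg.IsRankOneSetup G Ω a t Q) {g : G} (hg : g ∉ stabilizer G a) :
    ∃! p : G × G, p.1 ∈ stabilizer G a ∧ p.2 ∈ Q ∧ g = p.1 * t * p.2 := by
  have hga : g⁻¹ • a ≠ a := by
    intro h
    apply hg
    rw [mem_stabilizer_iff]
    rw [inv_smul_eq_iff] at h
    exact h.symm
  obtain ⟨⟨y, hy⟩, hy1, hy2⟩ := ro_Q_regular hS hga (ro_ta_ne hS)
  have hy1' : y • g⁻¹ • a = t • a := hy1
  refine ⟨(g * y⁻¹ * t⁻¹, y), ⟨?_, hy, by group⟩, ?_⟩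
  · show g * y⁻¹ * t⁻¹ ∈ stabilizer G a
    rw [mem_stabilizer_iff, mul_smul, mul_smul, ro_t_inv hS]
    have : y⁻¹ • t • a = g⁻¹ • a := by rw [inv_smul_eq_iff]; exact hy1'.symm
    rw [this, smul_inv_smul]
  · rintro ⟨x', y'⟩ ⟨hx', hy', hgxy⟩
    simp only at hx' hy' hgxy
    have h1 : y' • g⁻¹ • a = t • a := by
      rw [hgxy]
      have : (x' * t * y')⁻¹ = y'⁻¹ * t⁻¹ * x'⁻¹ := by group
      rw [this, mul_smul, mul_smul, smul_inv_smul, ro_t_inv hS]
      have : x'⁻¹ • a = a := by rw [inv_smul_eq_iff]; exact (mem_stabilizer_iff.mp hx').symm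
      rw [this]
    have h2 := hy2 ⟨y', hy'⟩ h1
    have h3 : y' = y := congrArg Subtype.val h2
    subst h3
    have : x' = g * y'⁻¹ * t⁻¹ := by rw [hgxy]; group
    rw [this]

end

end Cfsg.Agent.Lib.Helper25
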