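import Mathlib
import Cfsg.Prelude.Def_LieRecognition
import Cfsg.Agent.Lib.Helper25.RankOneCard

set_option autoImplicit false
set_option linter.unusedSectionVars false

namespace Cfsg.Agent.Lib.Helper25

open MulAction

section Dihedral
variable {G : Type*} [Group G]

theorem inv_of_mul_self {s : G} (hs : s * s = 1) : s⁻¹ = s := inv_eq_of_mul_eq_one_right hs

/-- `s` inverts `s * u` when both are involutions. -/
theorem dih_conj_s {s u : G} (hs : s * s = 1) (hu : u * u = 1) :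
    s * (s * u) * s⁻¹ = (s * u)⁻¹ := by
  rw [mul_inv_rev, inv_of_mul_self hs, inv_of_mul_self hu, ← mul_assoc s s, hs, one_mul]

theorem dih_conj_u {s u : G} (hs : s * s = 1) (hu : u * u = 1) :
    u * (s * u) * u⁻¹ = (s * u)⁻¹ := by
  rw [mul_inv_rev, inv_of_mul_self hs, inv_of_mul_self hu, mul_assoc, mul_assoc, hu, mul_one]

theorem dih_conj_s_pow {s u : G} (hs : s * s = 1) (hu : u * u = 1) (m : ℕ) :
    s * (s * u) ^ m * s⁻¹ = ((s * u) ^ m)⁻¹ := by
  rw [← conj_pow, dih_conj_s hs hu, inv_pow]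

theorem dih_conj_u_pow {s u : G} (hs : s * s = 1) (hu : u * u = 1) (m : ℕ) :
    u * (s * u) ^ m * u⁻¹ = ((s * u) ^ m)⁻¹ := by
  rw [← conj_pow, dih_conj_u hs hu, inv_pow]

/-- If `s u` has even (non-zero) order, some involution commutes with both `s` and `u`. -/
theorem dih_even_central {s u : G} (hs : s * s = 1) (hu : u * u = 1)
    (hpos : 0 < orderOf (s * u)) (he : Even (orderOf (s * u))) :
    ∃ z : G, z ≠ 1 ∧ z * z = 1 ∧ s * z = z * s ∧ u * z = z * u := by
  obtain ⟨m, hm⟩ := he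
  have hm0 : m ≠ 0 := by
    rintro rfl
    rw [add_zero] at hm
    omega
  refine ⟨(s * u) ^ m, ?_, ?_, ?_, ?_⟩
  · apply pow_ne_one_of_lt_orderOf hm0
    omega
  · rw [← pow_add, ← hm, pow_orderOf_eq_one]
  · have hz : ((s * u) ^ m)⁻¹ = (s * u) ^ m := by
      apply inv_eq_of_mul_eq_one_right
      rw [← pow_add, ← hm, pow_orderOf_eq_one]
    have := dih_conj_s_pow hs hu m
    rw [hz] at this
    calc s * (s * u) ^ m = s * (s * u) ^ m * s⁻¹ * s := by group
      _ = (s * u) ^ m * s := by rw [this]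
  · have hz : ((s * u) ^ m)⁻¹ = (s * u) ^ m := by
      apply inv_eq_of_mul_eq_one_right
      rw [← pow_add, ← hm, pow_orderOf_eq_one]
    have := dih_conj_u_pow hs hu m
    rw [hz] at this
    calc u * (s * u) ^ m = u * (s * u) ^ m * u⁻¹ * u := by group
      _ = (s * u) ^ m * u := by rw [this]

/-- If `(s u)^(2m+1) = 1` then `(s u)^m s` is an element of square one conjugating `s` to `u`. -/
theorem dih_odd_mid {s u : G} (hs : s * s = 1) (hu : u * u = 1) {m : ℕ}
    (hm : (s * u) ^ (2 * m + 1) = 1) :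
    ((s * u) ^ m * s) * ((s * u) ^ m * s) = 1 ∧
      ((s * u) ^ m * s) * s * ((s * u) ^ m * s) = u := by
  have h1 : s * (s * u) ^ m = ((s * u) ^ m)⁻¹ * s := by
    have := dih_conj_s_pow hs hu m
    calc s * (s * u) ^ m = s * (s * u) ^ m * s⁻¹ * s := by group
      _ = ((s * u) ^ m)⁻¹ * s := by rw [this]
  constructor
  · calc (s * u) ^ m * s * ((s * u) ^ m * s) = (s * u) ^ m * (s * (s * u) ^ m) * s := by group
      _ = (s * u) ^ m * (((s * u) ^ m)⁻¹ * s) * s := by rw [h1]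
      _ = s * s := by group
      _ = 1 := hs
  · have h2 : (s * u) ^ m * (s * u) ^ m = (s * u)⁻¹ := by
      apply eq_inv_of_mul_eq_one_left
      rw [← pow_add, ← pow_succ, ← hm]
      congr 1
      ring
    calc (s * u) ^ m * s * s * ((s * u) ^ m * s)
        = (s * u) ^ m * (s * s) * ((s * u) ^ m * s) := by group
      _ = (s * u) ^ m * (s * u) ^ m * s := by rw [hs]; group
      _ = (s * u)⁻¹ * s := by rw [h2]
      _ = u⁻¹ * (s⁻¹ * s) := by group
      _ = u := by rw [inv_mul_cancel, mul_one, inv_of_mul_self hu]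

end Dihedral

section
variable {G Ω : Type*} [Group G] [Finite G] [MulAction G Ω] {a : Ω} {t : G} {Q : Subgroup G}

/-- An element of `D` of square one is trivial. -/
theorem ro_D_sq (hS : Cfsg.IsRankOneSetup G Ω a t Q) {d : G}
    (hd : d ∈ stabilizer G a ⊓ stabilizer G (t • a)) (hdd : d * d = 1) : d = 1 := by
  have h1 : orderOf d ∣ 2 := orderOf_dvd_of_pow_eq_one (by rw [pow_two]; exact hdd)
  have h2 : orderOf d ∣ Nat.card ↥(stabilizer G a ⊓ stabilizer G (t • a)) :=
    Subgroup.orderOf_dvd_natCard _ hd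
  have h3 := Nat.dvd_gcd h1 h2
  rw [Nat.coprime_two_left.mpr hS.odd_card] at h3
  exact orderOf_eq_one_iff.mp (Nat.dvd_one.mp h3)

/-- Elements of square one in `G_a` lie in `Q`. -/
theorem ro_invol_mem_Q (hS : Cfsg.IsRankOneSetup G Ω a t Q) {s : G} (hs : s ∈ stabilizer G a)
    (hss : s * s = 1) : s ∈ Q := by
  obtain ⟨x, hx, d, hd, rfl⟩ := ro_mem_QD hS hs
  have h1 : d * d = (d * x⁻¹ * d⁻¹) * x⁻¹ := by
    have : d * d = (d * x⁻¹ * d⁻¹) * x⁻¹ * (x * d * (x * d)) := by group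
    rw [this, hss, mul_one]
  have h2 : d * d ∈ Q := by
    rw [h1]
    exact Q.mul_mem (hS.conj_mem d hd.1 _ (Q.inv_mem hx)) (Q.inv_mem hx)
  have h3 : d * d = 1 := ro_Q_inf_D hS h2 (Subgroup.mul_mem _ hd hd)
  rw [ro_D_sq hS hd h3, mul_one]
  exact hx

/-- An involution fixing `a` fixes no other point. -/
theorem ro_invol_fix_only (hS : Cfsg.IsRankOneSetup G Ω a t Q) {s : G} (hs : s ∈ stabilizer G a)
    (hs1 : s ≠ 1) (hss : s * s = 1) {c : Ω} (hc : s • c = c) : c = a :=
  ro_Q_fix_only hS (ro_invol_mem_Q hS hs hss) hs1 hc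

/-- `|Ω|` is odd. -/
theorem ro_odd_Omega (hS : Cfsg.IsRankOneSetup G Ω a t Q) : Odd (Nat.card Ω) := by
  rw [ro_card_Omega hS]; exact ro_odd_succ hS

/-- Every element of square one fixes a point. -/
theorem ro_invol_exists_fixed (hS : Cfsg.IsRankOneSetup G Ω a t Q) {u : G} (huu : u * u = 1) :
    ∃ c : Ω, u • c = c := by
  have : Fact (Nat.Prime 2) := ⟨Nat.prime_two⟩
  have := ro_finite_Omega hS
  have hp : IsPGroup 2 (Subgroup.zpowers u) := by
    by_cases hu1 : u = 1
    · apply IsPGroup.of_card (n := 0)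
      rw [Nat.card_zpowers, hu1, orderOf_one, pow_zero]
    · apply IsPGroup.of_card (n := 1)
      rw [Nat.card_zpowers, pow_one]
      exact orderOf_eq_prime (by rw [pow_two]; exact huu) hu1
  have h := hp.card_modEq_card_fixedPoints Ω
  have hodd := ro_odd_Omega hS
  have h2 : Nat.card ↑(fixedPoints (Subgroup.zpowers u) Ω) ≠ 0 := by
    intro h0
    rw [h0] at h
    have : Nat.card Ω % 2 = 0 := h
    rw [Nat.odd_iff] at hodd
    omega
  have h3 : Nonempty ↑(fixedPoints (Subgroup.zpowers u) Ω) := by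
    by_contra hne
    rw [not_nonempty_iff] at hne
    exact h2 Nat.card_of_isEmpty
  obtain ⟨c, hc⟩ := h3
  rw [mem_fixedPoints] at hc
  exact ⟨c, hc ⟨u, Subgroup.mem_zpowers u⟩⟩

/-- An involution has exactly one fixed point. -/
theorem ro_invol_unique_fixed (hS : Cfsg.IsRankOneSetup G Ω a t Q) {u : G} (hu1 : u ≠ 1)
    (huu : u * u = 1) {c d : Ω} (hc : u • c = c) (hd : u • d = d) : c = d := by
  have := ro_pretransitive hS
  obtain ⟨g, rfl⟩ := exists_smul_eq G a c
  have h1 : g⁻¹ * u * g ∈ stabilizer G a := by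
    rw [mem_stabilizer_iff, mul_smul, mul_smul, hc, inv_smul_smul]
  have h2 : g⁻¹ * u * g ≠ 1 := by
    intro h
    apply hu1
    have : u = g * (g⁻¹ * u * g) * g⁻¹ := by group
    rw [this, h]; group
  have h3 : (g⁻¹ * u * g) * (g⁻¹ * u * g) = 1 := by
    have : (g⁻¹ * u * g) * (g⁻¹ * u * g) = g⁻¹ * (u * u) * g := by group
    rw [this, huu]; group
  have h4 : (g⁻¹ * u * g) • (g⁻¹ • d) = g⁻¹ • d := by
    rw [mul_smul, mul_smul, smul_inv_smul, hd]
  have h5 := ro_invol_fix_only hS h1 h2 h3 h4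
  rw [inv_smul_eq_iff] at h5
  exact h5.symm

/-- If `s` is an involution fixing `a` and `u` an involution moving `a`, then `s u` has odd order. -/
theorem ro_invol_mul_odd (hS : Cfsg.IsRankOneSetup G Ω a t Q) {s u : G} (hs : s ∈ stabilizer G a)
    (hs1 : s ≠ 1) (hss : s * s = 1) (hu : u ∉ stabilizer G a) (huu : u * u = 1) :
    Odd (orderOf (s * u)) := by
  rw [← Nat.not_even_iff_odd]
  intro he
  obtain ⟨z, hz1, hzz, hsz, huz⟩ := dih_even_central hss huu (orderOf_pos _) he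
  have hza : z • a = a := by
    apply ro_invol_fix_only hS hs hs1 hss
    rw [← mul_smul, hsz, mul_smul, mem_stabilizer_iff.mp hs]
  have hua : u • a = a := by
    apply ro_invol_fix_only hS (mem_stabilizer_iff.mpr hza) hz1 hzz
    rw [← mul_smul, ← huz, mul_smul, hza]
  exact hu (mem_stabilizer_iff.mpr hua)

/-- Involutions `s ∈ G_a`, `u ∉ G_a` are conjugate by an element `w` of square one. -/
theorem ro_invol_mid (hS : Cfsg.IsRankOneSetup G Ω a t Q) {s u : G} (hs : s ∈ stabilizer G a)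
    (hs1 : s ≠ 1) (hss : s * s = 1) (hu : u ∉ stabilizer G a) (huu : u * u = 1) :
    ∃ w : G, w * w = 1 ∧ w * s * w = u ∧ ∀ c : G, c * s = s * c → c * u = u * c → c * w = w * c := by
  obtain ⟨m, hm⟩ := ro_invol_mul_odd hS hs hs1 hss hu huu
  have hpow : (s * u) ^ (2 * m + 1) = 1 := by rw [← hm]; exact pow_orderOf_eq_one _
  obtain ⟨h1, h2⟩ := dih_odd_mid hss huu hpow
  refine ⟨(s * u) ^ m * s, h1, h2, ?_⟩
  intro c hcs hcu
  have hcsu : Commute c (s * u) := (show Commute c s from hcs).mul_right (show Commute c u from hcu)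
  exact ((hcsu.pow_right m).mul_right (show Commute c s from hcs)).eq

/-- Every involution is conjugate to `t`. -/
theorem ro_invol_conj_t (hS : Cfsg.IsRankOneSetup G Ω a t Q) {u : G} (hu1 : u ≠ 1)
    (huu : u * u = 1) : ∃ g : G, g * u * g⁻¹ = t := by
  have := ro_pretransitive hS
  obtain ⟨c, hc⟩ := ro_invol_exists_fixed hS huu
  obtain ⟨g, rfl⟩ := exists_smul_eq G a c
  have h1 : g⁻¹ * u * g ∈ stabilizer G a := by
    rw [mem_stabilizer_iff, mul_smul, mul_smul, hc, inv_smul_smul]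
  have h2 : g⁻¹ * u * g ≠ 1 := by
    intro h
    apply hu1
    have : u = g * (g⁻¹ * u * g) * g⁻¹ := by group
    rw [this, h]; group
  have h3 : (g⁻¹ * u * g) * (g⁻¹ * u * g) = 1 := by
    have : (g⁻¹ * u * g) * (g⁻¹ * u * g) = g⁻¹ * (u * u) * g := by group
    rw [this, huu]; group
  obtain ⟨w, hww, hw, -⟩ := ro_invol_mid hS h1 h2 h3 hS.not_mem hS.mul_self
  refine ⟨w * g⁻¹, ?_⟩
  rw [← hw]
  have : w⁻¹ = w := inv_of_mul_self hww
  calc w * g⁻¹ * u * (w * g⁻¹)⁻¹ = w * (g⁻¹ * u * g) * w⁻¹ := by group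
    _ = w * (g⁻¹ * u * g) * w := by rw [this]

end

end Cfsg.Agent.Lib.Helper25
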