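import Mathlib

/-!
# Verified coset-enumeration certificates (helper25)

A certificate is a list of "facts" about nodes (coset representatives defined by a tree):
* kind 0 (`E`): `(rep v)⁻¹ * gen x * rep u ∈ H`
* kind 1 (`Q`): `(rep v)⁻¹ * rep u ∈ H`
each justified either by definition of `v` in the tree, or by a closed walk through earlier
facts whose word is a relator (or, from node `0`, a subgroup generator).
All generators are involutions.  Words are in "acting order": `evr [x₁,x₂,…] = … * gen x₂ * gen x₁`.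
-/

set_option autoImplicit false

namespace Cfsg.Agent.Lib.Helper25.TC

/-- binary trie of natural numbers (chunk store), addressed by the bits of the index, low bit first -/
inductive BT where
  | leaf (v : Nat) : BT
  | node (l r : BT) : BT

/-- lookup in the trie -/
def BT.get : BT → Nat → Nat
  | .leaf v, _ => v
  | .node l r, c => bif Nat.beq (Nat.land c 1) 0 then l.get (Nat.shiftRight c 1) else r.get (Nat.shiftRight c 1)

/-- field extraction: `w`-bit field at bit offset `off` of `r`, `msk = 2^w-1` -/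
def fld (r off msk : Nat) : Nat := Nat.land (Nat.shiftRight r off) msk

/-- packed table lookup: entry `idx` of width `w` (mask `wm`), `2^b` entries per chunk (`bm = 2^b-1`) -/
def tget (t : BT) (w wm b bm : Nat) (idx : Nat) : Nat :=
  Nat.land (Nat.shiftRight (t.get (Nat.shiftRight idx b)) (Nat.mul w (Nat.land idx bm))) wm

/-- force evaluation of a natural number before continuing (for kernel reduction) -/
def seqNat {β : Type} (a : Nat) (f : Nat → β) : β :=
  match a with
  | 0 => f 0
  | Nat.succ m => f (Nat.succ m)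

theorem seqNat_eq {β : Type} (a : Nat) (f : Nat → β) : seqNat a f = f a := by
  cases a <;> rfl

/-- `allR f d lo`: `f` holds on `[lo, lo + 2^d)` -/
def allR (f : Nat → Bool) : Nat → Nat → Bool
  | 0, lo => f lo
  | d+1, lo => allR f d lo && seqNat (Nat.add lo (Nat.pow 2 d)) (fun lo' => allR f d lo')

theorem allR_spec (f : Nat → Bool) : ∀ (d lo : Nat), allR f d lo = true →
    ∀ i, lo ≤ i → i < lo + 2^d → f i = true := by
  intro d
  induction d with
  | zero =>
    intro lo h i h1 h2
    have : i = lo := by simp at h2; omega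
    subst this; simpa [allR] using h
  | succ d ih =>
    intro lo h i h1 h2
    simp only [allR, Bool.and_eq_true, seqNat_eq] at h
    have e : Nat.add lo (Nat.pow 2 d) = lo + 2^d := rfl
    rw [e] at h
    rw [pow_succ] at h2
    by_cases hi : i < lo + 2^d
    · exact ih lo h.1 i h1 hi
    · exact ih (lo + 2^d) h.2 i (by omega) (by omega)

theorem allR_join (f : Nat → Bool) (d lo lo' : Nat) (hlo : lo + 2^d = lo') (h1 : allR f d lo = true)
    (h2 : allR f d lo' = true) : allR f (d+1) lo = true := by
  subst hlo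
  simp only [allR, Bool.and_eq_true, seqNat_eq]
  exact ⟨h1, h2⟩

theorem all_lt_pow (f : Nat → Bool) (n d : Nat) (hn : n ≤ 2^d) (h : allR f d 0 = true) :
    ∀ i < n, f i = true := by
  intro i hi
  exact allR_spec f d 0 h i (Nat.zero_le _) (by omega)

/-- `allBelow f n d`: `f` holds below `n` provided `n ≤ 2^d` -/
theorem all_below (f : Nat → Bool) (n d : Nat) (hn : n ≤ 2^d)
    (h : allR (fun i => Nat.ble n i || f i) d 0 = true) : ∀ i < n, f i = true := by
  intro i hi
  have := allR_spec _ d 0 h i (Nat.zero_le _) (by omega)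
  simp only [Bool.or_eq_true] at this
  rcases this with h1 | h1
  · have := Nat.le_of_ble_eq_true h1; omega
  · exact h1

section Group
variable {G : Type*} [Group G]

/-- product along a word in acting order -/
def evr (gen : Nat → G) : List Nat → G
  | [] => 1
  | x :: a => evr gen a * gen x

theorem evr_append (gen : Nat → G) (a b : List Nat) : evr gen (a ++ b) = evr gen b * evr gen a := by
  induction a with
  | nil => simp [evr]
  | cons x a ih => simp [evr, ih, mul_assoc]

/-- the certificate data: packed records.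
* `nd u`  = `pp | pg <<< wN`
* `fp f`  = `K | X <<< 1 | U <<< 5 | V <<< (5+wN)`
* `fj f`  = `R | M <<< wR | L <<< (wR+wL) | S <<< (wR+2wL) | O <<< (wR+2wL+wN)`
* `st o`  = `2 * fact + dir` -/
structure Cert where
  cyc : List (List Nat)
  ns : Nat
  nd : Nat → Nat
  fp : Nat → Nat
  fj : Nat → Nat
  st : Nat → Nat
  wN : Nat
  wR : Nat
  wL : Nat
  wO : Nat

/-- mask of width `w` -/
def msk (w : Nat) : Nat := Nat.sub (Nat.pow 2 w) 1

/-- field accessors on records -/
def rK (r : Nat) : Nat := fld r 0 1
def rX (r : Nat) : Nat := fld r 1 15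
def rU (wN r : Nat) : Nat := fld r 5 (msk wN)
def rV (wN r : Nat) : Nat := fld r (Nat.add 5 wN) (msk wN)

def Cert.pp (C : Cert) (u : Nat) : Nat := fld (C.nd u) 0 (msk C.wN)
def Cert.pg (C : Cert) (u : Nat) : Nat := fld (C.nd u) C.wN 15
def Cert.fK (C : Cert) (f : Nat) : Nat := rK (C.fp f)
def Cert.fX (C : Cert) (f : Nat) : Nat := rX (C.fp f)
def Cert.fU (C : Cert) (f : Nat) : Nat := rU C.wN (C.fp f)
def Cert.fV (C : Cert) (f : Nat) : Nat := rV C.wN (C.fp f)
def jR (C : Cert) (j : Nat) : Nat := fld j 0 (msk C.wR)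
def jM (C : Cert) (j : Nat) : Nat := fld j C.wR (msk C.wL)
def jL (C : Cert) (j : Nat) : Nat := fld j (Nat.add C.wR C.wL) (msk C.wL)
def jS (C : Cert) (j : Nat) : Nat := fld j (Nat.add (Nat.add C.wR C.wL) C.wL) (msk C.wN)
def jO (C : Cert) (j : Nat) : Nat := fld j (Nat.add (Nat.add (Nat.add C.wR C.wL) C.wL) C.wN) (msk C.wO)
def Cert.fR (C : Cert) (f : Nat) : Nat := jR C (C.fj f)
def Cert.fM (C : Cert) (f : Nat) : Nat := jM C (C.fj f)
def Cert.fL (C : Cert) (f : Nat) : Nat := jL C (C.fj f)
def Cert.fS (C : Cert) (f : Nat) : Nat := jS C (C.fj f)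
def Cert.fO (C : Cert) (f : Nat) : Nat := jO C (C.fj f)

variable (gen : Nat → G) (C : Cert)

/-- coset representative of a node, by recursion along the definition tree -/
noncomputable def rep : Nat → G
  | 0 => 1
  | (j+1) => if _h : C.pp (j+1) < j+1 then gen (C.pg (j+1)) * rep (C.pp (j+1)) else 1
termination_by j => j
decreasing_by exact _h

theorem rep_zero : rep gen C 0 = 1 := by rw [rep]

theorem rep_succ (j : Nat) (hj : 0 < j) (h : C.pp j < j) :
    rep gen C j = gen (C.pg j) * rep gen C (C.pp j) := by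
  obtain ⟨j, rfl⟩ : ∃ m, j = m + 1 := ⟨j - 1, by omega⟩
  rw [rep]; simp [h]

/-- label of a fact -/
def lab (f : Nat) : G := if C.fK f = 0 then gen (C.fX f) else 1

/-- letters contributed by a fact -/
def letters (f : Nat) : List Nat := bif Nat.beq (C.fK f) 0 then [C.fX f] else []

theorem evr_letters (f : Nat) : evr gen (letters C f) = lab gen C f := by
  unfold letters lab
  by_cases h : C.fK f = 0
  · simp [h, evr]
  · have : Nat.beq (C.fK f) 0 = false := by
      cases hb : Nat.beq (C.fK f) 0
      · rfl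
      · exact absurd (Nat.eq_of_beq_eq_true hb) h
    simp [h, this, evr]

def Valid (H : Subgroup G) (f : Nat) : Prop :=
  (rep gen C (C.fV f))⁻¹ * lab gen C f * rep gen C (C.fU f) ∈ H

/-- source of step `e` -/
def stSrc (e : Nat) : Nat := bif Nat.beq (Nat.land e 1) 0 then C.fU (Nat.shiftRight e 1) else C.fV (Nat.shiftRight e 1)
/-- destination of step `e` -/
def stDst (e : Nat) : Nat := bif Nat.beq (Nat.land e 1) 0 then C.fV (Nat.shiftRight e 1) else C.fU (Nat.shiftRight e 1)

/-- consistency of a path of `len` steps starting at offset `o` from node `c`, all premises `< bound` -/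
def pathOk (bound : Nat) : Nat → Nat → Nat → Bool
  | 0, _, _ => true
  | len+1, o, c =>
      Nat.blt (Nat.shiftRight (C.st o) 1) bound && Nat.beq c (stSrc C (C.st o)) &&
        pathOk bound len (o+1) (stDst C (C.st o))

/-- end node of a path -/
def pathEnd : Nat → Nat → Nat → Nat
  | 0, _, c => c
  | len+1, o, _ => pathEnd len (o+1) (stDst C (C.st o))

/-- word of a path -/
def pathWord : Nat → Nat → List Nat
  | 0, _ => []
  | len+1, o => letters C (Nat.shiftRight (C.st o) 1) ++ pathWord len (o+1)

theorem lab_mul_self (hinv : ∀ x, gen x * gen x = 1) (f : Nat) : lab gen C f * lab gen C f = 1 := by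
  unfold lab; split_ifs <;> simp [hinv]

theorem lab_inv (hinv : ∀ x, gen x * gen x = 1) (f : Nat) : (lab gen C f)⁻¹ = lab gen C f :=
  inv_eq_of_mul_eq_one_left (lab_mul_self gen C hinv f)

theorem step_sound (H : Subgroup G) (hinv : ∀ x, gen x * gen x = 1) (e : Nat)
    (hv : Valid gen C H (Nat.shiftRight e 1)) :
    (rep gen C (stDst C e))⁻¹ * lab gen C (Nat.shiftRight e 1) * rep gen C (stSrc C e) ∈ H := by
  unfold stSrc stDst
  cases hb : Nat.beq (Nat.land e 1) 0
  · -- backward
    simp only [cond_false]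
    have := H.inv_mem hv
    have e1 : ((rep gen C (C.fV (Nat.shiftRight e 1)))⁻¹ * lab gen C (Nat.shiftRight e 1) *
        rep gen C (C.fU (Nat.shiftRight e 1)))⁻¹ =
        (rep gen C (C.fU (Nat.shiftRight e 1)))⁻¹ * lab gen C (Nat.shiftRight e 1) *
        rep gen C (C.fV (Nat.shiftRight e 1)) := by
      rw [mul_inv_rev, mul_inv_rev, inv_inv, lab_inv gen C hinv, mul_assoc]
    rwa [e1] at this
  · simp only [cond_true]
    exact hv

theorem path_sound (H : Subgroup G) (hinv : ∀ x, gen x * gen x = 1) (bound : Nat)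
    (hv : ∀ g < bound, Valid gen C H g) :
    ∀ (len o c : Nat), pathOk C bound len o c = true →
      (rep gen C (pathEnd C len o c))⁻¹ * evr gen (pathWord C len o) * rep gen C c ∈ H := by
  intro len
  induction len with
  | zero =>
    intro o c _
    simp [pathEnd, pathWord, evr]
  | succ len ih =>
    intro o c h
    simp only [pathOk, Bool.and_eq_true] at h
    obtain ⟨⟨h1, h2⟩, h3⟩ := h
    have hlt : Nat.shiftRight (C.st o) 1 < bound := by
      have := Nat.le_of_ble_eq_true h1
      exact this
    have hc : c = stSrc C (C.st o) := Nat.eq_of_beq_eq_true h2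
    have hs := step_sound gen C H hinv (C.st o) (hv _ hlt)
    have hr := ih (o+1) (stDst C (C.st o)) h3
    simp only [pathEnd, pathWord]
    rw [evr_append, evr_letters, hc]
    have := H.mul_mem hr hs
    have e1 : (rep gen C (pathEnd C len (o + 1) (stDst C (C.st o))))⁻¹ * evr gen (pathWord C len (o + 1)) *
        rep gen C (stDst C (C.st o)) *
        ((rep gen C (stDst C (C.st o)))⁻¹ * lab gen C (Nat.shiftRight (C.st o) 1) * rep gen C (stSrc C (C.st o))) =
        (rep gen C (pathEnd C len (o + 1) (stDst C (C.st o))))⁻¹ *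
        (evr gen (pathWord C len (o + 1)) * lab gen C (Nat.shiftRight (C.st o) 1)) * rep gen C (stSrc C (C.st o)) := by
      group
    rwa [e1] at this

/-- the per-fact check -/
def chkFact (f : Nat) : Bool :=
  bif Nat.ble C.cyc.length (C.fR f) then
    -- definition fact
    Nat.beq (C.fK f) 0 && Nat.beq (C.pp (C.fV f)) (C.fU f) && Nat.beq (C.pg (C.fV f)) (C.fX f) &&
      Nat.blt (C.fU f) (C.fV f)
  else
    Nat.ble (C.fM f) (C.fL f) &&
    pathOk C f (C.fM f) (C.fO f) (C.fS f) &&
    Nat.beq (pathEnd C (C.fM f) (C.fO f) (C.fS f)) (C.fU f) &&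
    pathOk C f (C.fL f - C.fM f) (C.fO f + C.fM f) (C.fV f) &&
    Nat.beq (pathEnd C (C.fL f - C.fM f) (C.fO f + C.fM f) (C.fV f)) (C.fS f) &&
    (pathWord C (C.fM f) (C.fO f) ++ (letters C f ++ pathWord C (C.fL f - C.fM f) (C.fO f + C.fM f))
      == C.cyc.getD (C.fR f) []) &&
    (Nat.ble C.ns (C.fR f) || Nat.beq (C.fS f) 0)

theorem fact_sound (H : Subgroup G) (hinv : ∀ x, gen x * gen x = 1)
    (hrel : ∀ ρ, C.ns ≤ ρ → ρ < C.cyc.length → evr gen (C.cyc.getD ρ []) = 1)
    (hsub : ∀ ρ, ρ < C.ns → evr gen (C.cyc.getD ρ []) ∈ H)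
    (f : Nat) (hchk : chkFact C f = true) (hv : ∀ g < f, Valid gen C H g) : Valid gen C H f := by
  unfold chkFact at hchk
  cases hb : Nat.ble C.cyc.length (C.fR f)
  · -- walk fact
    rw [hb] at hchk
    simp only [cond_false, Bool.and_eq_true, Bool.or_eq_true] at hchk
    obtain ⟨⟨⟨⟨⟨⟨h1, h2⟩, h3⟩, h4⟩, h5⟩, h6⟩, h7⟩ := hchk
    have hρ : C.fR f < C.cyc.length := by
      by_contra hc
      have : Nat.ble C.cyc.length (C.fR f) = true := Nat.ble_eq_true_of_le (by omega)
      rw [this] at hb; exact Bool.noConfusion hb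
    have p1 := path_sound gen C H hinv f hv _ _ _ h2
    have p2 := path_sound gen C H hinv f hv _ _ _ h4
    rw [Nat.eq_of_beq_eq_true h3] at p1
    rw [Nat.eq_of_beq_eq_true h5] at p2
    have hw : pathWord C (C.fM f) (C.fO f) ++ (letters C f ++ pathWord C (C.fL f - C.fM f) (C.fO f + C.fM f))
        = C.cyc.getD (C.fR f) [] := by simpa using h6
    -- cycle element
    have hcyc : (rep gen C (C.fS f))⁻¹ * evr gen (C.cyc.getD (C.fR f) []) * rep gen C (C.fS f) ∈ H := by
      rcases h7 with h7 | h7
      · have := Nat.le_of_ble_eq_true h7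
        rw [hrel _ this hρ]; simp
      · have hs0 : C.fS f = 0 := Nat.eq_of_beq_eq_true h7
        by_cases hns : C.ns ≤ C.fR f
        · rw [hrel _ hns hρ]; simp
        · rw [hs0, rep_zero]; simpa using hsub _ (by omega)
    rw [← hw, evr_append, evr_append, evr_letters] at hcyc
    unfold Valid
    set A := evr gen (pathWord C (C.fM f) (C.fO f)) with hA
    set B := evr gen (pathWord C (C.fL f - C.fM f) (C.fO f + C.fM f)) with hB
    set rs := rep gen C (C.fS f)
    set ru := rep gen C (C.fU f)
    set rv := rep gen C (C.fV f)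
    set L := lab gen C f
    -- p1 : ru⁻¹ * A * rs ∈ H ; p2 : rs⁻¹ * B * rv ∈ H ; hcyc : rs⁻¹ * (B * L * A) * rs ∈ H
    have := H.mul_mem (H.mul_mem (H.inv_mem p2) hcyc) (H.inv_mem p1)
    have e1 : (rs⁻¹ * B * rv)⁻¹ * (rs⁻¹ * (B * L * A) * rs) * (ru⁻¹ * A * rs)⁻¹ = rv⁻¹ * L * ru := by
      group
    rwa [e1] at this
  · -- definition fact
    rw [hb] at hchk
    simp only [cond_true, Bool.and_eq_true] at hchk
    obtain ⟨⟨⟨h1, h2⟩, h3⟩, h4⟩ := hchk
    have hK : C.fK f = 0 := Nat.eq_of_beq_eq_true h1
    have hpp : C.pp (C.fV f) = C.fU f := Nat.eq_of_beq_eq_true h2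
    have hpg : C.pg (C.fV f) = C.fX f := Nat.eq_of_beq_eq_true h3
    have hlt : C.fU f < C.fV f := Nat.le_of_ble_eq_true h4
    unfold Valid lab
    rw [rep_succ gen C (C.fV f) (by omega) (by omega), hpp, hpg]
    simp [hK]

theorem all_valid (H : Subgroup G) (hinv : ∀ x, gen x * gen x = 1)
    (hrel : ∀ ρ, C.ns ≤ ρ → ρ < C.cyc.length → evr gen (C.cyc.getD ρ []) = 1)
    (hsub : ∀ ρ, ρ < C.ns → evr gen (C.cyc.getD ρ []) ∈ H)
    (nF : Nat) (hchk : ∀ f < nF, chkFact C f = true) : ∀ f < nF, Valid gen C H f := by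
  intro f
  induction f using Nat.strong_induction_on with
  | _ f ih =>
    intro hf
    exact fact_sound gen C H hinv hrel hsub f (hchk f hf) (fun g hg => ih g hg (by omega))

end Group

/-! ### fast one-pass checker (for kernel evaluation) and its refinement proof -/

/-- one-pass walk: checks a path of `len` steps from offset `o` and node `c`, consuming the expected
word `w`; continues with `k endnode remainingword` -/
def walk (C : Cert) (bound : Nat) : Nat → Nat → Nat → List Nat → (Nat → List Nat → Bool) → Bool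
  | 0, _, c, w, k => k c w
  | len+1, o, c, w, k =>
    seqNat (C.st o) fun e =>
    seqNat (C.fp (Nat.shiftRight e 1)) fun r =>
      Nat.blt (Nat.shiftRight e 1) bound &&
      Nat.beq c (bif Nat.beq (Nat.land e 1) 0 then rU C.wN r else rV C.wN r) &&
      (bif Nat.beq (rK r) 0 then
        (match w with
          | [] => false
          | y :: w' => Nat.beq y (rX r) &&
              seqNat (Nat.add o 1) fun o' =>
              seqNat (bif Nat.beq (Nat.land e 1) 0 then rV C.wN r else rU C.wN r) fun c' =>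
                walk C bound len o' c' w' k)
       else
          seqNat (Nat.add o 1) fun o' =>
          seqNat (bif Nat.beq (Nat.land e 1) 0 then rV C.wN r else rU C.wN r) fun c' =>
            walk C bound len o' c' w k)

theorem walk_spec (C : Cert) (bound : Nat) :
    ∀ (len o c : Nat) (w : List Nat) (k : Nat → List Nat → Bool), walk C bound len o c w k = true →
      pathOk C bound len o c = true ∧
        ∃ w', w = pathWord C len o ++ w' ∧ k (pathEnd C len o c) w' = true := by
  intro len
  induction len with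
  | zero =>
    intro o c w k h
    exact ⟨rfl, w, rfl, h⟩
  | succ len ih =>
    intro o c w k h
    unfold walk at h
    rw [seqNat_eq, seqNat_eq] at h
    simp only [Bool.and_eq_true] at h
    obtain ⟨⟨h1, h2⟩, h3⟩ := h
    have hsrc : stSrc C (C.st o) = (bif Nat.beq (Nat.land (C.st o) 1) 0 then
        rU C.wN (C.fp (Nat.shiftRight (C.st o) 1)) else rV C.wN (C.fp (Nat.shiftRight (C.st o) 1))) := rfl
    have hdst : stDst C (C.st o) = (bif Nat.beq (Nat.land (C.st o) 1) 0 then
        rV C.wN (C.fp (Nat.shiftRight (C.st o) 1)) else rU C.wN (C.fp (Nat.shiftRight (C.st o) 1))) := rfl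
    have hlet : letters C (Nat.shiftRight (C.st o) 1) =
        (bif Nat.beq (rK (C.fp (Nat.shiftRight (C.st o) 1))) 0 then
          [rX (C.fp (Nat.shiftRight (C.st o) 1))] else []) := rfl
    cases hK : Nat.beq (rK (C.fp (Nat.shiftRight (C.st o) 1))) 0
    · rw [hK] at h3
      simp only [cond_false] at h3
      rw [seqNat_eq, seqNat_eq] at h3
      obtain ⟨p1, w', hw, hk⟩ := ih _ _ _ _ h3
      refine ⟨?_, w', ?_, ?_⟩
      · simp only [pathOk, Bool.and_eq_true]
        rw [hsrc, hdst]
        exact ⟨⟨h1, h2⟩, p1⟩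
      · simp only [pathWord]
        rw [hlet, hK]
        simpa using hw
      · simp only [pathEnd]
        rw [hdst]; exact hk
    · rw [hK] at h3
      simp only [cond_true] at h3
      cases w with
      | nil => exact absurd h3 (by simp)
      | cons y w1 =>
        simp only [Bool.and_eq_true] at h3
        obtain ⟨hy, h3⟩ := h3
        rw [seqNat_eq, seqNat_eq] at h3
        obtain ⟨p1, w', hw, hk⟩ := ih _ _ _ _ h3
        refine ⟨?_, w', ?_, ?_⟩
        · simp only [pathOk, Bool.and_eq_true]
          rw [hsrc, hdst]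
          exact ⟨⟨h1, h2⟩, p1⟩
        · simp only [pathWord]
          rw [hlet, hK, Nat.eq_of_beq_eq_true hy, hw]
          simp
        · simp only [pathEnd]
          rw [hdst]; exact hk

/-- fast version of `chkFact` -/
def chkFactFast (C : Cert) (f0 : Nat) : Bool :=
  seqNat f0 fun f =>
  seqNat (C.fj f) fun j =>
  seqNat (C.fp f) fun r =>
    bif Nat.ble C.cyc.length (jR C j) then
      Nat.beq (rK r) 0 && Nat.beq (C.pp (rV C.wN r)) (rU C.wN r) && Nat.beq (C.pg (rV C.wN r)) (rX r) &&
        Nat.blt (rU C.wN r) (rV C.wN r)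
    else
      Nat.ble (jM C j) (jL C j) && (Nat.ble C.ns (jR C j) || Nat.beq (jS C j) 0) &&
      walk C f (jM C j) (jO C j) (jS C j) (C.cyc.getD (jR C j) []) (fun c1 w1 =>
        Nat.beq c1 (rU C.wN r) &&
        (bif Nat.beq (rK r) 0 then
          (match w1 with
            | [] => false
            | y :: w2 => Nat.beq y (rX r) &&
                walk C f (Nat.sub (jL C j) (jM C j)) (Nat.add (jO C j) (jM C j)) (rV C.wN r) w2
                  (fun c2 w3 => Nat.beq c2 (jS C j) && w3.isEmpty))
         else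
            walk C f (Nat.sub (jL C j) (jM C j)) (Nat.add (jO C j) (jM C j)) (rV C.wN r) w1
              (fun c2 w3 => Nat.beq c2 (jS C j) && w3.isEmpty)))

theorem chkFactFast_sound (C : Cert) (f : Nat) (h : chkFactFast C f = true) : chkFact C f = true := by
  unfold chkFactFast at h
  rw [seqNat_eq, seqNat_eq, seqNat_eq] at h
  unfold chkFact
  have eR : jR C (C.fj f) = C.fR f := rfl
  have eM : jM C (C.fj f) = C.fM f := rfl
  have eL : jL C (C.fj f) = C.fL f := rfl
  have eS : jS C (C.fj f) = C.fS f := rfl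
  have eO : jO C (C.fj f) = C.fO f := rfl
  have eK : rK (C.fp f) = C.fK f := rfl
  have eX : rX (C.fp f) = C.fX f := rfl
  have eU : rU C.wN (C.fp f) = C.fU f := rfl
  have eV : rV C.wN (C.fp f) = C.fV f := rfl
  rw [eR, eM, eL, eS, eO, eK, eX, eU, eV] at h
  cases hb : Nat.ble C.cyc.length (C.fR f)
  · rw [hb] at h
    simp only [cond_false, Bool.and_eq_true] at h ⊢
    obtain ⟨⟨h1, h7⟩, hw⟩ := h
    obtain ⟨p1, w1, hw1, hk1⟩ := walk_spec C f _ _ _ _ _ hw
    simp only [Bool.and_eq_true] at hk1
    obtain ⟨he1, hk1⟩ := hk1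
    have hlet : letters C f = (bif Nat.beq (C.fK f) 0 then [C.fX f] else []) := rfl
    cases hK : Nat.beq (C.fK f) 0
    · rw [hK] at hk1
      simp only [cond_false] at hk1
      obtain ⟨p2, w3, hw2, hk2⟩ := walk_spec C f _ _ _ _ _ hk1
      simp only [Bool.and_eq_true] at hk2
      obtain ⟨he2, hemp⟩ := hk2
      have hw3 : w3 = [] := by simpa using hemp
      refine ⟨⟨⟨⟨⟨⟨h1, p1⟩, he1⟩, p2⟩, he2⟩, ?_⟩, h7⟩
      rw [hlet, hK, hw1, hw2, hw3]
      simp
    · rw [hK] at hk1
      simp only [cond_true] at hk1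
      cases w1 with
      | nil => exact absurd hk1 (by simp)
      | cons y w2 =>
        simp only [Bool.and_eq_true] at hk1
        obtain ⟨hy, hk1⟩ := hk1
        obtain ⟨p2, w3, hw2, hk2⟩ := walk_spec C f _ _ _ _ _ hk1
        simp only [Bool.and_eq_true] at hk2
        obtain ⟨he2, hemp⟩ := hk2
        have hw3 : w3 = [] := by simpa using hemp
        refine ⟨⟨⟨⟨⟨⟨h1, p1⟩, he1⟩, p2⟩, he2⟩, ?_⟩, h7⟩
        rw [hlet, hK, hw1, Nat.eq_of_beq_eq_true hy, hw2, hw3]
        simp
  · rw [hb] at h
    simp only [cond_true] at h ⊢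
    exact h

end Cfsg.Agent.Lib.Helper25.TC
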