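import Mathlib
import Cfsg.Agent.Lib.Helper25.TCCore

set_option autoImplicit false

namespace Cfsg.Agent.Lib.Helper25.TC

/-- trace of a word (acting order) through a table `T x i` -/
def tr (T : Nat → Nat → Nat) : List Nat → Nat → Nat
  | [], i => i
  | x :: a, i => tr T a (T x i)

/-- counting function -/
def cnt (f : Nat → Bool) : Nat → Nat
  | 0 => 0
  | m+1 => cnt f m + (bif f m then 1 else 0)

theorem cnt_eq_card (f : Nat → Bool) (n : Nat) :
    ((Finset.range n).filter (fun i => f i = true)).card = cnt f n := by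
  induction n with
  | zero => simp [cnt]
  | succ n ih =>
    rw [Finset.range_add_one, Finset.filter_insert]
    cases hf : f n
    · simp [cnt, hf, ih]
    · simp [cnt, hf, ih]

theorem ncard_fin_eq_cnt (f : Nat → Bool) (n : Nat) :
    Set.ncard {i : Fin n | f i.val = true} = cnt f n := by
  rw [← cnt_eq_card]
  have himg : (Fin.val '' {i : Fin n | f i.val = true}) =
      ↑((Finset.range n).filter (fun i => f i = true)) := by
    ext m
    simp only [Set.mem_image, Set.mem_setOf_eq, Finset.coe_filter, Finset.mem_range]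
    constructor
    · rintro ⟨i, hi, rfl⟩; exact ⟨i.isLt, hi⟩
    · rintro ⟨hm, hf⟩; exact ⟨⟨m, hm⟩, hf, rfl⟩
  rw [← Set.ncard_image_of_injective _ Fin.val_injective, himg, Set.ncard_coe_finset]

section Group
variable {G : Type*} [Group G] (gen : Nat → G) (H : Subgroup G)

/-- hypotheses on a coset table with representatives -/
structure TableHyp (k n : Nat) (T : Nat → Nat → Nat) (R : Nat → G) : Prop where
  hinv : ∀ x, gen x * gen x = 1
  hgen : Subgroup.closure {g : G | ∃ x < k, g = gen x} = ⊤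
  hT : ∀ x < k, ∀ i < n, T x i < n
  hR0 : R 0 = 1
  hval : ∀ x < k, ∀ i < n, (R (T x i))⁻¹ * gen x * R i ∈ H

variable {gen H} {k n : Nat} {T : Nat → Nat → Nat} {R : Nat → G}

theorem gen_inv (hh : TableHyp gen H k n T R) (x : Nat) : (gen x)⁻¹ = gen x :=
  inv_eq_of_mul_eq_one_left (hh.hinv x)

theorem exists_coset (hh : TableHyp gen H k n T R) (g : G) :
    (∀ i < n, ∃ j < n, (R j)⁻¹ * g * R i ∈ H) ∧ (∀ i < n, ∃ j < n, (R j)⁻¹ * g⁻¹ * R i ∈ H) := by
  have hg : g ∈ Subgroup.closure {g : G | ∃ x < k, g = gen x} := by rw [hh.hgen]; trivial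
  induction hg using Subgroup.closure_induction with
  | mem g hg =>
    obtain ⟨x, hx, rfl⟩ := hg
    constructor
    · intro i hi; exact ⟨T x i, hh.hT x hx i hi, hh.hval x hx i hi⟩
    · intro i hi; rw [gen_inv hh]; exact ⟨T x i, hh.hT x hx i hi, hh.hval x hx i hi⟩
  | one =>
    constructor <;> intro i hi <;> exact ⟨i, hi, by simp⟩
  | mul a b _ _ iha ihb =>
    constructor
    · intro i hi
      obtain ⟨j, hj, h1⟩ := ihb.1 i hi
      obtain ⟨l, hl, h2⟩ := iha.1 j hj
      refine ⟨l, hl, ?_⟩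
      have := H.mul_mem h2 h1
      have e : (R l)⁻¹ * a * R j * ((R j)⁻¹ * b * R i) = (R l)⁻¹ * (a * b) * R i := by group
      rwa [e] at this
    · intro i hi
      obtain ⟨j, hj, h1⟩ := iha.2 i hi
      obtain ⟨l, hl, h2⟩ := ihb.2 j hj
      refine ⟨l, hl, ?_⟩
      have := H.mul_mem h2 h1
      have e : (R l)⁻¹ * b⁻¹ * R j * ((R j)⁻¹ * a⁻¹ * R i) = (R l)⁻¹ * (a * b)⁻¹ * R i := by group
      rwa [e] at this
  | inv a _ iha =>
    constructor
    · exact iha.2
    · rw [inv_inv]; exact iha.1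

theorem surj_cosets (hh : TableHyp gen H k n T R) (hn : 0 < n) (q : G ⧸ H) :
    ∃ j < n, q = ((R j : G) : G ⧸ H) := by
  induction q using QuotientGroup.induction_on with
  | H g =>
    obtain ⟨j, hj, h⟩ := (exists_coset hh g).1 0 hn
    refine ⟨j, hj, ?_⟩
    rw [hh.hR0, mul_one] at h
    exact (QuotientGroup.eq.mpr h).symm

/-- hypotheses for the lower bound: a permutation representation compatible with the table -/
structure PermHyp (k n : Nat) (T : Nat → Nat → Nat) (hn : 0 < n)
    (φ : G →* Equiv.Perm (Fin n)) (bp bg : Nat → Nat) : Prop where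
  hφ : ∀ x < k, ∀ i : Fin n, ((φ (gen x)) i).val = T x i.val
  hH : ∀ h ∈ H, φ h ⟨0, hn⟩ = ⟨0, hn⟩
  htree : ∀ j, 0 < j → j < n → bp j < j ∧ bg j < k ∧ T (bg j) (bp j) = j

variable {hn : 0 < n} {φ : G →* Equiv.Perm (Fin n)} {bp bg : Nat → Nat}

theorem beta_eq (hh : TableHyp gen H k n T R) (hp : PermHyp (gen := gen) (H := H) k n T hn φ bp bg) :
    ∀ j < n, (φ (R j) ⟨0, hn⟩).val = j := by
  intro j
  induction j using Nat.strong_induction_on with
  | _ j ih =>
    intro hj
    rcases Nat.eq_zero_or_pos j with h0 | hpos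
    · subst h0; rw [hh.hR0]; simp
    · obtain ⟨h1, h2, h3⟩ := hp.htree j hpos hj
      have hpn : bp j < n := by omega
      have hv := hh.hval (bg j) h2 (bp j) hpn
      rw [h3] at hv
      have hfix := hp.hH _ hv
      have e : φ ((R j)⁻¹ * gen (bg j) * R (bp j)) ⟨0, hn⟩ =
          (φ (R j))⁻¹ (φ (gen (bg j)) (φ (R (bp j)) ⟨0, hn⟩)) := by
        simp [map_mul, map_inv, Equiv.Perm.mul_apply]
      rw [e] at hfix
      have e2 : φ (gen (bg j)) (φ (R (bp j)) ⟨0, hn⟩) = φ (R j) ⟨0, hn⟩ := by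
        have := congrArg (φ (R j)) hfix
        simpa using this
      rw [← e2, hp.hφ (bg j) h2, ih (bp j) h1 hpn, h3]

theorem inj_cosets (hh : TableHyp gen H k n T R) (hp : PermHyp (gen := gen) (H := H) k n T hn φ bp bg)
    (i j : Nat) (hi : i < n) (hj : j < n) (h : ((R i : G) : G ⧸ H) = ((R j : G) : G ⧸ H)) : i = j := by
  have hm := QuotientGroup.eq.mp h
  have hfix := hp.hH _ hm
  have e : φ ((R i)⁻¹ * R j) ⟨0, hn⟩ = (φ (R i))⁻¹ (φ (R j) ⟨0, hn⟩) := by
    simp [map_mul, map_inv, Equiv.Perm.mul_apply]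
  rw [e] at hfix
  have e2 : φ (R j) ⟨0, hn⟩ = φ (R i) ⟨0, hn⟩ := by
    have := congrArg (φ (R i)) hfix
    simpa using this
  have := congrArg Fin.val e2
  rw [beta_eq hh hp i hi, beta_eq hh hp j hj] at this
  exact this.symm

/-- the bijection between `Fin n` and the coset space -/
noncomputable def cosetEquiv (hh : TableHyp gen H k n T R)
    (hp : PermHyp (gen := gen) (H := H) k n T hn φ bp bg) : Fin n ≃ G ⧸ H :=
  Equiv.ofBijective (fun i => ((R i.val : G) : G ⧸ H))
    ⟨fun i j h => Fin.ext (inj_cosets hh hp i.val j.val i.isLt j.isLt h),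
     fun q => by
       obtain ⟨j, hj, h⟩ := surj_cosets hh hn q
       exact ⟨⟨j, hj⟩, h.symm⟩⟩

theorem index_eq (hh : TableHyp gen H k n T R)
    (hp : PermHyp (gen := gen) (H := H) k n T hn φ bp bg) : H.index = n := by
  rw [Subgroup.index, Nat.card_congr (cosetEquiv hh hp).symm, Nat.card_fin]

theorem smul_coset (hh : TableHyp gen H k n T R)
    (hp : PermHyp (gen := gen) (H := H) k n T hn φ bp bg) (g : G) (i : Fin n) :
    g • ((R i.val : G) : G ⧸ H) = ((R (φ g i).val : G) : G ⧸ H) := by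
  obtain ⟨j, hj, h⟩ := (exists_coset hh g).1 i.val i.isLt
  have h1 : g • ((R i.val : G) : G ⧸ H) = ((R j : G) : G ⧸ H) := by
    have h0 : g • ((R i.val : G) : G ⧸ H) = ((g * R i.val : G) : G ⧸ H) := rfl
    rw [h0]
    symm
    apply QuotientGroup.eq.mpr
    rw [← mul_assoc]; exact h
  rw [h1]
  congr 2
  -- φ g i = j
  have hi : (φ (R i.val) ⟨0, hn⟩) = i := Fin.ext (beta_eq hh hp i.val i.isLt)
  have hfix := hp.hH _ h
  have e : φ ((R j)⁻¹ * g * R i.val) ⟨0, hn⟩ = (φ (R j))⁻¹ (φ g (φ (R i.val) ⟨0, hn⟩)) := by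
    simp [map_mul, map_inv, Equiv.Perm.mul_apply]
  rw [e, hi] at hfix
  have e2 : φ g i = φ (R j) ⟨0, hn⟩ := by
    have := congrArg (φ (R j)) hfix
    simpa using this
  rw [e2, beta_eq hh hp j hj]

theorem phi_word (hp : PermHyp (gen := gen) (H := H) k n T hn φ bp bg) :
    ∀ (w : List Nat), (∀ x ∈ w, x < k) → ∀ i : Fin n, (φ (evr gen w) i).val = tr T w i.val := by
  intro w
  induction w with
  | nil => intro _ i; simp [evr, tr]
  | cons x a ih =>
    intro hw i
    have hx : x < k := hw x (List.mem_cons_self)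
    have ha : ∀ y ∈ a, y < k := fun y hy => hw y (List.mem_cons_of_mem _ hy)
    simp only [evr, tr, map_mul, Equiv.Perm.mul_apply]
    rw [ih ha, hp.hφ x hx]

/-- hypotheses describing one orbit of `H` on `Fin n` -/
structure OrbitHyp (k n : Nat) (T : Nat → Nat → Nat) (sw : List (List Nat)) (ol op ow od : Nat → Nat)
    (r : Nat) : Prop where
  hH : H = Subgroup.closure {g : G | ∃ w ∈ sw, g = evr gen w}
  hlet : ∀ w ∈ sw, ∀ x ∈ w, x < k
  hinvt : ∀ w ∈ sw, ∀ i < n, ol (tr T w i) = ol i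
  hr : r < n
  htree : ∀ i < n, ol i = ol r → i ≠ r →
    op i < n ∧ ol (op i) = ol r ∧ od (op i) < od i ∧ ow i < sw.length ∧ tr T (sw.getD (ow i) []) (op i) = i

variable {sw : List (List Nat)} {ol op ow od : Nat → Nat} {r : Nat}

theorem ol_invariant (hp : PermHyp (gen := gen) (H := H) k n T hn φ bp bg)
    (ho : OrbitHyp (gen := gen) (H := H) k n T sw ol op ow od r) (h : G) (hh' : h ∈ H) :
    ∀ i : Fin n, ol (φ h i).val = ol i.val := by
  rw [ho.hH] at hh'
  induction hh' using Subgroup.closure_induction with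
  | mem g hg =>
    obtain ⟨w, hw, rfl⟩ := hg
    intro i
    rw [phi_word hp w (ho.hlet w hw) i]
    exact ho.hinvt w hw i.val i.isLt
  | one => intro i; simp
  | mul a b _ _ iha ihb =>
    intro i
    rw [map_mul, Equiv.Perm.mul_apply, iha, ihb]
  | inv a _ iha =>
    intro i
    have := iha (φ a⁻¹ i)
    rw [← this]
    simp [map_inv]

theorem orbit_eq (hh : TableHyp gen H k n T R)
    (hp : PermHyp (gen := gen) (H := H) k n T hn φ bp bg)
    (ho : OrbitHyp (gen := gen) (H := H) k n T sw ol op ow od r) :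
    MulAction.orbit H (((R r : G) : G ⧸ H)) =
      (fun i : Fin n => ((R i.val : G) : G ⧸ H)) '' {i : Fin n | Nat.beq (ol i.val) (ol r) = true} := by
  ext q
  constructor
  · rintro ⟨⟨h, hh'⟩, rfl⟩
    show (h • (((R r : G) : G ⧸ H))) ∈ _
    have := smul_coset hh hp h ⟨r, ho.hr⟩
    simp only at this
    rw [this]
    refine ⟨φ h ⟨r, ho.hr⟩, ?_, rfl⟩
    simp only [Set.mem_setOf_eq]
    have h2 := ol_invariant hp ho h hh' ⟨r, ho.hr⟩
    simp only at h2
    rw [h2]
    exact Nat.beq_refl _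
  · rintro ⟨i, hi, rfl⟩
    simp only [Set.mem_setOf_eq] at hi
    have hi' : ol i.val = ol r := Nat.eq_of_beq_eq_true hi
    -- induction on depth
    have key : ∀ d : Nat, ∀ i : Nat, i < n → ol i = ol r → od i = d →
        ((R i : G) : G ⧸ H) ∈ MulAction.orbit H (((R r : G) : G ⧸ H)) := by
      intro d
      induction d using Nat.strong_induction_on with
      | _ d ih =>
        intro i hi hol hd
        by_cases hir : i = r
        · subst hir; exact MulAction.mem_orbit_self _
        · obtain ⟨h1, h2, h3, h4, h5⟩ := ho.htree i hi hol hir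
          obtain ⟨⟨h, hh'⟩, hq⟩ := ih (od (op i)) (by omega) (op i) h1 h2 rfl
          have hq' : h • (((R r : G) : G ⧸ H)) = ((R (op i) : G) : G ⧸ H) := hq
          have hwmem : sw.getD (ow i) [] ∈ sw := by
            rw [List.getD_eq_getElem _ _ h4]; exact List.getElem_mem _
          have hwH : evr gen (sw.getD (ow i) []) ∈ H := by
            rw [ho.hH]; exact Subgroup.subset_closure ⟨_, hwmem, rfl⟩
          refine ⟨⟨evr gen (sw.getD (ow i) []) * h, H.mul_mem hwH hh'⟩, ?_⟩
          show (evr gen (sw.getD (ow i) []) * h) • (((R r : G) : G ⧸ H)) = _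
          rw [mul_smul, hq']
          have := smul_coset hh hp (evr gen (sw.getD (ow i) [])) ⟨op i, h1⟩
          simp only at this
          rw [this, phi_word hp _ (ho.hlet _ hwmem)]
          simp only
          rw [h5]
    exact key (od i.val) i.val i.isLt hi' rfl

theorem orbit_ne (hh : TableHyp gen H k n T R)
    (hp : PermHyp (gen := gen) (H := H) k n T hn φ bp bg)
    {r r' : Nat} {op' ow' od' : Nat → Nat}
    (ho : OrbitHyp (gen := gen) (H := H) k n T sw ol op ow od r)
    (ho' : OrbitHyp (gen := gen) (H := H) k n T sw ol op' ow' od' r') (hne : ol r ≠ ol r') :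
    MulAction.orbit H (((R r : G) : G ⧸ H)) ≠ MulAction.orbit H (((R r' : G) : G ⧸ H)) := by
  intro heq
  have hmem : ((R r : G) : G ⧸ H) ∈ MulAction.orbit H (((R r' : G) : G ⧸ H)) := by
    rw [← heq]; exact MulAction.mem_orbit_self _
  rw [orbit_eq hh hp ho'] at hmem
  obtain ⟨i, hi, hq⟩ := hmem
  have := inj_cosets hh hp i.val r i.isLt ho.hr hq
  simp only [Set.mem_setOf_eq] at hi
  have h2 := Nat.eq_of_beq_eq_true hi
  rw [this] at h2
  exact hne h2

theorem orbit_ncard (hh : TableHyp gen H k n T R)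
    (hp : PermHyp (gen := gen) (H := H) k n T hn φ bp bg)
    (ho : OrbitHyp (gen := gen) (H := H) k n T sw ol op ow od r) :
    (MulAction.orbit H (((R r : G) : G ⧸ H))).ncard = cnt (fun i => Nat.beq (ol i) (ol r)) n := by
  rw [orbit_eq hh hp ho, Set.ncard_image_of_injective]
  · exact ncard_fin_eq_cnt (fun i => Nat.beq (ol i) (ol r)) n
  · intro i j h
    exact Fin.ext (inj_cosets hh hp i.val j.val i.isLt j.isLt h)

end Group

end Cfsg.Agent.Lib.Helper25.TC
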