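import Mathlib
import Cfsg.Prelude.Def_SporCoxeter
import Cfsg.Agent.Lib.Helper25.TCTable

set_option autoImplicit false

namespace Cfsg.Agent.Lib.Helper25.TC

/-- the Coxeter word `(x y)^m` in acting order -/
def cw (x y m : Nat) : List Nat := (List.replicate m [y, x]).flatten

theorem evr_cw {K : Type*} [Group K] (f : Nat → K) (x y m : Nat) :
    evr f (cw x y m) = (f x * f y) ^ m := by
  induction m with
  | zero => simp [cw, evr]
  | succ m ih =>
    have : cw x y (m+1) = [y, x] ++ cw x y m := by
      simp [cw, List.replicate_succ]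
    rw [this, evr_append, ih, pow_succ]
    simp [evr]

/-- all Coxeter words `(x y)^(L x y)` for generators `x ≤ y` below `k` -/
def coxWords (k : Nat) (L : Nat → Nat → Nat) : List (List Nat) :=
  (List.range k).flatMap fun x => ((List.range k).filter (fun y => Nat.ble x y)).map fun y => cw x y (L x y)

theorem mem_coxWords {k : Nat} {L : Nat → Nat → Nat} {w : List Nat} :
    w ∈ coxWords k L ↔ ∃ x < k, ∃ y < k, x ≤ y ∧ w = cw x y (L x y) := by
  simp only [coxWords, List.mem_flatMap, List.mem_range, List.mem_map, List.mem_filter]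
  constructor
  · rintro ⟨x, hx, y, ⟨hy, hxy⟩, rfl⟩; exact ⟨x, hx, y, hy, Nat.le_of_ble_eq_true hxy, rfl⟩
  · rintro ⟨x, hx, y, hy, hxy, rfl⟩; exact ⟨x, hx, y, ⟨hy, Nat.ble_eq_true_of_le hxy⟩, rfl⟩

section Perm
variable (k n : Nat) (T : Nat → Nat → Nat)

/-- the table consists of involutions of `[0,n)` -/
def TblOk : Prop := ∀ x < k, ∀ i < n, T x i < n ∧ T x (T x i) = i

variable {k n T}

/-- the permutation of `Fin n` given by column `x` -/
def sig (h : TblOk k n T) (x : Nat) : Equiv.Perm (Fin n) :=
  if hx : x < k then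
    { toFun := fun i => ⟨T x i.val, (h x hx i.val i.isLt).1⟩
      invFun := fun i => ⟨T x i.val, (h x hx i.val i.isLt).1⟩
      left_inv := fun i => Fin.ext (h x hx i.val i.isLt).2
      right_inv := fun i => Fin.ext (h x hx i.val i.isLt).2 }
  else 1

theorem sig_apply (h : TblOk k n T) (x : Nat) (hx : x < k) (i : Fin n) :
    ((sig h x) i).val = T x i.val := by
  unfold sig; rw [dif_pos hx]; rfl

theorem sig_mul_self (h : TblOk k n T) (x : Nat) : sig h x * sig h x = 1 := by
  by_cases hx : x < k
  · ext i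
    rw [Equiv.Perm.mul_apply, sig_apply h x hx, sig_apply h x hx]
    exact (h x hx i.val i.isLt).2
  · unfold sig; rw [dif_neg hx]; simp

theorem evr_sig_apply (h : TblOk k n T) :
    ∀ (w : List Nat), (∀ x ∈ w, x < k) → ∀ i : Fin n, ((evr (sig h) w) i).val = tr T w i.val := by
  intro w
  induction w with
  | nil => intro _ i; simp [evr, tr]
  | cons x a ih =>
    intro hw i
    have hx : x < k := hw x (List.mem_cons_self)
    have ha : ∀ y ∈ a, y < k := fun y hy => hw y (List.mem_cons_of_mem _ hy)
    simp only [evr, tr, Equiv.Perm.mul_apply]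
    rw [ih ha, sig_apply h x hx]

theorem evr_sig_one (h : TblOk k n T) (w : List Nat) (hw : ∀ x ∈ w, x < k)
    (ht : ∀ i < n, tr T w i = i) : evr (sig h) w = 1 := by
  ext i
  rw [evr_sig_apply h w hw i]
  simpa using ht i.val i.isLt

end Perm

section Cox
open Cfsg.Spor

variable {α : Type} [DecidableEq α] (edges : List (α × ℕ × α)) (extra : List (FreeGroup α))

/-- data connecting a Coxeter-style presentation with words over `Nat` -/
structure CoxSetup (k : Nat) (idx : α → Nat) (ofIdx : Nat → α) (L : Nat → Nat → Nat)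
    (extraW : List (List Nat)) : Prop where
  ofIdx_idx : ∀ a, ofIdx (idx a) = a
  idx_ofIdx : ∀ x < k, idx (ofIdx x) = x
  idx_lt : ∀ a, idx a < k
  allNodes : ∀ a, a ∈ coxNodes edges
  hL : ∀ a b, coxLabel edges a b = L (idx a) (idx b)
  hLsymm : ∀ x < k, ∀ y < k, L x y = L y x
  hextra : List.Forall₂ (fun r w => ∀ (K : Type) [Group K] (f : Nat → K), (∀ x, f x * f x = 1) →
      FreeGroup.lift (fun a => f (idx a)) r = evr f w) extra extraW

variable {edges extra} {k : Nat} {idx : α → Nat} {ofIdx : Nat → α} {L : Nat → Nat → Nat}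
  {extraW : List (List Nat)}

/-- generators of the presented group indexed by `Nat` -/
noncomputable def cgen (edges : List (α × ℕ × α)) (extra : List (FreeGroup α)) (k : Nat) (ofIdx : Nat → α)
    (x : Nat) : CoxPresented α edges extra :=
  if x < k then PresentedGroup.of (ofIdx x) else 1

theorem cgen_idx (hs : CoxSetup edges extra k idx ofIdx L extraW) (a : α) :
    cgen edges extra k ofIdx (idx a) = PresentedGroup.of a := by
  unfold cgen; rw [if_pos (hs.idx_lt a), hs.ofIdx_idx]

theorem of_mul_self (hs : CoxSetup edges extra k idx ofIdx L extraW) (a : α) :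
    (PresentedGroup.of a : CoxPresented α edges extra) * PresentedGroup.of a = 1 := by
  have hmem : (FreeGroup.of a * FreeGroup.of a) ^ coxLabel edges a a ∈
      coxRelators edges ∪ {r | r ∈ extra} :=
    Or.inl ⟨a, hs.allNodes a, a, hs.allNodes a, rfl⟩
  have h1 : coxLabel edges a a = 1 := by simp [coxLabel]
  rw [h1, pow_one] at hmem
  have := PresentedGroup.one_of_mem hmem
  rwa [map_mul] at this

theorem cgen_mul_self (hs : CoxSetup edges extra k idx ofIdx L extraW) (x : Nat) :
    cgen edges extra k ofIdx x * cgen edges extra k ofIdx x = 1 := by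
  unfold cgen
  split_ifs
  · exact of_mul_self hs _
  · simp

theorem cgen_closure (hs : CoxSetup edges extra k idx ofIdx L extraW) :
    Subgroup.closure {g : CoxPresented α edges extra | ∃ x < k, g = cgen edges extra k ofIdx x} = ⊤ := by
  rw [eq_top_iff, ← PresentedGroup.closure_range_of]
  apply Subgroup.closure_mono
  rintro g ⟨a, rfl⟩
  exact ⟨idx a, hs.idx_lt a, (cgen_idx hs a).symm⟩

theorem lift_cgen (hs : CoxSetup edges extra k idx ofIdx L extraW) (r : FreeGroup α) :
    FreeGroup.lift (fun a => cgen edges extra k ofIdx (idx a)) r =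
      PresentedGroup.mk (coxRelators edges ∪ {r | r ∈ extra}) r := by
  have : (FreeGroup.lift (fun a => cgen edges extra k ofIdx (idx a))) =
      PresentedGroup.mk (coxRelators edges ∪ {r | r ∈ extra}) := by
    ext a
    simp only [FreeGroup.lift_apply_of]
    rw [cgen_idx hs]; rfl
  rw [this]

theorem forall₂_left {β γ : Type*} {P : β → γ → Prop} {l₁ : List β} {l₂ : List γ}
    (h : List.Forall₂ P l₁ l₂) : ∀ r ∈ l₁, ∃ w ∈ l₂, P r w := by
  induction h with
  | nil => intro r hr; simp at hr
  | cons hab _ ih =>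
    intro r hr
    rcases List.mem_cons.mp hr with rfl | hr
    · exact ⟨_, List.mem_cons_self, hab⟩
    · obtain ⟨w, hw, hp⟩ := ih r hr
      exact ⟨w, List.mem_cons_of_mem _ hw, hp⟩

theorem forall₂_right {β γ : Type*} {P : β → γ → Prop} {l₁ : List β} {l₂ : List γ}
    (h : List.Forall₂ P l₁ l₂) : ∀ w ∈ l₂, ∃ r ∈ l₁, P r w := by
  induction h with
  | nil => intro r hr; simp at hr
  | cons hab _ ih =>
    intro w hw
    rcases List.mem_cons.mp hw with rfl | hw
    · exact ⟨_, List.mem_cons_self, hab⟩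
    · obtain ⟨r, hr, hp⟩ := ih w hw
      exact ⟨r, List.mem_cons_of_mem _ hr, hp⟩

/-- relator words are trivial in the presented group -/
theorem evr_cgen_rel (hs : CoxSetup edges extra k idx ofIdx L extraW) (w : List Nat)
    (hw : w ∈ coxWords k L ++ extraW) : evr (cgen edges extra k ofIdx) w = 1 := by
  rcases List.mem_append.mp hw with hw | hw
  · obtain ⟨x, hx, y, hy, _, rfl⟩ := mem_coxWords.mp hw
    rw [evr_cw]
    have hmem : (FreeGroup.of (ofIdx x) * FreeGroup.of (ofIdx y)) ^ coxLabel edges (ofIdx x) (ofIdx y) ∈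
        coxRelators edges ∪ {r | r ∈ extra} :=
      Or.inl ⟨_, hs.allNodes _, _, hs.allNodes _, rfl⟩
    have := PresentedGroup.one_of_mem hmem
    rw [hs.hL, hs.idx_ofIdx x hx, hs.idx_ofIdx y hy, map_pow, map_mul] at this
    unfold cgen
    rw [if_pos hx, if_pos hy]
    exact this
  · obtain ⟨r, hr, hp⟩ := forall₂_right hs.hextra w hw
    rw [← hp _ _ (cgen_mul_self hs), lift_cgen hs]
    exact PresentedGroup.one_of_mem (Or.inr hr)

variable {n : Nat} {T : Nat → Nat → Nat}

/-- the permutation representation defined by a table satisfying the relators -/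
noncomputable def cphi (hs : CoxSetup edges extra k idx ofIdx L extraW) (h : TblOk k n T)
    (hw : ∀ w ∈ coxWords k L ++ extraW, (∀ x ∈ w, x < k) ∧ ∀ i < n, tr T w i = i) :
    CoxPresented α edges extra →* Equiv.Perm (Fin n) :=
  PresentedGroup.toGroup (f := fun a => sig h (idx a)) (by
    intro r hr
    rcases hr with hr | hr
    · obtain ⟨a, _, b, _, rfl⟩ := hr
      rw [map_pow, map_mul, FreeGroup.lift_apply_of, FreeGroup.lift_apply_of, hs.hL]
      by_cases hab : idx a ≤ idx b
      · rw [← evr_cw]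
        have hmem : cw (idx a) (idx b) (L (idx a) (idx b)) ∈ coxWords k L ++ extraW :=
          List.mem_append_left _ (mem_coxWords.mpr ⟨_, hs.idx_lt a, _, hs.idx_lt b, hab, rfl⟩)
        exact evr_sig_one h _ (hw _ hmem).1 (hw _ hmem).2
      · have hmem : cw (idx b) (idx a) (L (idx b) (idx a)) ∈ coxWords k L ++ extraW :=
          List.mem_append_left _ (mem_coxWords.mpr ⟨_, hs.idx_lt b, _, hs.idx_lt a, by omega, rfl⟩)
        have h1 := evr_sig_one h _ (hw _ hmem).1 (hw _ hmem).2
        rw [evr_cw] at h1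
        rw [hs.hLsymm _ (hs.idx_lt a) _ (hs.idx_lt b)]
        have e : sig h (idx a) * sig h (idx b) =
            sig h (idx a) * (sig h (idx b) * sig h (idx a)) * (sig h (idx a))⁻¹ := by group
        rw [e, conj_pow, h1]
        simp
    · obtain ⟨w, hwm, hp⟩ := forall₂_left hs.hextra r hr
      rw [hp _ _ (sig_mul_self h)]
      have hmem : w ∈ coxWords k L ++ extraW := List.mem_append_right _ hwm
      exact evr_sig_one h _ (hw _ hmem).1 (hw _ hmem).2)

theorem cphi_cgen (hs : CoxSetup edges extra k idx ofIdx L extraW) (h : TblOk k n T)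
    (hw : ∀ w ∈ coxWords k L ++ extraW, (∀ x ∈ w, x < k) ∧ ∀ i < n, tr T w i = i)
    (x : Nat) (hx : x < k) : cphi hs h hw (cgen edges extra k ofIdx x) = sig h x := by
  unfold cgen cphi
  rw [if_pos hx, PresentedGroup.toGroup.of, hs.idx_ofIdx x hx]

theorem cphi_evr (hs : CoxSetup edges extra k idx ofIdx L extraW) (h : TblOk k n T)
    (hw : ∀ w ∈ coxWords k L ++ extraW, (∀ x ∈ w, x < k) ∧ ∀ i < n, tr T w i = i)
    (w : List Nat) (hlt : ∀ x ∈ w, x < k) :
    cphi hs h hw (evr (cgen edges extra k ofIdx) w) = evr (sig h) w := by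
  induction w with
  | nil => simp [evr]
  | cons x a ih =>
    have hx : x < k := hlt x (List.mem_cons_self)
    have ha : ∀ y ∈ a, y < k := fun y hy => hlt y (List.mem_cons_of_mem _ hy)
    simp only [evr, map_mul]
    rw [ih ha, cphi_cgen hs h hw x hx]

/-- `PermHyp` for the table representation -/
theorem permHyp_of_table (hs : CoxSetup edges extra k idx ofIdx L extraW) (h : TblOk k n T)
    (hw : ∀ w ∈ coxWords k L ++ extraW, (∀ x ∈ w, x < k) ∧ ∀ i < n, tr T w i = i)
    (hn : 0 < n) (sw : List (List Nat)) (hsw : ∀ w ∈ sw, (∀ x ∈ w, x < k) ∧ tr T w 0 = 0)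
    (bp bg : Nat → Nat) (htree : ∀ j, 0 < j → j < n → bp j < j ∧ bg j < k ∧ T (bg j) (bp j) = j) :
    PermHyp (gen := cgen edges extra k ofIdx)
      (H := Subgroup.closure {g | ∃ w ∈ sw, g = evr (cgen edges extra k ofIdx) w}) k n T hn
      (cphi hs h hw) bp bg where
  hφ := by
    intro x hx i
    rw [cphi_cgen hs h hw x hx, sig_apply h x hx]
  hH := by
    intro g hg
    induction hg using Subgroup.closure_induction with
    | mem g hg =>
      obtain ⟨w, hwm, rfl⟩ := hg
      rw [cphi_evr hs h hw w (hsw w hwm).1]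
      apply Fin.ext
      rw [evr_sig_apply h w (hsw w hwm).1]
      exact (hsw w hwm).2
    | one => simp
    | mul a b _ _ iha ihb => rw [map_mul, Equiv.Perm.mul_apply, ihb, iha]
    | inv a _ iha =>
      rw [map_inv]
      have := congrArg (⇑(cphi hs h hw a)⁻¹) iha
      simpa using this.symm
  htree := htree

end Cox

section CertTable
variable {G : Type*} [Group G] (gen : Nat → G) (C : Cert) (H : Subgroup G)

/-- check of a final table entry against the certificate -/
def chkFin (nF : Nat) (can : Nat → Nat) (fin : Nat → Nat → Nat) (T : Nat → Nat → Nat) (x i : Nat) : Bool :=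
  Nat.blt (Nat.shiftRight (fin x i) 1) nF && Nat.beq (C.fK (Nat.shiftRight (fin x i) 1)) 0 &&
    Nat.beq (C.fX (Nat.shiftRight (fin x i) 1)) x &&
    Nat.beq (stSrc C (fin x i)) (can i) && Nat.beq (stDst C (fin x i)) (can (T x i))

theorem tableHyp_of_cert (k n nF : Nat) (can : Nat → Nat) (fin : Nat → Nat → Nat) (T : Nat → Nat → Nat)
    (hinv : ∀ x, gen x * gen x = 1)
    (hgen : Subgroup.closure {g : G | ∃ x < k, g = gen x} = ⊤)
    (hrel : ∀ ρ, C.ns ≤ ρ → ρ < C.cyc.length → evr gen (C.cyc.getD ρ []) = 1)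
    (hsub : ∀ ρ, ρ < C.ns → evr gen (C.cyc.getD ρ []) ∈ H)
    (hchk : ∀ f < nF, chkFact C f = true)
    (hT : ∀ x < k, ∀ i < n, T x i < n)
    (hcan : can 0 = 0)
    (hfin : ∀ x < k, ∀ i < n, chkFin C nF can fin T x i = true) :
    TableHyp gen H k n T (fun i => rep gen C (can i)) where
  hinv := hinv
  hgen := hgen
  hT := hT
  hR0 := by simp only [hcan]; exact rep_zero gen C
  hval := by
    intro x hx i hi
    have hc := hfin x hx i hi
    simp only [chkFin, Bool.and_eq_true] at hc
    obtain ⟨⟨⟨⟨h1, h2⟩, h3⟩, h4⟩, h5⟩ := hc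
    have hlt : Nat.shiftRight (fin x i) 1 < nF := Nat.le_of_ble_eq_true h1
    have hv := all_valid gen C H hinv hrel hsub nF hchk _ hlt
    have hs := step_sound gen C H hinv (fin x i) hv
    rw [Nat.eq_of_beq_eq_true h4, Nat.eq_of_beq_eq_true h5] at hs
    have hl : lab gen C (Nat.shiftRight (fin x i) 1) = gen x := by
      unfold lab
      rw [if_pos (Nat.eq_of_beq_eq_true h2), Nat.eq_of_beq_eq_true h3]
    rwa [hl] at hs

end CertTable

end Cfsg.Agent.Lib.Helper25.TC
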