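import Mathlib

set_option autoImplicit false

/-! General group-theoretic lemmas used by the existence pipeline (orders by chains, Sylow containment,
subset sums). -/

namespace Cfsg.Agent.Lib.Helper25.TC

section Card
variable {K : Type*} [Group K]

/-- `|K| ≤ n * m` from a subgroup of index `n` and order at most `m` -/
theorem finite_and_card_le_of_index (H : Subgroup K) {n m : Nat} (hidx : H.index = n) (hn : 0 < n)
    [Finite H] (hH : Nat.card H ≤ m) : Finite K ∧ Nat.card K ≤ n * m := by
  have h1 := H.index_mul_card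
  have hpos : 0 < Nat.card H := Nat.card_pos
  have hK : Nat.card K ≠ 0 := by
    rw [← h1, hidx]; positivity
  refine ⟨Nat.finite_of_card_ne_zero hK, ?_⟩
  rw [← h1, hidx]
  exact Nat.mul_le_mul_left n hH

/-- a cyclic subgroup generated by an element with `c ^ o = 1` has at most `o` elements -/
theorem finite_and_card_closure_singleton_le (c : K) {o : Nat} (ho : 0 < o) (hc : c ^ o = 1) :
    Finite (Subgroup.closure ({c} : Set K)) ∧ Nat.card (Subgroup.closure ({c} : Set K)) ≤ o := by
  rw [← Subgroup.zpowers_eq_closure]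
  have hfin : IsOfFinOrder c := isOfFinOrder_iff_pow_eq_one.mpr ⟨o, ho, hc⟩
  have : Finite (Subgroup.zpowers c) :=
    Nat.finite_of_card_ne_zero (by rw [Nat.card_zpowers]; exact (orderOf_pos_iff.mpr hfin).ne')
  refine ⟨this, ?_⟩
  rw [Nat.card_zpowers]
  exact orderOf_le_of_pow_eq_one ho hc

/-- the image of a finite group has at most as many elements -/
theorem card_le_of_le_range {K₁ : Type*} [Group K₁] [Finite K₁] (f : K₁ →* K) (H : Subgroup K)
    (hH : H ≤ f.range) : Finite H ∧ Nat.card H ≤ Nat.card K₁ := by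
  have hfr : Finite f.range := Finite.of_surjective f.rangeRestrict f.rangeRestrict_surjective
  have h1 : Nat.card f.range ≤ Nat.card K₁ :=
    Nat.card_le_card_of_surjective f.rangeRestrict f.rangeRestrict_surjective
  have hfin : Finite H := Finite.of_injective (Subgroup.inclusion hH) (Subgroup.inclusion_injective hH)
  exact ⟨hfin, (Subgroup.card_le_of_le hH).trans h1⟩

end Card

section Sylow
variable {G : Type*} [Group G]

/-- if `p ^ a` is the full power of `p` in `|G|` and divides `|N|` for a normal subgroup `N`, then `N`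
contains every element whose order divides `p ^ a` -/
theorem mem_normal_of_pow_dvd [Finite G] (p : ℕ) [Fact p.Prime] (N : Subgroup G) [N.Normal]
    (a : ℕ) (hG : (Nat.card G).factorization p = a) (hN : p ^ a ∣ Nat.card N) (g : G)
    (hg : g ^ (p ^ a) = 1) : g ∈ N := by
  have hp : p.Prime := Fact.out
  have hNpos : Nat.card N ≠ 0 := Nat.card_pos.ne'
  have hGpos : Nat.card G ≠ 0 := Nat.card_pos.ne'
  have hfa : (Nat.card N).factorization p = a := by
    apply le_antisymm
    · rw [← hG]
      exact (Nat.factorization_le_iff_dvd hNpos hGpos).mpr N.card_subgroup_dvd_card p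
    · exact (hp.pow_dvd_iff_le_factorization hNpos).mp hN
  -- a Sylow subgroup of N
  obtain ⟨P⟩ : Nonempty (Sylow p N) := inferInstance
  have hPc : Nat.card P = p ^ a := by rw [P.card_eq_multiplicity, hfa]
  let P' : Subgroup G := (P : Subgroup N).map N.subtype
  have hP'c : Nat.card P' = p ^ (Nat.card G).factorization p := by
    rw [hG, ← hPc]
    exact Subgroup.card_map_of_injective N.subtype_injective
  let Q : Sylow p G := Sylow.ofCard P' hP'c
  have hP'N : P' ≤ N := by
    rintro x ⟨y, _, rfl⟩
    exact y.2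
  -- zpowers g is a p-group
  have hz : IsPGroup p (Subgroup.zpowers g) := by
    have hfin : IsOfFinOrder g := isOfFinOrder_iff_pow_eq_one.mpr ⟨p ^ a, pow_pos hp.pos a, hg⟩
    have hdvd : orderOf g ∣ p ^ a := orderOf_dvd_of_pow_eq_one hg
    obtain ⟨j, _, hj⟩ := (Nat.dvd_prime_pow hp).mp hdvd
    apply IsPGroup.of_card (n := j)
    rw [Nat.card_zpowers, hj]
  obtain ⟨Q', hQ'⟩ := hz.exists_le_sylow
  obtain ⟨x, hx⟩ := MulAction.exists_smul_eq G Q Q'
  have hgQ' : g ∈ (Q' : Subgroup G) := hQ' (Subgroup.mem_zpowers g)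
  rw [← hx, Sylow.coe_subgroup_smul] at hgQ'
  rw [Subgroup.mem_pointwise_smul_iff_inv_smul_mem] at hgQ'
  have h1 : (MulAut.conj x)⁻¹ • g ∈ P' := by
    simpa [Q] using hgQ'
  have h2 : (MulAut.conj x)⁻¹ • g ∈ N := hP'N h1
  have h3 : (MulAut.conj x)⁻¹ • g = x⁻¹ * g * x := by
    simp [MulAut.smul_def]
  rw [h3] at h2
  have := ‹N.Normal›.conj_mem _ h2 x
  simpa [mul_assoc] using this

end Sylow

section Chain
variable {G : Type*} [Group G] {X : Type*} [MulAction G X]

/-- orbit-stabilizer lower bound -/
theorem card_mul_card_stabilizer_le [Finite G] (a : X) (A : Finset X)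
    (hA : ∀ x ∈ A, ∃ g : G, g • a = x) :
    A.card * Nat.card (MulAction.stabilizer G a) ≤ Nat.card G := by
  have h1 := (MulAction.stabilizer G a).index_mul_card
  rw [MulAction.index_stabilizer] at h1
  rw [← h1]
  apply Nat.mul_le_mul_right
  have hfin : (MulAction.orbit G a).Finite := Set.finite_range _
  have hsub : (A : Set X) ⊆ MulAction.orbit G a := by
    intro x hx
    obtain ⟨g, hg⟩ := hA x hx
    exact ⟨g, hg⟩
  have := Set.ncard_le_ncard hsub hfin
  rwa [Set.ncard_coe_finset] at this

/-- three-level stabilizer chain lower bound for the order of a finite group acting on a type -/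
theorem card_ge_of_chain [Finite G] (a b c : X) (A B C : Finset X)
    (hA : ∀ x ∈ A, ∃ g : G, g • a = x)
    (hB : ∀ x ∈ B, ∃ g : G, g • a = a ∧ g • b = x)
    (hC : ∀ x ∈ C, ∃ g : G, g • a = a ∧ g • b = b ∧ g • c = x) :
    A.card * B.card * C.card ≤ Nat.card G := by
  have h1 := card_mul_card_stabilizer_le (G := G) a A hA
  have h2 : B.card * Nat.card (MulAction.stabilizer (MulAction.stabilizer G a) b) ≤
      Nat.card (MulAction.stabilizer G a) := by
    apply card_mul_card_stabilizer_le (G := MulAction.stabilizer G a) b B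
    intro x hx
    obtain ⟨g, hga, hgb⟩ := hB x hx
    exact ⟨⟨g, hga⟩, hgb⟩
  have h3 : C.card * Nat.card (MulAction.stabilizer (MulAction.stabilizer (MulAction.stabilizer G a) b) c) ≤
      Nat.card (MulAction.stabilizer (MulAction.stabilizer G a) b) := by
    apply card_mul_card_stabilizer_le (G := MulAction.stabilizer (MulAction.stabilizer G a) b) c C
    intro x hx
    obtain ⟨g, hga, hgb, hgc⟩ := hC x hx
    exact ⟨⟨⟨g, hga⟩, hgb⟩, hgc⟩
  have h4 : 1 ≤ Nat.card (MulAction.stabilizer (MulAction.stabilizer (MulAction.stabilizer G a) b) c) :=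
    Nat.card_pos
  calc A.card * B.card * C.card
      ≤ A.card * B.card * (C.card *
          Nat.card (MulAction.stabilizer (MulAction.stabilizer (MulAction.stabilizer G a) b) c)) := by
        apply Nat.mul_le_mul_left
        exact Nat.le_mul_of_pos_right _ h4
    _ ≤ A.card * B.card * Nat.card (MulAction.stabilizer (MulAction.stabilizer G a) b) :=
        Nat.mul_le_mul_left _ h3
    _ = A.card * (B.card * Nat.card (MulAction.stabilizer (MulAction.stabilizer G a) b)) := by ring
    _ ≤ A.card * Nat.card (MulAction.stabilizer G a) := Nat.mul_le_mul_left _ h2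
    _ ≤ Nat.card G := h1

end Chain

end Cfsg.Agent.Lib.Helper25.TC
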