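import Mathlib
import Cfsg.Agent.Lib.Helper25.TCTable
import Cfsg.Agent.Lib.Helper25.TCExistA

set_option autoImplicit false

/-! Existence pipeline, abstract level: from a verified coset table (`TableHyp`, `PermHyp`, `OrbitHyp`)
to order bounds and simplicity. -/

namespace Cfsg.Agent.Lib.Helper25.TC

section Sums

/-- all sums of `f` over subsets of `range r` -/
def sumsBelow (f : Nat → Nat) : Nat → List Nat
  | 0 => [0]
  | r+1 => sumsBelow f r ++ (sumsBelow f r).map (fun s => s + f r)

theorem sum_filter_mem_sumsBelow (f : Nat → Nat) (P : Nat → Prop) [DecidablePred P] :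
    ∀ r : Nat, (∑ j ∈ (Finset.range r).filter P, f j) ∈ sumsBelow f r := by
  intro r
  induction r with
  | zero => simp [sumsBelow]
  | succ r ih =>
    rw [Finset.range_add_one, Finset.filter_insert]
    simp only [sumsBelow, List.mem_append, List.mem_map]
    by_cases hP : P r
    · rw [if_pos hP, Finset.sum_insert (by simp)]
      right
      exact ⟨_, ih, by ring⟩
    · rw [if_neg hP]
      left; exact ih

theorem sumsBelow_congr (f g : Nat → Nat) : ∀ r : Nat, (∀ j < r, f j = g j) → sumsBelow f r = sumsBelow g r := by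
  intro r
  induction r with
  | zero => intro _; rfl
  | succ r ih =>
    intro h
    simp only [sumsBelow]
    rw [ih (fun j hj => h j (by omega)), h r (by omega)]

/-- a set of indices closed under "same label" has cardinality a sum of class sizes -/
theorem card_eq_sum_classes (n r : Nat) (ol : Nat → Nat) (hol : ∀ i < n, ol i < r) (B : Finset (Fin n))
    (hB : ∀ i ∈ B, ∀ i' : Fin n, ol i'.val = ol i.val → i' ∈ B) :
    B.card = ∑ j ∈ (Finset.range r).filter (fun j => ∃ i ∈ B, ol i.val = j),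
      cnt (fun i => Nat.beq (ol i) j) n := by
  classical
  have hmaps : ∀ i ∈ B, ol i.val ∈ (Finset.range r).filter (fun j => ∃ i ∈ B, ol i.val = j) := by
    intro i hi
    simp only [Finset.mem_filter, Finset.mem_range]
    exact ⟨hol i.val i.isLt, i, hi, rfl⟩
  rw [Finset.card_eq_sum_card_fiberwise hmaps]
  apply Finset.sum_congr rfl
  intro j hj
  simp only [Finset.mem_filter, Finset.mem_range] at hj
  obtain ⟨_, i0, hi0, hij⟩ := hj
  have heq : B.filter (fun i => ol i.val = j) = Finset.univ.filter (fun i : Fin n => ol i.val = j) := by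
    ext i
    simp only [Finset.mem_filter, Finset.mem_univ, true_and, and_iff_right_iff_imp]
    intro hi
    exact hB i0 hi0 i (by rw [hi, hij])
  rw [heq, ← ncard_fin_eq_cnt]
  rw [← Set.ncard_coe_finset]
  congr 1
  ext i
  simp only [Finset.coe_filter, Finset.mem_univ, true_and, Set.mem_setOf_eq]
  constructor
  · intro h; rw [h]; exact Nat.beq_refl _
  · intro h; exact Nat.eq_of_beq_eq_true h

end Sums

section Abstract
variable {G : Type*} [Group G] {gen : Nat → G} {H : Subgroup G} {k n : Nat} {T : Nat → Nat → Nat}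
  {R : Nat → G} {hn : 0 < n} {φ : G →* Equiv.Perm (Fin n)} {bp bg : Nat → Nat}

theorem phi_rep_zero (hh : TableHyp gen H k n T R) (hp : PermHyp (gen := gen) (H := H) k n T hn φ bp bg)
    (j : Fin n) : φ (R j.val) ⟨0, hn⟩ = j :=
  Fin.ext (beta_eq hh hp j.val j.isLt)

theorem stab_iff (hh : TableHyp gen H k n T R) (hp : PermHyp (gen := gen) (H := H) k n T hn φ bp bg)
    (g : G) : φ g ⟨0, hn⟩ = ⟨0, hn⟩ ↔ g ∈ H := by
  constructor
  · intro h
    have h1 := smul_coset hh hp g ⟨0, hn⟩
    simp only [h, hh.hR0] at h1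
    have h2 : g • (((1 : G) : G ⧸ H)) = ((g * 1 : G) : G ⧸ H) := rfl
    rw [h2, mul_one] at h1
    have h3 := QuotientGroup.eq.mp h1
    rw [mul_one] at h3
    simpa using H.inv_mem h3
  · exact hp.hH g

/-- the coset `q0 = H` corresponds to the index `0` -/
theorem cosetEquiv_zero (hh : TableHyp gen H k n T R)
    (hp : PermHyp (gen := gen) (H := H) k n T hn φ bp bg) :
    cosetEquiv hh hp ⟨0, hn⟩ = ((1 : G) : G ⧸ H) := by
  show ((R 0 : G) : G ⧸ H) = _
  rw [hh.hR0]

theorem smul_cosetEquiv (hh : TableHyp gen H k n T R)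
    (hp : PermHyp (gen := gen) (H := H) k n T hn φ bp bg) (g : G) (i : Fin n) :
    g • cosetEquiv hh hp i = cosetEquiv hh hp (φ g i) :=
  smul_coset hh hp g i

/-- lower bound for the order of the permutation group `φ.range` via a three-level stabilizer chain -/
theorem range_card_ge [Finite G] (hh : TableHyp gen H k n T R)
    (hp : PermHyp (gen := gen) (H := H) k n T hn φ bp bg)
    {sw : List (List Nat)} {ol op ow od : Nat → Nat} {β : Nat}
    (ho : OrbitHyp (gen := gen) (H := H) k n T sw ol op ow od β)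
    (γ : Nat) (hγ : γ < n) (ws : List (List Nat))
    (hws : ∀ w ∈ ws, (∀ x ∈ w, x < k) ∧ tr T w 0 = 0 ∧ tr T w β = β)
    (hnd : (ws.map (fun w => tr T w γ)).Nodup) :
    n * cnt (fun i => Nat.beq (ol i) (ol β)) n * ws.length ≤ Nat.card φ.range := by
  classical
  have hfin : Finite φ.range := Finite.of_surjective φ.rangeRestrict φ.rangeRestrict_surjective
  have hβ : β < n := ho.hr
  let A : Finset (Fin n) := Finset.univ
  let B : Finset (Fin n) := Finset.univ.filter (fun i : Fin n => Nat.beq (ol i.val) (ol β) = true)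
  let C : Finset (Fin n) := (ws.map (fun w => φ (evr gen w) ⟨γ, hγ⟩)).toFinset
  have hsm : ∀ (g : G) (i : Fin n), (⟨φ g, g, rfl⟩ : φ.range) • i = φ g i := fun g i => rfl
  have hA : ∀ x ∈ A, ∃ g : φ.range, g • (⟨0, hn⟩ : Fin n) = x := by
    intro x _
    exact ⟨⟨φ (R x.val), _, rfl⟩, by rw [hsm]; exact phi_rep_zero hh hp x⟩
  have hB : ∀ x ∈ B, ∃ g : φ.range, g • (⟨0, hn⟩ : Fin n) = ⟨0, hn⟩ ∧ g • (⟨β, hβ⟩ : Fin n) = x := by
    intro x hx
    simp only [B, Finset.mem_filter, Finset.mem_univ, true_and] at hx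
    have hmem : cosetEquiv hh hp x ∈ MulAction.orbit H (((R β : G) : G ⧸ H)) := by
      rw [orbit_eq hh hp ho]
      exact ⟨x, hx, rfl⟩
    obtain ⟨⟨h, hhH⟩, hq⟩ := hmem
    have hq' : h • cosetEquiv hh hp ⟨β, hβ⟩ = cosetEquiv hh hp x := hq
    rw [smul_cosetEquiv] at hq'
    have := (cosetEquiv hh hp).injective hq'
    exact ⟨⟨φ h, _, rfl⟩, by rw [hsm]; exact hp.hH h hhH, by rw [hsm]; exact this⟩
  have hC : ∀ x ∈ C, ∃ g : φ.range, g • (⟨0, hn⟩ : Fin n) = ⟨0, hn⟩ ∧ g • (⟨β, hβ⟩ : Fin n) = ⟨β, hβ⟩ ∧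
      g • (⟨γ, hγ⟩ : Fin n) = x := by
    intro x hx
    simp only [C, List.mem_toFinset, List.mem_map] at hx
    obtain ⟨w, hw, rfl⟩ := hx
    obtain ⟨hl, h0, hb⟩ := hws w hw
    refine ⟨⟨φ (evr gen w), _, rfl⟩, ?_, ?_, ?_⟩
    · rw [hsm]; apply Fin.ext; rw [phi_word hp w hl]; exact h0
    · rw [hsm]; apply Fin.ext; rw [phi_word hp w hl]; exact hb
    · rw [hsm]
  have key := card_ge_of_chain (G := φ.range) (⟨0, hn⟩ : Fin n) ⟨β, hβ⟩ ⟨γ, hγ⟩ A B C hA hB hC
  have hAc : A.card = n := by simp [A]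
  have hBc : B.card = cnt (fun i => Nat.beq (ol i) (ol β)) n := by
    rw [← ncard_fin_eq_cnt, ← Set.ncard_coe_finset]
    congr 1
    ext i
    simp [B]
  have hCc : C.card = ws.length := by
    have hnd' : (ws.map (fun w => φ (evr gen w) ⟨γ, hγ⟩)).Nodup := by
      have : ((ws.map (fun w => φ (evr gen w) ⟨γ, hγ⟩)).map Fin.val).Nodup := by
        rw [List.map_map]
        have hfe : ws.map (Fin.val ∘ fun w => φ (evr gen w) ⟨γ, hγ⟩) = ws.map (fun w => tr T w γ) := by
          apply List.map_congr_left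
          intro w hw
          simp only [Function.comp]
          exact phi_word hp w (hws w hw).1 ⟨γ, hγ⟩
        rw [hfe]; exact hnd
      exact List.Nodup.of_map _ this
    simp only [C]
    rw [List.toFinset_card_of_nodup hnd', List.length_map]
  rw [hAc, hBc, hCc] at key
  exact key

/-- simplicity from the verified coset table: arithmetic of suborbit sizes plus a Sylow argument -/
theorem simple_of_table [Finite G] (hh : TableHyp gen H k n T R)
    (hp : PermHyp (gen := gen) (H := H) k n T hn φ bp bg) (hinj : Function.Injective φ)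
    {sw : List (List Nat)} {ol op ow od : Nat → Nat}
    (horb : ∀ i < n, ∃ r, ol r = ol i ∧ OrbitHyp (gen := gen) (H := H) k n T sw ol op ow od r)
    (r : Nat) (hol : ∀ i < n, ol i < r) (hol0 : ∀ i < n, ol i = ol 0 → i = 0)
    (harith : ∀ s ∈ sumsBelow (fun j => if j = ol 0 then 0 else cnt (fun i => Nat.beq (ol i) j) n) r,
        (1 + s) ∣ n → s = 0 ∨ 1 + s = n)
    (p a : ℕ) [Fact p.Prime] (hpa : (Nat.card G).factorization p = a) (hpn : p ^ a ∣ n)
    (g0 : G) (hg0 : g0 ^ (p ^ a) = 1) (hnc : Subgroup.normalClosure {g0} = ⊤) (hnt : 1 < n) :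
    IsSimpleGroup G := by
  classical
  have hidx : H.index = n := index_eq hh hp
  haveI : Nontrivial G := by
    by_contra hnon
    rw [not_nontrivial_iff_subsingleton] at hnon
    have : H = ⊤ := Subsingleton.elim _ _
    rw [this, Subgroup.index_top] at hidx; omega
  refine ⟨fun N hN => ?_⟩
  by_contra hcon
  push_neg at hcon
  obtain ⟨hNbot, hNtop⟩ := hcon
  set q0 : G ⧸ H := ((1 : G) : G ⧸ H) with hq0
  set e := cosetEquiv hh hp with he
  have he0 : e ⟨0, hn⟩ = q0 := cosetEquiv_zero hh hp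
  have hblock : MulAction.IsBlock G (MulAction.orbit N q0) := MulAction.IsBlock.orbit_of_normal q0
  have hdvd : (MulAction.orbit N q0).ncard ∣ Nat.card (G ⧸ H) :=
    hblock.ncard_dvd_card ⟨q0, MulAction.mem_orbit_self q0⟩
  have hcardq : Nat.card (G ⧸ H) = n := hidx
  rw [hcardq] at hdvd
  let B : Finset (Fin n) := Finset.univ.filter (fun i => e i ∈ MulAction.orbit N q0)
  have hBcard : B.card = (MulAction.orbit N q0).ncard := by
    have : (MulAction.orbit N q0) = e '' (B : Set (Fin n)) := by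
      ext q
      constructor
      · intro hq
        refine ⟨e.symm q, ?_, by simp⟩
        simp [B, hq]
      · rintro ⟨i, hi, rfl⟩
        simpa [B] using hi
    rw [this, Set.ncard_image_of_injective _ e.injective, Set.ncard_coe_finset]
  -- the orbit is invariant under H
  have hHinv : ∀ h ∈ H, ∀ q ∈ MulAction.orbit N q0, h • q ∈ MulAction.orbit N q0 := by
    rintro h hh' _ ⟨⟨ν, hν⟩, rfl⟩
    have hfix : h • q0 = q0 := by
      have h2 : h • q0 = ((h * 1 : G) : G ⧸ H) := rfl
      rw [h2, mul_one, hq0]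
      apply QuotientGroup.eq.mpr
      simpa using H.inv_mem hh'
    refine ⟨⟨h * ν * h⁻¹, hN.conj_mem ν hν h⟩, ?_⟩
    show (h * ν * h⁻¹) • q0 = h • (ν • q0)
    rw [mul_smul, mul_smul]
    congr 2
    rw [inv_smul_eq_iff, hfix]
  have hBclosed : ∀ i ∈ B, ∀ i' : Fin n, ol i'.val = ol i.val → i' ∈ B := by
    intro i hi i' hii'
    simp only [B, Finset.mem_filter, Finset.mem_univ, true_and] at hi ⊢
    obtain ⟨r0, hr0, ho⟩ := horb i.val i.isLt
    have h1 : e i ∈ MulAction.orbit H (((R r0 : G) : G ⧸ H)) := by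
      rw [orbit_eq hh hp ho]
      exact ⟨i, by simp only [Set.mem_setOf_eq]; rw [hr0]; exact Nat.beq_refl _, rfl⟩
    have h2 : e i' ∈ MulAction.orbit H (((R r0 : G) : G ⧸ H)) := by
      rw [orbit_eq hh hp ho]
      exact ⟨i', by simp only [Set.mem_setOf_eq]; rw [hr0, hii']; exact Nat.beq_refl _, rfl⟩
    obtain ⟨⟨h1', hh1⟩, hq1⟩ := h1
    obtain ⟨⟨h2', hh2⟩, hq2⟩ := h2
    have hq1' : h1' • (((R r0 : G) : G ⧸ H)) = e i := hq1
    have hq2' : h2' • (((R r0 : G) : G ⧸ H)) = e i' := hq2
    have : e i' = (h2' * h1'⁻¹) • e i := by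
      rw [← hq1', ← hq2', mul_smul, inv_smul_smul]
    rw [this]
    exact hHinv _ (H.mul_mem hh2 (H.inv_mem hh1)) _ hi
  have h0B : (⟨0, hn⟩ : Fin n) ∈ B := by
    simp only [B, Finset.mem_filter, Finset.mem_univ, true_and, he0]
    exact MulAction.mem_orbit_self q0
  have hsum := card_eq_sum_classes n r ol hol B hBclosed
  set S := (Finset.range r).filter (fun j => ∃ i ∈ B, ol i.val = j) with hS
  have h0S : ol 0 ∈ S := by
    simp only [hS, Finset.mem_filter, Finset.mem_range]
    exact ⟨hol 0 hn, ⟨0, hn⟩, h0B, rfl⟩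
  have hc0 : cnt (fun i => Nat.beq (ol i) (ol 0)) n = 1 := by
    rw [← ncard_fin_eq_cnt]
    have : {i : Fin n | Nat.beq (ol i.val) (ol 0) = true} = {⟨0, hn⟩} := by
      ext i
      simp only [Set.mem_setOf_eq, Set.mem_singleton_iff]
      constructor
      · intro h
        exact Fin.ext (hol0 i.val i.isLt (Nat.eq_of_beq_eq_true h))
      · rintro rfl; exact Nat.beq_refl _
    rw [this, Set.ncard_singleton]
  set f' : Nat → Nat := fun j => if j = ol 0 then 0 else cnt (fun i => Nat.beq (ol i) j) n with hf'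
  have hsplit : ∑ j ∈ S, cnt (fun i => Nat.beq (ol i) j) n = 1 + ∑ j ∈ S, f' j := by
    have : ∀ j ∈ S, cnt (fun i => Nat.beq (ol i) j) n =
        (if j = ol 0 then cnt (fun i => Nat.beq (ol i) (ol 0)) n else 0) + f' j := by
      intro j _
      simp only [hf']
      split_ifs with hj
      · rw [hj]; simp
      · simp
    rw [Finset.sum_congr rfl this, Finset.sum_add_distrib, Finset.sum_ite_eq' S (ol 0), if_pos h0S, hc0]
  have hmem := sum_filter_mem_sumsBelow f' (fun j => ∃ i ∈ B, ol i.val = j) r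
  have hBc : B.card = 1 + ∑ j ∈ S, f' j := by rw [hsum, hsplit]
  have hd' : (1 + ∑ j ∈ S, f' j) ∣ n := by rw [← hBc, hBcard]; exact hdvd
  rcases harith _ hmem hd' with hs0 | hsn
  · -- trivial orbit: N ≤ H, hence N = ⊥
    have hB1 : (MulAction.orbit N q0).ncard = 1 := by rw [← hBcard, hBc, hs0]
    have hNH : N ≤ H := by
      intro ν hν
      obtain ⟨q, hq⟩ := Set.ncard_eq_one.mp hB1
      have h1 : q0 ∈ ({q} : Set (G ⧸ H)) := hq ▸ MulAction.mem_orbit_self q0
      have h2 : ν • q0 ∈ ({q} : Set (G ⧸ H)) := hq ▸ ⟨⟨ν, hν⟩, rfl⟩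
      rw [Set.mem_singleton_iff] at h1 h2
      have h3 : ν • q0 = q0 := h2.trans h1.symm
      have h4 : ν • q0 = ((ν * 1 : G) : G ⧸ H) := rfl
      rw [h4, mul_one, hq0] at h3
      have := QuotientGroup.eq.mp h3
      rw [mul_one] at this
      simpa using H.inv_mem this
    apply hNbot
    rw [Subgroup.eq_bot_iff_forall]
    intro ν hν
    apply hinj
    rw [map_one]
    ext i
    have hi : φ (R i.val) ⟨0, hn⟩ = i := phi_rep_zero hh hp i
    have hconj : (R i.val)⁻¹ * ν * R i.val ∈ H := hNH (by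
      have := hN.conj_mem ν hν (R i.val)⁻¹
      simpa using this)
    have hfix := hp.hH _ hconj
    have e1 : φ ((R i.val)⁻¹ * ν * R i.val) ⟨0, hn⟩ = (φ (R i.val))⁻¹ (φ ν (φ (R i.val) ⟨0, hn⟩)) := by
      simp [map_mul, map_inv, Equiv.Perm.mul_apply]
    rw [e1, hi] at hfix
    have e2 : φ ν i = φ (R i.val) ⟨0, hn⟩ := by
      have := congrArg (φ (R i.val)) hfix
      simpa using this
    rw [e2, hi]
    simp
  · -- full orbit: n divides |N|, Sylow argument
    have hBn : (MulAction.orbit N q0).ncard = n := by rw [← hBcard, hBc, hsn]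
    have h1 := (MulAction.stabilizer N q0).index_mul_card
    rw [MulAction.index_stabilizer, hBn] at h1
    have hnN : n ∣ Nat.card N := Dvd.intro _ h1
    have hg0N : g0 ∈ N := mem_normal_of_pow_dvd p N a hpa (hpn.trans hnN) g0 hg0
    apply hNtop
    rw [eq_top_iff, ← hnc]
    exact Subgroup.normalClosure_le_normal (by simpa using hg0N)

end Abstract

end Cfsg.Agent.Lib.Helper25.TC
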