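import Mathlib
import Cfsg.Agent.Lib.Helper25.TCCox

set_option autoImplicit false

namespace Cfsg.Agent.Lib.Helper25.TC

/-- bounded universal quantifier as a Bool -/
def allLt : Nat → (Nat → Bool) → Bool
  | 0, _ => true
  | k+1, f => allLt k f && f k

theorem allLt_spec : ∀ (k : Nat) (f : Nat → Bool), allLt k f = true → ∀ x < k, f x = true := by
  intro k
  induction k with
  | zero => intro f _ x hx; omega
  | succ k ih =>
    intro f h x hx
    simp only [allLt, Bool.and_eq_true] at h
    rcases Nat.lt_succ_iff_lt_or_eq.mp hx with h1 | h1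
    · exact ih f h.1 x h1
    · rw [h1]; exact h.2

/-! The Bool-valued checks, to be evaluated by the kernel -/

def ckCert (C : Cert) (nF : Nat) (f : Nat) : Bool := Nat.ble nF f || chkFactFast C f

def ckFin (C : Cert) (k n nF : Nat) (can : Nat → Nat) (fin T : Nat → Nat → Nat) (i : Nat) : Bool :=
  Nat.ble n i || allLt k (fun x => chkFin C nF can fin T x i)

def ckTbl (k n : Nat) (T : Nat → Nat → Nat) (i : Nat) : Bool :=
  Nat.ble n i || allLt k (fun x => Nat.blt (T x i) n && Nat.beq (T x (T x i)) i)

def ckRel (n : Nat) (T : Nat → Nat → Nat) (ws : List (List Nat)) (i : Nat) : Bool :=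
  Nat.ble n i || ws.all (fun w => Nat.beq (tr T w i) i)

def ckTree (k n : Nat) (T : Nat → Nat → Nat) (bp bg : Nat → Nat) (j : Nat) : Bool :=
  Nat.ble n j || Nat.beq j 0 || (Nat.blt (bp j) j && Nat.blt (bg j) k && Nat.beq (T (bg j) (bp j)) j)

def ckOrbInv (n : Nat) (T : Nat → Nat → Nat) (sw : List (List Nat)) (ol : Nat → Nat) (i : Nat) : Bool :=
  Nat.ble n i || sw.all (fun w => Nat.beq (ol (tr T w i)) (ol i))

def ckOrbTree (n : Nat) (T : Nat → Nat → Nat) (sw : List (List Nat)) (roots : List Nat)
    (ol op ow od : Nat → Nat) (i : Nat) : Bool :=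
  Nat.ble n i || Nat.beq i (roots.getD (ol i) 0) ||
    (Nat.blt (op i) n && Nat.beq (ol (op i)) (ol i) && Nat.blt (od (op i)) (od i) &&
      Nat.blt (ow i) sw.length && Nat.beq (tr T (sw.getD (ow i) []) (op i)) i)

section Main
open Cfsg.Spor

variable {α : Type} [DecidableEq α] {edges : List (α × ℕ × α)} {extra : List (FreeGroup α)}
  {k : Nat} {idx : α → Nat} {ofIdx : Nat → α} {L : Nat → Nat → Nat} {extraW : List (List Nat)}

/-- all numeric hypotheses of a coset-enumeration certificate for a Coxeter-style presentation -/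
structure Checks (k : Nat) (L : Nat → Nat → Nat) (extraW : List (List Nat)) (C : Cert) (n nF : Nat)
    (T fin : Nat → Nat → Nat) (can bp bg : Nat → Nat) (sw : List (List Nat)) : Prop where
  hn : 0 < n
  hns : C.ns = sw.length
  hsw : ∀ ρ < C.ns, C.cyc.getD ρ [] ∈ sw
  hcyc : ∀ ρ < C.cyc.length, C.ns ≤ ρ → C.cyc.getD ρ [] ∈ coxWords k L ++ extraW
  hlet : ∀ w ∈ coxWords k L ++ extraW, ∀ x ∈ w, x < k
  hletsw : ∀ w ∈ sw, ∀ x ∈ w, x < k
  hsw0 : ∀ w ∈ sw, tr T w 0 = 0
  hcan : can 0 = 0
  cCert : ∀ f < nF, chkFactFast C f = true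
  cFin : ∀ i < n, ckFin C k n nF can fin T i = true
  cTbl : ∀ i < n, ckTbl k n T i = true
  cRel : ∀ i < n, ckRel n T (coxWords k L ++ extraW) i = true
  cTree : ∀ j < n, ckTree k n T bp bg j = true

variable {C : Cert} {n nF : Nat} {T fin : Nat → Nat → Nat} {can bp bg : Nat → Nat} {sw : List (List Nat)}

theorem Checks.tblOk (hc : Checks k L extraW C n nF T fin can bp bg sw) : TblOk k n T := by
  intro x hx i hi
  have h := hc.cTbl i hi
  simp only [ckTbl, Bool.or_eq_true] at h
  rcases h with h | h
  · have := Nat.le_of_ble_eq_true h; omega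
  · have := allLt_spec k _ h x hx
    simp only [Bool.and_eq_true] at this
    exact ⟨Nat.le_of_ble_eq_true this.1, Nat.eq_of_beq_eq_true this.2⟩

theorem Checks.relOk (hc : Checks k L extraW C n nF T fin can bp bg sw) :
    ∀ w ∈ coxWords k L ++ extraW, (∀ x ∈ w, x < k) ∧ ∀ i < n, tr T w i = i := by
  intro w hw
  refine ⟨hc.hlet w hw, ?_⟩
  intro i hi
  have h := hc.cRel i hi
  simp only [ckRel, Bool.or_eq_true] at h
  rcases h with h | h
  · have := Nat.le_of_ble_eq_true h; omega
  · rw [List.all_eq_true] at h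
    exact Nat.eq_of_beq_eq_true (h w hw)

/-- the subgroup generated by the subgroup-generator words -/
def subH (edges : List (α × ℕ × α)) (extra : List (FreeGroup α)) (k : Nat) (ofIdx : Nat → α)
    (sw : List (List Nat)) : Subgroup (CoxPresented α edges extra) :=
  Subgroup.closure {g | ∃ w ∈ sw, g = evr (cgen edges extra k ofIdx) w}

theorem Checks.tableHyp (hs : CoxSetup edges extra k idx ofIdx L extraW)
    (hc : Checks k L extraW C n nF T fin can bp bg sw) :
    TableHyp (cgen edges extra k ofIdx) (subH edges extra k ofIdx sw) k n T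
      (fun i => rep (cgen edges extra k ofIdx) C (can i)) := by
  apply tableHyp_of_cert (cgen edges extra k ofIdx) C (subH edges extra k ofIdx sw) k n nF can fin T
  · exact cgen_mul_self hs
  · exact cgen_closure hs
  · intro ρ h1 h2
    exact evr_cgen_rel hs _ (hc.hcyc ρ h2 h1)
  · intro ρ h1
    exact Subgroup.subset_closure ⟨_, hc.hsw ρ h1, rfl⟩
  · intro f hf
    exact chkFactFast_sound C f (hc.cCert f hf)
  · intro x hx i hi
    exact (hc.tblOk x hx i hi).1
  · exact hc.hcan
  · intro x hx i hi
    have h := hc.cFin i hi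
    simp only [ckFin, Bool.or_eq_true] at h
    rcases h with h | h
    · have := Nat.le_of_ble_eq_true h; omega
    · exact allLt_spec k _ h x hx

/-- the permutation representation on the cosets -/
noncomputable def Checks.phi (hs : CoxSetup edges extra k idx ofIdx L extraW)
    (hc : Checks k L extraW C n nF T fin can bp bg sw) :
    CoxPresented α edges extra →* Equiv.Perm (Fin n) :=
  cphi hs hc.tblOk hc.relOk

theorem Checks.permHyp (hs : CoxSetup edges extra k idx ofIdx L extraW)
    (hc : Checks k L extraW C n nF T fin can bp bg sw) :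
    PermHyp (gen := cgen edges extra k ofIdx) (H := subH edges extra k ofIdx sw) k n T hc.hn
      (hc.phi hs) bp bg := by
  apply permHyp_of_table hs hc.tblOk hc.relOk hc.hn sw
  · intro w hw; exact ⟨hc.hletsw w hw, hc.hsw0 w hw⟩
  · intro j hj0 hj
    have h := hc.cTree j hj
    simp only [ckTree, Bool.or_eq_true, Bool.and_eq_true] at h
    rcases h with (h | h) | h
    · have := Nat.le_of_ble_eq_true h; omega
    · have := Nat.eq_of_beq_eq_true h; omega
    · exact ⟨Nat.le_of_ble_eq_true h.1.1, Nat.le_of_ble_eq_true h.1.2, Nat.eq_of_beq_eq_true h.2⟩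

theorem Checks.index_eq (hs : CoxSetup edges extra k idx ofIdx L extraW)
    (hc : Checks k L extraW C n nF T fin can bp bg sw) :
    (subH edges extra k ofIdx sw).index = n :=
  TC.index_eq (hc.tableHyp hs) (hc.permHyp hs)

/-- orbit checks -/
structure OrbChecks (n : Nat) (T : Nat → Nat → Nat) (sw : List (List Nat)) (roots : List Nat)
    (ol op ow od : Nat → Nat) : Prop where
  cInv : ∀ i < n, ckOrbInv n T sw ol i = true
  cTree : ∀ i < n, ckOrbTree n T sw roots ol op ow od i = true

variable {roots : List Nat} {ol op ow od : Nat → Nat}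

theorem Checks.orbitHyp (hc : Checks k L extraW C n nF T fin can bp bg sw)
    (ho : OrbChecks n T sw roots ol op ow od) (r : Nat) (hr : r < n) (hroot : roots.getD (ol r) 0 = r) :
    OrbitHyp (gen := cgen edges extra k ofIdx) (H := subH edges extra k ofIdx sw) k n T sw ol op ow od r where
  hH := rfl
  hlet := hc.hletsw
  hinvt := by
    intro w hw i hi
    have h := ho.cInv i hi
    simp only [ckOrbInv, Bool.or_eq_true] at h
    rcases h with h | h
    · have := Nat.le_of_ble_eq_true h; omega
    · rw [List.all_eq_true] at h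
      exact Nat.eq_of_beq_eq_true (h w hw)
  hr := hr
  htree := by
    intro i hi hol hne
    have h := ho.cTree i hi
    simp only [ckOrbTree, Bool.or_eq_true, Bool.and_eq_true] at h
    rcases h with (h | h) | h
    · have := Nat.le_of_ble_eq_true h; omega
    · have := Nat.eq_of_beq_eq_true h
      rw [hol, hroot] at this
      exact absurd this hne
    · obtain ⟨⟨⟨⟨h1, h2⟩, h3⟩, h4⟩, h5⟩ := h
      refine ⟨Nat.le_of_ble_eq_true h1, ?_, Nat.le_of_ble_eq_true h3, Nat.le_of_ble_eq_true h4,
        Nat.eq_of_beq_eq_true h5⟩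
      rw [Nat.eq_of_beq_eq_true h2, hol]

theorem Checks.orbit_ncard (hs : CoxSetup edges extra k idx ofIdx L extraW)
    (hc : Checks k L extraW C n nF T fin can bp bg sw)
    (ho : OrbChecks n T sw roots ol op ow od) (r : Nat) (hr : r < n) (hroot : roots.getD (ol r) 0 = r) :
    (MulAction.orbit (subH edges extra k ofIdx sw)
      (((rep (cgen edges extra k ofIdx) C (can r) : CoxPresented α edges extra) :
        CoxPresented α edges extra ⧸ subH edges extra k ofIdx sw))).ncard =
      cnt (fun i => Nat.beq (ol i) (ol r)) n :=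
  TC.orbit_ncard (hc.tableHyp hs) (hc.permHyp hs) (hc.orbitHyp (edges := edges) (extra := extra)
    (ofIdx := ofIdx) ho r hr hroot)

theorem Checks.orbit_ne (hs : CoxSetup edges extra k idx ofIdx L extraW)
    (hc : Checks k L extraW C n nF T fin can bp bg sw)
    (ho : OrbChecks n T sw roots ol op ow od) (r r' : Nat) (hr : r < n) (hr' : r' < n)
    (hroot : roots.getD (ol r) 0 = r) (hroot' : roots.getD (ol r') 0 = r') (hne : ol r ≠ ol r') :
    MulAction.orbit (subH edges extra k ofIdx sw)
      (((rep (cgen edges extra k ofIdx) C (can r) : CoxPresented α edges extra) :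
        CoxPresented α edges extra ⧸ subH edges extra k ofIdx sw)) ≠
    MulAction.orbit (subH edges extra k ofIdx sw)
      (((rep (cgen edges extra k ofIdx) C (can r') : CoxPresented α edges extra) :
        CoxPresented α edges extra ⧸ subH edges extra k ofIdx sw)) :=
  TC.orbit_ne (hc.tableHyp hs) (hc.permHyp hs)
    (hc.orbitHyp (edges := edges) (extra := extra) (ofIdx := ofIdx) ho r hr hroot)
    (hc.orbitHyp (edges := edges) (extra := extra) (ofIdx := ofIdx) ho r' hr' hroot') hne

end Main

end Cfsg.Agent.Lib.Helper25.TC
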