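import Mathlib
import Cfsg.Agent.Lib.Helper25.TCMain
import Cfsg.Agent.Lib.Helper25.TCExistB

set_option autoImplicit false

/-! Existence pipeline, Coxeter-presentation level. -/

namespace Cfsg.Agent.Lib.Helper25.TC

open Cfsg.Spor

section Words
variable {G : Type*} [Group G]

theorem evr_reverse (gen : Nat → G) (hinv : ∀ x, gen x * gen x = 1) (w : List Nat) :
    evr gen w.reverse = (evr gen w)⁻¹ := by
  induction w with
  | nil => simp [evr]
  | cons x a ih =>
    rw [List.reverse_cons, evr_append, ih]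
    simp only [evr, one_mul, mul_inv_rev]
    rw [inv_eq_of_mul_eq_one_left (hinv x)]

theorem evr_singleton (gen : Nat → G) (x : Nat) : evr gen [x] = gen x := by simp [evr]

theorem evr_flatten_replicate (gen : Nat → G) (w : List Nat) (m : Nat) :
    evr gen (List.replicate m w).flatten = (evr gen w) ^ m := by
  induction m with
  | zero => simp [evr]
  | succ m ih =>
    rw [List.replicate_succ, List.flatten_cons, evr_append, ih, pow_succ]

theorem factorization_eq_of {p a m N : ℕ} (hp : p.Prime) (hN : N = p ^ a * m) (hm : ¬ p ∣ m) :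
    N.factorization p = a := by
  have hm0 : m ≠ 0 := by rintro rfl; exact hm (dvd_zero p)
  have hpa : p ^ a ≠ 0 := pow_ne_zero _ hp.ne_zero
  rw [hN, Nat.factorization_mul hpa hm0, Finsupp.add_apply, hp.factorization_pow,
    Nat.factorization_eq_zero_of_not_dvd hm]
  simp

/-- conjugate words stay in a normal subgroup -/
theorem evr_conj_mem (gen : Nat → G) (hinv : ∀ x, gen x * gen x = 1) (N : Subgroup G) [hN : N.Normal]
    (c s : List Nat) (hs : evr gen s ∈ N) : evr gen (c.reverse ++ s ++ c) ∈ N := by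
  rw [evr_append, evr_append, evr_reverse gen hinv]
  have := hN.conj_mem _ hs (evr gen c)
  simpa [mul_assoc] using this

theorem evr_mul_mem (gen : Nat → G) (N : Subgroup G) (a b : List Nat) (ha : evr gen a ∈ N)
    (hb : evr gen b ∈ N) : evr gen (a ++ b) ∈ N := by
  rw [evr_append]; exact N.mul_mem hb ha

theorem evr_reverse_mem (gen : Nat → G) (hinv : ∀ x, gen x * gen x = 1) (N : Subgroup G) (a : List Nat)
    (ha : evr gen a ∈ N) : evr gen a.reverse ∈ N := by
  rw [evr_reverse gen hinv]; exact N.inv_mem ha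

end Words

section Main

variable {α : Type} [DecidableEq α] {edges : List (α × ℕ × α)} {extra : List (FreeGroup α)}
  {k : Nat} {idx : α → Nat} {ofIdx : Nat → α} {L : Nat → Nat → Nat} {extraW : List (List Nat)}
  {C : Cert} {n nF : Nat} {T fin : Nat → Nat → Nat} {can bp bg : Nat → Nat} {sw : List (List Nat)}
  {roots : List Nat} {ol op ow od : Nat → Nat}

/-- every index has a root of its class carrying an `OrbitHyp` -/
theorem Checks.orbitHyp_all (hc : Checks k L extraW C n nF T fin can bp bg sw)
    (ho : OrbChecks n T sw roots ol op ow od) :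
    ∀ i < n, ∃ r, ol r = ol i ∧
      OrbitHyp (gen := cgen edges extra k ofIdx) (H := subH edges extra k ofIdx sw) k n T sw ol op ow od r := by
  have key : ∀ d : Nat, ∀ i < n, od i = d → ∃ r, ol r = ol i ∧
      OrbitHyp (gen := cgen edges extra k ofIdx) (H := subH edges extra k ofIdx sw) k n T sw ol op ow od r := by
    intro d
    induction d using Nat.strong_induction_on with
    | _ d ih =>
      intro i hi hd
      have h := ho.cTree i hi
      simp only [ckOrbTree, Bool.or_eq_true, Bool.and_eq_true] at h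
      rcases h with (h | h) | h
      · have := Nat.le_of_ble_eq_true h; omega
      · have hroot : roots.getD (ol i) 0 = i := (Nat.eq_of_beq_eq_true h).symm
        exact ⟨i, rfl, hc.orbitHyp (edges := edges) (extra := extra) (ofIdx := ofIdx) ho i hi hroot⟩
      · obtain ⟨⟨⟨⟨h1, h2⟩, h3⟩, _⟩, _⟩ := h
        have hp : op i < n := Nat.le_of_ble_eq_true h1
        have hl : ol (op i) = ol i := Nat.eq_of_beq_eq_true h2
        have hdd : od (op i) < od i := Nat.le_of_ble_eq_true h3
        obtain ⟨r, hr, hor⟩ := ih (od (op i)) (by omega) (op i) hp rfl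
        exact ⟨r, hr.trans hl, hor⟩
  intro i hi
  exact key (od i) i hi rfl

/-- equality of words in the presented group from equality of their traces, given faithfulness -/
theorem Checks.evr_eq_of_tr (hs : CoxSetup edges extra k idx ofIdx L extraW)
    (hc : Checks k L extraW C n nF T fin can bp bg sw) (hinj : Function.Injective (hc.phi hs))
    (w1 w2 : List Nat) (h1 : ∀ x ∈ w1, x < k) (h2 : ∀ x ∈ w2, x < k)
    (ht : ∀ i < n, tr T w1 i = tr T w2 i) :
    evr (cgen edges extra k ofIdx) w1 = evr (cgen edges extra k ofIdx) w2 := by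
  apply hinj
  have hp := hc.permHyp hs
  ext i
  rw [phi_word hp w1 h1, phi_word hp w2 h2]
  exact ht i.val i.isLt

end Main

section SubPres

variable {α₁ : Type} [DecidableEq α₁] {edges₁ : List (α₁ × ℕ × α₁)} {extra₁ : List (FreeGroup α₁)}
  {α : Type} [DecidableEq α] {edges : List (α × ℕ × α)} {extra : List (FreeGroup α)}

/-- a homomorphism between Coxeter-style presented groups induced by a map of generators -/
theorem exists_hom_of_emb (emb : α₁ → α)
    (hcox : ∀ a ∈ coxNodes edges₁, ∀ b ∈ coxNodes edges₁, emb a ∈ coxNodes edges ∧ emb b ∈ coxNodes edges ∧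
      coxLabel edges (emb a) (emb b) = coxLabel edges₁ a b)
    (hextra : ∀ r ∈ extra₁, FreeGroup.map emb r ∈ extra) :
    ∃ f : CoxPresented α₁ edges₁ extra₁ →* CoxPresented α edges extra,
      ∀ a, f (PresentedGroup.of a) = PresentedGroup.of (emb a) := by
  have hlift : ∀ r : FreeGroup α₁,
      FreeGroup.lift (fun a => (PresentedGroup.of (emb a) : CoxPresented α edges extra)) r =
        PresentedGroup.mk (coxRelators edges ∪ {r | r ∈ extra}) (FreeGroup.map emb r) := by
    intro r
    have : (FreeGroup.lift (fun a => (PresentedGroup.of (emb a) : CoxPresented α edges extra))) =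
        (PresentedGroup.mk (coxRelators edges ∪ {r | r ∈ extra})).comp (FreeGroup.map emb) := by
      ext a
      simp [PresentedGroup.of]
    rw [this]; rfl
  refine ⟨PresentedGroup.toGroup (f := fun a => (PresentedGroup.of (emb a) : CoxPresented α edges extra)) ?_,
    fun a => PresentedGroup.toGroup.of _⟩
  intro r hr
  rw [hlift]
  apply PresentedGroup.one_of_mem
  rcases hr with hr | hr
  · obtain ⟨a, ha, b, hb, rfl⟩ := hr
    obtain ⟨h1, h2, h3⟩ := hcox a ha b hb
    left
    refine ⟨emb a, h1, emb b, h2, ?_⟩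
    rw [map_pow, map_mul, FreeGroup.map.of, FreeGroup.map.of, h3]
  · right
    exact hextra r hr

/-- order bound through a two-level chain: `K ≥ H = ⟨some generators⟩`, `H` an image of a presented group
`K₁`, and `K₁ ≥ ⟨x y⟩` cyclic -/
theorem card_le_of_two_level
    {k₁ : Nat} {idx₁ : α₁ → Nat} {ofIdx₁ : Nat → α₁} {L₁ : Nat → Nat → Nat} {extraW₁ : List (List Nat)}
    {C₁ : Cert} {n₁ nF₁ : Nat} {T₁ fin₁ : Nat → Nat → Nat} {can₁ bp₁ bg₁ : Nat → Nat} {sw₁ : List (List Nat)}
    {k : Nat} {idx : α → Nat} {ofIdx : Nat → α} {L : Nat → Nat → Nat} {extraW : List (List Nat)}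
    {C : Cert} {n nF : Nat} {T fin : Nat → Nat → Nat} {can bp bg : Nat → Nat} {sw : List (List Nat)}
    (hs₁ : CoxSetup edges₁ extra₁ k₁ idx₁ ofIdx₁ L₁ extraW₁)
    (hc₁ : Checks k₁ L₁ extraW₁ C₁ n₁ nF₁ T₁ fin₁ can₁ bp₁ bg₁ sw₁)
    (x y : Nat) (hxy : x ≤ y) (hy : y < k₁) (hsw₁ : sw₁ = [[y, x]]) (o : Nat) (ho : L₁ x y = o) (hopos : 0 < o)
    (hs : CoxSetup edges extra k idx ofIdx L extraW)
    (hc : Checks k L extraW C n nF T fin can bp bg sw)
    (emb : α₁ → α)
    (hcox : ∀ a ∈ coxNodes edges₁, ∀ b ∈ coxNodes edges₁, emb a ∈ coxNodes edges ∧ emb b ∈ coxNodes edges ∧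
      coxLabel edges (emb a) (emb b) = coxLabel edges₁ a b)
    (hextra : ∀ r ∈ extra₁, FreeGroup.map emb r ∈ extra)
    (hsw : ∀ w ∈ sw, ∃ a : α₁, w = [idx (emb a)]) :
    Finite (CoxPresented α edges extra) ∧ Nat.card (CoxPresented α edges extra) ≤ n * (n₁ * o) := by
  -- the cyclic subgroup of K₁
  set c : CoxPresented α₁ edges₁ extra₁ := cgen edges₁ extra₁ k₁ ofIdx₁ x * cgen edges₁ extra₁ k₁ ofIdx₁ y
    with hcdef
  have hco : c ^ o = 1 := by
    have hmem : cw x y (L₁ x y) ∈ coxWords k₁ L₁ ++ extraW₁ :=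
      List.mem_append_left _ (mem_coxWords.mpr ⟨x, by omega, y, hy, hxy, rfl⟩)
    have := evr_cgen_rel hs₁ _ hmem
    rwa [evr_cw, ho] at this
  have hH₁ : subH edges₁ extra₁ k₁ ofIdx₁ sw₁ = Subgroup.closure {c} := by
    unfold subH
    congr 1
    ext g
    simp only [hsw₁, List.mem_singleton, exists_eq_left, Set.mem_setOf_eq, Set.mem_singleton_iff]
    simp [evr, hcdef]
  obtain ⟨hf1, hc1⟩ := finite_and_card_closure_singleton_le c hopos hco
  have hidx₁ := hc₁.index_eq hs₁
  rw [hH₁] at hidx₁
  obtain ⟨hK₁fin, hK₁card⟩ := finite_and_card_le_of_index (Subgroup.closure {c}) hidx₁ hc₁.hn hc1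
  -- the homomorphism K₁ → K
  obtain ⟨f, hf⟩ := exists_hom_of_emb (edges₁ := edges₁) (extra₁ := extra₁) (edges := edges) (extra := extra)
    emb hcox hextra
  have hle : subH edges extra k ofIdx sw ≤ f.range := by
    unfold subH
    rw [Subgroup.closure_le]
    rintro g ⟨w, hw, rfl⟩
    obtain ⟨a, rfl⟩ := hsw w hw
    rw [evr_singleton, cgen_idx hs]
    exact ⟨PresentedGroup.of a, hf a⟩
  obtain ⟨hHfin, hHcard⟩ := card_le_of_le_range f _ hle
  have hidx := hc.index_eq hs
  exact finite_and_card_le_of_index _ hidx hc.hn (hHcard.trans hK₁card)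

end SubPres

section Package

variable {α : Type} [DecidableEq α] {edges : List (α × ℕ × α)} {extra : List (FreeGroup α)}
  {k : Nat} {idx : α → Nat} {ofIdx : Nat → α} {L : Nat → Nat → Nat} {extraW : List (List Nat)}
  {C : Cert} {n nF : Nat} {T fin : Nat → Nat → Nat} {can bp bg : Nat → Nat} {sw : List (List Nat)}
  {roots : List Nat} {ol op ow od : Nat → Nat}

/-- the final package: a simple transitive permutation group of known order and point stabilizer -/
theorem exists_simple_perm_group (hs : CoxSetup edges extra k idx ofIdx L extraW)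
    (hc : Checks k L extraW C n nF T fin can bp bg sw)
    (ho : OrbChecks n T sw roots ol op ow od)
    (N : Nat) (hfin : Finite (CoxPresented α edges extra)) (hcard_le : Nat.card (CoxPresented α edges extra) ≤ N)
    (β γ : Nat) (hβ : β < n) (hβroot : roots.getD (ol β) 0 = β) (hγ : γ < n) (ws : List (List Nat))
    (hws : ∀ w ∈ ws, (∀ x ∈ w, x < k) ∧ tr T w 0 = 0 ∧ tr T w β = β)
    (hnd : (ws.map (fun w => tr T w γ)).Nodup)
    (hN : N = n * cnt (fun i => Nat.beq (ol i) (ol β)) n * ws.length)
    (r : Nat) (hol : ∀ i < n, ol i < r) (hol0 : ∀ i < n, ol i = ol 0 → i = 0)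
    (harith : ∀ s ∈ sumsBelow (fun j => if j = ol 0 then 0 else cnt (fun i => Nat.beq (ol i) j) n) r,
        (1 + s) ∣ n → s = 0 ∨ 1 + s = n)
    (p a m : ℕ) [Fact p.Prime] (hNp : N = p ^ a * m) (hpm : ¬ p ∣ m) (hpn : p ^ a ∣ n)
    (g0 : CoxPresented α edges extra)
    (hg0 : Function.Injective (hc.phi hs) → g0 ^ (p ^ a) = 1)
    (hnc : Function.Injective (hc.phi hs) → Subgroup.normalClosure {g0} = ⊤) (hnt : 1 < n) :
    ∃ P : Subgroup (Equiv.Perm (Fin n)), IsSimpleGroup P ∧ Nat.card P = N ∧
      MulAction.IsPretransitive P (Fin n) ∧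
      Nat.card (MulAction.stabilizer P (⟨0, hc.hn⟩ : Fin n)) * n = N := by
  classical
  set φ := hc.phi hs with hφ
  have hh := hc.tableHyp hs
  have hp := hc.permHyp hs
  have hoβ := hc.orbitHyp (edges := edges) (extra := extra) (ofIdx := ofIdx) ho β hβ hβroot
  have hlow := range_card_ge hh hp hoβ γ hγ ws hws hnd
  rw [← hN] at hlow
  have hrs : Function.Surjective φ.rangeRestrict := φ.rangeRestrict_surjective
  have hup : Nat.card φ.range ≤ Nat.card (CoxPresented α edges extra) :=
    Nat.card_le_card_of_surjective _ hrs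
  have hKN : Nat.card (CoxPresented α edges extra) = N := le_antisymm hcard_le (hlow.trans hup)
  have hPN : Nat.card φ.range = N := le_antisymm (hup.trans hcard_le) hlow
  have hbij : Function.Bijective φ.rangeRestrict :=
    hrs.bijective_of_nat_card_le (by rw [hKN, hPN])
  have hinj : Function.Injective φ := by
    intro a b hab
    apply hbij.1
    exact Subtype.ext hab
  have hsimple : IsSimpleGroup (CoxPresented α edges extra) :=
    simple_of_table hh hp hinj (hc.orbitHyp_all ho) r hol hol0 harith p a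
      (by rw [hKN]; exact factorization_eq_of Fact.out hNp hpm) hpn g0
      (hg0 hinj) (hnc hinj) hnt
  let e : CoxPresented α edges extra ≃* φ.range := MonoidHom.ofInjective hinj
  have hsm : ∀ (g : CoxPresented α edges extra) (i : Fin n), (⟨φ g, g, rfl⟩ : φ.range) • i = φ g i :=
    fun g i => rfl
  have htrans : MulAction.IsPretransitive φ.range (Fin n) := by
    refine ⟨fun x y => ?_⟩
    refine ⟨⟨φ (rep (cgen edges extra k ofIdx) C (can y.val) * (rep (cgen edges extra k ofIdx) C (can x.val))⁻¹),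
      _, rfl⟩, ?_⟩
    rw [hsm, map_mul, map_inv, Equiv.Perm.mul_apply]
    have hx := phi_rep_zero hh hp x
    have hy := phi_rep_zero hh hp y
    have h0 : (φ (rep (cgen edges extra k ofIdx) C (can x.val)))⁻¹ x = ⟨0, hc.hn⟩ := by
      rw [Equiv.Perm.inv_eq_iff_eq]; exact hx.symm
    rw [h0]; exact hy
  refine ⟨φ.range, e.isSimpleGroup_congr.mp hsimple, hPN, htrans, ?_⟩
  have h1 := (MulAction.stabilizer φ.range (⟨0, hc.hn⟩ : Fin n)).index_mul_card
  rw [MulAction.index_stabilizer_of_transitive, Nat.card_fin, hPN] at h1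
  rw [mul_comm]; exact h1

end Package

end Cfsg.Agent.Lib.Helper25.TC
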