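import Mathlib
import Cfsg.Agent.Lib.Helper25.TCExistC

set_option autoImplicit false

/-! Existence pipeline, part D: stabilizer chains of arbitrary depth, multi-level order bounds through
sub-presentations, and the packaged statements for presented groups. -/

namespace Cfsg.Agent.Lib.Helper25.TC

open Cfsg.Spor

section FixSub
variable {G : Type*} [Group G] {X : Type*} [MulAction G X]

/-- pointwise stabilizer of a list of points -/
def fixSub (G : Type*) [Group G] {X : Type*} [MulAction G X] (fx : List X) : Subgroup G where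
  carrier := {g | ∀ y ∈ fx, g • y = y}
  one_mem' := by intro y _; exact one_smul G y
  mul_mem' := by
    intro a b ha hb y hy
    show (a * b) • y = y
    rw [mul_smul, hb y hy, ha y hy]
  inv_mem' := by
    intro a ha y hy
    show a⁻¹ • y = y
    rw [inv_smul_eq_iff, ha y hy]

theorem mem_fixSub {fx : List X} {g : G} : g ∈ fixSub G fx ↔ ∀ y ∈ fx, g • y = y := Iff.rfl

/-- one step of a stabilizer chain -/
theorem card_fixSub_step [Finite G] (fx : List X) (x : X) (ws : List G)
    (hws : ∀ g ∈ ws, g ∈ fixSub G fx) (hnd : (ws.map (fun g => g • x)).Nodup) :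
    ws.length * Nat.card (fixSub G (x :: fx)) ≤ Nat.card (fixSub G fx) := by
  classical
  let A : Finset X := (ws.map (fun g => g • x)).toFinset
  have hA : ∀ z ∈ A, ∃ g : fixSub G fx, g • x = z := by
    intro z hz
    simp only [A, List.mem_toFinset, List.mem_map] at hz
    obtain ⟨g, hg, rfl⟩ := hz
    exact ⟨⟨g, hws g hg⟩, rfl⟩
  have h1 := card_mul_card_stabilizer_le (G := fixSub G fx) x A hA
  have hAc : A.card = ws.length := by
    simp only [A]; rw [List.toFinset_card_of_nodup hnd, List.length_map]
  have h2 : Nat.card (fixSub G (x :: fx)) ≤ Nat.card (MulAction.stabilizer (fixSub G fx) x) := by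
    let f : fixSub G (x :: fx) → MulAction.stabilizer (fixSub G fx) x := fun g =>
      ⟨⟨g.1, fun y hy => g.2 y (List.mem_cons_of_mem _ hy)⟩, g.2 x List.mem_cons_self⟩
    apply Nat.card_le_card_of_injective f
    intro a b hab
    have := congrArg (fun t : MulAction.stabilizer (fixSub G fx) x => ((t : fixSub G fx) : G)) hab
    exact Subtype.ext this
  rw [hAc] at h1
  exact (Nat.mul_le_mul_left _ h2).trans h1

/-- start of the chain: two levels given by finsets of images -/
theorem card_ge_of_chain_fix [Finite G] (a b : X) (A B : Finset X)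
    (hA : ∀ x ∈ A, ∃ g : G, g • a = x)
    (hB : ∀ x ∈ B, ∃ g : G, g • a = a ∧ g • b = x) :
    A.card * B.card * Nat.card (fixSub G [b, a]) ≤ Nat.card G := by
  have h1 := card_mul_card_stabilizer_le (G := G) a A hA
  have h2 : B.card * Nat.card (MulAction.stabilizer (MulAction.stabilizer G a) b) ≤
      Nat.card (MulAction.stabilizer G a) := by
    apply card_mul_card_stabilizer_le (G := MulAction.stabilizer G a) b B
    intro x hx
    obtain ⟨g, hga, hgb⟩ := hB x hx
    exact ⟨⟨g, hga⟩, hgb⟩
  have h3 : Nat.card (fixSub G [b, a]) ≤ Nat.card (MulAction.stabilizer (MulAction.stabilizer G a) b) := by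
    let f : fixSub G [b, a] → MulAction.stabilizer (MulAction.stabilizer G a) b := fun g =>
      ⟨⟨g.1, g.2 a (by simp)⟩, g.2 b (by simp)⟩
    apply Nat.card_le_card_of_injective f
    intro x y hxy
    have := congrArg (fun t : MulAction.stabilizer (MulAction.stabilizer G a) b =>
      ((t : MulAction.stabilizer G a) : G)) hxy
    exact Subtype.ext this
  calc A.card * B.card * Nat.card (fixSub G [b, a])
      ≤ A.card * B.card * Nat.card (MulAction.stabilizer (MulAction.stabilizer G a) b) :=
        Nat.mul_le_mul_left _ h3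
    _ = A.card * (B.card * Nat.card (MulAction.stabilizer (MulAction.stabilizer G a) b)) := by ring
    _ ≤ A.card * Nat.card (MulAction.stabilizer G a) := Nat.mul_le_mul_left _ h2
    _ ≤ Nat.card G := h1

end FixSub

section ChainWords

/-- numeric check of a stabilizer chain given by words: every word of a level fixes all previous base points
and the images of the level's base point are distinct -/
def ckChain (T : Nat → Nat → Nat) (k n : Nat) : List Nat → List (Nat × List (List Nat)) → Bool
  | _, [] => true
  | fx, (x, ws) :: rest =>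
    Nat.blt x n && ws.all (fun w => w.all (fun l => Nat.blt l k) && fx.all (fun y => Nat.beq (tr T w y) y)) &&
      decide ((ws.map (fun w => tr T w x)).Nodup) && ckChain T k n (x :: fx) rest

variable {G : Type*} [Group G] {gen : Nat → G} {H : Subgroup G} {k n : Nat} {T : Nat → Nat → Nat}
  {hn : 0 < n} {φ : G →* Equiv.Perm (Fin n)} {bp bg : Nat → Nat}

/-- a natural number as an element of `Fin n` (junk value `0` outside the range) -/
def toFin (hn : 0 < n) (i : Nat) : Fin n := if h : i < n then ⟨i, h⟩ else ⟨0, hn⟩

theorem toFin_val (hn : 0 < n) (i : Nat) (hi : i < n) : (toFin hn i).val = i := by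
  unfold toFin; rw [dif_pos hi]

theorem chain_words_le [Finite G] (hp : PermHyp (gen := gen) (H := H) k n T hn φ bp bg) :
    ∀ (levels : List (Nat × List (List Nat))) (fx : List Nat), (∀ y ∈ fx, y < n) →
      ckChain T k n fx levels = true →
      (levels.map (fun p => p.2.length)).prod ≤ Nat.card (fixSub φ.range (fx.map (toFin hn))) := by
  classical
  have hfin : Finite φ.range := Finite.of_surjective φ.rangeRestrict φ.rangeRestrict_surjective
  intro levels
  induction levels with
  | nil =>
    intro fx _ _
    simp only [List.map_nil, List.prod_nil]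
    exact Nat.card_pos
  | cons p rest ih =>
    intro fx hfx hck
    obtain ⟨x, ws⟩ := p
    simp only [ckChain, Bool.and_eq_true, decide_eq_true_eq] at hck
    obtain ⟨⟨⟨hx, hall⟩, hnd⟩, hrest⟩ := hck
    have hxn : x < n := Nat.le_of_ble_eq_true hx
    have ih' := ih (x :: fx) (by
      intro y hy
      rcases List.mem_cons.mp hy with rfl | hy
      · exact hxn
      · exact hfx y hy) hrest
    rw [List.map_cons] at ih'
    rw [List.all_eq_true] at hall
    have hw : ∀ w ∈ ws, (∀ l ∈ w, l < k) ∧ ∀ y ∈ fx, tr T w y = y := by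
      intro w hw
      have h := hall w hw
      rw [Bool.and_eq_true, List.all_eq_true, List.all_eq_true] at h
      exact ⟨fun l hl => Nat.le_of_ble_eq_true (h.1 l hl), fun y hy => Nat.eq_of_beq_eq_true (h.2 y hy)⟩
    let es : List φ.range := ws.map (fun w => ⟨φ (evr gen w), evr gen w, rfl⟩)
    have hsm : ∀ (g : G) (i : Fin n), (⟨φ g, g, rfl⟩ : φ.range) • i = φ g i := fun g i => rfl
    have hes : ∀ g ∈ es, g ∈ fixSub φ.range (fx.map (toFin hn)) := by
      intro g hg
      simp only [es, List.mem_map] at hg
      obtain ⟨w, hw', rfl⟩ := hg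
      intro y hy
      simp only [List.mem_map] at hy
      obtain ⟨y0, hy0, rfl⟩ := hy
      rw [hsm]
      apply Fin.ext
      rw [phi_word hp w (hw w hw').1, toFin_val hn y0 (hfx y0 hy0)]
      exact (hw w hw').2 y0 hy0
    have hnd' : (es.map (fun g => g • toFin hn x)).Nodup := by
      have h1 : ((es.map (fun g => g • toFin hn x)).map Fin.val) = ws.map (fun w => tr T w x) := by
        simp only [es, List.map_map]
        apply List.map_congr_left
        intro w hw'
        simp only [Function.comp]
        rw [hsm, phi_word hp w (hw w hw').1, toFin_val hn x hxn]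
      have h2 : ((es.map (fun g => g • toFin hn x)).map Fin.val).Nodup := by rw [h1]; exact hnd
      exact List.Nodup.of_map _ h2
    have hstep := card_fixSub_step (G := φ.range) (fx.map (toFin hn)) (toFin hn x) es hes hnd'
    have hlen : es.length = ws.length := by simp [es]
    rw [hlen] at hstep
    simp only [List.map_cons, List.prod_cons]
    exact (Nat.mul_le_mul_left _ ih').trans hstep

variable {R : Nat → G}

/-- lower bound for the order of `φ.range` via a stabilizer chain of arbitrary depth: the first level is the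
whole set of points, the second an orbit of `H`, the following ones are given by explicit words -/
theorem range_card_ge_chain [Finite G] (hh : TableHyp gen H k n T R)
    (hp : PermHyp (gen := gen) (H := H) k n T hn φ bp bg)
    {sw : List (List Nat)} {ol op ow od : Nat → Nat} {β : Nat}
    (ho : OrbitHyp (gen := gen) (H := H) k n T sw ol op ow od β)
    (levels : List (Nat × List (List Nat)))
    (hck : ckChain T k n [β, 0] levels = true) :
    n * cnt (fun i => Nat.beq (ol i) (ol β)) n * (levels.map (fun p => p.2.length)).prod ≤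
      Nat.card φ.range := by
  classical
  have hfin : Finite φ.range := Finite.of_surjective φ.rangeRestrict φ.rangeRestrict_surjective
  have hβ : β < n := ho.hr
  let A : Finset (Fin n) := Finset.univ
  let B : Finset (Fin n) := Finset.univ.filter (fun i : Fin n => Nat.beq (ol i.val) (ol β) = true)
  have hsm : ∀ (g : G) (i : Fin n), (⟨φ g, g, rfl⟩ : φ.range) • i = φ g i := fun g i => rfl
  have hA : ∀ x ∈ A, ∃ g : φ.range, g • (⟨0, hn⟩ : Fin n) = x := by
    intro x _
    exact ⟨⟨φ (R x.val), _, rfl⟩, by rw [hsm]; exact phi_rep_zero hh hp x⟩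
  have hB : ∀ x ∈ B, ∃ g : φ.range, g • (⟨0, hn⟩ : Fin n) = ⟨0, hn⟩ ∧ g • (⟨β, hβ⟩ : Fin n) = x := by
    intro x hx
    simp only [B, Finset.mem_filter, Finset.mem_univ, true_and] at hx
    have hmem : cosetEquiv hh hp x ∈ MulAction.orbit H (((R β : G) : G ⧸ H)) := by
      rw [orbit_eq hh hp ho]
      exact ⟨x, hx, rfl⟩
    obtain ⟨⟨h, hhH⟩, hq⟩ := hmem
    have hq' : h • cosetEquiv hh hp ⟨β, hβ⟩ = cosetEquiv hh hp x := hq
    rw [smul_cosetEquiv] at hq'
    have := (cosetEquiv hh hp).injective hq'
    exact ⟨⟨φ h, _, rfl⟩, by rw [hsm]; exact hp.hH h hhH, by rw [hsm]; exact this⟩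
  have key := card_ge_of_chain_fix (G := φ.range) (⟨0, hn⟩ : Fin n) ⟨β, hβ⟩ A B hA hB
  have hAc : A.card = n := by simp [A]
  have hBc : B.card = cnt (fun i => Nat.beq (ol i) (ol β)) n := by
    rw [← ncard_fin_eq_cnt, ← Set.ncard_coe_finset]
    congr 1
    ext i
    simp [B]
  have hch := chain_words_le hp levels [β, 0] (by
    intro y hy
    simp only [List.mem_cons, List.not_mem_nil, or_false] at hy
    rcases hy with rfl | rfl
    · exact hβ
    · exact hn) hck
  have hfx : ([β, 0] : List Nat).map (toFin hn) = [(⟨β, hβ⟩ : Fin n), ⟨0, hn⟩] := by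
    simp only [List.map_cons, List.map_nil]
    congr 1
    · exact Fin.ext (toFin_val hn β hβ)
    · congr 1
      exact Fin.ext (toFin_val hn 0 hn)
  rw [hfx] at hch
  rw [hAc, hBc] at key
  exact (Nat.mul_le_mul_left _ hch).trans key

end ChainWords

section Normal
variable {G : Type*} [Group G]

/-- an involution linked to an element of a normal subgroup by an odd braid relation lies in it too -/
theorem mem_of_odd_braid (N : Subgroup G) [hN : N.Normal] (x y : G) (hy : y * y = 1)
    (m : ℕ) (hm : Odd m) (hxy : (x * y) ^ m = 1) (hxN : x ∈ N) : y ∈ N := by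
  have h1 : ((QuotientGroup.mk' N) x) = 1 := (QuotientGroup.eq_one_iff x).mpr hxN
  have h2 : ((QuotientGroup.mk' N) y) ^ m = 1 := by
    have := congrArg (QuotientGroup.mk' N) hxy
    rw [map_pow, map_mul, h1, one_mul, map_one] at this
    exact this
  have h3 : ((QuotientGroup.mk' N) y) * ((QuotientGroup.mk' N) y) = 1 := by
    rw [← map_mul, hy, map_one]
  obtain ⟨j, rfl⟩ := hm
  have h4 : ((QuotientGroup.mk' N) y) = 1 := by
    have : ((QuotientGroup.mk' N) y) ^ (2 * j + 1) = (QuotientGroup.mk' N) y := by
      rw [pow_succ, pow_mul, pow_two, h3, one_pow, one_mul]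
    rw [← this]; exact h2
  exact (QuotientGroup.eq_one_iff y).mp h4

theorem mem_of_odd_braid' (N : Subgroup G) [hN : N.Normal] (x y : G) (hx : x * x = 1)
    (m : ℕ) (hm : Odd m) (hxy : (x * y) ^ m = 1) (hyN : y ∈ N) : x ∈ N := by
  have key : ∀ i : ℕ, (y * x) ^ i = x⁻¹ * (x * y) ^ i * x := by
    intro i
    induction i with
    | zero => simp
    | succ i ih => rw [pow_succ, ih, pow_succ]; group
  have hyx : (y * x) ^ m = 1 := by
    rw [key, hxy]; group
  exact mem_of_odd_braid N y x hx m hm hyx hyN

/-- an even power of `c * d` with `c` an involution and `d` in the normal subgroup lies in it -/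
theorem pow_mul_mem_of_even (N : Subgroup G) [hN : N.Normal] (c d : G) (hc : c * c = 1) (hd : d ∈ N)
    (j : ℕ) : (c * d) ^ (2 * j) ∈ N := by
  have h1 : ((QuotientGroup.mk' N) d) = 1 := (QuotientGroup.eq_one_iff d).mpr hd
  have h3 : ((QuotientGroup.mk' N) c) * ((QuotientGroup.mk' N) c) = 1 := by
    rw [← map_mul, hc, map_one]
  apply (QuotientGroup.eq_one_iff _).mp
  show (QuotientGroup.mk' N) ((c * d) ^ (2 * j)) = 1
  rw [map_pow, map_mul, h1, mul_one, pow_mul, pow_two, h3, one_pow]

theorem pow_mul_mem_of_even' (N : Subgroup G) [hN : N.Normal] (c d : G) (hd : d * d = 1) (hc : c ∈ N)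
    (j : ℕ) : (c * d) ^ (2 * j) ∈ N := by
  have h1 : ((QuotientGroup.mk' N) c) = 1 := (QuotientGroup.eq_one_iff c).mpr hc
  have h3 : ((QuotientGroup.mk' N) d) * ((QuotientGroup.mk' N) d) = 1 := by
    rw [← map_mul, hd, map_one]
  apply (QuotientGroup.eq_one_iff _).mp
  show (QuotientGroup.mk' N) ((c * d) ^ (2 * j)) = 1
  rw [map_pow, map_mul, h1, one_mul, pow_mul, pow_two, h3, one_pow]

end Normal

section RelatorWords
variable {G : Type*} [Group G]

/-- free cancellation of adjacent equal letters (stack based) -/
def wredAux : List Nat → List Nat → List Nat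
  | st, [] => st.reverse
  | [], x :: w => wredAux [x] w
  | s :: st, x :: w => if s = x then wredAux st w else wredAux (x :: s :: st) w

/-- free cancellation of adjacent equal letters -/
def wred (w : List Nat) : List Nat := wredAux [] w

theorem evr_wredAux (gen : Nat → G) (hinv : ∀ x, gen x * gen x = 1) :
    ∀ (w st : List Nat), evr gen (wredAux st w) = evr gen (st.reverse ++ w) := by
  intro w
  induction w with
  | nil => intro st; simp [wredAux]
  | cons x w ih =>
    intro st
    cases st with
    | nil => rw [wredAux, ih]; simp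
    | cons s st =>
      rw [wredAux]
      split_ifs with h
      · subst h
        rw [ih, List.reverse_cons, List.append_assoc, evr_append, evr_append]
        congr 1
        simp only [List.cons_append, List.nil_append, evr]
        rw [mul_assoc, hinv, mul_one]
      · rw [ih]
        simp

theorem evr_wred (gen : Nat → G) (hinv : ∀ x, gen x * gen x = 1) (w : List Nat) :
    evr gen (wred w) = evr gen w := by
  unfold wred; rw [evr_wredAux gen hinv]; simp

/-- deleting letters whose generators lie in a normal subgroup does not change the class modulo it -/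
theorem mk_evr_filter (gen : Nat → G) (N : Subgroup G) [hN : N.Normal] (S : List Nat)
    (hS : ∀ x ∈ S, gen x ∈ N) (w : List Nat) :
    (QuotientGroup.mk' N) (evr gen (w.filter (fun x => !S.contains x))) = (QuotientGroup.mk' N) (evr gen w) := by
  induction w with
  | nil => rfl
  | cons x w ih =>
    by_cases hx : x ∈ S
    · have h1 : (QuotientGroup.mk' N) (gen x) = 1 := (QuotientGroup.eq_one_iff _).mpr (hS x hx)
      have hc : S.contains x = true := List.contains_iff_mem.mpr hx
      rw [List.filter_cons_of_neg (by simp [hx]), ih]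
      simp only [evr, map_mul, h1, mul_one]
    · have hc : S.contains x = false := by
        rw [Bool.eq_false_iff]; intro h; exact hx (List.contains_iff_mem.mp h)
      rw [List.filter_cons_of_pos (by simp [hx])]
      simp only [evr, map_mul, ih]

/-- if a relator becomes a single letter after deleting letters of a normal subgroup and cancelling, that
letter lies in the normal subgroup -/
theorem mem_of_relator (gen : Nat → G) (hinv : ∀ x, gen x * gen x = 1) (N : Subgroup G) [hN : N.Normal]
    (S : List Nat) (hS : ∀ x ∈ S, gen x ∈ N) (W : List Nat) (hW : evr gen W = 1) (j : Nat)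
    (hred : wred (W.filter (fun x => !S.contains x)) = [j]) : gen j ∈ N := by
  have h1 := mk_evr_filter gen N S hS W
  rw [← evr_wred gen hinv, hred, hW, map_one, evr_singleton] at h1
  exact (QuotientGroup.eq_one_iff _).mp h1

/-- the shape of a word witnessing that the generator `j` is conjugate to an involution built from two conjugates
of the word `wg` -/
def ncFull (wg wu : List Nat) (inv : Bool) (e2 : Nat) (y : List Nat) (e j : Nat) : List Nat :=
  let ww := (bif inv then wg.reverse else wg) ++ (wu.reverse ++ wg ++ wu)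
  let tw := (List.replicate e2 ww).flatten
  let sj := y.reverse ++ tw ++ y
  let cj := (List.replicate e (sj ++ [j])).flatten
  cj.reverse ++ sj ++ cj

theorem ncFull_mem (gen : Nat → G) (hinv : ∀ x, gen x * gen x = 1) (N : Subgroup G) [hN : N.Normal]
    (wg wu : List Nat) (inv : Bool) (e2 : Nat) (y : List Nat) (e j : Nat) (h0 : evr gen wg ∈ N) :
    evr gen (ncFull wg wu inv e2 y e j) ∈ N := by
  unfold ncFull
  simp only []
  apply evr_conj_mem gen hinv N
  apply evr_conj_mem gen hinv N
  rw [evr_flatten_replicate]
  apply N.pow_mem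
  apply evr_mul_mem gen N
  · cases inv
    · exact h0
    · exact evr_reverse_mem gen hinv N wg h0
  · exact evr_conj_mem gen hinv N wu wg h0

end RelatorWords

section SubPres

variable {α₁ : Type} [DecidableEq α₁] {edges₁ : List (α₁ × ℕ × α₁)} {extra₁ : List (FreeGroup α₁)}
  {α : Type} [DecidableEq α] {edges : List (α × ℕ × α)} {extra : List (FreeGroup α)}

/-- base of an order-bound chain: a presented group with a cyclic subgroup `⟨x y⟩` of finite index -/
theorem card_le_cyclic
    {k₁ : Nat} {idx₁ : α₁ → Nat} {ofIdx₁ : Nat → α₁} {L₁ : Nat → Nat → Nat} {extraW₁ : List (List Nat)}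
    {C₁ : Cert} {n₁ nF₁ : Nat} {T₁ fin₁ : Nat → Nat → Nat} {can₁ bp₁ bg₁ : Nat → Nat} {sw₁ : List (List Nat)}
    (hs₁ : CoxSetup edges₁ extra₁ k₁ idx₁ ofIdx₁ L₁ extraW₁)
    (hc₁ : Checks k₁ L₁ extraW₁ C₁ n₁ nF₁ T₁ fin₁ can₁ bp₁ bg₁ sw₁)
    (x y : Nat) (hxy : x ≤ y) (hy : y < k₁) (hsw₁ : sw₁ = [[y, x]]) (o : Nat) (ho : L₁ x y = o) (hopos : 0 < o) :
    Finite (CoxPresented α₁ edges₁ extra₁) ∧ Nat.card (CoxPresented α₁ edges₁ extra₁) ≤ n₁ * o := by
  set c : CoxPresented α₁ edges₁ extra₁ := cgen edges₁ extra₁ k₁ ofIdx₁ x * cgen edges₁ extra₁ k₁ ofIdx₁ y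
    with hcdef
  have hco : c ^ o = 1 := by
    have hmem : cw x y (L₁ x y) ∈ coxWords k₁ L₁ ++ extraW₁ :=
      List.mem_append_left _ (mem_coxWords.mpr ⟨x, by omega, y, hy, hxy, rfl⟩)
    have := evr_cgen_rel hs₁ _ hmem
    rwa [evr_cw, ho] at this
  have hH₁ : subH edges₁ extra₁ k₁ ofIdx₁ sw₁ = Subgroup.closure {c} := by
    unfold subH
    congr 1
    ext g
    simp only [hsw₁, List.mem_singleton, exists_eq_left, Set.mem_ofPred_eq, Set.mem_singleton_iff]
    simp [evr, hcdef]
  obtain ⟨hf1, hc1⟩ := finite_and_card_closure_singleton_le c hopos hco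
  have hidx₁ := hc₁.index_eq hs₁
  rw [hH₁] at hidx₁
  exact finite_and_card_le_of_index (Subgroup.closure {c}) hidx₁ hc₁.hn hc1

/-- one step of an order-bound chain: the subgroup generated by some of the generators is an image of a
group given by a sub-presentation -/
theorem card_le_step
    {k : Nat} {idx : α → Nat} {ofIdx : Nat → α} {L : Nat → Nat → Nat} {extraW : List (List Nat)}
    {C : Cert} {n nF : Nat} {T fin : Nat → Nat → Nat} {can bp bg : Nat → Nat} {sw : List (List Nat)}
    (hs : CoxSetup edges extra k idx ofIdx L extraW)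
    (hc : Checks k L extraW C n nF T fin can bp bg sw)
    (emb : α₁ → α)
    (hcox : ∀ a ∈ coxNodes edges₁, ∀ b ∈ coxNodes edges₁, emb a ∈ coxNodes edges ∧ emb b ∈ coxNodes edges ∧
      coxLabel edges (emb a) (emb b) = coxLabel edges₁ a b)
    (hextra : ∀ r ∈ extra₁, FreeGroup.map emb r ∈ extra)
    (hsw : ∀ w ∈ sw, ∃ a : α₁, w = [idx (emb a)])
    (m : Nat) (h₁ : Finite (CoxPresented α₁ edges₁ extra₁) ∧ Nat.card (CoxPresented α₁ edges₁ extra₁) ≤ m) :
    Finite (CoxPresented α edges extra) ∧ Nat.card (CoxPresented α edges extra) ≤ n * m := by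
  obtain ⟨hK₁fin, hK₁card⟩ := h₁
  obtain ⟨f, hf⟩ := exists_hom_of_emb (edges₁ := edges₁) (extra₁ := extra₁) (edges := edges) (extra := extra)
    emb hcox hextra
  have hle : subH edges extra k ofIdx sw ≤ f.range := by
    unfold subH
    rw [Subgroup.closure_le]
    rintro g ⟨w, hw, rfl⟩
    obtain ⟨a, rfl⟩ := hsw w hw
    rw [evr_singleton, cgen_idx hs]
    exact ⟨PresentedGroup.of a, hf a⟩
  obtain ⟨hHfin, hHcard⟩ := card_le_of_le_range f _ hle
  have hidx := hc.index_eq hs
  exact finite_and_card_le_of_index _ hidx hc.hn (hHcard.trans hK₁card)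

end SubPres

section Package

variable {α : Type} [DecidableEq α] {edges : List (α × ℕ × α)} {extra : List (FreeGroup α)}
  {k : Nat} {idx : α → Nat} {ofIdx : Nat → α} {L : Nat → Nat → Nat} {extraW : List (List Nat)}
  {C : Cert} {n nF : Nat} {T fin : Nat → Nat → Nat} {can bp bg : Nat → Nat} {sw : List (List Nat)}
  {roots : List Nat} {ol op ow od : Nat → Nat}

/-- the presented group is simple of the given order, and the coset action is faithful -/
theorem simple_card_of_table (hs : CoxSetup edges extra k idx ofIdx L extraW)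
    (hc : Checks k L extraW C n nF T fin can bp bg sw)
    (ho : OrbChecks n T sw roots ol op ow od)
    (N : Nat) (hfin : Finite (CoxPresented α edges extra)) (hcard_le : Nat.card (CoxPresented α edges extra) ≤ N)
    (β : Nat) (hβ : β < n) (hβroot : roots.getD (ol β) 0 = β)
    (levels : List (Nat × List (List Nat)))
    (hck : ckChain T k n [β, 0] levels = true)
    (hN : N = n * cnt (fun i => Nat.beq (ol i) (ol β)) n * (levels.map (fun p => p.2.length)).prod)
    (r : Nat) (hol : ∀ i < n, ol i < r) (hol0 : ∀ i < n, ol i = ol 0 → i = 0)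
    (harith : ∀ s ∈ sumsBelow (fun j => if j = ol 0 then 0 else cnt (fun i => Nat.beq (ol i) j) n) r,
        (1 + s) ∣ n → s = 0 ∨ 1 + s = n)
    (p a m : ℕ) [Fact p.Prime] (hNp : N = p ^ a * m) (hpm : ¬ p ∣ m) (hpn : p ^ a ∣ n)
    (g0 : CoxPresented α edges extra)
    (hg0 : Function.Injective (hc.phi hs) → g0 ^ (p ^ a) = 1)
    (hnc : Function.Injective (hc.phi hs) → Subgroup.normalClosure {g0} = ⊤) (hnt : 1 < n) :
    Function.Injective (hc.phi hs) ∧ IsSimpleGroup (CoxPresented α edges extra) ∧
      Nat.card (CoxPresented α edges extra) = N ∧ Nat.card (hc.phi hs).range = N := by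
  classical
  set φ := hc.phi hs with hφ
  have hh := hc.tableHyp hs
  have hp := hc.permHyp hs
  have hoβ := hc.orbitHyp (edges := edges) (extra := extra) (ofIdx := ofIdx) ho β hβ hβroot
  have hlow := range_card_ge_chain hh hp hoβ levels hck
  rw [← hN] at hlow
  have hrs : Function.Surjective φ.rangeRestrict := φ.rangeRestrict_surjective
  have hup : Nat.card φ.range ≤ Nat.card (CoxPresented α edges extra) :=
    Nat.card_le_card_of_surjective _ hrs
  have hKN : Nat.card (CoxPresented α edges extra) = N := le_antisymm hcard_le (hlow.trans hup)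
  have hPN : Nat.card φ.range = N := le_antisymm (hup.trans hcard_le) hlow
  have hbij : Function.Bijective φ.rangeRestrict :=
    hrs.bijective_of_nat_card_le (by rw [hKN, hPN])
  have hinj : Function.Injective φ := by
    intro a b hab
    apply hbij.1
    exact Subtype.ext hab
  have hsimple : IsSimpleGroup (CoxPresented α edges extra) :=
    simple_of_table hh hp hinj (hc.orbitHyp_all ho) r hol hol0 harith p a
      (by rw [hKN]; exact factorization_eq_of Fact.out hNp hpm) hpn g0
      (hg0 hinj) (hnc hinj) hnt
  exact ⟨hinj, hsimple, hKN, hPN⟩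

/-- a simple permutation group of the given order on the cosets -/
theorem exists_perm_group_of_simple_card (hs : CoxSetup edges extra k idx ofIdx L extraW)
    (hc : Checks k L extraW C n nF T fin can bp bg sw) (N : Nat)
    (h : Function.Injective (hc.phi hs) ∧ IsSimpleGroup (CoxPresented α edges extra) ∧
      Nat.card (CoxPresented α edges extra) = N ∧ Nat.card (hc.phi hs).range = N) :
    ∃ P : Subgroup (Equiv.Perm (Fin n)), IsSimpleGroup P ∧ Nat.card P = N := by
  obtain ⟨hinj, hsimple, _, hPN⟩ := h
  let e : CoxPresented α edges extra ≃* (hc.phi hs).range := MonoidHom.ofInjective hinj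
  exact ⟨(hc.phi hs).range, e.isSimpleGroup_congr.mp hsimple, hPN⟩

end Package

end Cfsg.Agent.Lib.Helper25.TC
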