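import Mathlib
import Cfsg.Agent.Lib.Helper25.TCExistD

set_option autoImplicit false

/-! Existence pipeline, part E: a linear-time variant of the stabilizer chain check (the images of the base point
under the words of a level have to be listed in increasing order). -/

namespace Cfsg.Agent.Lib.Helper25.TC

/-- strict variant of `tr` (every step is evaluated before the next one; for kernel reduction) -/
def trS (T : Nat → Nat → Nat) : List Nat → Nat → Nat
  | [], i => i
  | x :: a, i => seqNat (T x i) (fun v => trS T a v)

theorem trS_eq (T : Nat → Nat → Nat) : ∀ (w : List Nat) (i : Nat), trS T w i = tr T w i := by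
  intro w
  induction w with
  | nil => intro i; rfl
  | cons x a ih => intro i; rw [trS, seqNat_eq, ih]; rfl

/-- the images of `x` under the words are strictly increasing, starting at `lo` or above -/
def imagesInc (T : Nat → Nat → Nat) (x : Nat) : Nat → List (List Nat) → Bool
  | _, [] => true
  | lo, w :: ws => seqNat (trS T w x) (fun v => Nat.ble lo v && imagesInc T x (Nat.succ v) ws)

theorem imagesInc_spec (T : Nat → Nat → Nat) (x : Nat) :
    ∀ (ws : List (List Nat)) (lo : Nat), imagesInc T x lo ws = true →
      (∀ v ∈ ws.map (fun w => tr T w x), lo ≤ v) ∧ (ws.map (fun w => tr T w x)).Nodup := by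
  intro ws
  induction ws with
  | nil => intro lo _; simp
  | cons w ws ih =>
    intro lo h
    rw [imagesInc, seqNat_eq, Bool.and_eq_true, trS_eq] at h
    obtain ⟨h1, h2⟩ := h
    have hlo : lo ≤ tr T w x := Nat.le_of_ble_eq_true h1
    obtain ⟨h3, h4⟩ := ih _ h2
    refine ⟨?_, ?_⟩
    · intro v hv
      rw [List.map_cons, List.mem_cons] at hv
      rcases hv with rfl | hv
      · exact hlo
      · have := h3 v hv; omega
    · rw [List.map_cons, List.nodup_cons]
      refine ⟨?_, h4⟩
      intro hmem
      have := h3 _ hmem
      omega

/-- linear-time variant of `ckChain` -/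
def ckChainS (T : Nat → Nat → Nat) (k n : Nat) : List Nat → List (Nat × List (List Nat)) → Bool
  | _, [] => true
  | fx, (x, ws) :: rest =>
    Nat.blt x n && ws.all (fun w => w.all (fun l => Nat.blt l k) && fx.all (fun y => Nat.beq (trS T w y) y)) &&
      imagesInc T x 0 ws && ckChainS T k n (x :: fx) rest

theorem ckChain_of_ckChainS (T : Nat → Nat → Nat) (k n : Nat) :
    ∀ (levels : List (Nat × List (List Nat))) (fx : List Nat),
      ckChainS T k n fx levels = true → ckChain T k n fx levels = true := by
  intro levels
  induction levels with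
  | nil => intro fx _; rfl
  | cons p rest ih =>
    intro fx h
    obtain ⟨x, ws⟩ := p
    simp only [ckChainS, Bool.and_eq_true, trS_eq] at h
    obtain ⟨⟨⟨h1, h2⟩, h3⟩, h4⟩ := h
    simp only [ckChain, Bool.and_eq_true, decide_eq_true_eq]
    exact ⟨⟨⟨h1, h2⟩, (imagesInc_spec T x ws 0 h3).2⟩, ih _ h4⟩

/-- decode a word from its base-16 encoding (digit `d+1` for the letter `d`, least significant digit first) -/
def decW : Nat → Nat → List Nat
  | 0, _ => []
  | f+1, v => bif Nat.beq v 0 then [] else
      seqNat (Nat.div v 16) (fun v' => seqNat (Nat.pred (Nat.mod v 16)) (fun d => d :: decW f v'))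

/-- decode the levels of a stabilizer chain -/
def decLevels (fuel : Nat) (l : List (Nat × List Nat)) : List (Nat × List (List Nat)) :=
  l.map (fun p => (p.1, p.2.map (decW fuel)))

end Cfsg.Agent.Lib.Helper25.TC
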