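import Mathlib
import Cfsg.Prelude.Def_SporadicB
import Cfsg.Agent.Lib.Helper25.TCExistD

set_option autoImplicit false

/-! Existence pipeline, part F: non-split double covers from a surjection with kernel of order two onto a group
with trivial centre, and perfectness of groups presented on conjugate involutions with a relator of odd length. -/

namespace Cfsg.Agent.Lib.Helper25.TC

open Cfsg.Spor

section Cover
variable {P K : Type*} [Group P] [Group K]

/-- a finite group with a surjection onto a group with trivial centre, of twice the order, and without subgroups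
of index two, is a non-split double cover -/
theorem nonsplitDoubleCover_of_surj [Finite P] (π : P →* K) (hπ : Function.Surjective π)
    (hcard : Nat.card P = 2 * Nat.card K) (hK : Subgroup.center K = ⊥)
    (hperf : ∀ L : Subgroup P, L.index ≠ 2) : Cfsg.IsNonsplitDoubleCover P K := by
  classical
  have hKfin : Finite K := Finite.of_surjective π hπ
  have hKpos : 0 < Nat.card K := Nat.card_pos
  -- the kernel has order two
  have h1 := Subgroup.card_eq_card_quotient_mul_card_subgroup π.ker
  have h2 : Nat.card (P ⧸ π.ker) = Nat.card K :=
    Nat.card_congr (QuotientGroup.quotientKerEquivOfSurjective π hπ).toEquiv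
  have hker2 : Nat.card π.ker = 2 := by
    rw [h2, hcard] at h1
    have : Nat.card K * 2 = Nat.card K * Nat.card π.ker := by rw [← h1]; ring
    exact (Nat.eq_of_mul_eq_mul_left hKpos this).symm
  -- the kernel is central
  have hkc : π.ker ≤ Subgroup.center P := by
    intro z hz
    rw [Subgroup.mem_center_iff]
    intro g
    by_cases hz1 : z = 1
    · rw [hz1]; simp
    · obtain ⟨y, _, hy⟩ := (Nat.card_eq_two_iff' (1 : π.ker)).mp hker2
      have hzmem : g * z * g⁻¹ ∈ π.ker := (inferInstance : π.ker.Normal).conj_mem z hz g
      have e1 : (⟨z, hz⟩ : π.ker) = y := hy _ (by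
        intro h; apply hz1; exact congrArg Subtype.val h)
      have e2 : (⟨g * z * g⁻¹, hzmem⟩ : π.ker) = y := hy _ (by
        intro h
        have h' : g * z * g⁻¹ = 1 := congrArg Subtype.val h
        apply hz1
        have : z = g⁻¹ * (g * z * g⁻¹) * g := by group
        rw [this, h']; group)
      have e3 : g * z * g⁻¹ = z := congrArg Subtype.val (e2.trans e1.symm)
      calc g * z = g * z * g⁻¹ * g := by group
        _ = z * g := by rw [e3]
  -- the centre lies in the kernel
  have hck : Subgroup.center P ≤ π.ker := by
    intro z hz
    rw [MonoidHom.mem_ker]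
    have : π z ∈ Subgroup.center K := by
      rw [Subgroup.mem_center_iff]
      intro k
      obtain ⟨g, rfl⟩ := hπ k
      rw [← map_mul, ← map_mul, (Subgroup.mem_center_iff.mp hz) g]
    rw [hK] at this
    exact this
  have heq : Subgroup.center P = π.ker := le_antisymm hck hkc
  refine ⟨by rw [heq]; exact hker2, ?_, ?_⟩
  · exact ⟨(QuotientGroup.quotientMulEquivOfEq heq).trans (QuotientGroup.quotientKerEquivOfSurjective π hπ)⟩
  · intro L hL
    have := hL.index_eq_card
    rw [heq, hker2] at this
    exact hperf L this

/-- transfer of the hypotheses along an isomorphism -/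
theorem nonsplitDoubleCover_of_equiv {H : Type*} [Group H] [Finite P] (e : P ≃* H) (π : P →* K)
    (hπ : Function.Surjective π)
    (hcard : Nat.card P = 2 * Nat.card K) (hK : Subgroup.center K = ⊥)
    (hperf : ∀ L : Subgroup P, L.index ≠ 2) : Cfsg.IsNonsplitDoubleCover H K := by
  have hfin : Finite H := Finite.of_equiv P e.toEquiv
  apply nonsplitDoubleCover_of_surj (π.comp e.symm.toMonoidHom)
  · intro k
    obtain ⟨p, rfl⟩ := hπ k
    exact ⟨e p, by simp⟩
  · rw [← hcard]; exact Nat.card_congr e.symm.toEquiv
  · exact hK
  · intro L hL
    apply hperf (L.comap e.toMonoidHom)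
    rw [Subgroup.index_comap_of_surjective L e.surjective]
    exact hL

/-- a non-abelian simple group has trivial centre -/
theorem center_eq_bot_of_simple [Finite K] (hs : IsSimpleGroup K) (hnp : ¬ (Nat.card K).Prime) :
    Subgroup.center K = ⊥ := by
  rcases (inferInstance : (Subgroup.center K).Normal).eq_bot_or_eq_top with h | h
  · exact h
  · exfalso
    apply hnp
    have hcomm : ∀ a b : K, a * b = b * a := by
      intro a b
      have : b ∈ Subgroup.center K := by rw [h]; trivial
      exact (Subgroup.mem_center_iff.mp this) a
    letI : CommGroup K := { (inferInstance : Group K) with mul_comm := hcomm }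
    exact IsSimpleGroup.prime_card

end Cover

section Perfect

variable {α : Type} [DecidableEq α] {edges : List (α × ℕ × α)} {extra : List (FreeGroup α)}
  {k : Nat} {idx : α → Nat} {ofIdx : Nat → α} {L : Nat → Nat → Nat} {extraW : List (List Nat)}

/-- two generators joined by an odd braid relation have the same image in the abelianization -/
theorem abel_gen_eq (hs : CoxSetup edges extra k idx ofIdx L extraW) (x y : Nat) (hxy : x ≤ y) (hy : y < k)
    (hodd : Odd (L x y)) :
    Abelianization.of (cgen edges extra k ofIdx x) = Abelianization.of (cgen edges extra k ofIdx y) := by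
  set gen := cgen edges extra k ofIdx
  have hrel : (gen x * gen y) ^ (L x y) = 1 := by
    have hmem : cw x y (L x y) ∈ coxWords k L ++ extraW :=
      List.mem_append_left _ (mem_coxWords.mpr ⟨x, by omega, y, hy, hxy, rfl⟩)
    have := evr_cgen_rel hs _ hmem
    rwa [evr_cw] at this
  have hx2 : Abelianization.of (gen x) * Abelianization.of (gen x) = 1 := by
    rw [← map_mul, cgen_mul_self hs, map_one]
  have hy2 : Abelianization.of (gen y) * Abelianization.of (gen y) = 1 := by
    rw [← map_mul, cgen_mul_self hs, map_one]
  obtain ⟨j, hj⟩ := hodd
  have hpow : ∀ v : Abelianization (CoxPresented α edges extra), v * v = 1 → v ^ (2 * j + 1) = v := by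
    intro v hv
    rw [pow_succ, pow_mul, pow_two, hv, one_pow, one_mul]
  have h3 := congrArg Abelianization.of hrel
  rw [map_pow, map_mul, map_one, mul_pow, hj, hpow _ hx2, hpow _ hy2] at h3
  have : Abelianization.of (gen x) = (Abelianization.of (gen y))⁻¹ := eq_inv_of_mul_eq_one_left h3
  rw [this]
  exact inv_eq_of_mul_eq_one_left hy2

/-- a group presented on involutions all of which have the same image in the abelianization, with a relator of
odd length, has no subgroup of index two -/
theorem no_index_two_of_odd_relator (hs : CoxSetup edges extra k idx ofIdx L extraW)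
    (hconn : ∀ x < k, Abelianization.of (cgen edges extra k ofIdx x) =
      Abelianization.of (cgen edges extra k ofIdx 0))
    (W : List Nat) (hW : W ∈ coxWords k L ++ extraW) (hWk : ∀ x ∈ W, x < k) (hodd : Odd W.length) :
    ∀ S : Subgroup (CoxPresented α edges extra), S.index ≠ 2 := by
  set gen := cgen edges extra k ofIdx
  set u := Abelianization.of (gen 0) with hu
  have hu2 : u * u = 1 := by rw [hu, ← map_mul, cgen_mul_self hs, map_one]
  have hev : ∀ w : List Nat, (∀ x ∈ w, x < k) → Abelianization.of (evr gen w) = u ^ w.length := by
    intro w
    induction w with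
    | nil => intro _; simp [evr]
    | cons x w ih =>
      intro hw
      rw [evr, map_mul, ih (fun y hy => hw y (List.mem_cons_of_mem _ hy)), hconn x (hw x List.mem_cons_self),
        List.length_cons, pow_succ]
  have h1 := hev W hWk
  rw [evr_cgen_rel hs W hW, map_one] at h1
  obtain ⟨j, hj⟩ := hodd
  have hu1 : u = 1 := by
    rw [hj, pow_succ, pow_mul, pow_two, hu2, one_pow, one_mul] at h1
    exact h1.symm
  -- the abelianization is trivial
  have hall : ∀ p : CoxPresented α edges extra, Abelianization.of p = 1 := by
    intro p
    have hp : p ∈ Subgroup.closure {g : CoxPresented α edges extra | ∃ x < k, g = gen x} := by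
      rw [cgen_closure hs]; trivial
    induction hp using Subgroup.closure_induction with
    | mem g hg =>
      obtain ⟨x, hx, rfl⟩ := hg
      rw [hconn x hx, hu1]
    | one => exact map_one _
    | mul a b _ _ ha hb => rw [map_mul, ha, hb, one_mul]
    | inv a _ ha => rw [map_inv, ha, inv_one]
  have hcomm : commutator (CoxPresented α edges extra) = ⊤ := by
    rw [← Abelianization.ker_of, eq_top_iff]
    intro p _
    exact hall p
  intro S hS
  haveI : S.Normal := Subgroup.normal_of_index_eq_two hS
  have hq : Nat.card (CoxPresented α edges extra ⧸ S) = 2 := by rw [← Subgroup.index_eq_card]; exact hS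
  haveI : Fact (Nat.Prime 2) := ⟨Nat.prime_two⟩
  haveI : IsCyclic (CoxPresented α edges extra ⧸ S) := isCyclic_of_prime_card hq
  have hc : IsMulCommutative (CoxPresented α edges extra ⧸ S) := IsCyclic.commutative
  have hle := Subgroup.Normal.quotient_commutative_iff_commutator_le.mp hc
  have htop : S = ⊤ := by
    rw [eq_top_iff, ← hcomm]
    exact hle
  rw [htop, Subgroup.index_top] at hS
  exact absurd hS (by decide)

end Perfect

end Cfsg.Agent.Lib.Helper25.TC
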