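import Mathlib
import Cfsg.Agent.Lib.Helper25.TCExistB

set_option autoImplicit false

/-! Existence pipeline, part G: overgroups of the subgroup of a verified coset table (maximality from the
arithmetic of the suborbit sizes). -/

namespace Cfsg.Agent.Lib.Helper25.TC

section Abstract
variable {G : Type*} [Group G] {gen : Nat → G} {H : Subgroup G} {k n : Nat} {T : Nat → Nat → Nat}
  {R : Nat → G} {hn : 0 < n} {φ : G →* Equiv.Perm (Fin n)} {bp bg : Nat → Nat}

/-- the subgroup of the coset table is maximal if the suborbit sizes satisfy the arithmetic condition -/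
theorem overgroup_of_table [Finite G] (hh : TableHyp gen H k n T R)
    (hp : PermHyp (gen := gen) (H := H) k n T hn φ bp bg)
    {sw : List (List Nat)} {ol op ow od : Nat → Nat}
    (horb : ∀ i < n, ∃ r, ol r = ol i ∧ OrbitHyp (gen := gen) (H := H) k n T sw ol op ow od r)
    (r : Nat) (hol : ∀ i < n, ol i < r) (hol0 : ∀ i < n, ol i = ol 0 → i = 0)
    (harith : ∀ s ∈ sumsBelow (fun j => if j = ol 0 then 0 else cnt (fun i => Nat.beq (ol i) j) n) r,
        (1 + s) ∣ n → s = 0 ∨ 1 + s = n)
    (M : Subgroup G) (hHM : H ≤ M) : M = H ∨ M = ⊤ := by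
  classical
  have hidx : H.index = n := index_eq hh hp
  set q0 : G ⧸ H := ((1 : G) : G ⧸ H) with hq0
  set e := cosetEquiv hh hp with he
  have he0 : e ⟨0, hn⟩ = q0 := cosetEquiv_zero hh hp
  -- the stabilizer of `q0` in `M` is `H`
  have hstab : MulAction.stabilizer M q0 = H.subgroupOf M := by
    ext m
    rw [MulAction.mem_stabilizer_iff, Subgroup.mem_subgroupOf]
    have h2 : m • q0 = (((m : G) * 1 : G) : G ⧸ H) := rfl
    rw [h2, mul_one, hq0]
    constructor
    · intro h3
      have := QuotientGroup.eq.mp h3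
      rw [mul_one] at this
      simpa using H.inv_mem this
    · intro h3
      apply QuotientGroup.eq.mpr
      simpa using H.inv_mem h3
  have hdvd : (MulAction.orbit M q0).ncard ∣ n := by
    have h1 : (MulAction.stabilizer M q0).index = (MulAction.orbit M q0).ncard :=
      MulAction.index_stabilizer M q0
    rw [← h1, hstab, ← hidx]
    exact Dvd.intro _ (Subgroup.relIndex_mul_index hHM)
  let B : Finset (Fin n) := Finset.univ.filter (fun i => e i ∈ MulAction.orbit M q0)
  have hBcard : B.card = (MulAction.orbit M q0).ncard := by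
    have : (MulAction.orbit M q0) = e '' (B : Set (Fin n)) := by
      ext q
      constructor
      · intro hq
        refine ⟨e.symm q, ?_, by simp⟩
        simp [B, hq]
      · rintro ⟨i, hi, rfl⟩
        simpa [B] using hi
    rw [this, Set.ncard_image_of_injective _ e.injective, Set.ncard_coe_finset]
  -- the orbit is invariant under H
  have hHinv : ∀ h ∈ H, ∀ q ∈ MulAction.orbit M q0, h • q ∈ MulAction.orbit M q0 := by
    rintro h hh' _ ⟨⟨m, hm⟩, rfl⟩
    refine ⟨⟨h * m, M.mul_mem (hHM hh') hm⟩, ?_⟩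
    show (h * m) • q0 = h • (m • q0)
    rw [mul_smul]
  have hBclosed : ∀ i ∈ B, ∀ i' : Fin n, ol i'.val = ol i.val → i' ∈ B := by
    intro i hi i' hii'
    simp only [B, Finset.mem_filter, Finset.mem_univ, true_and] at hi ⊢
    obtain ⟨r0, hr0, ho⟩ := horb i.val i.isLt
    have h1 : e i ∈ MulAction.orbit H (((R r0 : G) : G ⧸ H)) := by
      rw [orbit_eq hh hp ho]
      exact ⟨i, by simp only [Set.mem_setOf_eq]; rw [hr0]; exact Nat.beq_refl _, rfl⟩
    have h2 : e i' ∈ MulAction.orbit H (((R r0 : G) : G ⧸ H)) := by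
      rw [orbit_eq hh hp ho]
      exact ⟨i', by simp only [Set.mem_setOf_eq]; rw [hr0, hii']; exact Nat.beq_refl _, rfl⟩
    obtain ⟨⟨h1', hh1⟩, hq1⟩ := h1
    obtain ⟨⟨h2', hh2⟩, hq2⟩ := h2
    have hq1' : h1' • (((R r0 : G) : G ⧸ H)) = e i := hq1
    have hq2' : h2' • (((R r0 : G) : G ⧸ H)) = e i' := hq2
    have : e i' = (h2' * h1'⁻¹) • e i := by
      rw [← hq1', ← hq2', mul_smul, inv_smul_smul]
    rw [this]
    exact hHinv _ (H.mul_mem hh2 (H.inv_mem hh1)) _ hi
  have h0B : (⟨0, hn⟩ : Fin n) ∈ B := by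
    simp only [B, Finset.mem_filter, Finset.mem_univ, true_and, he0]
    exact MulAction.mem_orbit_self q0
  have hsum := card_eq_sum_classes n r ol hol B hBclosed
  set S := (Finset.range r).filter (fun j => ∃ i ∈ B, ol i.val = j) with hS
  have h0S : ol 0 ∈ S := by
    simp only [hS, Finset.mem_filter, Finset.mem_range]
    exact ⟨hol 0 hn, ⟨0, hn⟩, h0B, rfl⟩
  have hc0 : cnt (fun i => Nat.beq (ol i) (ol 0)) n = 1 := by
    rw [← ncard_fin_eq_cnt]
    have : {i : Fin n | Nat.beq (ol i.val) (ol 0) = true} = {⟨0, hn⟩} := by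
      ext i
      simp only [Set.mem_setOf_eq, Set.mem_singleton_iff]
      constructor
      · intro h
        exact Fin.ext (hol0 i.val i.isLt (Nat.eq_of_beq_eq_true h))
      · rintro rfl; exact Nat.beq_refl _
    rw [this, Set.ncard_singleton]
  set f' : Nat → Nat := fun j => if j = ol 0 then 0 else cnt (fun i => Nat.beq (ol i) j) n with hf'
  have hsplit : ∑ j ∈ S, cnt (fun i => Nat.beq (ol i) j) n = 1 + ∑ j ∈ S, f' j := by
    have : ∀ j ∈ S, cnt (fun i => Nat.beq (ol i) j) n =
        (if j = ol 0 then cnt (fun i => Nat.beq (ol i) (ol 0)) n else 0) + f' j := by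
      intro j _
      simp only [hf']
      split_ifs with hj
      · rw [hj]; simp
      · simp
    rw [Finset.sum_congr rfl this, Finset.sum_add_distrib, Finset.sum_ite_eq' S (ol 0), if_pos h0S, hc0]
  have hmem := sum_filter_mem_sumsBelow f' (fun j => ∃ i ∈ B, ol i.val = j) r
  have hBc : B.card = 1 + ∑ j ∈ S, f' j := by rw [hsum, hsplit]
  have hd' : (1 + ∑ j ∈ S, f' j) ∣ n := by rw [← hBc, hBcard]; exact hdvd
  rcases harith _ hmem hd' with hs0 | hsn
  · left
    have hB1 : (MulAction.orbit M q0).ncard = 1 := by rw [← hBcard, hBc, hs0]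
    apply le_antisymm _ hHM
    intro m hm
    obtain ⟨q, hq⟩ := Set.ncard_eq_one.mp hB1
    have h1 : q0 ∈ ({q} : Set (G ⧸ H)) := hq ▸ MulAction.mem_orbit_self q0
    have h2 : m • q0 ∈ ({q} : Set (G ⧸ H)) := hq ▸ ⟨⟨m, hm⟩, rfl⟩
    rw [Set.mem_singleton_iff] at h1 h2
    have h3 : m • q0 = q0 := h2.trans h1.symm
    have h4 : m • q0 = ((m * 1 : G) : G ⧸ H) := rfl
    rw [h4, mul_one, hq0] at h3
    have := QuotientGroup.eq.mp h3
    rw [mul_one] at this
    simpa using H.inv_mem this
  · right
    have hBn : (MulAction.orbit M q0).ncard = n := by rw [← hBcard, hBc, hsn]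
    have h1 : (MulAction.stabilizer M q0).index = (MulAction.orbit M q0).ncard :=
      MulAction.index_stabilizer M q0
    rw [hstab, hBn] at h1
    have h2 := Subgroup.relIndex_mul_index hHM
    have h1' : H.relIndex M = n := h1
    rw [h1', hidx] at h2
    have hnpos : 0 < n := hn
    have h3 : M.index = 1 := by
      have : n * M.index = n * 1 := by rw [h2, mul_one]
      exact Nat.eq_of_mul_eq_mul_left hnpos this
    exact Subgroup.index_eq_one.mp h3

end Abstract

end Cfsg.Agent.Lib.Helper25.TC
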