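import Mathlib
import Cfsg.Prelude.Def_SporadicB

set_option autoImplicit false

/-! Existence pipeline, part H: general lemmas on conjugacy classes of involutions (size of the class, the class
of a non-trivial element of a simple group generates, centralizers of conjugate elements). -/

namespace Cfsg.Agent.Lib.Helper25.TC

section Conj
variable {G : Type*} [Group G]

/-- the size of a conjugacy class is the index of the centralizer -/
theorem card_conjugatesOf (t : G) : Nat.card (conjugatesOf t) = (Subgroup.centralizer ({t} : Set G)).index := by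
  classical
  set C := Subgroup.centralizer ({t} : Set G) with hC
  have hmemC : ∀ x : G, x ∈ C ↔ x * t = t * x := by
    intro x
    rw [hC, Subgroup.mem_centralizer_iff]
    constructor
    · intro h; exact (h t (Set.mem_singleton t)).symm
    · intro h y hy
      rw [Set.mem_singleton_iff] at hy
      rw [hy]; exact h.symm
  let f : G ⧸ C → G := Quotient.lift (fun g : G => g * t * g⁻¹) (by
    intro a b hab
    have hab' : a⁻¹ * b ∈ C := QuotientGroup.leftRel_apply.mp hab
    have h1 := (hmemC _).mp hab'
    show a * t * a⁻¹ = b * t * b⁻¹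
    have : b = a * (a⁻¹ * b) := by group
    rw [this]
    have h2 : a * (a⁻¹ * b) * t * (a * (a⁻¹ * b))⁻¹ = a * ((a⁻¹ * b) * t) * (a⁻¹ * b)⁻¹ * a⁻¹ := by group
    rw [h2, h1]; group)
  have hf : ∀ g : G, f (QuotientGroup.mk g) = g * t * g⁻¹ := fun g => rfl
  have hinj : Function.Injective f := by
    intro q1 q2
    induction q1 using QuotientGroup.induction_on with
    | H a =>
      induction q2 using QuotientGroup.induction_on with
      | H b =>
        intro h
        rw [hf, hf] at h
        apply QuotientGroup.eq.mpr
        rw [hmemC]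
        have h3 : a⁻¹ * b * t = a⁻¹ * (b * t * b⁻¹) * b := by group
        rw [h3, ← h]; group
  have hrange : Set.range f = conjugatesOf t := by
    ext x
    constructor
    · rintro ⟨q, rfl⟩
      induction q using QuotientGroup.induction_on with
      | H a =>
        rw [hf]
        show IsConj t (a * t * a⁻¹)
        exact isConj_iff.mpr ⟨a, rfl⟩
    · intro hx
      have hx' : IsConj t x := hx
      obtain ⟨a, ha⟩ := isConj_iff.mp hx'
      exact ⟨QuotientGroup.mk a, by rw [hf, ha]⟩
  rw [← hrange, Nat.card_range_of_injective hinj, Subgroup.index_eq_card]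

/-- a normal subgroup of order two is central -/
theorem normal_card_two_le_center (N : Subgroup G) [hN : N.Normal] (h2 : Nat.card N = 2) :
    N ≤ Subgroup.center G := by
  intro z hz
  rw [Subgroup.mem_center_iff]
  intro g
  by_cases hz1 : z = 1
  · rw [hz1]; simp
  · obtain ⟨y, _, hy⟩ := (Nat.card_eq_two_iff' (1 : N)).mp h2
    have hzmem : g * z * g⁻¹ ∈ N := hN.conj_mem z hz g
    have e1 : (⟨z, hz⟩ : N) = y := hy _ (by
      intro h; apply hz1; exact congrArg Subtype.val h)
    have e2 : (⟨g * z * g⁻¹, hzmem⟩ : N) = y := hy _ (by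
      intro h
      have h' : g * z * g⁻¹ = 1 := congrArg Subtype.val h
      apply hz1
      have : z = g⁻¹ * (g * z * g⁻¹) * g := by group
      rw [this, h']; group)
    have e3 : g * z * g⁻¹ = z := congrArg Subtype.val (e2.trans e1.symm)
    calc g * z = g * z * g⁻¹ * g := by group
      _ = z * g := by rw [e3]

/-- the conjugacy class of a non-trivial element of a simple group generates the group -/
theorem closure_conjugatesOf_eq_top (hs : IsSimpleGroup G) (t : G) (ht : t ≠ 1) :
    Subgroup.closure (conjugatesOf t) = ⊤ := by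
  have h1 : Subgroup.closure (conjugatesOf t) = Subgroup.normalClosure {t} := by
    rw [Subgroup.normalClosure, Group.conjugatesOfSet, Set.biUnion_singleton]
  rw [h1]
  rcases (Subgroup.normalClosure_normal (s := ({t} : Set G))).eq_bot_or_eq_top with h | h
  · exfalso
    apply ht
    have : t ∈ Subgroup.normalClosure ({t} : Set G) := Subgroup.subset_normalClosure (Set.mem_singleton t)
    rw [h] at this
    exact Subgroup.mem_bot.mp this
  · exact h

/-- centralizers of conjugate elements are isomorphic -/
noncomputable def centralizerConjEquiv (g t : G) :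
    Subgroup.centralizer ({t} : Set G) ≃* Subgroup.centralizer ({g * t * g⁻¹} : Set G) where
  toFun x := ⟨g * x.1 * g⁻¹, by
    rw [Subgroup.mem_centralizer_iff]
    intro y hy
    rw [Set.mem_singleton_iff] at hy
    have hx := (Subgroup.mem_centralizer_iff.mp x.2) t (Set.mem_singleton t)
    rw [hy]
    calc g * t * g⁻¹ * (g * x.1 * g⁻¹) = g * (t * x.1) * g⁻¹ := by group
      _ = g * (x.1 * t) * g⁻¹ := by rw [hx]
      _ = g * x.1 * g⁻¹ * (g * t * g⁻¹) := by group⟩
  invFun x := ⟨g⁻¹ * x.1 * g, by
    rw [Subgroup.mem_centralizer_iff]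
    intro y hy
    rw [Set.mem_singleton_iff] at hy
    have hx := (Subgroup.mem_centralizer_iff.mp x.2) (g * t * g⁻¹) (Set.mem_singleton _)
    rw [hy]
    calc t * (g⁻¹ * x.1 * g) = g⁻¹ * ((g * t * g⁻¹) * x.1) * g := by group
      _ = g⁻¹ * (x.1 * (g * t * g⁻¹)) * g := by rw [hx]
      _ = g⁻¹ * x.1 * g * t := by group⟩
  left_inv x := by
    apply Subtype.ext
    show g⁻¹ * (g * x.1 * g⁻¹) * g = x.1
    group
  right_inv x := by
    apply Subtype.ext
    show g * (g⁻¹ * x.1 * g) * g⁻¹ = x.1
    group
  map_mul' x y := by
    apply Subtype.ext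
    show g * (x.1 * y.1) * g⁻¹ = (g * x.1 * g⁻¹) * (g * y.1 * g⁻¹)
    group

end Conj

end Cfsg.Agent.Lib.Helper25.TC
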