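import Mathlib
import Cfsg.Prelude.Def_SporadicB
import Cfsg.Agent.Lib.Helper25.TCExistB
import Cfsg.Agent.Lib.Helper25.TCExistH

set_option autoImplicit false

/-! Existence pipeline, part I: properties invariant under double cosets of the subgroup of a verified coset table,
and classes of 3-transpositions from a check on representatives. -/

namespace Cfsg.Agent.Lib.Helper25.TC

section Abstract
variable {G : Type*} [Group G] {gen : Nat → G} {H : Subgroup G} {k n : Nat} {T : Nat → Nat → Nat}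
  {R : Nat → G} {hn : 0 < n} {φ : G →* Equiv.Perm (Fin n)} {bp bg : Nat → Nat}

/-- a property of group elements which is invariant under multiplication with `H` on both sides holds everywhere
if it holds at one element for each class of the orbit labelling -/
theorem forall_of_double_coset (hh : TableHyp gen H k n T R)
    (hp : PermHyp (gen := gen) (H := H) k n T hn φ bp bg)
    {sw : List (List Nat)} {ol op ow od : Nat → Nat}
    (horb : ∀ i < n, ∃ r, ol r = ol i ∧ OrbitHyp (gen := gen) (H := H) k n T sw ol op ow od r)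
    (P : G → Prop) (hPl : ∀ h ∈ H, ∀ g, P g → P (h * g)) (hPr : ∀ h ∈ H, ∀ g, P g → P (g * h))
    (hrep : ∀ i < n, ∃ g, P g ∧ ol (φ g ⟨0, hn⟩).val = ol i) :
    ∀ g, P g := by
  intro g
  set e := cosetEquiv hh hp with he
  have he0 : e ⟨0, hn⟩ = ((1 : G) : G ⧸ H) := cosetEquiv_zero hh hp
  have hcoset : ∀ x : G, e (φ x ⟨0, hn⟩) = ((x : G) : G ⧸ H) := by
    intro x
    rw [← smul_cosetEquiv hh hp x ⟨0, hn⟩, ← he, he0]
    show ((x * 1 : G) : G ⧸ H) = _
    rw [mul_one]
  set i := φ g ⟨0, hn⟩ with hi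
  obtain ⟨g', hPg', hol⟩ := hrep i.val i.isLt
  set i' := φ g' ⟨0, hn⟩ with hi'
  obtain ⟨r0, hr0, ho⟩ := horb i.val i.isLt
  have h1 : e i ∈ MulAction.orbit H (((R r0 : G) : G ⧸ H)) := by
    rw [orbit_eq hh hp ho]
    exact ⟨i, by simp only [Set.mem_setOf_eq]; rw [hr0]; exact Nat.beq_refl _, rfl⟩
  have h2 : e i' ∈ MulAction.orbit H (((R r0 : G) : G ⧸ H)) := by
    rw [orbit_eq hh hp ho]
    exact ⟨i', by simp only [Set.mem_setOf_eq]; rw [hr0, hol]; exact Nat.beq_refl _, rfl⟩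
  obtain ⟨⟨h1', hh1⟩, hq1⟩ := h1
  obtain ⟨⟨h2', hh2⟩, hq2⟩ := h2
  have hq1' : h1' • (((R r0 : G) : G ⧸ H)) = e i := hq1
  have hq2' : h2' • (((R r0 : G) : G ⧸ H)) = e i' := hq2
  have h3 : e i = (h1' * h2'⁻¹) • e i' := by
    rw [← hq1', ← hq2', mul_smul, inv_smul_smul]
  rw [hi, hi', hcoset g, hcoset g'] at h3
  have h4 : (h1' * h2'⁻¹) • ((g' : G) : G ⧸ H) = ((h1' * h2'⁻¹ * g' : G) : G ⧸ H) := rfl
  rw [h4] at h3
  have h5 := QuotientGroup.eq.mp h3
  have h6 : g = (h1' * h2'⁻¹ * g') * ((h1' * h2'⁻¹ * g')⁻¹ * g) := by group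
  have h7 : (h1' * h2'⁻¹ * g')⁻¹ * g ∈ H := by
    have := H.inv_mem h5
    simpa [mul_assoc] using this
  rw [h6]
  exact hPr _ h7 _ (hPl _ (H.mul_mem hh1 (H.inv_mem hh2)) _ hPg')

end Abstract

section Class
variable {G : Type*} [Group G]

/-- the class of an involution `t` is a class of 3-transpositions, provided the products `t tᵍ` have order at
most three -/
theorem threeTranspositionClass_of_rep (hs : IsSimpleGroup G) (t : G) (ht2 : t * t = 1) (ht1 : t ≠ 1)
    (hP : ∀ g : G, (t * (g * t * g⁻¹)) ^ 2 = 1 ∨ (t * (g * t * g⁻¹)) ^ 3 = 1) :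
    Cfsg.IsThreeTranspositionClass (conjugatesOf t) := by
  have hmem : ∀ d ∈ conjugatesOf t, ∃ c : G, c * t * c⁻¹ = d := by
    intro d hd
    have hd' : IsConj t d := hd
    exact isConj_iff.mp hd'
  refine ⟨⟨?_, ?_⟩, ⟨t, mem_conjugatesOf_self, rfl⟩, closure_conjugatesOf_eq_top hs t ht1⟩
  · intro d hd
    obtain ⟨c, rfl⟩ := hmem d hd
    haveI : Fact (Nat.Prime 2) := ⟨Nat.prime_two⟩
    apply orderOf_eq_prime
    · rw [pow_two]
      calc c * t * c⁻¹ * (c * t * c⁻¹) = c * (t * t) * c⁻¹ := by group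
        _ = 1 := by rw [ht2]; group
    · intro h
      apply ht1
      have : t = c⁻¹ * (c * t * c⁻¹) * c := by group
      rw [this, h]; group
  · intro d hd e he
    obtain ⟨a, rfl⟩ := hmem d hd
    obtain ⟨b, rfl⟩ := hmem e he
    have key : a * t * a⁻¹ * (b * t * b⁻¹) = a * (t * ((a⁻¹ * b) * t * (a⁻¹ * b)⁻¹)) * a⁻¹ := by group
    rw [key, conj_pow, conj_pow]
    rcases hP (a⁻¹ * b) with h | h
    · left; rw [h]; group
    · right; rw [h]; group

end Class

end Cfsg.Agent.Lib.Helper25.TC
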