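import Mathlib
import Cfsg.Agent.Lib.Helper25.TCCox

set_option autoImplicit false

/-! Existence pipeline, part J: homomorphisms from a Coxeter-style presented group into an arbitrary group, given
images of the generators on which the relator words are trivial. -/

namespace Cfsg.Agent.Lib.Helper25.TC

open Cfsg.Spor

section Hom

variable {α : Type} [DecidableEq α] {edges : List (α × ℕ × α)} {extra : List (FreeGroup α)}
  {k : Nat} {idx : α → Nat} {ofIdx : Nat → α} {L : Nat → Nat → Nat} {extraW : List (List Nat)}

/-- a homomorphism from the presented group, from involutions on which the relator words are trivial -/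
theorem exists_hom_of_words (hs : CoxSetup edges extra k idx ofIdx L extraW) {K : Type} [Group K] (f : Nat → K)
    (hf : ∀ x, f x * f x = 1) (hw : ∀ w ∈ coxWords k L ++ extraW, evr f w = 1) :
    ∃ ψ : CoxPresented α edges extra →* K, ∀ x < k, ψ (cgen edges extra k ofIdx x) = f x := by
  have hrel : ∀ r ∈ coxRelators edges ∪ {r | r ∈ extra}, FreeGroup.lift (fun a => f (idx a)) r = 1 := by
    intro r hr
    rcases hr with hr | hr
    · obtain ⟨a, _, b, _, rfl⟩ := hr
      rw [map_pow, map_mul, FreeGroup.lift_apply_of, FreeGroup.lift_apply_of, hs.hL]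
      by_cases hab : idx a ≤ idx b
      · rw [← evr_cw]
        exact hw _ (List.mem_append_left _ (mem_coxWords.mpr ⟨_, hs.idx_lt a, _, hs.idx_lt b, hab, rfl⟩))
      · have h1 := hw _ (List.mem_append_left _
          (mem_coxWords.mpr ⟨_, hs.idx_lt b, _, hs.idx_lt a, by omega, rfl⟩))
        rw [evr_cw] at h1
        rw [hs.hLsymm _ (hs.idx_lt a) _ (hs.idx_lt b)]
        have e : f (idx a) * f (idx b) = f (idx a) * (f (idx b) * f (idx a)) * (f (idx a))⁻¹ := by group
        rw [e, conj_pow, h1]
        simp
    · obtain ⟨w, hwm, hp⟩ := forall₂_left hs.hextra r hr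
      rw [hp _ _ hf]
      exact hw _ (List.mem_append_right _ hwm)
  refine ⟨PresentedGroup.toGroup (f := fun a => f (idx a)) hrel, ?_⟩
  intro x hx
  unfold cgen
  rw [if_pos hx, PresentedGroup.toGroup.of, hs.idx_ofIdx x hx]

end Hom

end Cfsg.Agent.Lib.Helper25.TC
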