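import Mathlib
import Cfsg.Agent.Lib.Helper25.TCExistE

set_option autoImplicit false

/-! Existence pipeline, part K: the stabilizer chain check split into chunks of words (so that every piece of the
numeric verification stays small). -/

namespace Cfsg.Agent.Lib.Helper25.TC

/-- check of a chunk of words of one level: letters below `k`, the points of `fx` fixed, and the images of `x`
strictly increasing, at least `lo` and below `hi` -/
def ckChunk (T : Nat → Nat → Nat) (k : Nat) (fx : List Nat) (x : Nat) : Nat → Nat → List (List Nat) → Bool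
  | lo, hi, [] => Nat.ble lo hi
  | lo, hi, w :: ws => (w.all (fun l => Nat.blt l k) && fx.all (fun y => Nat.beq (trS T w y) y)) &&
      seqNat (trS T w x) (fun v => Nat.ble lo v && ckChunk T k fx x (Nat.succ v) hi ws)

theorem ckChunk_mono (T : Nat → Nat → Nat) (k : Nat) (fx : List Nat) (x : Nat) :
    ∀ (ws : List (List Nat)) (lo lo' hi : Nat), lo ≤ lo' → ckChunk T k fx x lo' hi ws = true →
      ckChunk T k fx x lo hi ws = true := by
  intro ws
  induction ws with
  | nil =>
    intro lo lo' hi h h1
    simp only [ckChunk] at h1 ⊢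
    exact Nat.ble_eq_true_of_le (le_trans h (Nat.le_of_ble_eq_true h1))
  | cons w ws ih =>
    intro lo lo' hi h h1
    simp only [ckChunk, seqNat_eq, Bool.and_eq_true] at h1 ⊢
    obtain ⟨h2, h3, h4⟩ := h1
    exact ⟨h2, Nat.ble_eq_true_of_le (le_trans h (Nat.le_of_ble_eq_true h3)), h4⟩

theorem ckChunk_append (T : Nat → Nat → Nat) (k : Nat) (fx : List Nat) (x : Nat) :
    ∀ (ws1 ws2 : List (List Nat)) (lo mid hi : Nat), ckChunk T k fx x lo mid ws1 = true →
      ckChunk T k fx x mid hi ws2 = true → ckChunk T k fx x lo hi (ws1 ++ ws2) = true := by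
  intro ws1
  induction ws1 with
  | nil =>
    intro ws2 lo mid hi h1 h2
    simp only [ckChunk] at h1
    rw [List.nil_append]
    exact ckChunk_mono T k fx x ws2 lo mid hi (Nat.le_of_ble_eq_true h1) h2
  | cons w ws ih =>
    intro ws2 lo mid hi h1 h2
    rw [List.cons_append]
    simp only [ckChunk, seqNat_eq, Bool.and_eq_true] at h1 ⊢
    obtain ⟨h3, h4, h5⟩ := h1
    exact ⟨h3, h4, ih ws2 _ mid hi h5 h2⟩

theorem ckChunk_spec (T : Nat → Nat → Nat) (k : Nat) (fx : List Nat) (x : Nat) :
    ∀ (ws : List (List Nat)) (lo hi : Nat), ckChunk T k fx x lo hi ws = true →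
      ws.all (fun w => w.all (fun l => Nat.blt l k) && fx.all (fun y => Nat.beq (trS T w y) y)) = true ∧
        imagesInc T x lo ws = true := by
  intro ws
  induction ws with
  | nil => intro lo hi _; exact ⟨rfl, rfl⟩
  | cons w ws ih =>
    intro lo hi h
    simp only [ckChunk, seqNat_eq, Bool.and_eq_true] at h
    obtain ⟨h1, h2, h3⟩ := h
    obtain ⟨h4, h5⟩ := ih _ hi h3
    refine ⟨?_, ?_⟩
    · rw [List.all_cons, Bool.and_eq_true]
      exact ⟨by rw [Bool.and_eq_true]; exact h1, h4⟩
    · rw [imagesInc, seqNat_eq, Bool.and_eq_true]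
      exact ⟨h2, h5⟩

/-- one level of the chain from a chunk check -/
theorem ckChainS_cons (T : Nat → Nat → Nat) (k n : Nat) (fx : List Nat) (x : Nat) (ws : List (List Nat))
    (rest : List (Nat × List (List Nat))) (hi : Nat) (hx : x < n)
    (h1 : ckChunk T k fx x 0 hi ws = true) (h2 : ckChainS T k n (x :: fx) rest = true) :
    ckChainS T k n fx ((x, ws) :: rest) = true := by
  obtain ⟨h3, h4⟩ := ckChunk_spec T k fx x ws 0 hi h1
  simp only [ckChainS, Bool.and_eq_true]
  exact ⟨⟨⟨by simpa [Nat.blt] using hx, h3⟩, h4⟩, h2⟩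

theorem ckChainS_nil (T : Nat → Nat → Nat) (k n : Nat) (fx : List Nat) : ckChainS T k n fx [] = true := rfl

end Cfsg.Agent.Lib.Helper25.TC
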