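import Cfsg.Agent.Lib.Helper25.TCF2Fi22_14080T

set_option autoImplicit false
set_option maxRecDepth 1000000
set_option linter.unusedVariables false
set_option Elab.async false

namespace Cfsg.Agent.Lib.Helper25.TC.F2Fi22_14080

open Cfsg.Agent.Lib.Helper25.TC

theorem k_relp_62 : allR fastRel 7 7936 = true := by decide +kernel
theorem k_relp_63 : allR fastRel 7 8064 = true := by decide +kernel
theorem k_relp_64 : allR fastRel 7 8192 = true := by decide +kernel
theorem k_relp_65 : allR fastRel 7 8320 = true := by decide +kernel
theorem k_relp_66 : allR fastRel 7 8448 = true := by decide +kernel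
theorem k_relp_67 : allR fastRel 7 8576 = true := by decide +kernel
theorem k_relp_68 : allR fastRel 7 8704 = true := by decide +kernel
theorem k_relp_69 : allR fastRel 7 8832 = true := by decide +kernel
theorem k_relp_70 : allR fastRel 7 8960 = true := by decide +kernel
theorem k_relp_71 : allR fastRel 7 9088 = true := by decide +kernel
theorem k_relp_72 : allR fastRel 7 9216 = true := by decide +kernel
theorem k_relp_73 : allR fastRel 7 9344 = true := by decide +kernel
theorem k_relp_74 : allR fastRel 7 9472 = true := by decide +kernel
theorem k_relp_75 : allR fastRel 7 9600 = true := by decide +kernel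
theorem k_relp_76 : allR fastRel 7 9728 = true := by decide +kernel
theorem k_relp_77 : allR fastRel 7 9856 = true := by decide +kernel
theorem k_relp_78 : allR fastRel 7 9984 = true := by decide +kernel
theorem k_relp_79 : allR fastRel 7 10112 = true := by decide +kernel
theorem k_relp_80 : allR fastRel 7 10240 = true := by decide +kernel
theorem k_relp_81 : allR fastRel 7 10368 = true := by decide +kernel
theorem k_relp_82 : allR fastRel 7 10496 = true := by decide +kernel
theorem k_relp_83 : allR fastRel 7 10624 = true := by decide +kernel
theorem k_relp_84 : allR fastRel 7 10752 = true := by decide +kernel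
theorem k_relp_85 : allR fastRel 7 10880 = true := by decide +kernel
theorem k_relp_86 : allR fastRel 7 11008 = true := by decide +kernel
theorem k_relp_87 : allR fastRel 7 11136 = true := by decide +kernel
theorem k_relp_88 : allR fastRel 7 11264 = true := by decide +kernel
theorem k_relp_89 : allR fastRel 7 11392 = true := by decide +kernel
theorem k_relp_90 : allR fastRel 7 11520 = true := by decide +kernel
theorem k_relp_91 : allR fastRel 7 11648 = true := by decide +kernel
theorem k_relp_92 : allR fastRel 7 11776 = true := by decide +kernel

end Cfsg.Agent.Lib.Helper25.TC.F2Fi22_14080
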