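import Cfsg.Agent.Lib.Helper25.TCF2Fi22_14080T

set_option autoImplicit false
set_option maxRecDepth 1000000
set_option linter.unusedVariables false
set_option Elab.async false

namespace Cfsg.Agent.Lib.Helper25.TC.F2Fi22_14080

open Cfsg.Agent.Lib.Helper25.TC

theorem k_relp_93 : allR fastRel 7 11904 = true := by decide +kernel
theorem k_relp_94 : allR fastRel 7 12032 = true := by decide +kernel
theorem k_relp_95 : allR fastRel 7 12160 = true := by decide +kernel
theorem k_relp_96 : allR fastRel 7 12288 = true := by decide +kernel
theorem k_relp_97 : allR fastRel 7 12416 = true := by decide +kernel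
theorem k_relp_98 : allR fastRel 7 12544 = true := by decide +kernel
theorem k_relp_99 : allR fastRel 7 12672 = true := by decide +kernel
theorem k_relp_100 : allR fastRel 7 12800 = true := by decide +kernel
theorem k_relp_101 : allR fastRel 7 12928 = true := by decide +kernel
theorem k_relp_102 : allR fastRel 7 13056 = true := by decide +kernel
theorem k_relp_103 : allR fastRel 7 13184 = true := by decide +kernel
theorem k_relp_104 : allR fastRel 7 13312 = true := by decide +kernel
theorem k_relp_105 : allR fastRel 7 13440 = true := by decide +kernel
theorem k_relp_106 : allR fastRel 7 13568 = true := by decide +kernel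
theorem k_relp_107 : allR fastRel 7 13696 = true := by decide +kernel
theorem k_relp_108 : allR fastRel 7 13824 = true := by decide +kernel
theorem k_relp_109 : allR fastRel 7 13952 = true := by decide +kernel
theorem k_relp_110 : allR fastRel 7 14080 = true := by decide +kernel
theorem k_relp_111 : allR fastRel 7 14208 = true := by decide +kernel
theorem k_relp_112 : allR fastRel 7 14336 = true := by decide +kernel
theorem k_relp_113 : allR fastRel 7 14464 = true := by decide +kernel
theorem k_relp_114 : allR fastRel 7 14592 = true := by decide +kernel
theorem k_relp_115 : allR fastRel 7 14720 = true := by decide +kernel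
theorem k_relp_116 : allR fastRel 7 14848 = true := by decide +kernel
theorem k_relp_117 : allR fastRel 7 14976 = true := by decide +kernel
theorem k_relp_118 : allR fastRel 7 15104 = true := by decide +kernel
theorem k_relp_119 : allR fastRel 7 15232 = true := by decide +kernel
theorem k_relp_120 : allR fastRel 7 15360 = true := by decide +kernel
theorem k_relp_121 : allR fastRel 7 15488 = true := by decide +kernel
theorem k_relp_122 : allR fastRel 7 15616 = true := by decide +kernel
theorem k_relp_123 : allR fastRel 7 15744 = true := by decide +kernel
theorem k_relp_124 : allR fastRel 7 15872 = true := by decide +kernel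
theorem k_relp_125 : allR fastRel 7 16000 = true := by decide +kernel
theorem k_relp_126 : allR fastRel 7 16128 = true := by decide +kernel
theorem k_relp_127 : allR fastRel 7 16256 = true := by decide +kernel
theorem k_certp_0 : allR (ckCert C nF) 9 0 = true := by decide +kernel
theorem k_certp_1 : allR (ckCert C nF) 9 512 = true := by decide +kernel
theorem k_certp_2 : allR (ckCert C nF) 9 1024 = true := by decide +kernel
theorem k_certp_3 : allR (ckCert C nF) 9 1536 = true := by decide +kernel
theorem k_certp_4 : allR (ckCert C nF) 9 2048 = true := by decide +kernel
theorem k_certp_5 : allR (ckCert C nF) 9 2560 = true := by decide +kernel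
theorem k_certp_6 : allR (ckCert C nF) 9 3072 = true := by decide +kernel
theorem k_certp_7 : allR (ckCert C nF) 9 3584 = true := by decide +kernel
theorem k_certp_8 : allR (ckCert C nF) 9 4096 = true := by decide +kernel
theorem k_certp_9 : allR (ckCert C nF) 9 4608 = true := by decide +kernel
theorem k_certp_10 : allR (ckCert C nF) 9 5120 = true := by decide +kernel
theorem k_certp_11 : allR (ckCert C nF) 9 5632 = true := by decide +kernel
theorem k_certp_12 : allR (ckCert C nF) 9 6144 = true := by decide +kernel

end Cfsg.Agent.Lib.Helper25.TC.F2Fi22_14080
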