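import Cfsg.Agent.Lib.Helper25.TCF2Fi22_14080T

set_option autoImplicit false
set_option maxRecDepth 1000000
set_option linter.unusedVariables false
set_option Elab.async false

namespace Cfsg.Agent.Lib.Helper25.TC.F2Fi22_14080

open Cfsg.Agent.Lib.Helper25.TC

theorem k_finp_13 : allR (ckFin C 9 nn nF can fin T) 8 3328 = true := by decide +kernel
theorem k_finp_14 : allR (ckFin C 9 nn nF can fin T) 8 3584 = true := by decide +kernel
theorem k_finp_15 : allR (ckFin C 9 nn nF can fin T) 8 3840 = true := by decide +kernel
theorem k_finp_16 : allR (ckFin C 9 nn nF can fin T) 8 4096 = true := by decide +kernel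
theorem k_finp_17 : allR (ckFin C 9 nn nF can fin T) 8 4352 = true := by decide +kernel
theorem k_finp_18 : allR (ckFin C 9 nn nF can fin T) 8 4608 = true := by decide +kernel
theorem k_finp_19 : allR (ckFin C 9 nn nF can fin T) 8 4864 = true := by decide +kernel
theorem k_finp_20 : allR (ckFin C 9 nn nF can fin T) 8 5120 = true := by decide +kernel
theorem k_finp_21 : allR (ckFin C 9 nn nF can fin T) 8 5376 = true := by decide +kernel
theorem k_finp_22 : allR (ckFin C 9 nn nF can fin T) 8 5632 = true := by decide +kernel
theorem k_finp_23 : allR (ckFin C 9 nn nF can fin T) 8 5888 = true := by decide +kernel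
theorem k_finp_24 : allR (ckFin C 9 nn nF can fin T) 8 6144 = true := by decide +kernel
theorem k_finp_25 : allR (ckFin C 9 nn nF can fin T) 8 6400 = true := by decide +kernel
theorem k_finp_26 : allR (ckFin C 9 nn nF can fin T) 8 6656 = true := by decide +kernel
theorem k_finp_27 : allR (ckFin C 9 nn nF can fin T) 8 6912 = true := by decide +kernel
theorem k_finp_28 : allR (ckFin C 9 nn nF can fin T) 8 7168 = true := by decide +kernel
theorem k_finp_29 : allR (ckFin C 9 nn nF can fin T) 8 7424 = true := by decide +kernel
theorem k_finp_30 : allR (ckFin C 9 nn nF can fin T) 8 7680 = true := by decide +kernel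
theorem k_finp_31 : allR (ckFin C 9 nn nF can fin T) 8 7936 = true := by decide +kernel
theorem k_finp_32 : allR (ckFin C 9 nn nF can fin T) 8 8192 = true := by decide +kernel
theorem k_finp_33 : allR (ckFin C 9 nn nF can fin T) 8 8448 = true := by decide +kernel
theorem k_finp_34 : allR (ckFin C 9 nn nF can fin T) 8 8704 = true := by decide +kernel
theorem k_finp_35 : allR (ckFin C 9 nn nF can fin T) 8 8960 = true := by decide +kernel
theorem k_finp_36 : allR (ckFin C 9 nn nF can fin T) 8 9216 = true := by decide +kernel
theorem k_finp_37 : allR (ckFin C 9 nn nF can fin T) 8 9472 = true := by decide +kernel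
theorem k_finp_38 : allR (ckFin C 9 nn nF can fin T) 8 9728 = true := by decide +kernel
theorem k_finp_39 : allR (ckFin C 9 nn nF can fin T) 8 9984 = true := by decide +kernel
theorem k_finp_40 : allR (ckFin C 9 nn nF can fin T) 8 10240 = true := by decide +kernel
theorem k_finp_41 : allR (ckFin C 9 nn nF can fin T) 8 10496 = true := by decide +kernel
theorem k_finp_42 : allR (ckFin C 9 nn nF can fin T) 8 10752 = true := by decide +kernel
theorem k_finp_43 : allR (ckFin C 9 nn nF can fin T) 8 11008 = true := by decide +kernel
theorem k_finp_44 : allR (ckFin C 9 nn nF can fin T) 8 11264 = true := by decide +kernel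
theorem k_finp_45 : allR (ckFin C 9 nn nF can fin T) 8 11520 = true := by decide +kernel
theorem k_finp_46 : allR (ckFin C 9 nn nF can fin T) 8 11776 = true := by decide +kernel
theorem k_finp_47 : allR (ckFin C 9 nn nF can fin T) 8 12032 = true := by decide +kernel
theorem k_finp_48 : allR (ckFin C 9 nn nF can fin T) 8 12288 = true := by decide +kernel
theorem k_finp_49 : allR (ckFin C 9 nn nF can fin T) 8 12544 = true := by decide +kernel

end Cfsg.Agent.Lib.Helper25.TC.F2Fi22_14080
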