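import Cfsg.Agent.Lib.Helper25.TCF2O7_728T

set_option autoImplicit false
set_option maxRecDepth 1000000
set_option linter.unusedVariables false
set_option Elab.async false

namespace Cfsg.Agent.Lib.Helper25.TC.F2O7_728

open Cfsg.Agent.Lib.Helper25.TC

theorem k_relp_0 : allR fastRel 8 0 = true := by decide +kernel
theorem k_relp_1 : allR fastRel 8 256 = true := by decide +kernel
theorem k_relp_2 : allR fastRel 8 512 = true := by decide +kernel
theorem k_relp_3 : allR fastRel 8 768 = true := by decide +kernel
theorem k_certp_0 : allR (ckCert C nF) 9 0 = true := by decide +kernel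
theorem k_certp_1 : allR (ckCert C nF) 9 512 = true := by decide +kernel
theorem k_certp_2 : allR (ckCert C nF) 9 1024 = true := by decide +kernel
theorem k_certp_3 : allR (ckCert C nF) 9 1536 = true := by decide +kernel
theorem k_certp_4 : allR (ckCert C nF) 9 2048 = true := by decide +kernel
theorem k_certp_5 : allR (ckCert C nF) 9 2560 = true := by decide +kernel
theorem k_certp_6 : allR (ckCert C nF) 9 3072 = true := by decide +kernel
theorem k_certp_7 : allR (ckCert C nF) 9 3584 = true := by decide +kernel
theorem k_certp_8 : allR (ckCert C nF) 9 4096 = true := by decide +kernel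
theorem k_certp_9 : allR (ckCert C nF) 9 4608 = true := by decide +kernel
theorem k_certp_10 : allR (ckCert C nF) 9 5120 = true := by decide +kernel
theorem k_certp_11 : allR (ckCert C nF) 9 5632 = true := by decide +kernel
theorem k_certp_12 : allR (ckCert C nF) 9 6144 = true := by decide +kernel
theorem k_certp_13 : allR (ckCert C nF) 9 6656 = true := by decide +kernel
theorem k_certp_14 : allR (ckCert C nF) 9 7168 = true := by decide +kernel
theorem k_certp_15 : allR (ckCert C nF) 9 7680 = true := by decide +kernel
theorem k_certp_16 : allR (ckCert C nF) 9 8192 = true := by decide +kernel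
theorem k_certp_17 : allR (ckCert C nF) 9 8704 = true := by decide +kernel
theorem k_certp_18 : allR (ckCert C nF) 9 9216 = true := by decide +kernel
theorem k_certp_19 : allR (ckCert C nF) 9 9728 = true := by decide +kernel
theorem k_certp_20 : allR (ckCert C nF) 9 10240 = true := by decide +kernel
theorem k_certp_21 : allR (ckCert C nF) 9 10752 = true := by decide +kernel
theorem k_certp_22 : allR (ckCert C nF) 9 11264 = true := by decide +kernel
theorem k_certp_23 : allR (ckCert C nF) 9 11776 = true := by decide +kernel
theorem k_certp_24 : allR (ckCert C nF) 9 12288 = true := by decide +kernel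
theorem k_certp_25 : allR (ckCert C nF) 9 12800 = true := by decide +kernel
theorem k_certp_26 : allR (ckCert C nF) 9 13312 = true := by decide +kernel
theorem k_certp_27 : allR (ckCert C nF) 9 13824 = true := by decide +kernel
theorem k_certp_28 : allR (ckCert C nF) 9 14336 = true := by decide +kernel
theorem k_certp_29 : allR (ckCert C nF) 9 14848 = true := by decide +kernel
theorem k_certp_30 : allR (ckCert C nF) 9 15360 = true := by decide +kernel
theorem k_certp_31 : allR (ckCert C nF) 9 15872 = true := by decide +kernel
theorem k_finp_0 : allR (ckFin C 8 nn nF can fin T) 9 0 = true := by decide +kernel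
theorem k_finp_1 : allR (ckFin C 8 nn nF can fin T) 9 512 = true := by decide +kernel
theorem k_tblp_0 : allR (ckTbl 8 nn T) 9 0 = true := by decide +kernel
theorem k_tblp_1 : allR (ckTbl 8 nn T) 9 512 = true := by decide +kernel
theorem k_treep_0 : allR (ckTree 8 nn T bp bg) 10 0 = true := by decide +kernel

end Cfsg.Agent.Lib.Helper25.TC.F2O7_728
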