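import Cfsg.Agent.Lib.Helper25.TCF2O7_728D0
import Cfsg.Agent.Lib.Helper25.TCMain

set_option autoImplicit false
set_option maxRecDepth 1000000
set_option linter.unusedVariables false

namespace Cfsg.Agent.Lib.Helper25.TC.F2O7_728

def sFP_0_0 (c : Nat) : Nat := (bif Nat.ble 8 c then (bif Nat.ble 12 c then (bif Nat.ble 14 c then (bif Nat.ble 15 c then cFP_15 else cFP_14) else (bif Nat.ble 13 c then cFP_13 else cFP_12)) else (bif Nat.ble 10 c then (bif Nat.ble 11 c then cFP_11 else cFP_10) else (bif Nat.ble 9 c then cFP_9 else cFP_8))) else (bif Nat.ble 4 c then (bif Nat.ble 6 c then (bif Nat.ble 7 c then cFP_7 else cFP_6) else (bif Nat.ble 5 c then cFP_5 else cFP_4)) else (bif Nat.ble 2 c then (bif Nat.ble 3 c then cFP_3 else cFP_2) else (bif Nat.ble 1 c then cFP_1 else cFP_0))))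
def sFP_0_1 (c : Nat) : Nat := (bif Nat.ble 18 c then (bif Nat.ble 19 c then cFP_19 else cFP_18) else (bif Nat.ble 17 c then cFP_17 else cFP_16))
def sFP (c : Nat) : Nat := (bif Nat.ble 16 c then sFP_0_1 c else sFP_0_0 c)
def gFP (i : Nat) : Nat := Nat.land (Nat.shiftRight (sFP (Nat.shiftRight i 9)) (Nat.mul 29 (Nat.land i 511))) 536870911
def sFJ_0_0 (c : Nat) : Nat := (bif Nat.ble 8 c then (bif Nat.ble 12 c then (bif Nat.ble 14 c then (bif Nat.ble 15 c then cFJ_15 else cFJ_14) else (bif Nat.ble 13 c then cFJ_13 else cFJ_12)) else (bif Nat.ble 10 c then (bif Nat.ble 11 c then cFJ_11 else cFJ_10) else (bif Nat.ble 9 c then cFJ_9 else cFJ_8))) else (bif Nat.ble 4 c then (bif Nat.ble 6 c then (bif Nat.ble 7 c then cFJ_7 else cFJ_6) else (bif Nat.ble 5 c then cFJ_5 else cFJ_4)) else (bif Nat.ble 2 c then (bif Nat.ble 3 c then cFJ_3 else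 cFJ_2) else (bif Nat.ble 1 c then cFJ_1 else cFJ_0))))
def sFJ_0_1 (c : Nat) : Nat := (bif Nat.ble 24 c then (bif Nat.ble 28 c then (bif Nat.ble 30 c then (bif Nat.ble 31 c then cFJ_31 else cFJ_30) else (bif Nat.ble 29 c then cFJ_29 else cFJ_28)) else (bif Nat.ble 26 c then (bif Nat.ble 27 c then cFJ_27 else cFJ_26) else (bif Nat.ble 25 c then cFJ_25 else cFJ_24))) else (bif Nat.ble 20 c then (bif Nat.ble 22 c then (bif Nat.ble 23 c then cFJ_23 else cFJ_22) else (bif Nat.ble 21 c then cFJ_21 else cFJ_20)) else (bif Nat.ble 18 c then (bif Nat.ble 19 c then cFJ_19 else cFJ_18) else (bif Nat.ble 17 c then cFJ_17 else cFJ_16))))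
def sFJ_0_2 (c : Nat) : Nat := (bif Nat.ble 36 c then (bif Nat.ble 38 c then cFJ_38 else (bif Nat.ble 37 c then cFJ_37 else cFJ_36)) else (bif Nat.ble 34 c then (bif Nat.ble 35 c then cFJ_35 else cFJ_34) else (bif Nat.ble 33 c then cFJ_33 else cFJ_32)))
def sFJ (c : Nat) : Nat := (bif Nat.ble 32 c then sFJ_0_2 c else (bif Nat.ble 16 c then sFJ_0_1 c else sFJ_0_0 c))
def gFJ (i : Nat) : Nat := Nat.land (Nat.shiftRight (sFJ (Nat.shiftRight i 8)) (Nat.mul 47 (Nat.land i 255))) 140737488355327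
def sST_0_0 (c : Nat) : Nat := (bif Nat.ble 8 c then (bif Nat.ble 12 c then (bif Nat.ble 14 c then (bif Nat.ble 15 c then cST_15 else cST_14) else (bif Nat.ble 13 c then cST_13 else cST_12)) else (bif Nat.ble 10 c then (bif Nat.ble 11 c then cST_11 else cST_10) else (bif Nat.ble 9 c then cST_9 else cST_8))) else (bif Nat.ble 4 c then (bif Nat.ble 6 c then (bif Nat.ble 7 c then cST_7 else cST_6) else (bif Nat.ble 5 c then cST_5 else cST_4)) else (bif Nat.ble 2 c then (bif Nat.ble 3 c then cST_3 else cST_2) else (bif Nat.ble 1 c then cST_1 else cST_0))))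
def sST_0_1 (c : Nat) : Nat := (bif Nat.ble 20 c then (bif Nat.ble 22 c then cST_22 else (bif Nat.ble 21 c then cST_21 else cST_20)) else (bif Nat.ble 18 c then (bif Nat.ble 19 c then cST_19 else cST_18) else (bif Nat.ble 17 c then cST_17 else cST_16)))
def sST (c : Nat) : Nat := (bif Nat.ble 16 c then sST_0_1 c else sST_0_0 c)
def gST (i : Nat) : Nat := Nat.land (Nat.shiftRight (sST (Nat.shiftRight i 10)) (Nat.mul 15 (Nat.land i 1023))) 32767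
def sND (c : Nat) : Nat := (bif Nat.ble 2 c then cND_2 else (bif Nat.ble 1 c then cND_1 else cND_0))
def gND (i : Nat) : Nat := Nat.land (Nat.shiftRight (sND (Nat.shiftRight i 10)) (Nat.mul 16 (Nat.land i 1023))) 65535
def sFIN (c : Nat) : Nat := (bif Nat.ble 3 c then (bif Nat.ble 5 c then cFIN_5 else (bif Nat.ble 4 c then cFIN_4 else cFIN_3)) else (bif Nat.ble 2 c then cFIN_2 else (bif Nat.ble 1 c then cFIN_1 else cFIN_0)))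
def gFIN (i : Nat) : Nat := Nat.land (Nat.shiftRight (sFIN (Nat.shiftRight i 10)) (Nat.mul 15 (Nat.land i 1023))) 32767
def sCAN (c : Nat) : Nat := cCAN_0
def gCAN (i : Nat) : Nat := Nat.land (Nat.shiftRight (sCAN (Nat.shiftRight i 10)) (Nat.mul 12 (Nat.land i 1023))) 4095
def sBPG (c : Nat) : Nat := cBPG_0
def gBPG (i : Nat) : Nat := Nat.land (Nat.shiftRight (sBPG (Nat.shiftRight i 10)) (Nat.mul 14 (Nat.land i 1023))) 16383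
def sORB (c : Nat) : Nat := (bif Nat.ble 1 c then cORB_1 else cORB_0)
def gORB (i : Nat) : Nat := Nat.land (Nat.shiftRight (sORB (Nat.shiftRight i 9)) (Nat.mul 21 (Nat.land i 511))) 2097151
def sTT0 (c : Nat) : Nat := cTT0_0
def T0 (i : Nat) : Nat := Nat.land (Nat.shiftRight (sTT0 (Nat.shiftRight i 11)) (Nat.mul 10 (Nat.land i 2047))) 1023
def sTT1 (c : Nat) : Nat := cTT1_0
def T1 (i : Nat) : Nat := Nat.land (Nat.shiftRight (sTT1 (Nat.shiftRight i 11)) (Nat.mul 10 (Nat.land i 2047))) 1023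
def sTT2 (c : Nat) : Nat := cTT2_0
def T2 (i : Nat) : Nat := Nat.land (Nat.shiftRight (sTT2 (Nat.shiftRight i 11)) (Nat.mul 10 (Nat.land i 2047))) 1023
def sTT3 (c : Nat) : Nat := cTT3_0
def T3 (i : Nat) : Nat := Nat.land (Nat.shiftRight (sTT3 (Nat.shiftRight i 11)) (Nat.mul 10 (Nat.land i 2047))) 1023
def sTT4 (c : Nat) : Nat := cTT4_0
def T4 (i : Nat) : Nat := Nat.land (Nat.shiftRight (sTT4 (Nat.shiftRight i 11)) (Nat.mul 10 (Nat.land i 2047))) 1023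
def sTT5 (c : Nat) : Nat := cTT5_0
def T5 (i : Nat) : Nat := Nat.land (Nat.shiftRight (sTT5 (Nat.shiftRight i 11)) (Nat.mul 10 (Nat.land i 2047))) 1023
def sTT6 (c : Nat) : Nat := cTT6_0
def T6 (i : Nat) : Nat := Nat.land (Nat.shiftRight (sTT6 (Nat.shiftRight i 11)) (Nat.mul 10 (Nat.land i 2047))) 1023
def sTT7 (c : Nat) : Nat := cTT7_0
def T7 (i : Nat) : Nat := Nat.land (Nat.shiftRight (sTT7 (Nat.shiftRight i 11)) (Nat.mul 10 (Nat.land i 2047))) 1023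

def nn : Nat := 728
def kk : Nat := 8
def nF : Nat := 9751
def cycW : List (List Nat) := [[0], [1], [2], [3], [4], [6], [7], [0, 0], [1, 1], [2, 2], [3, 3], [4, 4], [5, 5], [6, 6], [7, 7], [1, 0, 1, 0, 1, 0], [2, 0, 2, 0], [3, 0, 3, 0], [4, 0, 4, 0], [5, 0, 5, 0], [6, 0, 6, 0], [7, 0, 7, 0], [2, 1, 2, 1, 2, 1], [3, 1, 3, 1], [4, 1, 4, 1], [5, 1, 5, 1], [6, 1, 6, 1], [7, 1, 7, 1], [3, 2, 3, 2, 3, 2], [4, 2, 4, 2], [5, 2, 5, 2], [6, 2, 6, 2, 6, 2], [7, 2, 7, 2], [4, 3, 4, 3, 4, 3], [5, 3, 5, 3], [6, 3, 6, 3], [7, 3, 7, 3], [5, 4, 5, 4, 5, 4], [6, 4, 6, 4], [7, 4, 7, 4], [6, 5, 6, 5], [7, 5, 7, 5], [7, 6, 7, 6, 7, 6], [7, 6, 2, 4, 3, 2, 0, 1, 2, 7, 6, 2, 4, 3, 2, 0, 1, 2, 7, 6, 2, 4, 3, 2, 0, 1, 2, 7, 6, 2, 4, 3, 2, 0, 1, 2, 7, 6, 2, 4, 3, 2, 0, 1, 2, 7, 6, 2, 4, 3, 2, 0, 1, 2, 7, 6, 2, 4, 3, 2, 0, 1, 2, 7, 6, 2, 4, 3, 2, 0, 1, 2, 7,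 6, 2, 4, 3, 2, 0, 1, 2, 7, 6, 2, 4, 3, 2, 0, 1, 2]]
def T (x i : Nat) : Nat :=
  match x with
  | 0 => T0 i
  | 1 => T1 i
  | 2 => T2 i
  | 3 => T3 i
  | 4 => T4 i
  | 5 => T5 i
  | 6 => T6 i
  | 7 => T7 i
  | _ => 0
def fin (x i : Nat) : Nat := gFIN (Nat.add (Nat.shiftLeft i 3) x)
def can (i : Nat) : Nat := gCAN i
def bp (i : Nat) : Nat := fld (gBPG i) 0 1023
def bg (i : Nat) : Nat := fld (gBPG i) 10 15
def ol (i : Nat) : Nat := fld (gORB i) 0 7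
def op (i : Nat) : Nat := fld (gORB i) 3 1023
def ow (i : Nat) : Nat := fld (gORB i) 13 7
def od (i : Nat) : Nat := fld (gORB i) 16 31
def C : Cert where
  cyc := cycW
  ns := 7
  nd := gND
  fp := gFP
  fj := gFJ
  st := gST
  wN := 12
  wR := 6
  wL := 7
  wO := 15


def LL : List (List Nat) := [[1, 3, 2, 2, 2, 2, 2, 2], [3, 1, 3, 2, 2, 2, 2, 2], [2, 3, 1, 3, 2, 2, 3, 2], [2, 2, 3, 1, 3, 2, 2, 2], [2, 2, 2, 3, 1, 3, 2, 2], [2, 2, 2, 2, 3, 1, 2, 2], [2, 2, 3, 2, 2, 2, 1, 3], [2, 2, 2, 2, 2, 2, 3, 1]]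
def L (x y : Nat) : Nat := (LL.getD x []).getD y 0
def extraW : List (List Nat) := [[7, 6, 2, 4, 3, 2, 0, 1, 2, 7, 6, 2, 4, 3, 2, 0, 1, 2, 7, 6, 2, 4, 3, 2, 0, 1, 2, 7, 6, 2, 4, 3, 2, 0, 1, 2, 7, 6, 2, 4, 3, 2, 0, 1, 2, 7, 6, 2, 4, 3, 2, 0, 1, 2, 7, 6, 2, 4, 3, 2, 0, 1, 2, 7, 6, 2, 4, 3, 2, 0, 1, 2, 7, 6, 2, 4, 3, 2, 0, 1, 2, 7, 6, 2, 4, 3, 2, 0, 1, 2]]
def sw : List (List Nat) := [[0], [1], [2], [3], [4], [6], [7]]
def roots : List Nat := [0, 1, 28, 112, 699]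
def relWords : List (List Nat) := [[0, 0], [1, 0, 1, 0, 1, 0], [2, 0, 2, 0], [3, 0, 3, 0], [4, 0, 4, 0], [5, 0, 5, 0], [6, 0, 6, 0], [7, 0, 7, 0], [1, 1], [2, 1, 2, 1, 2, 1], [3, 1, 3, 1], [4, 1, 4, 1], [5, 1, 5, 1], [6, 1, 6, 1], [7, 1, 7, 1], [2, 2], [3, 2, 3, 2, 3, 2], [4, 2, 4, 2], [5, 2, 5, 2], [6, 2, 6, 2, 6, 2], [7, 2, 7, 2], [3, 3], [4, 3, 4, 3, 4, 3], [5, 3, 5, 3], [6, 3, 6, 3], [7, 3, 7, 3], [4, 4], [5, 4, 5, 4, 5, 4], [6, 4, 6, 4], [7, 4, 7, 4], [5, 5], [6, 5, 6, 5], [7, 5, 7, 5], [6, 6], [7, 6, 7, 6, 7, 6], [7, 7], [7, 6, 2, 4, 3, 2, 0, 1, 2, 7, 6, 2, 4, 3, 2, 0, 1, 2, 7, 6, 2, 4, 3, 2, 0, 1, 2, 7, 6, 2, 4, 3, 2, 0, 1, 2, 7, 6, 2, 4, 3, 2, 0, 1, 2, 7, 6, 2, 4, 3, 2, 0, 1, 2, 7, 6, 2, 4, 3, 2, 0, 1, 2, 7, 6, 2, 4, 3, 2, 0, 1, 2, 7, 6, 2, 4, 3, 2, 0, 1, 2, 7, 6, 2, 4, 3, 2, 0, 1, 2]]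
def fr_0 (i : Nat) : Nat := T0 (T0 i)
def fr_1 (i : Nat) : Nat := T0 (T1 (T0 (T1 (T0 (T1 i)))))
def fr_2 (i : Nat) : Nat := T0 (T2 (T0 (T2 i)))
def fr_3 (i : Nat) : Nat := T0 (T3 (T0 (T3 i)))
def fr_4 (i : Nat) : Nat := T0 (T4 (T0 (T4 i)))
def fr_5 (i : Nat) : Nat := T0 (T5 (T0 (T5 i)))
def fr_6 (i : Nat) : Nat := T0 (T6 (T0 (T6 i)))
def fr_7 (i : Nat) : Nat := T0 (T7 (T0 (T7 i)))
def fr_8 (i : Nat) : Nat := T1 (T1 i)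
def fr_9 (i : Nat) : Nat := T1 (T2 (T1 (T2 (T1 (T2 i)))))
def fr_10 (i : Nat) : Nat := T1 (T3 (T1 (T3 i)))
def fr_11 (i : Nat) : Nat := T1 (T4 (T1 (T4 i)))
def fr_12 (i : Nat) : Nat := T1 (T5 (T1 (T5 i)))
def fr_13 (i : Nat) : Nat := T1 (T6 (T1 (T6 i)))
def fr_14 (i : Nat) : Nat := T1 (T7 (T1 (T7 i)))
def fr_15 (i : Nat) : Nat := T2 (T2 i)
def fr_16 (i : Nat) : Nat := T2 (T3 (T2 (T3 (T2 (T3 i)))))
def fr_17 (i : Nat) : Nat := T2 (T4 (T2 (T4 i)))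
def fr_18 (i : Nat) : Nat := T2 (T5 (T2 (T5 i)))
def fr_19 (i : Nat) : Nat := T2 (T6 (T2 (T6 (T2 (T6 i)))))
def fr_20 (i : Nat) : Nat := T2 (T7 (T2 (T7 i)))
def fr_21 (i : Nat) : Nat := T3 (T3 i)
def fr_22 (i : Nat) : Nat := T3 (T4 (T3 (T4 (T3 (T4 i)))))
def fr_23 (i : Nat) : Nat := T3 (T5 (T3 (T5 i)))
def fr_24 (i : Nat) : Nat := T3 (T6 (T3 (T6 i)))
def fr_25 (i : Nat) : Nat := T3 (T7 (T3 (T7 i)))
def fr_26 (i : Nat) : Nat := T4 (T4 i)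
def fr_27 (i : Nat) : Nat := T4 (T5 (T4 (T5 (T4 (T5 i)))))
def fr_28 (i : Nat) : Nat := T4 (T6 (T4 (T6 i)))
def fr_29 (i : Nat) : Nat := T4 (T7 (T4 (T7 i)))
def fr_30 (i : Nat) : Nat := T5 (T5 i)
def fr_31 (i : Nat) : Nat := T5 (T6 (T5 (T6 i)))
def fr_32 (i : Nat) : Nat := T5 (T7 (T5 (T7 i)))
def fr_33 (i : Nat) : Nat := T6 (T6 i)
def fr_34 (i : Nat) : Nat := T6 (T7 (T6 (T7 (T6 (T7 i)))))
def fr_35 (i : Nat) : Nat := T7 (T7 i)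
def fr_36 (i : Nat) : Nat := T2 (T1 (T0 (T2 (T3 (T4 (T2 (T6 (T7 (T2 (T1 (T0 (T2 (T3 (T4 (T2 (T6 (T7 (T2 (T1 (T0 (T2 (T3 (T4 (T2 (T6 (T7 (T2 (T1 (T0 (T2 (T3 (T4 (T2 (T6 (T7 (T2 (T1 (T0 (T2 (T3 (T4 (T2 (T6 (T7 (T2 (T1 (T0 (T2 (T3 (T4 (T2 (T6 (T7 (T2 (T1 (T0 (T2 (T3 (T4 (T2 (T6 (T7 (T2 (T1 (T0 (T2 (T3 (T4 (T2 (T6 (T7 (T2 (T1 (T0 (T2 (T3 (T4 (T2 (T6 (T7 (T2 (T1 (T0 (T2 (T3 (T4 (T2 (T6 (T7 i)))))))))))))))))))))))))))))))))))))))))))))))))))))))))))))))))))))))))))))))))))))))))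
def fastRel (i : Nat) : Bool := Nat.ble nn i || (Nat.beq (fr_0 i) i && (Nat.beq (fr_1 i) i && (Nat.beq (fr_2 i) i && (Nat.beq (fr_3 i) i && (Nat.beq (fr_4 i) i && (Nat.beq (fr_5 i) i && (Nat.beq (fr_6 i) i && (Nat.beq (fr_7 i) i && (Nat.beq (fr_8 i) i && (Nat.beq (fr_9 i) i && (Nat.beq (fr_10 i) i && (Nat.beq (fr_11 i) i && (Nat.beq (fr_12 i) i && (Nat.beq (fr_13 i) i && (Nat.beq (fr_14 i) i && (Nat.beq (fr_15 i) i && (Nat.beq (fr_16 i) i && (Nat.beq (fr_17 i) i && (Nat.beq (fr_18 i) i && (Nat.beq (fr_19 i) i && (Nat.beq (fr_20 i) i && (Nat.beq (fr_21 i) i && (Nat.beq (fr_22 i) i && (Nat.beq (fr_23 i) i && (Nat.beq (fr_24 i) i && (Nat.beq (fr_25 i) i && (Nat.beq (fr_26 i) i && (Nat.beq (fr_27 i) i && (Nat.beq (fr_28 i) i && (Nat.beq (fr_29 i) i && (Nat.beq (fr_30 i) i && (Nat.beq (fr_31 i) i && (Nat.beq (fr_32 i) i && (Nat.beq (fr_33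 i) i && (Nat.beq (fr_34 i) i && (Nat.beq (fr_35 i) i && (Nat.beq (fr_36 i) i && true)))))))))))))))))))))))))))))))))))))

end Cfsg.Agent.Lib.Helper25.TC.F2O7_728
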