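import Cfsg.Agent.Lib.Helper25.TCFD5_640D0
import Cfsg.Agent.Lib.Helper25.TCMain

set_option autoImplicit false
set_option maxRecDepth 1000000
set_option linter.unusedVariables false

namespace Cfsg.Agent.Lib.Helper25.TC.FD5_640

def sFP (c : Nat) : Nat := (bif Nat.ble 2 c then (bif Nat.ble 3 c then cFP_3 else cFP_2) else (bif Nat.ble 1 c then cFP_1 else cFP_0))
def gFP (i : Nat) : Nat := Nat.land (Nat.shiftRight (sFP (Nat.shiftRight i 9)) (Nat.mul 25 (Nat.land i 511))) 33554431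
def sFJ (c : Nat) : Nat := (bif Nat.ble 4 c then (bif Nat.ble 6 c then cFJ_6 else (bif Nat.ble 5 c then cFJ_5 else cFJ_4)) else (bif Nat.ble 2 c then (bif Nat.ble 3 c then cFJ_3 else cFJ_2) else (bif Nat.ble 1 c then cFJ_1 else cFJ_0)))
def gFJ (i : Nat) : Nat := Nat.land (Nat.shiftRight (sFJ (Nat.shiftRight i 8)) (Nat.mul 33 (Nat.land i 255))) 8589934591
def sST (c : Nat) : Nat := (bif Nat.ble 2 c then (bif Nat.ble 3 c then cST_3 else cST_2) else (bif Nat.ble 1 c then cST_1 else cST_0))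
def gST (i : Nat) : Nat := Nat.land (Nat.shiftRight (sST (Nat.shiftRight i 10)) (Nat.mul 12 (Nat.land i 1023))) 4095
def sND (c : Nat) : Nat := cND_0
def gND (i : Nat) : Nat := Nat.land (Nat.shiftRight (sND (Nat.shiftRight i 10)) (Nat.mul 14 (Nat.land i 1023))) 16383
def sFIN (c : Nat) : Nat := (bif Nat.ble 3 c then (bif Nat.ble 4 c then cFIN_4 else cFIN_3) else (bif Nat.ble 2 c then cFIN_2 else (bif Nat.ble 1 c then cFIN_1 else cFIN_0)))
def gFIN (i : Nat) : Nat := Nat.land (Nat.shiftRight (sFIN (Nat.shiftRight i 10)) (Nat.mul 12 (Nat.land i 1023))) 4095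
def sCAN (c : Nat) : Nat := cCAN_0
def gCAN (i : Nat) : Nat := Nat.land (Nat.shiftRight (sCAN (Nat.shiftRight i 10)) (Nat.mul 10 (Nat.land i 1023))) 1023
def sBPG (c : Nat) : Nat := cBPG_0
def gBPG (i : Nat) : Nat := Nat.land (Nat.shiftRight (sBPG (Nat.shiftRight i 10)) (Nat.mul 14 (Nat.land i 1023))) 16383
def sORB (c : Nat) : Nat := (bif Nat.ble 1 c then cORB_1 else cORB_0)
def gORB (i : Nat) : Nat := Nat.land (Nat.shiftRight (sORB (Nat.shiftRight i 9)) (Nat.mul 21 (Nat.land i 511))) 2097151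
def sTT0 (c : Nat) : Nat := cTT0_0
def T0 (i : Nat) : Nat := Nat.land (Nat.shiftRight (sTT0 (Nat.shiftRight i 11)) (Nat.mul 10 (Nat.land i 2047))) 1023
def sTT1 (c : Nat) : Nat := cTT1_0
def T1 (i : Nat) : Nat := Nat.land (Nat.shiftRight (sTT1 (Nat.shiftRight i 11)) (Nat.mul 10 (Nat.land i 2047))) 1023
def sTT2 (c : Nat) : Nat := cTT2_0
def T2 (i : Nat) : Nat := Nat.land (Nat.shiftRight (sTT2 (Nat.shiftRight i 11)) (Nat.mul 10 (Nat.land i 2047))) 1023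
def sTT3 (c : Nat) : Nat := cTT3_0
def T3 (i : Nat) : Nat := Nat.land (Nat.shiftRight (sTT3 (Nat.shiftRight i 11)) (Nat.mul 10 (Nat.land i 2047))) 1023
def sTT4 (c : Nat) : Nat := cTT4_0
def T4 (i : Nat) : Nat := Nat.land (Nat.shiftRight (sTT4 (Nat.shiftRight i 11)) (Nat.mul 10 (Nat.land i 2047))) 1023

def nn : Nat := 640
def kk : Nat := 5
def nF : Nat := 1600
def cycW : List (List Nat) := [[1, 0], [0, 0], [1, 1], [2, 2], [3, 3], [4, 4], [1, 0, 1, 0, 1, 0], [2, 0, 2, 0], [3, 0, 3, 0], [4, 0, 4, 0], [2, 1, 2, 1, 2, 1], [3, 1, 3, 1], [4, 1, 4, 1, 4, 1], [3, 2, 3, 2, 3, 2], [4, 2, 4, 2], [4, 3, 4, 3]]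
def T (x i : Nat) : Nat :=
  match x with
  | 0 => T0 i
  | 1 => T1 i
  | 2 => T2 i
  | 3 => T3 i
  | 4 => T4 i
  | _ => 0
def fin (x i : Nat) : Nat := gFIN (Nat.add (Nat.shiftLeft i 3) x)
def can (i : Nat) : Nat := gCAN i
def bp (i : Nat) : Nat := fld (gBPG i) 0 1023
def bg (i : Nat) : Nat := fld (gBPG i) 10 15
def ol (i : Nat) : Nat := fld (gORB i) 0 255
def op (i : Nat) : Nat := fld (gORB i) 8 1023
def ow (i : Nat) : Nat := fld (gORB i) 18 1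
def od (i : Nat) : Nat := fld (gORB i) 19 3
def C : Cert where
  cyc := cycW
  ns := 1
  nd := gND
  fp := gFP
  fj := gFJ
  st := gST
  wN := 10
  wR := 5
  wL := 3
  wO := 12


def LL : List (List Nat) := [[1, 3, 2, 2, 2], [3, 1, 3, 2, 3], [2, 3, 1, 3, 2], [2, 2, 3, 1, 2], [2, 3, 2, 2, 1]]
def L (x y : Nat) : Nat := (LL.getD x []).getD y 0
def extraW : List (List Nat) := []
def sw : List (List Nat) := [[1, 0]]
def roots : List Nat := [0, 1, 2, 3, 4, 5, 6, 7, 9, 10, 11, 12, 15, 16, 17, 18, 22, 23, 24, 27, 30, 33, 34, 35, 38, 41, 43, 44, 45, 48, 51, 53, 56, 58, 60, 61, 62, 65, 68, 70, 73, 75, 76, 77, 80, 83, 85, 88, 90, 91, 94, 96, 99, 100, 103, 106, 108, 111, 113, 114, 117, 119, 123, 126, 128, 131, 133, 134, 137, 139, 144, 146, 150, 152, 155, 157, 160, 162, 163, 166, 168, 173, 175, 179, 181, 184, 186, 187, 190, 192, 197, 199, 205, 207, 211, 212, 213, 215, 218, 220, 221, 224, 226, 231,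 233, 239, 241, 245, 246, 247, 248, 251, 253, 258, 260, 266, 268, 272, 273, 276, 282, 283, 284, 287, 289, 294, 296, 302, 304, 308, 309, 312, 318, 319, 322, 324, 328, 330, 332, 336, 337, 340, 346, 347, 354, 358, 360, 364, 366, 368, 372, 373, 376, 382, 383, 390, 393, 395, 399, 400, 401, 403, 409, 410, 417, 420, 421, 423, 427, 429, 433, 434, 435, 437, 443, 444, 451, 454, 455, 457, 461, 467, 468, 475, 478, 481, 484, 485, 486, 490, 496, 497, 504, 507, 510, 513, 514, 515, 524, 530, 534, 535, 538, 547, 553, 557, 558, 561, 566, 568, 573, 576, 583, 585, 590, 593, 598, 600, 603, 609, 611, 614, 620, 626]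
def relWords : List (List Nat) := [[0, 0], [1, 0, 1, 0, 1, 0], [2, 0, 2, 0], [3, 0, 3, 0], [4, 0, 4, 0], [1, 1], [2, 1, 2, 1, 2, 1], [3, 1, 3, 1], [4, 1, 4, 1, 4, 1], [2, 2], [3, 2, 3, 2, 3, 2], [4, 2, 4, 2], [3, 3], [4, 3, 4, 3], [4, 4]]
def fr_0 (i : Nat) : Nat := T0 (T0 i)
def fr_1 (i : Nat) : Nat := T0 (T1 (T0 (T1 (T0 (T1 i)))))
def fr_2 (i : Nat) : Nat := T0 (T2 (T0 (T2 i)))
def fr_3 (i : Nat) : Nat := T0 (T3 (T0 (T3 i)))
def fr_4 (i : Nat) : Nat := T0 (T4 (T0 (T4 i)))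
def fr_5 (i : Nat) : Nat := T1 (T1 i)
def fr_6 (i : Nat) : Nat := T1 (T2 (T1 (T2 (T1 (T2 i)))))
def fr_7 (i : Nat) : Nat := T1 (T3 (T1 (T3 i)))
def fr_8 (i : Nat) : Nat := T1 (T4 (T1 (T4 (T1 (T4 i)))))
def fr_9 (i : Nat) : Nat := T2 (T2 i)
def fr_10 (i : Nat) : Nat := T2 (T3 (T2 (T3 (T2 (T3 i)))))
def fr_11 (i : Nat) : Nat := T2 (T4 (T2 (T4 i)))
def fr_12 (i : Nat) : Nat := T3 (T3 i)
def fr_13 (i : Nat) : Nat := T3 (T4 (T3 (T4 i)))
def fr_14 (i : Nat) : Nat := T4 (T4 i)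
def fastRel (i : Nat) : Bool := Nat.ble nn i || (Nat.beq (fr_0 i) i && (Nat.beq (fr_1 i) i && (Nat.beq (fr_2 i) i && (Nat.beq (fr_3 i) i && (Nat.beq (fr_4 i) i && (Nat.beq (fr_5 i) i && (Nat.beq (fr_6 i) i && (Nat.beq (fr_7 i) i && (Nat.beq (fr_8 i) i && (Nat.beq (fr_9 i) i && (Nat.beq (fr_10 i) i && (Nat.beq (fr_11 i) i && (Nat.beq (fr_12 i) i && (Nat.beq (fr_13 i) i && (Nat.beq (fr_14 i) i && true)))))))))))))))

end Cfsg.Agent.Lib.Helper25.TC.FD5_640
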