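import Cfsg.Agent.Lib.Helper25.TCCore

set_option autoImplicit false

namespace Cfsg.Agent.Lib.Helper25.TC.FE6_27

def cFP_0 : Nat := 0x35a56b48d689ad0b5a06b26ce559ca33916720ce098c2b1846306c6018b8af755ee6bdc97b02f545acab58d6b12d615a88ad4d5a92b515680acd54a1a9425242a45539a27334e649cc538825244a46940929024f546288c4d18922f14208838d080a10041aa7bccf691ef03d887390e711ce139c072d4d599ad135a06a90c6298c331826300c5116b22d625ac0b4214a529225280a41929525284a489381263210a420884010611cea39d07390e711ca631946320c501884295452a0a51146421144220843108220c031a86340c66188421284230844108020a02130424084410802050008000c00100010000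
def cFJ_0 : Nat := 0x29596b147cb57a16ada4ff4dc679a6db3c001a9ce1ab4db0d56639b612ecb6c97000d4aeed4e4d5aa523bb518f62d5c78006a37669f18bb778addbac4aedba2400350d8d598559bbc1ecdd6056b6502001a7fd5bc3f2add9f356e6f6ab6f7b000d3ce8de1e146eceda37376800d3aa2d39cf169ae48b4c6fbea5b7c0069b52b72d793786a49bb3464dbda20034cc655264bda8b11b541880034bf85b95e41bc2e60dcd6d06deb6001a59bdbbac1edd55af6dcad001a543adca95cdd944e6e69f736f4f800d271addd2edb64946b6e4a000d2454d59188aa88765b04231b6210006902b6ea7c5db23cadb71e40068ec96a67353713829b69c00068da769e6a3b4e32a6da1892db4c400345f33532d12a815516acaa0034522b582795ab928f6d08e76e247001a2215a7904ad387c66d83e001a1d8dab0e06d54665b6033001a180da78b46d3854369a25154b12800d0884d4c3a1aa41a13510d000d05415642426ee0f13750609b703000681216f0060b760185b98002dbc0000340000040000018000008000002000000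
def cST_0 : Nat := 0xf1f0eff1f0edf0e6e1e7f1f0ebf1f0e9f1e7e6e5e7e6e3e6dcd7dde7e6dfe7dddcdbc2d3dddcd2dddcd9dcd4cbd5ddd5d4d1d2c7d3d2c5d3c8c1d3a0b7c9c8b6c8bdc9c8bbc9c8b8abb9c9beb3bfbeb1bfbeafbfb6adbfb69fb7b69db7a29bb7adaca1adac9fadac9d8a9badac9aa2887589a3a28fa3908da3a28ba370899b9a889b9a8f7a8d9b9a8c90766377917e7d91907b91907991887389766d89886f897e6451657f7e6b7f7e697f7e677f645d777660596177765f776d6c634e5d6d6c5c6c6057616d6c5f6d644f65644a3d4b65644d6561605b524b5d5c4d5d55544955544752382b3953403b534b4a3f28394b4a384a3a333b4b41403741403540302131414033413b3a373b3a35302739313025313023301e191f31272625272623272621161f27261e1f1e1d0e151f1e141f1e1b080b15140a141315141115140d150a070b0a050b0a030b0a010b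
def cND_0 : Nat := 0x1e4b0374aa5166b108abc5ead462ad144a441a0cc26329108603112054000
def cFIN_0 : Nat := 0xfbf9f1f7f5f30000efedf0e7ebe90000e5e3e1e6dddf0000dbd3d9d7dcd50000d1c9cfcdcbd40000bfd2c7c5c3c10000b7c8bdbbb9c00000beb5b3b1afad0000a3aba9a7b8a50000b6a19f9d9bac0000919997a695930000a2898f8d9a8b00007f8796858381000090777d8c7b7900007588736d716f00007e657c6b6967000063765d6c615f00005b5953576055000051645c4f4b4d000049474145435400003f3d52394a3b000037354031333a00002f2d2b3829270000252321301f2600001d151b191e1700000b1413110f0d00000a0907050301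
def cCAN_0 : Nat := 0x6b38bdab49ca307b9ac5a928398a418820
def cBPG_0 : Nat := 0x1e4b0374aa5166b108abc5ead462ad144a441a0cc26329108603112054000
def cORB_0 : Nat := 0x21e675898de59592524148ccaa11494292f45ba88c400278a5d2968859a1566549946551113434c0d22246050004000
def cTT0_0 : Nat := 0x6b38b5e958ca707b9ac5a8e8494c320820
def cTT1_0 : Nat := 0x6b37c5ab29d1f08b9ac5a5463a0a410c20
def cTT2_0 : Nat := 0x6b19bdab49c2326b9ea5b1283906628820
def cTT3_0 : Nat := 0x6758bdab49ca2e7c16c6a0ca2a4e418820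
def cTT4_0 : Nat := 0x6b38ad2f69ca306394f4352b398a418440
def cTT5_0 : Nat := 0x6b38bda71abe8d92e0c72928398a418801

end Cfsg.Agent.Lib.Helper25.TC.FE6_27
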