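import Cfsg.Agent.Lib.Helper25.PresFiChain
import Cfsg.Agent.Lib.Helper25.TCMain
import Cfsg.Agent.Lib.Helper25.TCFE6_27P0

set_option autoImplicit false
set_option maxRecDepth 1000000
set_option linter.unusedVariables false
set_option linter.constructorNameAsVariable false
set_option linter.unusedSimpArgs false

namespace Cfsg.Agent.Lib.Helper25.TC.FE6_27

open Cfsg.Spor Cfsg.Agent.Lib.Helper25.TC

def idx : Cfsg.Agent.Lib.Helper25.Pres.FE6.Gen → Nat
  | .c => 0
  | .d => 1
  | .e => 2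
  | .f => 3
  | .h => 4
  | .i => 5

def ofIdx : Nat → Cfsg.Agent.Lib.Helper25.Pres.FE6.Gen
  | 0 => .c
  | 1 => .d
  | 2 => .e
  | 3 => .f
  | 4 => .h
  | 5 => .i
  | _ => .c

theorem setup : CoxSetup Cfsg.Agent.Lib.Helper25.Pres.FE6.edges Cfsg.Agent.Lib.Helper25.Pres.FE6.extra 6 idx ofIdx L extraW where
  ofIdx_idx := by intro a; cases a <;> rfl
  idx_ofIdx := by intro x hx; interval_cases x <;> rfl
  idx_lt := by intro a; cases a <;> decide
  allNodes := by intro a; cases a <;> decide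
  hL := by intro a b; cases a <;> cases b <;> decide
  hLsymm := by decide
  hextra := by
    unfold Cfsg.Agent.Lib.Helper25.Pres.FE6.extra extraW
    refine List.Forall₂.nil
    all_goals
      intro K _ f hf
      have hfi : ∀ x, (f x)⁻¹ = f x := fun x => inv_eq_of_mul_eq_one_left (hf x)
      simp only [map_mul, map_inv, map_pow, FreeGroup.lift_apply_of, idx, evr, pow_succ, pow_zero, one_mul,
        mul_inv_rev, hfi, mul_assoc]

theorem relWords_eq : coxWords 6 L ++ extraW = relWords := by decide +kernel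

theorem fr_0_eq (i : Nat) : tr T [0, 0] i = fr_0 i := rfl
theorem fr_1_eq (i : Nat) : tr T [1, 0, 1, 0, 1, 0] i = fr_1 i := rfl
theorem fr_2_eq (i : Nat) : tr T [2, 0, 2, 0] i = fr_2 i := rfl
theorem fr_3_eq (i : Nat) : tr T [3, 0, 3, 0] i = fr_3 i := rfl
theorem fr_4_eq (i : Nat) : tr T [4, 0, 4, 0] i = fr_4 i := rfl
theorem fr_5_eq (i : Nat) : tr T [5, 0, 5, 0] i = fr_5 i := rfl
theorem fr_6_eq (i : Nat) : tr T [1, 1] i = fr_6 i := rfl
theorem fr_7_eq (i : Nat) : tr T [2, 1, 2, 1, 2, 1] i = fr_7 i := rfl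
theorem fr_8_eq (i : Nat) : tr T [3, 1, 3, 1] i = fr_8 i := rfl
theorem fr_9_eq (i : Nat) : tr T [4, 1, 4, 1, 4, 1] i = fr_9 i := rfl
theorem fr_10_eq (i : Nat) : tr T [5, 1, 5, 1] i = fr_10 i := rfl
theorem fr_11_eq (i : Nat) : tr T [2, 2] i = fr_11 i := rfl
theorem fr_12_eq (i : Nat) : tr T [3, 2, 3, 2, 3, 2] i = fr_12 i := rfl
theorem fr_13_eq (i : Nat) : tr T [4, 2, 4, 2] i = fr_13 i := rfl
theorem fr_14_eq (i : Nat) : tr T [5, 2, 5, 2] i = fr_14 i := rfl
theorem fr_15_eq (i : Nat) : tr T [3, 3] i = fr_15 i := rfl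
theorem fr_16_eq (i : Nat) : tr T [4, 3, 4, 3] i = fr_16 i := rfl
theorem fr_17_eq (i : Nat) : tr T [5, 3, 5, 3] i = fr_17 i := rfl
theorem fr_18_eq (i : Nat) : tr T [4, 4] i = fr_18 i := rfl
theorem fr_19_eq (i : Nat) : tr T [5, 4, 5, 4, 5, 4] i = fr_19 i := rfl
theorem fr_20_eq (i : Nat) : tr T [5, 5] i = fr_20 i := rfl

theorem fastRel_eq (i : Nat) : ckRel nn T relWords i = fastRel i := by
  simp only [ckRel, relWords, List.all_cons, List.all_nil, fr_0_eq, fr_1_eq, fr_2_eq, fr_3_eq, fr_4_eq, fr_5_eq, fr_6_eq, fr_7_eq, fr_8_eq, fr_9_eq, fr_10_eq, fr_11_eq, fr_12_eq, fr_13_eq, fr_14_eq, fr_15_eq, fr_16_eq, fr_17_eq, fr_18_eq, fr_19_eq, fr_20_eq]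
  rfl

theorem k_rel_fast : allR fastRel 5 0 = true := k_relp_0

theorem k_cert : allR (ckCert C nF) 7 0 = true := k_certp_0

theorem k_fin : allR (ckFin C 6 nn nF can fin T) 5 0 = true := k_finp_0

theorem k_tbl : allR (ckTbl 6 nn T) 5 0 = true := k_tblp_0

theorem k_tree : allR (ckTree 6 nn T bp bg) 5 0 = true := k_treep_0

theorem checks : Checks 6 L extraW C nn nF T fin can bp bg sw where
  hn := by decide
  hns := by decide
  hsw := by decide +kernel
  hcyc := by decide +kernel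
  hlet := by decide +kernel
  hletsw := by decide +kernel
  hsw0 := by decide +kernel
  hcan := by decide +kernel
  cCert := by
    intro f hf
    have := all_lt_pow (ckCert C nF) nF 7 (by decide) k_cert f hf
    simp only [ckCert, Bool.or_eq_true] at this
    rcases this with h | h
    · have := Nat.le_of_ble_eq_true h; omega
    · exact h
  cFin := all_lt_pow _ nn 5 (by decide) k_fin
  cTbl := all_lt_pow _ nn 5 (by decide) k_tbl
  cRel := by
    intro i hi
    rw [relWords_eq, fastRel_eq]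
    exact all_lt_pow fastRel nn 5 (by decide) k_rel_fast i hi
  cTree := all_lt_pow _ nn 5 (by decide) k_tree

end Cfsg.Agent.Lib.Helper25.TC.FE6_27
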