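import Cfsg.Agent.Lib.Helper25.TCFO7_364I
import Cfsg.Agent.Lib.Helper25.TCExistE
import Cfsg.Agent.Lib.Helper25.PresFiChain

set_option autoImplicit false
set_option maxRecDepth 1000000
set_option linter.unusedVariables false

namespace Cfsg.Agent.Lib.Helper25.TC.FO7X

open Cfsg.Spor Cfsg.Agent.Lib.Helper25.TC Cfsg.Agent.Lib.Helper25.Pres Cfsg.Agent.Lib.Helper25.TC.FO7_364

/-- a word whose normal closure is everything -/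
def wg : List Nat := [0, 1, 2, 3, 4, 5, 6, 7]
def wu : List Nat := [2, 3, 6]
def wy : List Nat := [3, 2]
/-- a conjugate of an involution in the normal closure of `wg`, equal to the generator 1 -/
def fullW : List Nat := ncFull wg wu false 5 wy 1 1
def gpow : List Nat := (List.replicate 13 wg).flatten
/-- the stabilizer chain below the second base point (encoded words) -/
def levelsE : List (Nat × List Nat) := [(20, [0, 1, 305611553, 8, 33, 37176097, 129, 120857464, 120, 801, 3621665, 2081, 2184659745, 1921, 3416952, 888, 17185, 475937, 29473, 33569, 137839393, 30753, 54600568, 14209, 271224, 9080, 17272, 541473, 8864545, 553761, 492321, 2016887585, 227361, 4268920, 145281, 276353, 74616, 7881505, 126305057, 7893793, 3638049, 14901789473, 2324513, 4421665, 68302721, 1193857, 4339585, 58213153, 931611425,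 58225441, 37192481, 70746913, 873609089, 289779696417, 19101729, 69433377, 54671233, 595084065, 1131954977, 9521546017, 18111480609, 595096353, 1131967265, 305627937, 1110934305, 13977745441, 1092843553, 874739745, 1933719425, 4890051361, 17774953249, 284399452961, 4890063649, 17774965537, 17485497121, 13995836193, 30939510817, 279767958305, 223933383457, 3582934336289, 279767970593, 223933395745, 223643927329, 495032173345, 3578302841633, 7920514777889, 3578302853921, 7920514790177, 38762674930465, 126723605152545]), (36, [0, 2, 7, 50, 114, 55, 1074, 1842, 882, 567, 1079, 2493932320495757369655, 14130, 9074, 17266, 335820794703644948530, 155870770030984835607, 145202, 39902917127932117914482, 5373132715258319176562, 20988799668977809282, 9741923126936552225, 2493932320495757369714, 638446674046913886631730,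 335820794703644948594, 1311799979311113080, 155870770030984835602, 39902917127932117915442, 20988799668977809287, 2493932320495757369650, 335820794703644948535, 39902917127932117914674]), (2, [0, 4, 52, 42650185639116261682258231, 139112439379126488198050866, 682402970225860186916131700, 2225799030066023811168813860, 10918447523613762990658107188, 35612784481056380978701021748]), (3, [0, 3])]
/-- the stabilizer chain below the second base point -/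
def levels : List (Nat × List (List Nat)) := decLevels 25 levelsE
def szl : List Nat := [1, 243, 120]

def fullL : List Nat := [1, 2, 3, 6, 3, 2, 7, 6, 5, 4, 3, 2, 1, 0, 2, 3, 6, 7, 6, 5, 4, 3, 2, 1, 0, 6, 3, 2, 7, 6, 5, 4, 3, 2, 1, 0, 2, 3, 6, 7, 6, 5, 4, 3, 2, 1, 0, 6, 3, 2, 7, 6, 5, 4, 3, 2, 1, 0, 2, 3, 6, 7, 6, 5, 4, 3, 2, 1, 0, 6, 3, 2, 7, 6, 5, 4, 3, 2, 1, 0, 2, 3, 6, 7, 6, 5, 4, 3, 2, 1, 0, 6, 3, 2, 7, 6, 5, 4, 3, 2, 1, 0, 2, 3, 6, 7, 6, 5, 4, 3, 2, 1, 0, 3, 2, 2, 3, 0, 1, 2, 3, 4, 5, 6, 7, 6, 3, 2, 0, 1, 2, 3, 4, 5, 6, 7, 2, 3, 6, 0, 1, 2, 3, 4, 5, 6, 7, 6, 3, 2, 0, 1, 2, 3, 4, 5, 6, 7, 2, 3, 6, 0, 1, 2, 3, 4, 5, 6, 7, 6, 3, 2, 0, 1, 2, 3, 4, 5, 6, 7, 2, 3, 6, 0, 1, 2, 3, 4, 5, 6, 7, 6, 3, 2, 0, 1, 2, 3, 4, 5, 6, 7, 2, 3, 6, 0, 1, 2, 3, 4, 5, 6, 7, 6, 3, 2, 0, 1, 2, 3, 4, 5, 6, 7, 2, 3,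 6, 3, 2, 2, 3, 0, 1, 2, 3, 4, 5, 6, 7, 6, 3, 2, 0, 1, 2, 3, 4, 5, 6, 7, 2, 3, 6, 0, 1, 2, 3, 4, 5, 6, 7, 6, 3, 2, 0, 1, 2, 3, 4, 5, 6, 7, 2, 3, 6, 0, 1, 2, 3, 4, 5, 6, 7, 6, 3, 2, 0, 1, 2, 3, 4, 5, 6, 7, 2, 3, 6, 0, 1, 2, 3, 4, 5, 6, 7, 6, 3, 2, 0, 1, 2, 3, 4, 5, 6, 7, 2, 3, 6, 0, 1, 2, 3, 4, 5, 6, 7, 6, 3, 2, 0, 1, 2, 3, 4, 5, 6, 7, 2, 3, 6, 3, 2, 1]
def fw (i : Nat) : Nat := T1 (T2 (T3 (T6 (T3 (T2 (T7 (T6 (T5 (T4 (T3 (T2 (T1 (T0 (T2 (T3 (T6 (T7 (T6 (T5 (T4 (T3 (T2 (T1 (T0 (T6 (T3 (T2 (T7 (T6 (T5 (T4 (T3 (T2 (T1 (T0 (T2 (T3 (T6 (T7 (T6 (T5 (T4 (T3 (T2 (T1 (T0 (T6 (T3 (T2 (T7 (T6 (T5 (T4 (T3 (T2 (T1 (T0 (T2 (T3 (T6 (T7 (T6 (T5 (T4 (T3 (T2 (T1 (T0 (T6 (T3 (T2 (T7 (T6 (T5 (T4 (T3 (T2 (T1 (T0 (T2 (T3 (T6 (T7 (T6 (T5 (T4 (T3 (T2 (T1 (T0 (T6 (T3 (T2 (T7 (T6 (T5 (T4 (T3 (T2 (T1 (T0 (T2 (T3 (T6 (T7 (T6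 (T5 (T4 (T3 (T2 (T1 (T0 (T3 (T2 (T2 (T3 (T6 (T3 (T2 (T7 (T6 (T5 (T4 (T3 (T2 (T1 (T0 (T2 (T3 (T6 (T7 (T6 (T5 (T4 (T3 (T2 (T1 (T0 (T6 (T3 (T2 (T7 (T6 (T5 (T4 (T3 (T2 (T1 (T0 (T2 (T3 (T6 (T7 (T6 (T5 (T4 (T3 (T2 (T1 (T0 (T6 (T3 (T2 (T7 (T6 (T5 (T4 (T3 (T2 (T1 (T0 (T2 (T3 (T6 (T7 (T6 (T5 (T4 (T3 (T2 (T1 (T0 (T6 (T3 (T2 (T7 (T6 (T5 (T4 (T3 (T2 (T1 (T0 (T2 (T3 (T6 (T7 (T6 (T5 (T4 (T3 (T2 (T1 (T0 (T6 (T3 (T2 (T7 (T6 (T5 (T4 (T3 (T2 (T1 (T0 (T2 (T3 (T6 (T7 (T6 (T5 (T4 (T3 (T2 (T1 (T0 (T3 (T2 (T2 (T3 (T0 (T1 (T2 (T3 (T4 (T5 (T6 (T7 (T6 (T3 (T2 (T0 (T1 (T2 (T3 (T4 (T5 (T6 (T7 (T2 (T3 (T6 (T0 (T1 (T2 (T3 (T4 (T5 (T6 (T7 (T6 (T3 (T2 (T0 (T1 (T2 (T3 (T4 (T5 (T6 (T7 (T2 (T3 (T6 (T0 (T1 (T2 (T3 (T4 (T5 (T6 (T7 (T6 (T3 (T2 (T0 (T1 (T2 (T3 (T4 (T5 (T6 (T7 (T2 (T3 (T6 (T0 (T1 (T2 (T3 (T4 (T5 (T6 (T7 (T6 (T3 (T2 (T0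 (T1 (T2 (T3 (T4 (T5 (T6 (T7 (T2 (T3 (T6 (T0 (T1 (T2 (T3 (T4 (T5 (T6 (T7 (T6 (T3 (T2 (T0 (T1 (T2 (T3 (T4 (T5 (T6 (T7 (T2 (T3 (T6 (T3 (T2 (T1 i)))))))))))))))))))))))))))))))))))))))))))))))))))))))))))))))))))))))))))))))))))))))))))))))))))))))))))))))))))))))))))))))))))))))))))))))))))))))))))))))))))))))))))))))))))))))))))))))))))))))))))))))))))))))))))))))))))))))))))))))))))))))))))))))))))))))))))))))))))))))))))))))))))))))))))))))))))))))))))))))))))))))))))))))))))))))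
def gpowL : List Nat := [0, 1, 2, 3, 4, 5, 6, 7, 0, 1, 2, 3, 4, 5, 6, 7, 0, 1, 2, 3, 4, 5, 6, 7, 0, 1, 2, 3, 4, 5, 6, 7, 0, 1, 2, 3, 4, 5, 6, 7, 0, 1, 2, 3, 4, 5, 6, 7, 0, 1, 2, 3, 4, 5, 6, 7, 0, 1, 2, 3, 4, 5, 6, 7, 0, 1, 2, 3, 4, 5, 6, 7, 0, 1, 2, 3, 4, 5, 6, 7, 0, 1, 2, 3, 4, 5, 6, 7, 0, 1, 2, 3, 4, 5, 6, 7, 0, 1, 2, 3, 4, 5, 6, 7]
def fg (i : Nat) : Nat := T7 (T6 (T5 (T4 (T3 (T2 (T1 (T0 (T7 (T6 (T5 (T4 (T3 (T2 (T1 (T0 (T7 (T6 (T5 (T4 (T3 (T2 (T1 (T0 (T7 (T6 (T5 (T4 (T3 (T2 (T1 (T0 (T7 (T6 (T5 (T4 (T3 (T2 (T1 (T0 (T7 (T6 (T5 (T4 (T3 (T2 (T1 (T0 (T7 (T6 (T5 (T4 (T3 (T2 (T1 (T0 (T7 (T6 (T5 (T4 (T3 (T2 (T1 (T0 (T7 (T6 (T5 (T4 (T3 (T2 (T1 (T0 (T7 (T6 (T5 (T4 (T3 (T2 (T1 (T0 (T7 (T6 (T5 (T4 (T3 (T2 (T1 (T0 (T7 (T6 (T5 (T4 (T3 (T2 (T1 (T0 (T7 (T6 (T5 (T4 (T3 (T2 (T1 (T0 i)))))))))))))))))))))))))))))))))))))))))))))))))))))))))))))))))))))))))))))))))))))))))))))))))))))))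
def ckX (i : Nat) : Bool := Nat.ble nn i || (Nat.beq (fw i) (T1 i) && Nat.beq (fg i) i)
def ckOl (i : Nat) : Bool := Nat.ble nn i || (Nat.blt (ol i) 3 && (Nat.beq i 0 || !(Nat.beq (ol i) (ol 0))))

end Cfsg.Agent.Lib.Helper25.TC.FO7X
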