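import Cfsg.Agent.Lib.Helper25.TCFO7X

set_option autoImplicit false
set_option maxRecDepth 1000000
set_option linter.unusedVariables false
set_option Elab.async false

namespace Cfsg.Agent.Lib.Helper25.TC.FO7X

open Cfsg.Agent.Lib.Helper25.TC Cfsg.Agent.Lib.Helper25.TC.FO7_364

theorem k_xp_0 : allR ckX 7 0 = true := by decide +kernel
theorem k_xp_1 : allR ckX 7 128 = true := by decide +kernel
theorem k_xp_2 : allR ckX 7 256 = true := by decide +kernel
theorem k_xp_3 : allR ckX 7 384 = true := by decide +kernel

end Cfsg.Agent.Lib.Helper25.TC.FO7X
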