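import Cfsg.Agent.Lib.Helper25.TCFD5_640I
import Cfsg.Agent.Lib.Helper25.TCFE6_27I
import Cfsg.Agent.Lib.Helper25.TCFY222_243I
import Cfsg.Agent.Lib.Helper25.TCFO7_364I
import Cfsg.Agent.Lib.Helper25.TCExistD

set_option autoImplicit false
set_option maxRecDepth 1000000
set_option linter.unusedVariables false
set_option linter.unusedSimpArgs false
set_option linter.constructorNameAsVariable false

/-! Upper bounds for the orders of the groups given by sub-presentations of the Y-diagram presentations of the
Fischer groups: the Weyl groups of type `D₅` and `E₆`, the group `Y₂₂₂` and the sub-diagram `b, …, i`. -/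

namespace Cfsg.Agent.Lib.Helper25.TC.FiChain

open Cfsg.Spor Cfsg.Agent.Lib.Helper25.TC Cfsg.Agent.Lib.Helper25.Pres

/-- the Coxeter group of type `D₅` has order at most `1920` -/
theorem card_le_D5 : Finite (CoxPresented FD5.Gen FD5.edges FD5.extra) ∧
    Nat.card (CoxPresented FD5.Gen FD5.edges FD5.extra) ≤ 640 * 3 :=
  card_le_cyclic FD5_640.setup FD5_640.checks 0 1 (by decide) (by decide) (by decide) 3 (by decide) (by decide)

/-- the Coxeter group of type `E₆` has order at most `51840` -/
theorem card_le_E6 : Finite (CoxPresented FE6.Gen FE6.edges FE6.extra) ∧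
    Nat.card (CoxPresented FE6.Gen FE6.edges FE6.extra) ≤ 51840 := by
  have h := card_le_step (edges₁ := FD5.edges) (extra₁ := FD5.extra) (edges := FE6.edges) (extra := FE6.extra)
    FE6_27.setup FE6_27.checks FE6.emb
    (by intro a _ b _; cases a <;> cases b <;> decide)
    (by intro r hr; simp [FD5.extra] at hr)
    (by
      intro w hw
      simp only [FE6_27.sw, List.mem_cons, List.not_mem_nil, or_false] at hw
      rcases hw with rfl | rfl | rfl | rfl | rfl
      · exact ⟨.c, rfl⟩
      · exact ⟨.d, rfl⟩
      · exact ⟨.e, rfl⟩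
      · exact ⟨.f, rfl⟩
      · exact ⟨.h, rfl⟩)
    (640 * 3) card_le_D5
  exact ⟨h.1, h.2.trans (by decide)⟩

/-- the group `Y₂₂₂` (with the spider relation) has order at most `12597120` -/
theorem card_le_Y222 : Finite (CoxPresented FY222.Gen FY222.edges FY222.extra) ∧
    Nat.card (CoxPresented FY222.Gen FY222.edges FY222.extra) ≤ 12597120 := by
  have h := card_le_step (edges₁ := FE6.edges) (extra₁ := FE6.extra) (edges := FY222.edges) (extra := FY222.extra)
    FY222_243.setup FY222_243.checks FY222.emb
    (by intro a _ b _; cases a <;> cases b <;> decide)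
    (by intro r hr; simp [FE6.extra] at hr)
    (by
      intro w hw
      simp only [FY222_243.sw, List.mem_cons, List.not_mem_nil, or_false] at hw
      rcases hw with rfl | rfl | rfl | rfl | rfl | rfl
      · exact ⟨.c, rfl⟩
      · exact ⟨.d, rfl⟩
      · exact ⟨.e, rfl⟩
      · exact ⟨.f, rfl⟩
      · exact ⟨.h, rfl⟩
      · exact ⟨.i, rfl⟩)
    51840 card_le_E6
  exact ⟨h.1, h.2.trans (by decide)⟩

/-- the sub-presentation of the presentation of `Fi₂₂` on `b, …, i` has order at most `4585351680` -/
theorem card_le_O7 : Finite (CoxPresented FO7.Gen FO7.edges FO7.extra) ∧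
    Nat.card (CoxPresented FO7.Gen FO7.edges FO7.extra) ≤ 4585351680 := by
  have h := card_le_step (edges₁ := FY222.edges) (extra₁ := FY222.extra) (edges := FO7.edges) (extra := FO7.extra)
    FO7_364.setup FO7_364.checks FO7.emb
    (by intro a _ b _; cases a <;> cases b <;> decide)
    (by
      intro r hr
      simp only [FY222.extra, List.mem_cons, List.not_mem_nil, or_false] at hr
      rcases hr with rfl
      simp [FO7.extra, FO7.emb, map_mul, map_inv, map_pow, FreeGroup.map.of])
    (by
      intro w hw
      simp only [FO7_364.sw, List.mem_cons, List.not_mem_nil, or_false] at hw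
      rcases hw with rfl | rfl | rfl | rfl | rfl | rfl | rfl
      · exact ⟨.b, rfl⟩
      · exact ⟨.c, rfl⟩
      · exact ⟨.d, rfl⟩
      · exact ⟨.e, rfl⟩
      · exact ⟨.f, rfl⟩
      · exact ⟨.h, rfl⟩
      · exact ⟨.i, rfl⟩)
    12597120 card_le_Y222
  exact ⟨h.1, h.2.trans (by decide)⟩

end Cfsg.Agent.Lib.Helper25.TC.FiChain
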