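import Cfsg.Agent.Lib.Helper25.TCU6Cover
import Cfsg.Agent.Lib.Helper25.TCExistG
import Cfsg.Agent.Lib.Helper25.TCExistI
import Cfsg.Prelude.Def_Sporadic

set_option autoImplicit false
set_option maxRecDepth 1000000
set_option linter.unusedVariables false
set_option linter.unusedSimpArgs false
set_option linter.constructorNameAsVariable false

/-! The presented Fischer group `Fi₂₂` is generated by a class of 3510 3-transpositions whose centralizers are
non-split double covers of `PSU(6, 2)`. -/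

namespace Cfsg.Agent.Lib.Helper25.TC.Fi22Class

open Cfsg.Spor Cfsg.Agent.Lib.Helper25.TC Cfsg.Agent.Lib.Helper25.TC.U6Cover

theorem HH_le : HH ≤ Subgroup.centralizer ({t0} : Set KG) := by
  intro g hg
  rw [Subgroup.mem_centralizer_iff]
  intro y hy
  rw [Set.mem_singleton_iff] at hy
  subst hy
  exact (t0_comm g hg).symm

theorem centralizer_eq : Subgroup.centralizer ({t0} : Set KG) = HH := by
  have := hfin
  have hh := Fi22_3510.checks.tableHyp Fi22_3510.setup
  have hp := Fi22_3510.checks.permHyp Fi22_3510.setup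
  have horb := Fi22_3510.checks.orbitHyp_all (edges := Fi22.edges) (extra := Fi22.extra)
    (ofIdx := Fi22_3510.ofIdx) Fi22_3510.orbChecks
  rcases overgroup_of_table hh hp horb 3 Fi22X.hol_all.1 Fi22X.hol_all.2 Fi22X.harith _ HH_le with h | h
  · exact h
  · exfalso
    have hc : Subgroup.center KG = ⊥ := center_eq_bot_of_simple hsimple (by rw [hcard]; norm_num)
    have hm : t0 ∈ Subgroup.center KG := by
      rw [Subgroup.mem_center_iff]
      intro g
      have hg : g ∈ Subgroup.centralizer ({t0} : Set KG) := by rw [h]; trivial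
      exact (Subgroup.mem_centralizer_iff.mp hg t0 rfl).symm
    rw [hc, Subgroup.mem_bot] at hm
    exact t0_ne_one hm

/-- the product of `t₀` with its conjugate under `g` has order at most three -/
def Pg (g : KG) : Prop := (t0 * (g * t0 * g⁻¹)) ^ 2 = 1 ∨ (t0 * (g * t0 * g⁻¹)) ^ 3 = 1

theorem Pg_right (h : KG) (hh : h ∈ HH) (g : KG) (hg : Pg g) : Pg (g * h) := by
  have hc : t0 * h = h * t0 := (t0_comm h hh).symm
  have e : g * h * t0 * (g * h)⁻¹ = g * t0 * g⁻¹ := by
    calc g * h * t0 * (g * h)⁻¹ = g * (h * t0) * h⁻¹ * g⁻¹ := by group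
      _ = g * (t0 * h) * h⁻¹ * g⁻¹ := by rw [hc]
      _ = g * t0 * g⁻¹ := by group
  unfold Pg
  rw [e]
  exact hg

theorem Pg_left (h : KG) (hh : h ∈ HH) (g : KG) (hg : Pg g) : Pg (h * g) := by
  have hc : t0 * h = h * t0 := (t0_comm h hh).symm
  have e : t0 * (h * g * t0 * (h * g)⁻¹) = h * (t0 * (g * t0 * g⁻¹)) * h⁻¹ := by
    calc t0 * (h * g * t0 * (h * g)⁻¹) = (t0 * h) * (g * t0 * g⁻¹) * h⁻¹ := by group
      _ = (h * t0) * (g * t0 * g⁻¹) * h⁻¹ := by rw [hc]
      _ = h * (t0 * (g * t0 * g⁻¹)) * h⁻¹ := by group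
  unfold Pg
  rw [e, conj_pow, conj_pow]
  rcases hg with hg | hg
  · left; rw [hg]; group
  · right; rw [hg]; group

theorem Pg_one : Pg 1 := by
  left
  have : t0 * (1 * t0 * 1⁻¹) = 1 := by rw [one_mul, inv_one, mul_one]; exact t0_mul_self
  rw [this, one_pow]

theorem evr_W (u : List Nat) :
    evr gn (u.reverse ++ [0] ++ u ++ [0]) = t0 * (evr gn u * t0 * (evr gn u)⁻¹) := by
  have hinv := cgen_mul_self Fi22_3510.setup
  rw [evr_append, evr_append, evr_append, evr_reverse gn hinv, evr_singleton]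
  simp only [mul_assoc]

theorem Pg_u1 : Pg (evr gn Fi22Y.u1) := by
  right
  have h := Fi22Y.evr_id hinj 42 (by decide)
  rw [Fi22Y.id_W1.1, Fi22Y.id_W1.2, evr_flatten_replicate] at h
  rw [← evr_W Fi22Y.u1]
  exact h

theorem Pg_u6 : Pg (evr gn Fi22Y.u6) := by
  left
  have h := Fi22Y.evr_id hinj 43 (by decide)
  rw [Fi22Y.id_W6.1, Fi22Y.id_W6.2, evr_flatten_replicate] at h
  rw [← evr_W Fi22Y.u6]
  exact h

theorem hrep : ∀ i < Fi22_3510.nn, ∃ g, Pg g ∧
    Fi22_3510.ol ((Fi22_3510.checks.phi Fi22_3510.setup) g ⟨0, Fi22_3510.checks.hn⟩).val = Fi22_3510.ol i := by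
  intro i hi
  have hp := Fi22_3510.checks.permHyp Fi22_3510.setup
  have h3 := Fi22X.hol_all.1 i hi
  have h0 : Fi22_3510.ol 0 = 0 := by decide +kernel
  have h1 : Fi22_3510.ol 1 = 1 := by decide +kernel
  have h6 : Fi22_3510.ol 6 = 2 := by decide +kernel
  have c : Fi22_3510.ol i = 0 ∨ Fi22_3510.ol i = 1 ∨ Fi22_3510.ol i = 2 := by omega
  rcases c with c | c | c
  · refine ⟨1, Pg_one, ?_⟩
    rw [map_one, Equiv.Perm.one_apply, c]
    exact h0
  · refine ⟨evr gn Fi22Y.u1, Pg_u1, ?_⟩
    rw [phi_word hp Fi22Y.u1 Fi22Y.u1_pt.2 ⟨0, Fi22_3510.checks.hn⟩, Fi22Y.u1_pt.1, c]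
    exact h1
  · refine ⟨evr gn Fi22Y.u6, Pg_u6, ?_⟩
    rw [phi_word hp Fi22Y.u6 Fi22Y.u6_pt.2 ⟨0, Fi22_3510.checks.hn⟩, Fi22Y.u6_pt.1, c]
    exact h6

theorem Pg_all : ∀ g, Pg g := by
  have hh := Fi22_3510.checks.tableHyp Fi22_3510.setup
  have hp := Fi22_3510.checks.permHyp Fi22_3510.setup
  have horb := Fi22_3510.checks.orbitHyp_all (edges := Fi22.edges) (extra := Fi22.extra)
    (ofIdx := Fi22_3510.ofIdx) Fi22_3510.orbChecks
  exact forall_of_double_coset hh hp horb Pg Pg_left Pg_right hrep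

/-- transport of a non-split double cover along an isomorphism -/
theorem cover_of_equiv {H H' K : Type*} [Group H] [Group H'] [Group K] (e : H ≃* H')
    (h : Cfsg.IsNonsplitDoubleCover H K) : Cfsg.IsNonsplitDoubleCover H' K := by
  obtain ⟨h2, ⟨f⟩, h3⟩ := h
  have hmap : (Subgroup.center H).map e.toMonoidHom = Subgroup.center H' := by
    ext y
    constructor
    · rintro ⟨x, hx, rfl⟩
      rw [Subgroup.mem_center_iff]
      intro z
      obtain ⟨z', rfl⟩ := e.surjective z
      have := (Subgroup.mem_center_iff.mp hx) z'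
      show e z' * e x = e x * e z'
      rw [← map_mul, ← map_mul, this]
    · intro hy
      refine ⟨e.symm y, Subgroup.mem_center_iff.mpr ?_, by simp⟩
      intro z
      have := (Subgroup.mem_center_iff.mp hy) (e z)
      apply e.injective
      rw [map_mul, map_mul, e.apply_symm_apply]
      exact this
  refine ⟨?_, ?_, ?_⟩
  · rw [← hmap, ← h2]
    exact Nat.card_congr ((Subgroup.center H).equivMapOfInjective e.toMonoidHom e.injective).symm.toEquiv
  · have e' : H ⧸ Subgroup.center H ≃* H' ⧸ Subgroup.center H' :=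
      QuotientGroup.congr (Subgroup.center H) (Subgroup.center H') e hmap
    exact ⟨e'.symm.trans f⟩
  · intro L hL
    apply h3 (L.comap e.toMonoidHom)
    have hc : Subgroup.center H = (Subgroup.center H').comap e.toMonoidHom := by
      rw [← hmap, Subgroup.comap_map_eq_self_of_injective e.injective]
    rw [hc]
    constructor
    · -- injectivity
      rintro ⟨⟨a1, ha1⟩, ⟨b1, hb1⟩⟩ ⟨⟨a2, ha2⟩, ⟨b2, hb2⟩⟩ hab
      have hab' : a1 * b1 = a2 * b2 := hab
      have := hL.1 (a₁ := (⟨⟨e a1, ha1⟩, ⟨e b1, hb1⟩⟩ : (Subgroup.center H') × L))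
        (a₂ := (⟨⟨e a2, ha2⟩, ⟨e b2, hb2⟩⟩ : (Subgroup.center H') × L))
        (by show e a1 * e b1 = e a2 * e b2; rw [← map_mul, ← map_mul, hab'])
      have h1 : e a1 = e a2 := congrArg (fun p : (Subgroup.center H') × L => (p.1 : H')) this
      have h2' : e b1 = e b2 := congrArg (fun p : (Subgroup.center H') × L => (p.2 : H')) this
      have ea : a1 = a2 := e.injective h1
      have eb : b1 = b2 := e.injective h2'
      subst ea; subst eb; rfl
    · intro x
      obtain ⟨⟨⟨a, ha⟩, ⟨b, hb⟩⟩, hab⟩ := hL.2 (e x)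
      have hab' : a * b = e x := hab
      refine ⟨⟨⟨e.symm a, by
          simp only [SetLike.mem_coe, Subgroup.mem_comap, MulEquiv.coe_toMonoidHom, MulEquiv.apply_symm_apply]
          exact ha⟩,
        ⟨e.symm b, by
          simp only [SetLike.mem_coe, Subgroup.mem_comap, MulEquiv.coe_toMonoidHom, MulEquiv.apply_symm_apply]
          exact hb⟩⟩, ?_⟩
      show e.symm a * e.symm b = x
      rw [← map_mul, hab', e.symm_apply_apply]

/-- the Fischer group of order 64561751654400 exists as a 3-transposition group -/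
theorem fi22_class : ∃ (G : Type) (_ : Group G) (_ : Finite G), Cfsg.IsFi22 G ∧ ∃ D : Set G,
    Cfsg.IsThreeTranspositionClass D ∧ Nat.card D = 3510 ∧ ∀ d ∈ D, ∃ (F : Type) (_ : Field F) (_ : Fintype F),
      Fintype.card F = 4 ∧ Cfsg.IsNonsplitDoubleCover (Subgroup.centralizer ({d} : Set G)) (Cfsg.PSU 6 F 2) := by
  refine ⟨KG, inferInstance, hfin, ⟨hsimple, hcard⟩, conjugatesOf t0,
    threeTranspositionClass_of_rep hsimple t0 t0_mul_self t0_ne_one Pg_all, ?_, ?_⟩
  · rw [card_conjugatesOf, centralizer_eq]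
    exact Fi22_3510.checks.index_eq Fi22_3510.setup
  · intro d hd
    obtain ⟨c, rfl⟩ := isConj_iff.mp (show IsConj t0 d from hd)
    refine ⟨U6Mat.K4, inferInstance, inferInstance, U6Mat.K4.card_eq, ?_⟩
    let e2 : HH ≃* Subgroup.centralizer ({t0} : Set KG) := MulEquiv.subgroupCongr centralizer_eq.symm
    exact cover_of_equiv (e2.trans (centralizerConjEquiv c t0)) U6Cover.cover

end Cfsg.Agent.Lib.Helper25.TC.Fi22Class
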