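import Cfsg.Agent.Lib.Helper25.TCFi22_14080T

set_option autoImplicit false
set_option maxRecDepth 1000000
set_option linter.unusedVariables false
set_option Elab.async false

namespace Cfsg.Agent.Lib.Helper25.TC.Fi22_14080

open Cfsg.Agent.Lib.Helper25.TC

theorem k_relp_26 : allR fastRel 7 3328 = true := by decide +kernel
theorem k_relp_27 : allR fastRel 7 3456 = true := by decide +kernel
theorem k_relp_28 : allR fastRel 7 3584 = true := by decide +kernel
theorem k_relp_29 : allR fastRel 7 3712 = true := by decide +kernel
theorem k_relp_30 : allR fastRel 7 3840 = true := by decide +kernel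
theorem k_relp_31 : allR fastRel 7 3968 = true := by decide +kernel
theorem k_relp_32 : allR fastRel 7 4096 = true := by decide +kernel
theorem k_relp_33 : allR fastRel 7 4224 = true := by decide +kernel
theorem k_relp_34 : allR fastRel 7 4352 = true := by decide +kernel
theorem k_relp_35 : allR fastRel 7 4480 = true := by decide +kernel
theorem k_relp_36 : allR fastRel 7 4608 = true := by decide +kernel
theorem k_relp_37 : allR fastRel 7 4736 = true := by decide +kernel
theorem k_relp_38 : allR fastRel 7 4864 = true := by decide +kernel
theorem k_relp_39 : allR fastRel 7 4992 = true := by decide +kernel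
theorem k_relp_40 : allR fastRel 7 5120 = true := by decide +kernel
theorem k_relp_41 : allR fastRel 7 5248 = true := by decide +kernel
theorem k_relp_42 : allR fastRel 7 5376 = true := by decide +kernel
theorem k_relp_43 : allR fastRel 7 5504 = true := by decide +kernel
theorem k_relp_44 : allR fastRel 7 5632 = true := by decide +kernel
theorem k_relp_45 : allR fastRel 7 5760 = true := by decide +kernel
theorem k_relp_46 : allR fastRel 7 5888 = true := by decide +kernel
theorem k_relp_47 : allR fastRel 7 6016 = true := by decide +kernel
theorem k_relp_48 : allR fastRel 7 6144 = true := by decide +kernel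
theorem k_relp_49 : allR fastRel 7 6272 = true := by decide +kernel
theorem k_relp_50 : allR fastRel 7 6400 = true := by decide +kernel
theorem k_relp_51 : allR fastRel 7 6528 = true := by decide +kernel

end Cfsg.Agent.Lib.Helper25.TC.Fi22_14080
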