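import Cfsg.Agent.Lib.Helper25.TCFi22_14080T

set_option autoImplicit false
set_option maxRecDepth 1000000
set_option linter.unusedVariables false
set_option Elab.async false

namespace Cfsg.Agent.Lib.Helper25.TC.Fi22_14080

open Cfsg.Agent.Lib.Helper25.TC

theorem k_tblp_7 : allR (ckTbl 9 nn T) 9 3584 = true := by decide +kernel
theorem k_tblp_8 : allR (ckTbl 9 nn T) 9 4096 = true := by decide +kernel
theorem k_tblp_9 : allR (ckTbl 9 nn T) 9 4608 = true := by decide +kernel
theorem k_tblp_10 : allR (ckTbl 9 nn T) 9 5120 = true := by decide +kernel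
theorem k_tblp_11 : allR (ckTbl 9 nn T) 9 5632 = true := by decide +kernel
theorem k_tblp_12 : allR (ckTbl 9 nn T) 9 6144 = true := by decide +kernel
theorem k_tblp_13 : allR (ckTbl 9 nn T) 9 6656 = true := by decide +kernel
theorem k_tblp_14 : allR (ckTbl 9 nn T) 9 7168 = true := by decide +kernel
theorem k_tblp_15 : allR (ckTbl 9 nn T) 9 7680 = true := by decide +kernel
theorem k_tblp_16 : allR (ckTbl 9 nn T) 9 8192 = true := by decide +kernel
theorem k_tblp_17 : allR (ckTbl 9 nn T) 9 8704 = true := by decide +kernel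
theorem k_tblp_18 : allR (ckTbl 9 nn T) 9 9216 = true := by decide +kernel
theorem k_tblp_19 : allR (ckTbl 9 nn T) 9 9728 = true := by decide +kernel
theorem k_tblp_20 : allR (ckTbl 9 nn T) 9 10240 = true := by decide +kernel
theorem k_tblp_21 : allR (ckTbl 9 nn T) 9 10752 = true := by decide +kernel
theorem k_tblp_22 : allR (ckTbl 9 nn T) 9 11264 = true := by decide +kernel
theorem k_tblp_23 : allR (ckTbl 9 nn T) 9 11776 = true := by decide +kernel
theorem k_tblp_24 : allR (ckTbl 9 nn T) 9 12288 = true := by decide +kernel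
theorem k_tblp_25 : allR (ckTbl 9 nn T) 9 12800 = true := by decide +kernel
theorem k_tblp_26 : allR (ckTbl 9 nn T) 9 13312 = true := by decide +kernel
theorem k_tblp_27 : allR (ckTbl 9 nn T) 9 13824 = true := by decide +kernel
theorem k_tblp_28 : allR (ckTbl 9 nn T) 9 14336 = true := by decide +kernel
theorem k_tblp_29 : allR (ckTbl 9 nn T) 9 14848 = true := by decide +kernel
theorem k_tblp_30 : allR (ckTbl 9 nn T) 9 15360 = true := by decide +kernel
theorem k_tblp_31 : allR (ckTbl 9 nn T) 9 15872 = true := by decide +kernel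
theorem k_treep_0 : allR (ckTree 9 nn T bp bg) 12 0 = true := by decide +kernel
theorem k_treep_1 : allR (ckTree 9 nn T bp bg) 12 4096 = true := by decide +kernel
theorem k_treep_2 : allR (ckTree 9 nn T bp bg) 12 8192 = true := by decide +kernel
theorem k_treep_3 : allR (ckTree 9 nn T bp bg) 12 12288 = true := by decide +kernel

end Cfsg.Agent.Lib.Helper25.TC.Fi22_14080
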