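import Cfsg.Agent.Lib.Helper25.TCFi22_14080T

set_option autoImplicit false
set_option maxRecDepth 1000000
set_option linter.unusedVariables false
set_option Elab.async false

namespace Cfsg.Agent.Lib.Helper25.TC.Fi22_14080

open Cfsg.Agent.Lib.Helper25.TC

theorem k_relp_52 : allR fastRel 7 6656 = true := by decide +kernel
theorem k_relp_53 : allR fastRel 7 6784 = true := by decide +kernel
theorem k_relp_54 : allR fastRel 7 6912 = true := by decide +kernel
theorem k_relp_55 : allR fastRel 7 7040 = true := by decide +kernel
theorem k_relp_56 : allR fastRel 7 7168 = true := by decide +kernel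
theorem k_relp_57 : allR fastRel 7 7296 = true := by decide +kernel
theorem k_relp_58 : allR fastRel 7 7424 = true := by decide +kernel
theorem k_relp_59 : allR fastRel 7 7552 = true := by decide +kernel
theorem k_relp_60 : allR fastRel 7 7680 = true := by decide +kernel
theorem k_relp_61 : allR fastRel 7 7808 = true := by decide +kernel
theorem k_relp_62 : allR fastRel 7 7936 = true := by decide +kernel
theorem k_relp_63 : allR fastRel 7 8064 = true := by decide +kernel
theorem k_relp_64 : allR fastRel 7 8192 = true := by decide +kernel
theorem k_relp_65 : allR fastRel 7 8320 = true := by decide +kernel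
theorem k_relp_66 : allR fastRel 7 8448 = true := by decide +kernel
theorem k_relp_67 : allR fastRel 7 8576 = true := by decide +kernel
theorem k_relp_68 : allR fastRel 7 8704 = true := by decide +kernel
theorem k_relp_69 : allR fastRel 7 8832 = true := by decide +kernel
theorem k_relp_70 : allR fastRel 7 8960 = true := by decide +kernel
theorem k_relp_71 : allR fastRel 7 9088 = true := by decide +kernel
theorem k_relp_72 : allR fastRel 7 9216 = true := by decide +kernel
theorem k_relp_73 : allR fastRel 7 9344 = true := by decide +kernel
theorem k_relp_74 : allR fastRel 7 9472 = true := by decide +kernel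
theorem k_relp_75 : allR fastRel 7 9600 = true := by decide +kernel
theorem k_relp_76 : allR fastRel 7 9728 = true := by decide +kernel
theorem k_relp_77 : allR fastRel 7 9856 = true := by decide +kernel

end Cfsg.Agent.Lib.Helper25.TC.Fi22_14080
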