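import Cfsg.Agent.Lib.Helper25.TCFi22_14080T

set_option autoImplicit false
set_option maxRecDepth 1000000
set_option linter.unusedVariables false
set_option Elab.async false

namespace Cfsg.Agent.Lib.Helper25.TC.Fi22_14080

open Cfsg.Agent.Lib.Helper25.TC

theorem k_relp_78 : allR fastRel 7 9984 = true := by decide +kernel
theorem k_relp_79 : allR fastRel 7 10112 = true := by decide +kernel
theorem k_relp_80 : allR fastRel 7 10240 = true := by decide +kernel
theorem k_relp_81 : allR fastRel 7 10368 = true := by decide +kernel
theorem k_relp_82 : allR fastRel 7 10496 = true := by decide +kernel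
theorem k_relp_83 : allR fastRel 7 10624 = true := by decide +kernel
theorem k_relp_84 : allR fastRel 7 10752 = true := by decide +kernel
theorem k_relp_85 : allR fastRel 7 10880 = true := by decide +kernel
theorem k_relp_86 : allR fastRel 7 11008 = true := by decide +kernel
theorem k_relp_87 : allR fastRel 7 11136 = true := by decide +kernel
theorem k_relp_88 : allR fastRel 7 11264 = true := by decide +kernel
theorem k_relp_89 : allR fastRel 7 11392 = true := by decide +kernel
theorem k_relp_90 : allR fastRel 7 11520 = true := by decide +kernel
theorem k_relp_91 : allR fastRel 7 11648 = true := by decide +kernel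
theorem k_relp_92 : allR fastRel 7 11776 = true := by decide +kernel
theorem k_relp_93 : allR fastRel 7 11904 = true := by decide +kernel
theorem k_relp_94 : allR fastRel 7 12032 = true := by decide +kernel
theorem k_relp_95 : allR fastRel 7 12160 = true := by decide +kernel
theorem k_relp_96 : allR fastRel 7 12288 = true := by decide +kernel
theorem k_relp_97 : allR fastRel 7 12416 = true := by decide +kernel
theorem k_relp_98 : allR fastRel 7 12544 = true := by decide +kernel
theorem k_relp_99 : allR fastRel 7 12672 = true := by decide +kernel
theorem k_relp_100 : allR fastRel 7 12800 = true := by decide +kernel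
theorem k_relp_101 : allR fastRel 7 12928 = true := by decide +kernel
theorem k_relp_102 : allR fastRel 7 13056 = true := by decide +kernel
theorem k_relp_103 : allR fastRel 7 13184 = true := by decide +kernel

end Cfsg.Agent.Lib.Helper25.TC.Fi22_14080
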