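import Cfsg.Prelude.Def_Spor_Fi22
import Cfsg.Agent.Lib.Helper25.TCMain
import Cfsg.Agent.Lib.Helper25.TCFi22_14080P0
import Cfsg.Agent.Lib.Helper25.TCFi22_14080P1
import Cfsg.Agent.Lib.Helper25.TCFi22_14080P2
import Cfsg.Agent.Lib.Helper25.TCFi22_14080P3
import Cfsg.Agent.Lib.Helper25.TCFi22_14080P4
import Cfsg.Agent.Lib.Helper25.TCFi22_14080P5
import Cfsg.Agent.Lib.Helper25.TCFi22_14080P6
import Cfsg.Agent.Lib.Helper25.TCFi22_14080P7
import Cfsg.Agent.Lib.Helper25.TCFi22_14080P8
import Cfsg.Agent.Lib.Helper25.TCFi22_14080P9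
import Cfsg.Agent.Lib.Helper25.TCFi22_14080P10
import Cfsg.Agent.Lib.Helper25.TCFi22_14080P11

set_option autoImplicit false
set_option maxRecDepth 1000000
set_option linter.unusedVariables false
set_option linter.constructorNameAsVariable false
set_option linter.unusedSimpArgs false

namespace Cfsg.Agent.Lib.Helper25.TC.Fi22_14080

open Cfsg.Spor Cfsg.Agent.Lib.Helper25.TC

def idx : Cfsg.Spor.Fi22.Gen → Nat
  | .a => 0
  | .b => 1
  | .c => 2
  | .d => 3
  | .e => 4
  | .f => 5
  | .g => 6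
  | .h => 7
  | .i => 8

def ofIdx : Nat → Cfsg.Spor.Fi22.Gen
  | 0 => .a
  | 1 => .b
  | 2 => .c
  | 3 => .d
  | 4 => .e
  | 5 => .f
  | 6 => .g
  | 7 => .h
  | 8 => .i
  | _ => .a

theorem setup : CoxSetup Cfsg.Spor.Fi22.edges Cfsg.Spor.Fi22.extra 9 idx ofIdx L extraW where
  ofIdx_idx := by intro a; cases a <;> rfl
  idx_ofIdx := by intro x hx; interval_cases x <;> rfl
  idx_lt := by intro a; cases a <;> decide
  allNodes := by intro a; cases a <;> decide
  hL := by intro a b; cases a <;> cases b <;> decide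
  hLsymm := by decide
  hextra := by
    unfold Cfsg.Spor.Fi22.extra extraW
    refine List.Forall₂.cons ?_ (List.Forall₂.cons ?_ (List.Forall₂.cons ?_ (List.Forall₂.nil)))
    all_goals
      intro K _ f hf
      have hfi : ∀ x, (f x)⁻¹ = f x := fun x => inv_eq_of_mul_eq_one_left (hf x)
      simp only [map_mul, map_inv, map_pow, FreeGroup.lift_apply_of, idx, evr, pow_succ, pow_zero, one_mul,
        mul_inv_rev, hfi, mul_assoc]

theorem relWords_eq : coxWords 9 L ++ extraW = relWords := by decide +kernel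

theorem fr_0_eq (i : Nat) : tr T [0, 0] i = fr_0 i := rfl
theorem fr_1_eq (i : Nat) : tr T [1, 0, 1, 0, 1, 0] i = fr_1 i := rfl
theorem fr_2_eq (i : Nat) : tr T [2, 0, 2, 0] i = fr_2 i := rfl
theorem fr_3_eq (i : Nat) : tr T [3, 0, 3, 0] i = fr_3 i := rfl
theorem fr_4_eq (i : Nat) : tr T [4, 0, 4, 0] i = fr_4 i := rfl
theorem fr_5_eq (i : Nat) : tr T [5, 0, 5, 0] i = fr_5 i := rfl
theorem fr_6_eq (i : Nat) : tr T [6, 0, 6, 0] i = fr_6 i := rfl
theorem fr_7_eq (i : Nat) : tr T [7, 0, 7, 0] i = fr_7 i := rfl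
theorem fr_8_eq (i : Nat) : tr T [8, 0, 8, 0] i = fr_8 i := rfl
theorem fr_9_eq (i : Nat) : tr T [1, 1] i = fr_9 i := rfl
theorem fr_10_eq (i : Nat) : tr T [2, 1, 2, 1, 2, 1] i = fr_10 i := rfl
theorem fr_11_eq (i : Nat) : tr T [3, 1, 3, 1] i = fr_11 i := rfl
theorem fr_12_eq (i : Nat) : tr T [4, 1, 4, 1] i = fr_12 i := rfl
theorem fr_13_eq (i : Nat) : tr T [5, 1, 5, 1] i = fr_13 i := rfl
theorem fr_14_eq (i : Nat) : tr T [6, 1, 6, 1] i = fr_14 i := rfl
theorem fr_15_eq (i : Nat) : tr T [7, 1, 7, 1] i = fr_15 i := rfl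
theorem fr_16_eq (i : Nat) : tr T [8, 1, 8, 1] i = fr_16 i := rfl
theorem fr_17_eq (i : Nat) : tr T [2, 2] i = fr_17 i := rfl
theorem fr_18_eq (i : Nat) : tr T [3, 2, 3, 2, 3, 2] i = fr_18 i := rfl
theorem fr_19_eq (i : Nat) : tr T [4, 2, 4, 2] i = fr_19 i := rfl
theorem fr_20_eq (i : Nat) : tr T [5, 2, 5, 2] i = fr_20 i := rfl
theorem fr_21_eq (i : Nat) : tr T [6, 2, 6, 2] i = fr_21 i := rfl
theorem fr_22_eq (i : Nat) : tr T [7, 2, 7, 2] i = fr_22 i := rfl
theorem fr_23_eq (i : Nat) : tr T [8, 2, 8, 2] i = fr_23 i := rfl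
theorem fr_24_eq (i : Nat) : tr T [3, 3] i = fr_24 i := rfl
theorem fr_25_eq (i : Nat) : tr T [4, 3, 4, 3, 4, 3] i = fr_25 i := rfl
theorem fr_26_eq (i : Nat) : tr T [5, 3, 5, 3] i = fr_26 i := rfl
theorem fr_27_eq (i : Nat) : tr T [6, 3, 6, 3] i = fr_27 i := rfl
theorem fr_28_eq (i : Nat) : tr T [7, 3, 7, 3, 7, 3] i = fr_28 i := rfl
theorem fr_29_eq (i : Nat) : tr T [8, 3, 8, 3] i = fr_29 i := rfl
theorem fr_30_eq (i : Nat) : tr T [4, 4] i = fr_30 i := rfl
theorem fr_31_eq (i : Nat) : tr T [5, 4, 5, 4, 5, 4] i = fr_31 i := rfl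
theorem fr_32_eq (i : Nat) : tr T [6, 4, 6, 4] i = fr_32 i := rfl
theorem fr_33_eq (i : Nat) : tr T [7, 4, 7, 4] i = fr_33 i := rfl
theorem fr_34_eq (i : Nat) : tr T [8, 4, 8, 4] i = fr_34 i := rfl
theorem fr_35_eq (i : Nat) : tr T [5, 5] i = fr_35 i := rfl
theorem fr_36_eq (i : Nat) : tr T [6, 5, 6, 5, 6, 5] i = fr_36 i := rfl
theorem fr_37_eq (i : Nat) : tr T [7, 5, 7, 5] i = fr_37 i := rfl
theorem fr_38_eq (i : Nat) : tr T [8, 5, 8, 5] i = fr_38 i := rfl
theorem fr_39_eq (i : Nat) : tr T [6, 6] i = fr_39 i := rfl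
theorem fr_40_eq (i : Nat) : tr T [7, 6, 7, 6] i = fr_40 i := rfl
theorem fr_41_eq (i : Nat) : tr T [8, 6, 8, 6] i = fr_41 i := rfl
theorem fr_42_eq (i : Nat) : tr T [7, 7] i = fr_42 i := rfl
theorem fr_43_eq (i : Nat) : tr T [8, 7, 8, 7, 8, 7] i = fr_43 i := rfl
theorem fr_44_eq (i : Nat) : tr T [8, 8] i = fr_44 i := rfl
theorem fr_45_eq (i : Nat) : tr T [8, 7, 3, 5, 4, 3, 1, 2, 3, 8, 7, 3, 5, 4, 3, 1, 2, 3, 8, 7, 3, 5, 4, 3, 1, 2, 3, 8, 7, 3, 5, 4, 3, 1, 2, 3, 8, 7, 3, 5, 4, 3, 1, 2, 3, 8, 7, 3, 5, 4, 3, 1, 2, 3, 8, 7, 3, 5, 4, 3, 1, 2, 3, 8, 7, 3, 5, 4, 3, 1, 2, 3, 8, 7, 3, 5, 4, 3, 1, 2, 3, 8, 7, 3, 5, 4, 3, 1, 2, 3] i = fr_45 i := rfl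
theorem fr_46_eq (i : Nat) : tr T [7, 5, 4, 3, 2, 1, 0, 7, 5, 4, 3, 2, 1, 0, 7, 5, 4, 3, 2, 1, 0, 7, 5, 4, 3, 2, 1, 0, 7, 5, 4, 3, 2, 1, 0, 7, 5, 4, 3, 2, 1, 0, 7, 5, 4, 3, 2, 1, 0, 7, 5, 4, 3, 2, 1, 0, 7, 5, 4, 3, 2, 1, 0] i = fr_46 i := rfl
theorem fr_47_eq (i : Nat) : tr T [7, 6, 5, 4, 3, 2, 1, 7, 6, 5, 4, 3, 2, 1, 7, 6, 5, 4, 3, 2, 1, 7, 6, 5, 4, 3, 2, 1, 7, 6, 5, 4, 3, 2, 1, 7, 6, 5, 4, 3, 2, 1, 7, 6, 5, 4, 3, 2, 1, 7, 6, 5, 4, 3, 2, 1, 7, 6, 5, 4, 3, 2, 1] i = fr_47 i := rfl

theorem fastRel_eq (i : Nat) : ckRel nn T relWords i = fastRel i := by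
  simp only [ckRel, relWords, List.all_cons, List.all_nil, fr_0_eq, fr_1_eq, fr_2_eq, fr_3_eq, fr_4_eq, fr_5_eq, fr_6_eq, fr_7_eq, fr_8_eq, fr_9_eq, fr_10_eq, fr_11_eq, fr_12_eq, fr_13_eq, fr_14_eq, fr_15_eq, fr_16_eq, fr_17_eq, fr_18_eq, fr_19_eq, fr_20_eq, fr_21_eq, fr_22_eq, fr_23_eq, fr_24_eq, fr_25_eq, fr_26_eq, fr_27_eq, fr_28_eq, fr_29_eq, fr_30_eq, fr_31_eq, fr_32_eq, fr_33_eq, fr_34_eq, fr_35_eq, fr_36_eq, fr_37_eq, fr_38_eq, fr_39_eq, fr_40_eq, fr_41_eq, fr_42_eq, fr_43_eq, fr_44_eq, fr_45_eq, fr_46_eq, fr_47_eq]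
  rfl

theorem k_rel_fast : allR fastRel 14 0 = true := (allR_join _ _ _ _ (by decide) (allR_join _ _ _ _ (by decide) (allR_join _ _ _ _ (by decide) (allR_join _ _ _ _ (by decide) (allR_join _ _ _ _ (by decide) (allR_join _ _ _ _ (by decide) (allR_join _ _ _ _ (by decide) k_relp_0 k_relp_1) (allR_join _ _ _ _ (by decide) k_relp_2 k_relp_3)) (allR_join _ _ _ _ (by decide) (allR_join _ _ _ _ (by decide) k_relp_4 k_relp_5) (allR_join _ _ _ _ (by decide) k_relp_6 k_relp_7))) (allR_join _ _ _ _ (by decide) (allR_join _ _ _ _ (by decide) (allR_join _ _ _ _ (by decide) k_relp_8 k_relp_9) (allR_join _ _ _ _ (by decide) k_relp_10 k_relp_11)) (allR_join _ _ _ _ (by decide) (allR_join _ _ _ _ (by decide) k_relp_12 k_relp_13) (allR_join _ _ _ _ (by decide) k_relp_14 k_relp_15)))) (allR_join _ _ _ _ (by decide) (allR_join _ _ _ _ (by decide) (allR_join _ _ _ _ (by decide) (allR_join _ _ _ _ (by decide) k_relp_16 k_relp_17) (allR_join _ _ _ _ (by decide) k_relp_18 k_relp_19))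 (allR_join _ _ _ _ (by decide) (allR_join _ _ _ _ (by decide) k_relp_20 k_relp_21) (allR_join _ _ _ _ (by decide) k_relp_22 k_relp_23))) (allR_join _ _ _ _ (by decide) (allR_join _ _ _ _ (by decide) (allR_join _ _ _ _ (by decide) k_relp_24 k_relp_25) (allR_join _ _ _ _ (by decide) k_relp_26 k_relp_27)) (allR_join _ _ _ _ (by decide) (allR_join _ _ _ _ (by decide) k_relp_28 k_relp_29) (allR_join _ _ _ _ (by decide) k_relp_30 k_relp_31))))) (allR_join _ _ _ _ (by decide) (allR_join _ _ _ _ (by decide) (allR_join _ _ _ _ (by decide) (allR_join _ _ _ _ (by decide) (allR_join _ _ _ _ (by decide) k_relp_32 k_relp_33) (allR_join _ _ _ _ (by decide) k_relp_34 k_relp_35)) (allR_join _ _ _ _ (by decide) (allR_join _ _ _ _ (by decide) k_relp_36 k_relp_37) (allR_join _ _ _ _ (by decide) k_relp_38 k_relp_39))) (allR_join _ _ _ _ (by decide) (allR_join _ _ _ _ (by decide) (allR_join _ _ _ _ (by decide) k_relp_40 k_relp_41) (allR_join _ _ _ _ (by decide) k_relp_42 k_relp_43))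 (allR_join _ _ _ _ (by decide) (allR_join _ _ _ _ (by decide) k_relp_44 k_relp_45) (allR_join _ _ _ _ (by decide) k_relp_46 k_relp_47)))) (allR_join _ _ _ _ (by decide) (allR_join _ _ _ _ (by decide) (allR_join _ _ _ _ (by decide) (allR_join _ _ _ _ (by decide) k_relp_48 k_relp_49) (allR_join _ _ _ _ (by decide) k_relp_50 k_relp_51)) (allR_join _ _ _ _ (by decide) (allR_join _ _ _ _ (by decide) k_relp_52 k_relp_53) (allR_join _ _ _ _ (by decide) k_relp_54 k_relp_55))) (allR_join _ _ _ _ (by decide) (allR_join _ _ _ _ (by decide) (allR_join _ _ _ _ (by decide) k_relp_56 k_relp_57) (allR_join _ _ _ _ (by decide) k_relp_58 k_relp_59)) (allR_join _ _ _ _ (by decide) (allR_join _ _ _ _ (by decide) k_relp_60 k_relp_61) (allR_join _ _ _ _ (by decide) k_relp_62 k_relp_63)))))) (allR_join _ _ _ _ (by decide) (allR_join _ _ _ _ (by decide) (allR_join _ _ _ _ (by decide) (allR_join _ _ _ _ (by decide) (allR_join _ _ _ _ (by decide) (allR_join _ _ _ _ (by decide) k_relp_64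 k_relp_65) (allR_join _ _ _ _ (by decide) k_relp_66 k_relp_67)) (allR_join _ _ _ _ (by decide) (allR_join _ _ _ _ (by decide) k_relp_68 k_relp_69) (allR_join _ _ _ _ (by decide) k_relp_70 k_relp_71))) (allR_join _ _ _ _ (by decide) (allR_join _ _ _ _ (by decide) (allR_join _ _ _ _ (by decide) k_relp_72 k_relp_73) (allR_join _ _ _ _ (by decide) k_relp_74 k_relp_75)) (allR_join _ _ _ _ (by decide) (allR_join _ _ _ _ (by decide) k_relp_76 k_relp_77) (allR_join _ _ _ _ (by decide) k_relp_78 k_relp_79)))) (allR_join _ _ _ _ (by decide) (allR_join _ _ _ _ (by decide) (allR_join _ _ _ _ (by decide) (allR_join _ _ _ _ (by decide) k_relp_80 k_relp_81) (allR_join _ _ _ _ (by decide) k_relp_82 k_relp_83)) (allR_join _ _ _ _ (by decide) (allR_join _ _ _ _ (by decide) k_relp_84 k_relp_85) (allR_join _ _ _ _ (by decide) k_relp_86 k_relp_87))) (allR_join _ _ _ _ (by decide) (allR_join _ _ _ _ (by decide) (allR_join _ _ _ _ (by decide) k_relp_88 k_relp_89) (allR_join _ _ _ _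 (by decide) k_relp_90 k_relp_91)) (allR_join _ _ _ _ (by decide) (allR_join _ _ _ _ (by decide) k_relp_92 k_relp_93) (allR_join _ _ _ _ (by decide) k_relp_94 k_relp_95))))) (allR_join _ _ _ _ (by decide) (allR_join _ _ _ _ (by decide) (allR_join _ _ _ _ (by decide) (allR_join _ _ _ _ (by decide) (allR_join _ _ _ _ (by decide) k_relp_96 k_relp_97) (allR_join _ _ _ _ (by decide) k_relp_98 k_relp_99)) (allR_join _ _ _ _ (by decide) (allR_join _ _ _ _ (by decide) k_relp_100 k_relp_101) (allR_join _ _ _ _ (by decide) k_relp_102 k_relp_103))) (allR_join _ _ _ _ (by decide) (allR_join _ _ _ _ (by decide) (allR_join _ _ _ _ (by decide) k_relp_104 k_relp_105) (allR_join _ _ _ _ (by decide) k_relp_106 k_relp_107)) (allR_join _ _ _ _ (by decide) (allR_join _ _ _ _ (by decide) k_relp_108 k_relp_109) (allR_join _ _ _ _ (by decide) k_relp_110 k_relp_111)))) (allR_join _ _ _ _ (by decide) (allR_join _ _ _ _ (by decide) (allR_join _ _ _ _ (by decide) (allR_join _ _ _ _ (by decide)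 k_relp_112 k_relp_113) (allR_join _ _ _ _ (by decide) k_relp_114 k_relp_115)) (allR_join _ _ _ _ (by decide) (allR_join _ _ _ _ (by decide) k_relp_116 k_relp_117) (allR_join _ _ _ _ (by decide) k_relp_118 k_relp_119))) (allR_join _ _ _ _ (by decide) (allR_join _ _ _ _ (by decide) (allR_join _ _ _ _ (by decide) k_relp_120 k_relp_121) (allR_join _ _ _ _ (by decide) k_relp_122 k_relp_123)) (allR_join _ _ _ _ (by decide) (allR_join _ _ _ _ (by decide) k_relp_124 k_relp_125) (allR_join _ _ _ _ (by decide) k_relp_126 k_relp_127)))))))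

theorem k_cert : allR (ckCert C nF) 17 0 = true := (allR_join _ _ _ _ (by decide) (allR_join _ _ _ _ (by decide) (allR_join _ _ _ _ (by decide) (allR_join _ _ _ _ (by decide) (allR_join _ _ _ _ (by decide) (allR_join _ _ _ _ (by decide) (allR_join _ _ _ _ (by decide) (allR_join _ _ _ _ (by decide) k_certp_0 k_certp_1) (allR_join _ _ _ _ (by decide) k_certp_2 k_certp_3)) (allR_join _ _ _ _ (by decide) (allR_join _ _ _ _ (by decide) k_certp_4 k_certp_5) (allR_join _ _ _ _ (by decide) k_certp_6 k_certp_7))) (allR_join _ _ _ _ (by decide) (allR_join _ _ _ _ (by decide) (allR_join _ _ _ _ (by decide) k_certp_8 k_certp_9) (allR_join _ _ _ _ (by decide) k_certp_10 k_certp_11)) (allR_join _ _ _ _ (by decide) (allR_join _ _ _ _ (by decide) k_certp_12 k_certp_13) (allR_join _ _ _ _ (by decide) k_certp_14 k_certp_15)))) (allR_join _ _ _ _ (by decide) (allR_join _ _ _ _ (by decide) (allR_join _ _ _ _ (by decide) (allR_join _ _ _ _ (by decide) k_certp_16 k_certp_17) (allR_join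 _ _ _ _ (by decide) k_certp_18 k_certp_19)) (allR_join _ _ _ _ (by decide) (allR_join _ _ _ _ (by decide) k_certp_20 k_certp_21) (allR_join _ _ _ _ (by decide) k_certp_22 k_certp_23))) (allR_join _ _ _ _ (by decide) (allR_join _ _ _ _ (by decide) (allR_join _ _ _ _ (by decide) k_certp_24 k_certp_25) (allR_join _ _ _ _ (by decide) k_certp_26 k_certp_27)) (allR_join _ _ _ _ (by decide) (allR_join _ _ _ _ (by decide) k_certp_28 k_certp_29) (allR_join _ _ _ _ (by decide) k_certp_30 k_certp_31))))) (allR_join _ _ _ _ (by decide) (allR_join _ _ _ _ (by decide) (allR_join _ _ _ _ (by decide) (allR_join _ _ _ _ (by decide) (allR_join _ _ _ _ (by decide) k_certp_32 k_certp_33) (allR_join _ _ _ _ (by decide) k_certp_34 k_certp_35)) (allR_join _ _ _ _ (by decide) (allR_join _ _ _ _ (by decide) k_certp_36 k_certp_37) (allR_join _ _ _ _ (by decide) k_certp_38 k_certp_39))) (allR_join _ _ _ _ (by decide) (allR_join _ _ _ _ (by decide) (allR_join _ _ _ _ (by decide) k_certp_40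 k_certp_41) (allR_join _ _ _ _ (by decide) k_certp_42 k_certp_43)) (allR_join _ _ _ _ (by decide) (allR_join _ _ _ _ (by decide) k_certp_44 k_certp_45) (allR_join _ _ _ _ (by decide) k_certp_46 k_certp_47)))) (allR_join _ _ _ _ (by decide) (allR_join _ _ _ _ (by decide) (allR_join _ _ _ _ (by decide) (allR_join _ _ _ _ (by decide) k_certp_48 k_certp_49) (allR_join _ _ _ _ (by decide) k_certp_50 k_certp_51)) (allR_join _ _ _ _ (by decide) (allR_join _ _ _ _ (by decide) k_certp_52 k_certp_53) (allR_join _ _ _ _ (by decide) k_certp_54 k_certp_55))) (allR_join _ _ _ _ (by decide) (allR_join _ _ _ _ (by decide) (allR_join _ _ _ _ (by decide) k_certp_56 k_certp_57) (allR_join _ _ _ _ (by decide) k_certp_58 k_certp_59)) (allR_join _ _ _ _ (by decide) (allR_join _ _ _ _ (by decide) k_certp_60 k_certp_61) (allR_join _ _ _ _ (by decide) k_certp_62 k_certp_63)))))) (allR_join _ _ _ _ (by decide) (allR_join _ _ _ _ (by decide) (allR_join _ _ _ _ (by decide) (allR_join _ _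 _ _ (by decide) (allR_join _ _ _ _ (by decide) (allR_join _ _ _ _ (by decide) k_certp_64 k_certp_65) (allR_join _ _ _ _ (by decide) k_certp_66 k_certp_67)) (allR_join _ _ _ _ (by decide) (allR_join _ _ _ _ (by decide) k_certp_68 k_certp_69) (allR_join _ _ _ _ (by decide) k_certp_70 k_certp_71))) (allR_join _ _ _ _ (by decide) (allR_join _ _ _ _ (by decide) (allR_join _ _ _ _ (by decide) k_certp_72 k_certp_73) (allR_join _ _ _ _ (by decide) k_certp_74 k_certp_75)) (allR_join _ _ _ _ (by decide) (allR_join _ _ _ _ (by decide) k_certp_76 k_certp_77) (allR_join _ _ _ _ (by decide) k_certp_78 k_certp_79)))) (allR_join _ _ _ _ (by decide) (allR_join _ _ _ _ (by decide) (allR_join _ _ _ _ (by decide) (allR_join _ _ _ _ (by decide) k_certp_80 k_certp_81) (allR_join _ _ _ _ (by decide) k_certp_82 k_certp_83)) (allR_join _ _ _ _ (by decide) (allR_join _ _ _ _ (by decide) k_certp_84 k_certp_85) (allR_join _ _ _ _ (by decide) k_certp_86 k_certp_87))) (allR_join _ _ _ _ (by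 decide) (allR_join _ _ _ _ (by decide) (allR_join _ _ _ _ (by decide) k_certp_88 k_certp_89) (allR_join _ _ _ _ (by decide) k_certp_90 k_certp_91)) (allR_join _ _ _ _ (by decide) (allR_join _ _ _ _ (by decide) k_certp_92 k_certp_93) (allR_join _ _ _ _ (by decide) k_certp_94 k_certp_95))))) (allR_join _ _ _ _ (by decide) (allR_join _ _ _ _ (by decide) (allR_join _ _ _ _ (by decide) (allR_join _ _ _ _ (by decide) (allR_join _ _ _ _ (by decide) k_certp_96 k_certp_97) (allR_join _ _ _ _ (by decide) k_certp_98 k_certp_99)) (allR_join _ _ _ _ (by decide) (allR_join _ _ _ _ (by decide) k_certp_100 k_certp_101) (allR_join _ _ _ _ (by decide) k_certp_102 k_certp_103))) (allR_join _ _ _ _ (by decide) (allR_join _ _ _ _ (by decide) (allR_join _ _ _ _ (by decide) k_certp_104 k_certp_105) (allR_join _ _ _ _ (by decide) k_certp_106 k_certp_107)) (allR_join _ _ _ _ (by decide) (allR_join _ _ _ _ (by decide) k_certp_108 k_certp_109) (allR_join _ _ _ _ (by decide) k_certp_110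 k_certp_111)))) (allR_join _ _ _ _ (by decide) (allR_join _ _ _ _ (by decide) (allR_join _ _ _ _ (by decide) (allR_join _ _ _ _ (by decide) k_certp_112 k_certp_113) (allR_join _ _ _ _ (by decide) k_certp_114 k_certp_115)) (allR_join _ _ _ _ (by decide) (allR_join _ _ _ _ (by decide) k_certp_116 k_certp_117) (allR_join _ _ _ _ (by decide) k_certp_118 k_certp_119))) (allR_join _ _ _ _ (by decide) (allR_join _ _ _ _ (by decide) (allR_join _ _ _ _ (by decide) k_certp_120 k_certp_121) (allR_join _ _ _ _ (by decide) k_certp_122 k_certp_123)) (allR_join _ _ _ _ (by decide) (allR_join _ _ _ _ (by decide) k_certp_124 k_certp_125) (allR_join _ _ _ _ (by decide) k_certp_126 k_certp_127))))))) (allR_join _ _ _ _ (by decide) (allR_join _ _ _ _ (by decide) (allR_join _ _ _ _ (by decide) (allR_join _ _ _ _ (by decide) (allR_join _ _ _ _ (by decide) (allR_join _ _ _ _ (by decide) (allR_join _ _ _ _ (by decide) k_certp_128 k_certp_129) (allR_join _ _ _ _ (by decide) k_certp_130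 k_certp_131)) (allR_join _ _ _ _ (by decide) (allR_join _ _ _ _ (by decide) k_certp_132 k_certp_133) (allR_join _ _ _ _ (by decide) k_certp_134 k_certp_135))) (allR_join _ _ _ _ (by decide) (allR_join _ _ _ _ (by decide) (allR_join _ _ _ _ (by decide) k_certp_136 k_certp_137) (allR_join _ _ _ _ (by decide) k_certp_138 k_certp_139)) (allR_join _ _ _ _ (by decide) (allR_join _ _ _ _ (by decide) k_certp_140 k_certp_141) (allR_join _ _ _ _ (by decide) k_certp_142 k_certp_143)))) (allR_join _ _ _ _ (by decide) (allR_join _ _ _ _ (by decide) (allR_join _ _ _ _ (by decide) (allR_join _ _ _ _ (by decide) k_certp_144 k_certp_145) (allR_join _ _ _ _ (by decide) k_certp_146 k_certp_147)) (allR_join _ _ _ _ (by decide) (allR_join _ _ _ _ (by decide) k_certp_148 k_certp_149) (allR_join _ _ _ _ (by decide) k_certp_150 k_certp_151))) (allR_join _ _ _ _ (by decide) (allR_join _ _ _ _ (by decide) (allR_join _ _ _ _ (by decide) k_certp_152 k_certp_153) (allR_join _ _ _ _ (by decide)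 k_certp_154 k_certp_155)) (allR_join _ _ _ _ (by decide) (allR_join _ _ _ _ (by decide) k_certp_156 k_certp_157) (allR_join _ _ _ _ (by decide) k_certp_158 k_certp_159))))) (allR_join _ _ _ _ (by decide) (allR_join _ _ _ _ (by decide) (allR_join _ _ _ _ (by decide) (allR_join _ _ _ _ (by decide) (allR_join _ _ _ _ (by decide) k_certp_160 k_certp_161) (allR_join _ _ _ _ (by decide) k_certp_162 k_certp_163)) (allR_join _ _ _ _ (by decide) (allR_join _ _ _ _ (by decide) k_certp_164 k_certp_165) (allR_join _ _ _ _ (by decide) k_certp_166 k_certp_167))) (allR_join _ _ _ _ (by decide) (allR_join _ _ _ _ (by decide) (allR_join _ _ _ _ (by decide) k_certp_168 k_certp_169) (allR_join _ _ _ _ (by decide) k_certp_170 k_certp_171)) (allR_join _ _ _ _ (by decide) (allR_join _ _ _ _ (by decide) k_certp_172 k_certp_173) (allR_join _ _ _ _ (by decide) k_certp_174 k_certp_175)))) (allR_join _ _ _ _ (by decide) (allR_join _ _ _ _ (by decide) (allR_join _ _ _ _ (by decide) (allR_join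 _ _ _ _ (by decide) k_certp_176 k_certp_177) (allR_join _ _ _ _ (by decide) k_certp_178 k_certp_179)) (allR_join _ _ _ _ (by decide) (allR_join _ _ _ _ (by decide) k_certp_180 k_certp_181) (allR_join _ _ _ _ (by decide) k_certp_182 k_certp_183))) (allR_join _ _ _ _ (by decide) (allR_join _ _ _ _ (by decide) (allR_join _ _ _ _ (by decide) k_certp_184 k_certp_185) (allR_join _ _ _ _ (by decide) k_certp_186 k_certp_187)) (allR_join _ _ _ _ (by decide) (allR_join _ _ _ _ (by decide) k_certp_188 k_certp_189) (allR_join _ _ _ _ (by decide) k_certp_190 k_certp_191)))))) (allR_join _ _ _ _ (by decide) (allR_join _ _ _ _ (by decide) (allR_join _ _ _ _ (by decide) (allR_join _ _ _ _ (by decide) (allR_join _ _ _ _ (by decide) (allR_join _ _ _ _ (by decide) k_certp_192 k_certp_193) (allR_join _ _ _ _ (by decide) k_certp_194 k_certp_195)) (allR_join _ _ _ _ (by decide) (allR_join _ _ _ _ (by decide) k_certp_196 k_certp_197) (allR_join _ _ _ _ (by decide) k_certp_198 k_certp_199)))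 (allR_join _ _ _ _ (by decide) (allR_join _ _ _ _ (by decide) (allR_join _ _ _ _ (by decide) k_certp_200 k_certp_201) (allR_join _ _ _ _ (by decide) k_certp_202 k_certp_203)) (allR_join _ _ _ _ (by decide) (allR_join _ _ _ _ (by decide) k_certp_204 k_certp_205) (allR_join _ _ _ _ (by decide) k_certp_206 k_certp_207)))) (allR_join _ _ _ _ (by decide) (allR_join _ _ _ _ (by decide) (allR_join _ _ _ _ (by decide) (allR_join _ _ _ _ (by decide) k_certp_208 k_certp_209) (allR_join _ _ _ _ (by decide) k_certp_210 k_certp_211)) (allR_join _ _ _ _ (by decide) (allR_join _ _ _ _ (by decide) k_certp_212 k_certp_213) (allR_join _ _ _ _ (by decide) k_certp_214 k_certp_215))) (allR_join _ _ _ _ (by decide) (allR_join _ _ _ _ (by decide) (allR_join _ _ _ _ (by decide) k_certp_216 k_certp_217) (allR_join _ _ _ _ (by decide) k_certp_218 k_certp_219)) (allR_join _ _ _ _ (by decide) (allR_join _ _ _ _ (by decide) k_certp_220 k_certp_221) (allR_join _ _ _ _ (by decide) k_certp_222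 k_certp_223))))) (allR_join _ _ _ _ (by decide) (allR_join _ _ _ _ (by decide) (allR_join _ _ _ _ (by decide) (allR_join _ _ _ _ (by decide) (allR_join _ _ _ _ (by decide) k_certp_224 k_certp_225) (allR_join _ _ _ _ (by decide) k_certp_226 k_certp_227)) (allR_join _ _ _ _ (by decide) (allR_join _ _ _ _ (by decide) k_certp_228 k_certp_229) (allR_join _ _ _ _ (by decide) k_certp_230 k_certp_231))) (allR_join _ _ _ _ (by decide) (allR_join _ _ _ _ (by decide) (allR_join _ _ _ _ (by decide) k_certp_232 k_certp_233) (allR_join _ _ _ _ (by decide) k_certp_234 k_certp_235)) (allR_join _ _ _ _ (by decide) (allR_join _ _ _ _ (by decide) k_certp_236 k_certp_237) (allR_join _ _ _ _ (by decide) k_certp_238 k_certp_239)))) (allR_join _ _ _ _ (by decide) (allR_join _ _ _ _ (by decide) (allR_join _ _ _ _ (by decide) (allR_join _ _ _ _ (by decide) k_certp_240 k_certp_241) (allR_join _ _ _ _ (by decide) k_certp_242 k_certp_243)) (allR_join _ _ _ _ (by decide) (allR_join _ _ _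 _ (by decide) k_certp_244 k_certp_245) (allR_join _ _ _ _ (by decide) k_certp_246 k_certp_247))) (allR_join _ _ _ _ (by decide) (allR_join _ _ _ _ (by decide) (allR_join _ _ _ _ (by decide) k_certp_248 k_certp_249) (allR_join _ _ _ _ (by decide) k_certp_250 k_certp_251)) (allR_join _ _ _ _ (by decide) (allR_join _ _ _ _ (by decide) k_certp_252 k_certp_253) (allR_join _ _ _ _ (by decide) k_certp_254 k_certp_255))))))))

theorem k_fin : allR (ckFin C 9 nn nF can fin T) 14 0 = true := (allR_join _ _ _ _ (by decide) (allR_join _ _ _ _ (by decide) (allR_join _ _ _ _ (by decide) (allR_join _ _ _ _ (by decide) (allR_join _ _ _ _ (by decide) (allR_join _ _ _ _ (by decide) k_finp_0 k_finp_1) (allR_join _ _ _ _ (by decide) k_finp_2 k_finp_3)) (allR_join _ _ _ _ (by decide) (allR_join _ _ _ _ (by decide) k_finp_4 k_finp_5) (allR_join _ _ _ _ (by decide) k_finp_6 k_finp_7))) (allR_join _ _ _ _ (by decide) (allR_join _ _ _ _ (by decide) (allR_join _ _ _ _ (by decide) k_finp_8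 k_finp_9) (allR_join _ _ _ _ (by decide) k_finp_10 k_finp_11)) (allR_join _ _ _ _ (by decide) (allR_join _ _ _ _ (by decide) k_finp_12 k_finp_13) (allR_join _ _ _ _ (by decide) k_finp_14 k_finp_15)))) (allR_join _ _ _ _ (by decide) (allR_join _ _ _ _ (by decide) (allR_join _ _ _ _ (by decide) (allR_join _ _ _ _ (by decide) k_finp_16 k_finp_17) (allR_join _ _ _ _ (by decide) k_finp_18 k_finp_19)) (allR_join _ _ _ _ (by decide) (allR_join _ _ _ _ (by decide) k_finp_20 k_finp_21) (allR_join _ _ _ _ (by decide) k_finp_22 k_finp_23))) (allR_join _ _ _ _ (by decide) (allR_join _ _ _ _ (by decide) (allR_join _ _ _ _ (by decide) k_finp_24 k_finp_25) (allR_join _ _ _ _ (by decide) k_finp_26 k_finp_27)) (allR_join _ _ _ _ (by decide) (allR_join _ _ _ _ (by decide) k_finp_28 k_finp_29) (allR_join _ _ _ _ (by decide) k_finp_30 k_finp_31))))) (allR_join _ _ _ _ (by decide) (allR_join _ _ _ _ (by decide) (allR_join _ _ _ _ (by decide) (allR_join _ _ _ _ (by decide) (allR_join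 _ _ _ _ (by decide) k_finp_32 k_finp_33) (allR_join _ _ _ _ (by decide) k_finp_34 k_finp_35)) (allR_join _ _ _ _ (by decide) (allR_join _ _ _ _ (by decide) k_finp_36 k_finp_37) (allR_join _ _ _ _ (by decide) k_finp_38 k_finp_39))) (allR_join _ _ _ _ (by decide) (allR_join _ _ _ _ (by decide) (allR_join _ _ _ _ (by decide) k_finp_40 k_finp_41) (allR_join _ _ _ _ (by decide) k_finp_42 k_finp_43)) (allR_join _ _ _ _ (by decide) (allR_join _ _ _ _ (by decide) k_finp_44 k_finp_45) (allR_join _ _ _ _ (by decide) k_finp_46 k_finp_47)))) (allR_join _ _ _ _ (by decide) (allR_join _ _ _ _ (by decide) (allR_join _ _ _ _ (by decide) (allR_join _ _ _ _ (by decide) k_finp_48 k_finp_49) (allR_join _ _ _ _ (by decide) k_finp_50 k_finp_51)) (allR_join _ _ _ _ (by decide) (allR_join _ _ _ _ (by decide) k_finp_52 k_finp_53) (allR_join _ _ _ _ (by decide) k_finp_54 k_finp_55))) (allR_join _ _ _ _ (by decide) (allR_join _ _ _ _ (by decide) (allR_join _ _ _ _ (by decide) k_finp_56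 k_finp_57) (allR_join _ _ _ _ (by decide) k_finp_58 k_finp_59)) (allR_join _ _ _ _ (by decide) (allR_join _ _ _ _ (by decide) k_finp_60 k_finp_61) (allR_join _ _ _ _ (by decide) k_finp_62 k_finp_63))))))

theorem k_tbl : allR (ckTbl 9 nn T) 14 0 = true := (allR_join _ _ _ _ (by decide) (allR_join _ _ _ _ (by decide) (allR_join _ _ _ _ (by decide) (allR_join _ _ _ _ (by decide) (allR_join _ _ _ _ (by decide) k_tblp_0 k_tblp_1) (allR_join _ _ _ _ (by decide) k_tblp_2 k_tblp_3)) (allR_join _ _ _ _ (by decide) (allR_join _ _ _ _ (by decide) k_tblp_4 k_tblp_5) (allR_join _ _ _ _ (by decide) k_tblp_6 k_tblp_7))) (allR_join _ _ _ _ (by decide) (allR_join _ _ _ _ (by decide) (allR_join _ _ _ _ (by decide) k_tblp_8 k_tblp_9) (allR_join _ _ _ _ (by decide) k_tblp_10 k_tblp_11)) (allR_join _ _ _ _ (by decide) (allR_join _ _ _ _ (by decide) k_tblp_12 k_tblp_13) (allR_join _ _ _ _ (by decide) k_tblp_14 k_tblp_15)))) (allR_join _ _ _ _ (by decide) (allR_join _ _ _ _ (by decide)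 (allR_join _ _ _ _ (by decide) (allR_join _ _ _ _ (by decide) k_tblp_16 k_tblp_17) (allR_join _ _ _ _ (by decide) k_tblp_18 k_tblp_19)) (allR_join _ _ _ _ (by decide) (allR_join _ _ _ _ (by decide) k_tblp_20 k_tblp_21) (allR_join _ _ _ _ (by decide) k_tblp_22 k_tblp_23))) (allR_join _ _ _ _ (by decide) (allR_join _ _ _ _ (by decide) (allR_join _ _ _ _ (by decide) k_tblp_24 k_tblp_25) (allR_join _ _ _ _ (by decide) k_tblp_26 k_tblp_27)) (allR_join _ _ _ _ (by decide) (allR_join _ _ _ _ (by decide) k_tblp_28 k_tblp_29) (allR_join _ _ _ _ (by decide) k_tblp_30 k_tblp_31)))))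

theorem k_tree : allR (ckTree 9 nn T bp bg) 14 0 = true := (allR_join _ _ _ _ (by decide) (allR_join _ _ _ _ (by decide) k_treep_0 k_treep_1) (allR_join _ _ _ _ (by decide) k_treep_2 k_treep_3))

theorem checks : Checks 9 L extraW C nn nF T fin can bp bg sw where
  hn := by decide
  hns := by decide
  hsw := by decide +kernel
  hcyc := by decide +kernel
  hlet := by decide +kernel
  hletsw := by decide +kernel
  hsw0 := by decide +kernel
  hcan := by decide +kernel
  cCert := by
    intro f hf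
    have := all_lt_pow (ckCert C nF) nF 17 (by decide) k_cert f hf
    simp only [ckCert, Bool.or_eq_true] at this
    rcases this with h | h
    · have := Nat.le_of_ble_eq_true h; omega
    · exact h
  cFin := all_lt_pow _ nn 14 (by decide) k_fin
  cTbl := all_lt_pow _ nn 14 (by decide) k_tbl
  cRel := by
    intro i hi
    rw [relWords_eq, fastRel_eq]
    exact all_lt_pow fastRel nn 14 (by decide) k_rel_fast i hi
  cTree := all_lt_pow _ nn 14 (by decide) k_tree

end Cfsg.Agent.Lib.Helper25.TC.Fi22_14080
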