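import Cfsg.Agent.Lib.Helper25.TCFi22X
import Cfsg.Agent.Lib.Helper25.TCFi22XP0
import Cfsg.Agent.Lib.Helper25.TCFi22XP1
import Cfsg.Agent.Lib.Helper25.TCFi22XP2
import Cfsg.Agent.Lib.Helper25.TCFiChainLe
import Cfsg.Agent.Lib.Helper25.TCFi22_14080I

set_option autoImplicit false
set_option maxRecDepth 1000000
set_option linter.unusedVariables false
set_option linter.unusedSimpArgs false

namespace Cfsg.Agent.Lib.Helper25.TC.Fi22X

open Cfsg.Spor Cfsg.Agent.Lib.Helper25.TC Cfsg.Agent.Lib.Helper25.Pres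

abbrev KG := CoxPresented Fi22.Gen Fi22.edges Fi22.extra

theorem k_x : allR ckX 12 0 = true := (allR_join _ _ _ _ (by decide) (allR_join _ _ _ _ (by decide) (allR_join _ _ _ _ (by decide) (allR_join _ _ _ _ (by decide) (allR_join _ _ _ _ (by decide) (allR_join _ _ _ _ (by decide) k_xp_0 k_xp_1) (allR_join _ _ _ _ (by decide) k_xp_2 k_xp_3)) (allR_join _ _ _ _ (by decide) (allR_join _ _ _ _ (by decide) k_xp_4 k_xp_5) (allR_join _ _ _ _ (by decide) k_xp_6 k_xp_7))) (allR_join _ _ _ _ (by decide) (allR_join _ _ _ _ (by decide) (allR_join _ _ _ _ (by decide) k_xp_8 k_xp_9) (allR_join _ _ _ _ (by decide) k_xp_10 k_xp_11)) (allR_join _ _ _ _ (by decide) (allR_join _ _ _ _ (by decide) k_xp_12 k_xp_13) (allR_join _ _ _ _ (by decide) k_xp_14 k_xp_15)))) (allR_join _ _ _ _ (by decide) (allR_join _ _ _ _ (by decide) (allR_join _ _ _ _ (by decide) (allR_join _ _ _ _ (by decide) k_xp_16 k_xp_17) (allR_join _ _ _ _ (by decide) k_xp_18 k_xp_19)) (allR_join _ _ _ _ (by decide) (allR_join _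 _ _ _ (by decide) k_xp_20 k_xp_21) (allR_join _ _ _ _ (by decide) k_xp_22 k_xp_23))) (allR_join _ _ _ _ (by decide) (allR_join _ _ _ _ (by decide) (allR_join _ _ _ _ (by decide) k_xp_24 k_xp_25) (allR_join _ _ _ _ (by decide) k_xp_26 k_xp_27)) (allR_join _ _ _ _ (by decide) (allR_join _ _ _ _ (by decide) k_xp_28 k_xp_29) (allR_join _ _ _ _ (by decide) k_xp_30 k_xp_31))))) (allR_join _ _ _ _ (by decide) (allR_join _ _ _ _ (by decide) (allR_join _ _ _ _ (by decide) (allR_join _ _ _ _ (by decide) (allR_join _ _ _ _ (by decide) k_xp_32 k_xp_33) (allR_join _ _ _ _ (by decide) k_xp_34 k_xp_35)) (allR_join _ _ _ _ (by decide) (allR_join _ _ _ _ (by decide) k_xp_36 k_xp_37) (allR_join _ _ _ _ (by decide) k_xp_38 k_xp_39))) (allR_join _ _ _ _ (by decide) (allR_join _ _ _ _ (by decide) (allR_join _ _ _ _ (by decide) k_xp_40 k_xp_41) (allR_join _ _ _ _ (by decide) k_xp_42 k_xp_43)) (allR_join _ _ _ _ (by decide) (allR_join _ _ _ _ (by decide) k_xp_44 k_xp_45) (allR_join _ _ _ _ (by decide)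 k_xp_46 k_xp_47)))) (allR_join _ _ _ _ (by decide) (allR_join _ _ _ _ (by decide) (allR_join _ _ _ _ (by decide) (allR_join _ _ _ _ (by decide) k_xp_48 k_xp_49) (allR_join _ _ _ _ (by decide) k_xp_50 k_xp_51)) (allR_join _ _ _ _ (by decide) (allR_join _ _ _ _ (by decide) k_xp_52 k_xp_53) (allR_join _ _ _ _ (by decide) k_xp_54 k_xp_55))) (allR_join _ _ _ _ (by decide) (allR_join _ _ _ _ (by decide) (allR_join _ _ _ _ (by decide) k_xp_56 k_xp_57) (allR_join _ _ _ _ (by decide) k_xp_58 k_xp_59)) (allR_join _ _ _ _ (by decide) (allR_join _ _ _ _ (by decide) k_xp_60 k_xp_61) (allR_join _ _ _ _ (by decide) k_xp_62 k_xp_63))))))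

theorem k_ol : allR ckOl 12 0 = true := by decide +kernel

theorem ckX_spec : ∀ i < Fi22_3510.nn, ckX i = true := all_lt_pow _ Fi22_3510.nn 12 (by decide) k_x

theorem ckOl_spec : ∀ i < Fi22_3510.nn, ckOl i = true := all_lt_pow _ Fi22_3510.nn 12 (by decide) k_ol

theorem full_eq : fullW = fullL := by decide +kernel
theorem fw_eq (i : Nat) : tr Fi22_3510.T fullL i = fw i := rfl
theorem gpow_eq : gpow = gpowL := by decide +kernel
theorem fg_eq (i : Nat) : tr Fi22_3510.T gpowL i = fg i := rfl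

theorem tr_full : ∀ i < Fi22_3510.nn, tr Fi22_3510.T [0] i = tr Fi22_3510.T fullW i := by
  intro i hi
  have h := ckX_spec i hi
  simp only [ckX, Bool.or_eq_true, Bool.and_eq_true] at h
  rcases h with h | h
  · have := Nat.le_of_ble_eq_true h; omega
  · rw [full_eq, fw_eq]; exact (Nat.eq_of_beq_eq_true h.1).symm

theorem tr_gpow : ∀ i < Fi22_3510.nn, tr Fi22_3510.T gpow i = tr Fi22_3510.T [] i := by
  intro i hi
  have h := ckX_spec i hi
  simp only [ckX, Bool.or_eq_true, Bool.and_eq_true] at h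
  rcases h with h | h
  · have := Nat.le_of_ble_eq_true h; omega
  · rw [gpow_eq, fg_eq]; exact Nat.eq_of_beq_eq_true h.2

theorem letters_lt : (∀ x ∈ wg, x < 9) ∧ (∀ x ∈ gpow, x < 9) ∧ (∀ x ∈ fullW, x < 9) := by
  decide +kernel

/-- upper bound for the order of the presented group -/
theorem card_le : Finite KG ∧ Nat.card KG ≤ 64561751654400 := by
  have h := card_le_step (edges₁ := FO7.edges) (extra₁ := FO7.extra) (edges := Fi22.edges) (extra := Fi22.extra)
    Fi22_14080.setup Fi22_14080.checks FO7.embFi22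
    (by intro a _ b _; cases a <;> cases b <;> decide)
    (by
      intro r hr
      simp only [FO7.extra, List.mem_cons, List.not_mem_nil, or_false] at hr
      rcases hr with rfl | rfl <;>
        simp [Fi22.extra, FO7.embFi22, map_mul, map_inv, map_pow, FreeGroup.map.of])
    (by
      intro w hw
      simp only [Fi22_14080.sw, List.mem_cons, List.not_mem_nil, or_false] at hw
      rcases hw with rfl | rfl | rfl | rfl | rfl | rfl | rfl | rfl
      · exact ⟨.b, rfl⟩
      · exact ⟨.c, rfl⟩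
      · exact ⟨.d, rfl⟩
      · exact ⟨.e, rfl⟩
      · exact ⟨.f, rfl⟩
      · exact ⟨.g, rfl⟩
      · exact ⟨.h, rfl⟩
      · exact ⟨.i, rfl⟩)
    4585351680 FiChain.card_le_O7
  exact ⟨h.1, h.2.trans (by decide)⟩

instance fact_p : Fact (Nat.Prime 13) := ⟨by norm_num⟩

theorem sizes_eq : ∀ j < 3, (fun j => if j = Fi22_3510.ol 0 then 0 else cnt (fun i => Nat.beq (Fi22_3510.ol i) j) Fi22_3510.nn) j =
    (fun j => if j = 0 then 0 else szl.getD j 0) j := by
  intro j hj
  interval_cases j <;> decide +kernel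

theorem hol_all : (∀ i < Fi22_3510.nn, Fi22_3510.ol i < 3) ∧ (∀ i < Fi22_3510.nn, Fi22_3510.ol i = Fi22_3510.ol 0 → i = 0) := by
  constructor
  · intro i hi
    have h := ckOl_spec i hi
    simp only [ckOl, Bool.or_eq_true, Bool.and_eq_true] at h
    rcases h with h | h
    · have := Nat.le_of_ble_eq_true h; omega
    · exact Nat.le_of_ble_eq_true h.1
  · intro i hi h0
    have h := ckOl_spec i hi
    simp only [ckOl, Bool.or_eq_true, Bool.and_eq_true] at h
    rcases h with h | h
    · have := Nat.le_of_ble_eq_true h; omega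
    · rcases h.2 with h2 | h2
      · exact Nat.eq_of_beq_eq_true h2
      · rw [h0, Nat.beq_refl] at h2; simp at h2

theorem normalClosure_top (hinj : Function.Injective (Fi22_3510.checks.phi Fi22_3510.setup)) :
    Subgroup.normalClosure {evr (cgen Fi22.edges Fi22.extra 9 Fi22_3510.ofIdx) wg} = (⊤ : Subgroup KG) := by
  set gen := cgen Fi22.edges Fi22.extra 9 Fi22_3510.ofIdx with hgen
  set N : Subgroup KG := Subgroup.normalClosure {evr gen wg} with hN
  have hinv := cgen_mul_self Fi22_3510.setup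
  have h0 : evr gen wg ∈ N := Subgroup.subset_normalClosure (Set.mem_singleton _)
  have hm0 : gen 0 ∈ N := by
    have e1 : evr gen [0] = evr gen fullW :=
      Fi22_3510.checks.evr_eq_of_tr Fi22_3510.setup hinj [0] fullW (by decide) letters_lt.2.2 tr_full
    rw [← evr_singleton gen 0, e1]
    exact ncFull_mem gen hinv N wg wu _ _ wy _ 0 h0
  have hm1 : gen 1 ∈ N := mem_of_relator gen hinv N [0]
    (by intro x hx; simp only [List.mem_cons, List.not_mem_nil, or_false] at hx; rcases hx with rfl <;> assumption)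
    [1, 0, 1, 0, 1, 0] (evr_cgen_rel Fi22_3510.setup _ (by rw [Fi22_3510.relWords_eq]; decide +kernel)) 1 (by decide +kernel)
  have hm2 : gen 2 ∈ N := mem_of_relator gen hinv N [0, 1]
    (by intro x hx; simp only [List.mem_cons, List.not_mem_nil, or_false] at hx; rcases hx with rfl | rfl <;> assumption)
    [2, 1, 2, 1, 2, 1] (evr_cgen_rel Fi22_3510.setup _ (by rw [Fi22_3510.relWords_eq]; decide +kernel)) 2 (by decide +kernel)
  have hm3 : gen 3 ∈ N := mem_of_relator gen hinv N [0, 1, 2]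
    (by intro x hx; simp only [List.mem_cons, List.not_mem_nil, or_false] at hx; rcases hx with rfl | rfl | rfl <;> assumption)
    [3, 2, 3, 2, 3, 2] (evr_cgen_rel Fi22_3510.setup _ (by rw [Fi22_3510.relWords_eq]; decide +kernel)) 3 (by decide +kernel)
  have hm4 : gen 4 ∈ N := mem_of_relator gen hinv N [0, 1, 2, 3]
    (by intro x hx; simp only [List.mem_cons, List.not_mem_nil, or_false] at hx; rcases hx with rfl | rfl | rfl | rfl <;> assumption)
    [4, 3, 4, 3, 4, 3] (evr_cgen_rel Fi22_3510.setup _ (by rw [Fi22_3510.relWords_eq]; decide +kernel)) 4 (by decide +kernel)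
  have hm7 : gen 7 ∈ N := mem_of_relator gen hinv N [0, 1, 2, 3, 4]
    (by intro x hx; simp only [List.mem_cons, List.not_mem_nil, or_false] at hx; rcases hx with rfl | rfl | rfl | rfl | rfl <;> assumption)
    [7, 3, 7, 3, 7, 3] (evr_cgen_rel Fi22_3510.setup _ (by rw [Fi22_3510.relWords_eq]; decide +kernel)) 7 (by decide +kernel)
  have hm5 : gen 5 ∈ N := mem_of_relator gen hinv N [0, 1, 2, 3, 4, 7]
    (by intro x hx; simp only [List.mem_cons, List.not_mem_nil, or_false] at hx; rcases hx with rfl | rfl | rfl | rfl | rfl | rfl <;> assumption)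
    [5, 4, 5, 4, 5, 4] (evr_cgen_rel Fi22_3510.setup _ (by rw [Fi22_3510.relWords_eq]; decide +kernel)) 5 (by decide +kernel)
  have hm6 : gen 6 ∈ N := mem_of_relator gen hinv N [0, 1, 2, 3, 4, 7, 5]
    (by intro x hx; simp only [List.mem_cons, List.not_mem_nil, or_false] at hx; rcases hx with rfl | rfl | rfl | rfl | rfl | rfl | rfl <;> assumption)
    [6, 5, 6, 5, 6, 5] (evr_cgen_rel Fi22_3510.setup _ (by rw [Fi22_3510.relWords_eq]; decide +kernel)) 6 (by decide +kernel)
  have hm8 : gen 8 ∈ N := mem_of_relator gen hinv N [0, 1, 2, 3, 4, 7, 5, 6]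
    (by intro x hx; simp only [List.mem_cons, List.not_mem_nil, or_false] at hx; rcases hx with rfl | rfl | rfl | rfl | rfl | rfl | rfl | rfl <;> assumption)
    [8, 7, 8, 7, 8, 7] (evr_cgen_rel Fi22_3510.setup _ (by rw [Fi22_3510.relWords_eq]; decide +kernel)) 8 (by decide +kernel)
  rw [eq_top_iff, ← cgen_closure Fi22_3510.setup, Subgroup.closure_le]
  rintro g ⟨x, hx, rfl⟩
  interval_cases x <;> assumption

theorem pow_eq_one (hinj : Function.Injective (Fi22_3510.checks.phi Fi22_3510.setup)) :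
    (evr (cgen Fi22.edges Fi22.extra 9 Fi22_3510.ofIdx) wg) ^ (13 ^ 1) = (1 : KG) := by
  have h1 : (evr (cgen Fi22.edges Fi22.extra 9 Fi22_3510.ofIdx) wg) ^ 13 = (1 : KG) := by
    rw [← evr_flatten_replicate]
    have := Fi22_3510.checks.evr_eq_of_tr Fi22_3510.setup hinj gpow [] letters_lt.2.1 (by simp) tr_gpow
    simpa [gpow, evr] using this
  rw [show (13 : ℕ) ^ 1 = 13 * 1 from by norm_num, pow_mul, h1, one_pow]

theorem harith : ∀ s ∈ sumsBelow (fun j => if j = Fi22_3510.ol 0 then 0 else cnt (fun i => Nat.beq (Fi22_3510.ol i) j) Fi22_3510.nn) 3,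
    (1 + s) ∣ Fi22_3510.nn → s = 0 ∨ 1 + s = Fi22_3510.nn := by
  rw [sumsBelow_congr _ _ 3 sizes_eq]
  decide +kernel

/-- the presented group is simple of order 64561751654400, and acts faithfully on the 3510 cosets -/
theorem simple_card : Function.Injective (Fi22_3510.checks.phi Fi22_3510.setup) ∧ IsSimpleGroup KG ∧
    Nat.card KG = 64561751654400 ∧ Nat.card (Fi22_3510.checks.phi Fi22_3510.setup).range = 64561751654400 := by
  obtain ⟨hfin, hle⟩ := card_le
  exact simple_card_of_table Fi22_3510.setup Fi22_3510.checks Fi22_3510.orbChecks 64561751654400 hfin hle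
    1 (by decide) (by decide +kernel) levels (ckChain_of_ckChainS _ _ _ _ _ (by decide +kernel)) (by decide +kernel)
    3 hol_all.1 hol_all.2 harith 13 1 4966288588800 (by norm_num) (by norm_num) (by decide)
    (evr (cgen Fi22.edges Fi22.extra 9 Fi22_3510.ofIdx) wg) pow_eq_one normalClosure_top (by decide)

end Cfsg.Agent.Lib.Helper25.TC.Fi22X
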