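import Cfsg.Agent.Lib.Helper25.TCU6Q_6336T

set_option autoImplicit false
set_option maxRecDepth 1000000
set_option linter.unusedVariables false
set_option Elab.async false

namespace Cfsg.Agent.Lib.Helper25.TC.U6Q_6336

open Cfsg.Agent.Lib.Helper25.TC

theorem k_certp_45 : allR (ckCert C nF) 9 23040 = true := by decide +kernel
theorem k_certp_46 : allR (ckCert C nF) 9 23552 = true := by decide +kernel
theorem k_certp_47 : allR (ckCert C nF) 9 24064 = true := by decide +kernel
theorem k_certp_48 : allR (ckCert C nF) 9 24576 = true := by decide +kernel
theorem k_certp_49 : allR (ckCert C nF) 9 25088 = true := by decide +kernel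
theorem k_certp_50 : allR (ckCert C nF) 9 25600 = true := by decide +kernel
theorem k_certp_51 : allR (ckCert C nF) 9 26112 = true := by decide +kernel
theorem k_certp_52 : allR (ckCert C nF) 9 26624 = true := by decide +kernel
theorem k_certp_53 : allR (ckCert C nF) 9 27136 = true := by decide +kernel
theorem k_certp_54 : allR (ckCert C nF) 9 27648 = true := by decide +kernel
theorem k_certp_55 : allR (ckCert C nF) 9 28160 = true := by decide +kernel
theorem k_certp_56 : allR (ckCert C nF) 9 28672 = true := by decide +kernel
theorem k_certp_57 : allR (ckCert C nF) 9 29184 = true := by decide +kernel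
theorem k_certp_58 : allR (ckCert C nF) 9 29696 = true := by decide +kernel
theorem k_certp_59 : allR (ckCert C nF) 9 30208 = true := by decide +kernel
theorem k_certp_60 : allR (ckCert C nF) 9 30720 = true := by decide +kernel
theorem k_certp_61 : allR (ckCert C nF) 9 31232 = true := by decide +kernel
theorem k_certp_62 : allR (ckCert C nF) 9 31744 = true := by decide +kernel
theorem k_certp_63 : allR (ckCert C nF) 9 32256 = true := by decide +kernel
theorem k_finp_0 : allR (ckFin C 8 nn nF can fin T) 9 0 = true := by decide +kernel
theorem k_finp_1 : allR (ckFin C 8 nn nF can fin T) 9 512 = true := by decide +kernel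
theorem k_finp_2 : allR (ckFin C 8 nn nF can fin T) 9 1024 = true := by decide +kernel
theorem k_finp_3 : allR (ckFin C 8 nn nF can fin T) 9 1536 = true := by decide +kernel
theorem k_finp_4 : allR (ckFin C 8 nn nF can fin T) 9 2048 = true := by decide +kernel
theorem k_finp_5 : allR (ckFin C 8 nn nF can fin T) 9 2560 = true := by decide +kernel
theorem k_finp_6 : allR (ckFin C 8 nn nF can fin T) 9 3072 = true := by decide +kernel
theorem k_finp_7 : allR (ckFin C 8 nn nF can fin T) 9 3584 = true := by decide +kernel
theorem k_finp_8 : allR (ckFin C 8 nn nF can fin T) 9 4096 = true := by decide +kernel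
theorem k_finp_9 : allR (ckFin C 8 nn nF can fin T) 9 4608 = true := by decide +kernel
theorem k_finp_10 : allR (ckFin C 8 nn nF can fin T) 9 5120 = true := by decide +kernel

end Cfsg.Agent.Lib.Helper25.TC.U6Q_6336
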