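import Cfsg.Agent.Lib.Helper25.TCU6Q_6336T

set_option autoImplicit false
set_option maxRecDepth 1000000
set_option linter.unusedVariables false
set_option Elab.async false

namespace Cfsg.Agent.Lib.Helper25.TC.U6Q_6336

open Cfsg.Agent.Lib.Helper25.TC

theorem k_finp_11 : allR (ckFin C 8 nn nF can fin T) 9 5632 = true := by decide +kernel
theorem k_finp_12 : allR (ckFin C 8 nn nF can fin T) 9 6144 = true := by decide +kernel
theorem k_finp_13 : allR (ckFin C 8 nn nF can fin T) 9 6656 = true := by decide +kernel
theorem k_finp_14 : allR (ckFin C 8 nn nF can fin T) 9 7168 = true := by decide +kernel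
theorem k_finp_15 : allR (ckFin C 8 nn nF can fin T) 9 7680 = true := by decide +kernel
theorem k_tblp_0 : allR (ckTbl 8 nn T) 9 0 = true := by decide +kernel
theorem k_tblp_1 : allR (ckTbl 8 nn T) 9 512 = true := by decide +kernel
theorem k_tblp_2 : allR (ckTbl 8 nn T) 9 1024 = true := by decide +kernel
theorem k_tblp_3 : allR (ckTbl 8 nn T) 9 1536 = true := by decide +kernel
theorem k_tblp_4 : allR (ckTbl 8 nn T) 9 2048 = true := by decide +kernel
theorem k_tblp_5 : allR (ckTbl 8 nn T) 9 2560 = true := by decide +kernel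
theorem k_tblp_6 : allR (ckTbl 8 nn T) 9 3072 = true := by decide +kernel
theorem k_tblp_7 : allR (ckTbl 8 nn T) 9 3584 = true := by decide +kernel
theorem k_tblp_8 : allR (ckTbl 8 nn T) 9 4096 = true := by decide +kernel
theorem k_tblp_9 : allR (ckTbl 8 nn T) 9 4608 = true := by decide +kernel
theorem k_tblp_10 : allR (ckTbl 8 nn T) 9 5120 = true := by decide +kernel
theorem k_tblp_11 : allR (ckTbl 8 nn T) 9 5632 = true := by decide +kernel
theorem k_tblp_12 : allR (ckTbl 8 nn T) 9 6144 = true := by decide +kernel
theorem k_tblp_13 : allR (ckTbl 8 nn T) 9 6656 = true := by decide +kernel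
theorem k_tblp_14 : allR (ckTbl 8 nn T) 9 7168 = true := by decide +kernel
theorem k_tblp_15 : allR (ckTbl 8 nn T) 9 7680 = true := by decide +kernel
theorem k_treep_0 : allR (ckTree 8 nn T bp bg) 12 0 = true := by decide +kernel
theorem k_treep_1 : allR (ckTree 8 nn T bp bg) 12 4096 = true := by decide +kernel
theorem k_oinvp_0 : allR (ckOrbInv nn T sw ol) 10 0 = true := by decide +kernel
theorem k_oinvp_1 : allR (ckOrbInv nn T sw ol) 10 1024 = true := by decide +kernel
theorem k_oinvp_2 : allR (ckOrbInv nn T sw ol) 10 2048 = true := by decide +kernel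
theorem k_oinvp_3 : allR (ckOrbInv nn T sw ol) 10 3072 = true := by decide +kernel
theorem k_oinvp_4 : allR (ckOrbInv nn T sw ol) 10 4096 = true := by decide +kernel
theorem k_oinvp_5 : allR (ckOrbInv nn T sw ol) 10 5120 = true := by decide +kernel
theorem k_oinvp_6 : allR (ckOrbInv nn T sw ol) 10 6144 = true := by decide +kernel
theorem k_oinvp_7 : allR (ckOrbInv nn T sw ol) 10 7168 = true := by decide +kernel
theorem k_otreep_0 : allR (ckOrbTree nn T sw roots ol op ow od) 11 0 = true := by decide +kernel
theorem k_otreep_1 : allR (ckOrbTree nn T sw roots ol op ow od) 11 2048 = true := by decide +kernel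
theorem k_otreep_2 : allR (ckOrbTree nn T sw roots ol op ow od) 11 4096 = true := by decide +kernel
theorem k_otreep_3 : allR (ckOrbTree nn T sw roots ol op ow od) 11 6144 = true := by decide +kernel

end Cfsg.Agent.Lib.Helper25.TC.U6Q_6336
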