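import Cfsg.Agent.Lib.Helper25.PresU6
import Cfsg.Agent.Lib.Helper25.TCMain
import Cfsg.Agent.Lib.Helper25.TCU6Q_6336P0
import Cfsg.Agent.Lib.Helper25.TCU6Q_6336P1
import Cfsg.Agent.Lib.Helper25.TCU6Q_6336P2
import Cfsg.Agent.Lib.Helper25.TCU6Q_6336P3
import Cfsg.Agent.Lib.Helper25.TCU6Q_6336P4

set_option autoImplicit false
set_option maxRecDepth 1000000
set_option linter.unusedVariables false
set_option linter.constructorNameAsVariable false
set_option linter.unusedSimpArgs false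

namespace Cfsg.Agent.Lib.Helper25.TC.U6Q_6336

open Cfsg.Spor Cfsg.Agent.Lib.Helper25.TC

def idx : Cfsg.Agent.Lib.Helper25.Pres.U6Q.Gen → Nat
  | .c => 0
  | .d => 1
  | .e => 2
  | .f => 3
  | .g => 4
  | .h => 5
  | .i => 6
  | .x => 7

def ofIdx : Nat → Cfsg.Agent.Lib.Helper25.Pres.U6Q.Gen
  | 0 => .c
  | 1 => .d
  | 2 => .e
  | 3 => .f
  | 4 => .g
  | 5 => .h
  | 6 => .i
  | 7 => .x
  | _ => .c

theorem setup : CoxSetup Cfsg.Agent.Lib.Helper25.Pres.U6Q.edges Cfsg.Agent.Lib.Helper25.Pres.U6Q.extra 8 idx ofIdx L extraW where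
  ofIdx_idx := by intro a; cases a <;> rfl
  idx_ofIdx := by intro x hx; interval_cases x <;> rfl
  idx_lt := by intro a; cases a <;> decide
  allNodes := by intro a; cases a <;> decide
  hL := by intro a b; cases a <;> cases b <;> decide
  hLsymm := by decide
  hextra := by
    unfold Cfsg.Agent.Lib.Helper25.Pres.U6Q.extra extraW
    refine List.Forall₂.cons ?_ (List.Forall₂.cons ?_ (List.Forall₂.cons ?_ (List.Forall₂.cons ?_ (List.Forall₂.nil))))
    all_goals
      intro K _ f hf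
      have hfi : ∀ x, (f x)⁻¹ = f x := fun x => inv_eq_of_mul_eq_one_left (hf x)
      simp only [map_mul, map_inv, map_pow, FreeGroup.lift_apply_of, idx, evr, pow_succ, pow_zero, one_mul,
        mul_inv_rev, hfi, mul_assoc]

theorem relWords_eq : coxWords 8 L ++ extraW = relWords := by decide +kernel

theorem fr_0_eq (i : Nat) : tr T [0, 0] i = fr_0 i := rfl
theorem fr_1_eq (i : Nat) : tr T [1, 0, 1, 0, 1, 0] i = fr_1 i := rfl
theorem fr_2_eq (i : Nat) : tr T [2, 0, 2, 0] i = fr_2 i := rfl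
theorem fr_3_eq (i : Nat) : tr T [3, 0, 3, 0] i = fr_3 i := rfl
theorem fr_4_eq (i : Nat) : tr T [4, 0, 4, 0] i = fr_4 i := rfl
theorem fr_5_eq (i : Nat) : tr T [5, 0, 5, 0] i = fr_5 i := rfl
theorem fr_6_eq (i : Nat) : tr T [6, 0, 6, 0] i = fr_6 i := rfl
theorem fr_7_eq (i : Nat) : tr T [7, 0, 7, 0] i = fr_7 i := rfl
theorem fr_8_eq (i : Nat) : tr T [1, 1] i = fr_8 i := rfl
theorem fr_9_eq (i : Nat) : tr T [2, 1, 2, 1, 2, 1] i = fr_9 i := rfl
theorem fr_10_eq (i : Nat) : tr T [3, 1, 3, 1] i = fr_10 i := rfl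
theorem fr_11_eq (i : Nat) : tr T [4, 1, 4, 1] i = fr_11 i := rfl
theorem fr_12_eq (i : Nat) : tr T [5, 1, 5, 1, 5, 1] i = fr_12 i := rfl
theorem fr_13_eq (i : Nat) : tr T [6, 1, 6, 1] i = fr_13 i := rfl
theorem fr_14_eq (i : Nat) : tr T [7, 1, 7, 1] i = fr_14 i := rfl
theorem fr_15_eq (i : Nat) : tr T [2, 2] i = fr_15 i := rfl
theorem fr_16_eq (i : Nat) : tr T [3, 2, 3, 2, 3, 2] i = fr_16 i := rfl
theorem fr_17_eq (i : Nat) : tr T [4, 2, 4, 2] i = fr_17 i := rfl
theorem fr_18_eq (i : Nat) : tr T [5, 2, 5, 2] i = fr_18 i := rfl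
theorem fr_19_eq (i : Nat) : tr T [6, 2, 6, 2] i = fr_19 i := rfl
theorem fr_20_eq (i : Nat) : tr T [7, 2, 7, 2] i = fr_20 i := rfl
theorem fr_21_eq (i : Nat) : tr T [3, 3] i = fr_21 i := rfl
theorem fr_22_eq (i : Nat) : tr T [4, 3, 4, 3, 4, 3] i = fr_22 i := rfl
theorem fr_23_eq (i : Nat) : tr T [5, 3, 5, 3] i = fr_23 i := rfl
theorem fr_24_eq (i : Nat) : tr T [6, 3, 6, 3] i = fr_24 i := rfl
theorem fr_25_eq (i : Nat) : tr T [7, 3, 7, 3, 7, 3] i = fr_25 i := rfl
theorem fr_26_eq (i : Nat) : tr T [4, 4] i = fr_26 i := rfl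
theorem fr_27_eq (i : Nat) : tr T [5, 4, 5, 4] i = fr_27 i := rfl
theorem fr_28_eq (i : Nat) : tr T [6, 4, 6, 4] i = fr_28 i := rfl
theorem fr_29_eq (i : Nat) : tr T [7, 4, 7, 4] i = fr_29 i := rfl
theorem fr_30_eq (i : Nat) : tr T [5, 5] i = fr_30 i := rfl
theorem fr_31_eq (i : Nat) : tr T [6, 5, 6, 5, 6, 5] i = fr_31 i := rfl
theorem fr_32_eq (i : Nat) : tr T [7, 5, 7, 5] i = fr_32 i := rfl
theorem fr_33_eq (i : Nat) : tr T [6, 6] i = fr_33 i := rfl
theorem fr_34_eq (i : Nat) : tr T [7, 6, 7, 6, 7, 6] i = fr_34 i := rfl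
theorem fr_35_eq (i : Nat) : tr T [7, 7] i = fr_35 i := rfl
theorem fr_36_eq (i : Nat) : tr T [6, 5, 4, 3, 2, 1, 0, 6, 5, 4, 3, 2, 1, 0, 6, 5, 4, 3, 2, 1, 0, 6, 5, 4, 3, 2, 1, 0, 6, 5, 4, 3, 2, 1, 0, 6, 5, 4, 3, 2, 1, 0, 6, 5, 4, 3, 2, 1, 0, 6, 5, 4, 3, 2, 1, 0, 6, 5, 4, 3, 2, 1, 0] i = fr_36 i := rfl
theorem fr_37_eq (i : Nat) : tr T [5, 6, 7, 3, 2, 1, 5, 6, 7, 3, 2, 1, 5, 6, 7, 3, 2, 1, 5, 6, 7, 3, 2, 1, 5, 6, 7, 3, 2, 1] i = fr_37 i := rfl
theorem fr_38_eq (i : Nat) : tr T [7, 6, 5, 2, 1, 0, 7, 6, 5, 2, 1, 0, 7, 6, 5, 2, 1, 0, 7, 6, 5, 2, 1, 0, 7, 6, 5, 2, 1, 0] i = fr_38 i := rfl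
theorem fr_39_eq (i : Nat) : tr T [5, 6, 7, 4, 3, 2, 5, 6, 7, 4, 3, 2, 5, 6, 7, 4, 3, 2, 5, 6, 7, 4, 3, 2, 5, 6, 7, 4, 3, 2] i = fr_39 i := rfl

theorem fastRel_eq (i : Nat) : ckRel nn T relWords i = fastRel i := by
  simp only [ckRel, relWords, List.all_cons, List.all_nil, fr_0_eq, fr_1_eq, fr_2_eq, fr_3_eq, fr_4_eq, fr_5_eq, fr_6_eq, fr_7_eq, fr_8_eq, fr_9_eq, fr_10_eq, fr_11_eq, fr_12_eq, fr_13_eq, fr_14_eq, fr_15_eq, fr_16_eq, fr_17_eq, fr_18_eq, fr_19_eq, fr_20_eq, fr_21_eq, fr_22_eq, fr_23_eq, fr_24_eq, fr_25_eq, fr_26_eq, fr_27_eq, fr_28_eq, fr_29_eq, fr_30_eq, fr_31_eq, fr_32_eq, fr_33_eq, fr_34_eq, fr_35_eq, fr_36_eq, fr_37_eq, fr_38_eq, fr_39_eq]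
  rfl

theorem k_rel_fast : allR fastRel 13 0 = true := (allR_join _ _ _ _ (by decide) (allR_join _ _ _ _ (by decide) (allR_join _ _ _ _ (by decide) (allR_join _ _ _ _ (by decide) (allR_join _ _ _ _ (by decide) (allR_join _ _ _ _ (by decide) k_relp_0 k_relp_1) (allR_join _ _ _ _ (by decide) k_relp_2 k_relp_3)) (allR_join _ _ _ _ (by decide) (allR_join _ _ _ _ (by decide) k_relp_4 k_relp_5) (allR_join _ _ _ _ (by decide) k_relp_6 k_relp_7))) (allR_join _ _ _ _ (by decide) (allR_join _ _ _ _ (by decide) (allR_join _ _ _ _ (by decide) k_relp_8 k_relp_9) (allR_join _ _ _ _ (by decide) k_relp_10 k_relp_11)) (allR_join _ _ _ _ (by decide) (allR_join _ _ _ _ (by decide) k_relp_12 k_relp_13) (allR_join _ _ _ _ (by decide) k_relp_14 k_relp_15)))) (allR_join _ _ _ _ (by decide) (allR_join _ _ _ _ (by decide) (allR_join _ _ _ _ (by decide) (allR_join _ _ _ _ (by decide) k_relp_16 k_relp_17) (allR_join _ _ _ _ (by decide) k_relp_18 k_relp_19))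 (allR_join _ _ _ _ (by decide) (allR_join _ _ _ _ (by decide) k_relp_20 k_relp_21) (allR_join _ _ _ _ (by decide) k_relp_22 k_relp_23))) (allR_join _ _ _ _ (by decide) (allR_join _ _ _ _ (by decide) (allR_join _ _ _ _ (by decide) k_relp_24 k_relp_25) (allR_join _ _ _ _ (by decide) k_relp_26 k_relp_27)) (allR_join _ _ _ _ (by decide) (allR_join _ _ _ _ (by decide) k_relp_28 k_relp_29) (allR_join _ _ _ _ (by decide) k_relp_30 k_relp_31))))) (allR_join _ _ _ _ (by decide) (allR_join _ _ _ _ (by decide) (allR_join _ _ _ _ (by decide) (allR_join _ _ _ _ (by decide) (allR_join _ _ _ _ (by decide) k_relp_32 k_relp_33) (allR_join _ _ _ _ (by decide) k_relp_34 k_relp_35)) (allR_join _ _ _ _ (by decide) (allR_join _ _ _ _ (by decide) k_relp_36 k_relp_37) (allR_join _ _ _ _ (by decide) k_relp_38 k_relp_39))) (allR_join _ _ _ _ (by decide) (allR_join _ _ _ _ (by decide) (allR_join _ _ _ _ (by decide) k_relp_40 k_relp_41) (allR_join _ _ _ _ (by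 decide) k_relp_42 k_relp_43)) (allR_join _ _ _ _ (by decide) (allR_join _ _ _ _ (by decide) k_relp_44 k_relp_45) (allR_join _ _ _ _ (by decide) k_relp_46 k_relp_47)))) (allR_join _ _ _ _ (by decide) (allR_join _ _ _ _ (by decide) (allR_join _ _ _ _ (by decide) (allR_join _ _ _ _ (by decide) k_relp_48 k_relp_49) (allR_join _ _ _ _ (by decide) k_relp_50 k_relp_51)) (allR_join _ _ _ _ (by decide) (allR_join _ _ _ _ (by decide) k_relp_52 k_relp_53) (allR_join _ _ _ _ (by decide) k_relp_54 k_relp_55))) (allR_join _ _ _ _ (by decide) (allR_join _ _ _ _ (by decide) (allR_join _ _ _ _ (by decide) k_relp_56 k_relp_57) (allR_join _ _ _ _ (by decide) k_relp_58 k_relp_59)) (allR_join _ _ _ _ (by decide) (allR_join _ _ _ _ (by decide) k_relp_60 k_relp_61) (allR_join _ _ _ _ (by decide) k_relp_62 k_relp_63))))))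

theorem k_cert : allR (ckCert C nF) 15 0 = true := (allR_join _ _ _ _ (by decide) (allR_join _ _ _ _ (by decide) (allR_join _ _ _ _ (by decide) (allR_join _ _ _ _ (by decide) (allR_join _ _ _ _ (by decide) (allR_join _ _ _ _ (by decide) k_certp_0 k_certp_1) (allR_join _ _ _ _ (by decide) k_certp_2 k_certp_3)) (allR_join _ _ _ _ (by decide) (allR_join _ _ _ _ (by decide) k_certp_4 k_certp_5) (allR_join _ _ _ _ (by decide) k_certp_6 k_certp_7))) (allR_join _ _ _ _ (by decide) (allR_join _ _ _ _ (by decide) (allR_join _ _ _ _ (by decide) k_certp_8 k_certp_9) (allR_join _ _ _ _ (by decide) k_certp_10 k_certp_11)) (allR_join _ _ _ _ (by decide) (allR_join _ _ _ _ (by decide) k_certp_12 k_certp_13) (allR_join _ _ _ _ (by decide) k_certp_14 k_certp_15)))) (allR_join _ _ _ _ (by decide) (allR_join _ _ _ _ (by decide) (allR_join _ _ _ _ (by decide) (allR_join _ _ _ _ (by decide) k_certp_16 k_certp_17) (allR_join _ _ _ _ (by decide) k_certp_18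 k_certp_19)) (allR_join _ _ _ _ (by decide) (allR_join _ _ _ _ (by decide) k_certp_20 k_certp_21) (allR_join _ _ _ _ (by decide) k_certp_22 k_certp_23))) (allR_join _ _ _ _ (by decide) (allR_join _ _ _ _ (by decide) (allR_join _ _ _ _ (by decide) k_certp_24 k_certp_25) (allR_join _ _ _ _ (by decide) k_certp_26 k_certp_27)) (allR_join _ _ _ _ (by decide) (allR_join _ _ _ _ (by decide) k_certp_28 k_certp_29) (allR_join _ _ _ _ (by decide) k_certp_30 k_certp_31))))) (allR_join _ _ _ _ (by decide) (allR_join _ _ _ _ (by decide) (allR_join _ _ _ _ (by decide) (allR_join _ _ _ _ (by decide) (allR_join _ _ _ _ (by decide) k_certp_32 k_certp_33) (allR_join _ _ _ _ (by decide) k_certp_34 k_certp_35)) (allR_join _ _ _ _ (by decide) (allR_join _ _ _ _ (by decide) k_certp_36 k_certp_37) (allR_join _ _ _ _ (by decide) k_certp_38 k_certp_39))) (allR_join _ _ _ _ (by decide) (allR_join _ _ _ _ (by decide) (allR_join _ _ _ _ (by decide) k_certp_40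 k_certp_41) (allR_join _ _ _ _ (by decide) k_certp_42 k_certp_43)) (allR_join _ _ _ _ (by decide) (allR_join _ _ _ _ (by decide) k_certp_44 k_certp_45) (allR_join _ _ _ _ (by decide) k_certp_46 k_certp_47)))) (allR_join _ _ _ _ (by decide) (allR_join _ _ _ _ (by decide) (allR_join _ _ _ _ (by decide) (allR_join _ _ _ _ (by decide) k_certp_48 k_certp_49) (allR_join _ _ _ _ (by decide) k_certp_50 k_certp_51)) (allR_join _ _ _ _ (by decide) (allR_join _ _ _ _ (by decide) k_certp_52 k_certp_53) (allR_join _ _ _ _ (by decide) k_certp_54 k_certp_55))) (allR_join _ _ _ _ (by decide) (allR_join _ _ _ _ (by decide) (allR_join _ _ _ _ (by decide) k_certp_56 k_certp_57) (allR_join _ _ _ _ (by decide) k_certp_58 k_certp_59)) (allR_join _ _ _ _ (by decide) (allR_join _ _ _ _ (by decide) k_certp_60 k_certp_61) (allR_join _ _ _ _ (by decide) k_certp_62 k_certp_63))))))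

theorem k_fin : allR (ckFin C 8 nn nF can fin T) 13 0 = true := (allR_join _ _ _ _ (by decide) (allR_join _ _ _ _ (by decide) (allR_join _ _ _ _ (by decide) (allR_join _ _ _ _ (by decide) k_finp_0 k_finp_1) (allR_join _ _ _ _ (by decide) k_finp_2 k_finp_3)) (allR_join _ _ _ _ (by decide) (allR_join _ _ _ _ (by decide) k_finp_4 k_finp_5) (allR_join _ _ _ _ (by decide) k_finp_6 k_finp_7))) (allR_join _ _ _ _ (by decide) (allR_join _ _ _ _ (by decide) (allR_join _ _ _ _ (by decide) k_finp_8 k_finp_9) (allR_join _ _ _ _ (by decide) k_finp_10 k_finp_11)) (allR_join _ _ _ _ (by decide) (allR_join _ _ _ _ (by decide) k_finp_12 k_finp_13) (allR_join _ _ _ _ (by decide) k_finp_14 k_finp_15))))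

theorem k_tbl : allR (ckTbl 8 nn T) 13 0 = true := (allR_join _ _ _ _ (by decide) (allR_join _ _ _ _ (by decide) (allR_join _ _ _ _ (by decide) (allR_join _ _ _ _ (by decide) k_tblp_0 k_tblp_1) (allR_join _ _ _ _ (by decide) k_tblp_2 k_tblp_3)) (allR_join _ _ _ _ (by decide) (allR_join _ _ _ _ (by decide) k_tblp_4 k_tblp_5) (allR_join _ _ _ _ (by decide) k_tblp_6 k_tblp_7))) (allR_join _ _ _ _ (by decide) (allR_join _ _ _ _ (by decide) (allR_join _ _ _ _ (by decide) k_tblp_8 k_tblp_9) (allR_join _ _ _ _ (by decide) k_tblp_10 k_tblp_11)) (allR_join _ _ _ _ (by decide) (allR_join _ _ _ _ (by decide) k_tblp_12 k_tblp_13) (allR_join _ _ _ _ (by decide) k_tblp_14 k_tblp_15))))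

theorem k_tree : allR (ckTree 8 nn T bp bg) 13 0 = true := (allR_join _ _ _ _ (by decide) k_treep_0 k_treep_1)

theorem k_oinv : allR (ckOrbInv nn T sw ol) 13 0 = true := (allR_join _ _ _ _ (by decide) (allR_join _ _ _ _ (by decide) (allR_join _ _ _ _ (by decide) k_oinvp_0 k_oinvp_1) (allR_join _ _ _ _ (by decide) k_oinvp_2 k_oinvp_3)) (allR_join _ _ _ _ (by decide) (allR_join _ _ _ _ (by decide) k_oinvp_4 k_oinvp_5) (allR_join _ _ _ _ (by decide) k_oinvp_6 k_oinvp_7)))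

theorem k_otree : allR (ckOrbTree nn T sw roots ol op ow od) 13 0 = true := (allR_join _ _ _ _ (by decide) (allR_join _ _ _ _ (by decide) k_otreep_0 k_otreep_1) (allR_join _ _ _ _ (by decide) k_otreep_2 k_otreep_3))

theorem checks : Checks 8 L extraW C nn nF T fin can bp bg sw where
  hn := by decide
  hns := by decide
  hsw := by decide +kernel
  hcyc := by decide +kernel
  hlet := by decide +kernel
  hletsw := by decide +kernel
  hsw0 := by decide +kernel
  hcan := by decide +kernel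
  cCert := by
    intro f hf
    have := all_lt_pow (ckCert C nF) nF 15 (by decide) k_cert f hf
    simp only [ckCert, Bool.or_eq_true] at this
    rcases this with h | h
    · have := Nat.le_of_ble_eq_true h; omega
    · exact h
  cFin := all_lt_pow _ nn 13 (by decide) k_fin
  cTbl := all_lt_pow _ nn 13 (by decide) k_tbl
  cRel := by
    intro i hi
    rw [relWords_eq, fastRel_eq]
    exact all_lt_pow fastRel nn 13 (by decide) k_rel_fast i hi
  cTree := all_lt_pow _ nn 13 (by decide) k_tree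

theorem orbChecks : OrbChecks nn T sw roots ol op ow od where
  cInv := all_lt_pow _ nn 13 (by decide) k_oinv
  cTree := all_lt_pow _ nn 13 (by decide) k_otree

end Cfsg.Agent.Lib.Helper25.TC.U6Q_6336
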