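import Cfsg.Agent.Lib.Helper25.TCFi22_3510I
import Cfsg.Agent.Lib.Helper25.TCU6Q_6336I

set_option autoImplicit false
set_option maxRecDepth 1000000
set_option linter.unusedVariables false

/-! Word identities in the presented Fischer group `Fi₂₂`, checked on the 3510 cosets. -/

namespace Cfsg.Agent.Lib.Helper25.TC.Fi22Y

open Cfsg.Spor Cfsg.Agent.Lib.Helper25.TC Cfsg.Agent.Lib.Helper25.TC.Fi22_3510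

/-- the transposition `x` commuting with `a` as a word -/
def xw : List Nat := [1, 2, 3, 7, 4, 3, 2, 1, 0, 1, 2, 3, 4, 7, 3, 2, 1]
/-- the images of the generators of the presented group `U₆(2)` -/
def qw : Nat → List Nat
  | 0 => [2] | 1 => [3] | 2 => [4] | 3 => [5] | 4 => [6] | 5 => [7] | 6 => [8] | 7 => xw
  | _ => []
/-- substitution of the images of the generators into a word -/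
def subst (w : List Nat) : List Nat := (w.map qw).flatten
/-- the word `(a b c d e h)^5` -/
def tw : List Nat := [7, 4, 3, 2, 1, 0, 7, 4, 3, 2, 1, 0, 7, 4, 3, 2, 1, 0, 7, 4, 3, 2, 1, 0, 7, 4, 3, 2, 1, 0]
/-- a conjugate of `c` -/
def cp : List Nat := [3, 4, 7, 3, 2, 3, 7, 4, 3]
def u1 : List Nat := [1]
def u6 : List Nat := [1, 0, 2, 1]
def W1 : List Nat := u1.reverse ++ [0] ++ u1 ++ [0]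
def W6 : List Nat := u6.reverse ++ [0] ++ u6 ++ [0]
/-- the right hand sides for the relators of the presented group `U₆(2)` -/
def rhsL : List (List Nat) := [[], [], [], [], [], [], [], [], [], [], [], [], [], [], [], [], [], [], [], [], [], [], [], [], [], [], [], [], [], [], [], [], [], [], [], [], [], [], [0], [0]]
def idL : Nat → List Nat
  | 0 => [0, 7, 4, 3, 2, 1, 0, 7, 4, 3, 2, 1, 0, 7, 4, 3, 2, 1, 0, 7, 4, 3, 2, 1, 0, 7, 4, 3, 2, 1, 0]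
  | 1 => [7, 4, 3, 2, 1, 0, 7, 4, 3, 2, 1, 0, 7, 4, 3, 2, 1, 0, 7, 4, 3, 2, 1, 0, 7, 4, 3, 2, 1, 0]
  | 2 => [2, 2]
  | 3 => [3, 2, 3, 2, 3, 2]
  | 4 => [4, 2, 4, 2]
  | 5 => [5, 2, 5, 2]
  | 6 => [6, 2, 6, 2]
  | 7 => [7, 2, 7, 2]
  | 8 => [8, 2, 8, 2]
  | 9 => [1, 2, 3, 7, 4, 3, 2, 1, 0, 1, 2, 3, 4, 7, 3, 2, 1, 2, 1, 2, 3, 7, 4, 3, 2, 1, 0, 1, 2, 3, 4, 7, 3, 2, 1, 2]
  | 10 => [3, 3]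
  | 11 => [4, 3, 4, 3, 4, 3]
  | 12 => [5, 3, 5, 3]
  | 13 => [6, 3, 6, 3]
  | 14 => [7, 3, 7, 3, 7, 3]
  | 15 => [8, 3, 8, 3]
  | 16 => [1, 2, 3, 7, 4, 3, 2, 1, 0, 1, 2, 3, 4, 7, 3, 2, 1, 3, 1, 2, 3, 7, 4, 3, 2, 1, 0, 1, 2, 3, 4, 7, 3, 2, 1, 3]
  | 17 => [4, 4]
  | 18 => [5, 4, 5, 4, 5, 4]
  | 19 => [6, 4, 6, 4]
  | 20 => [7, 4, 7, 4]
  | 21 => [8, 4, 8, 4]
  | 22 => [1, 2, 3, 7, 4, 3, 2, 1, 0, 1, 2, 3, 4, 7, 3, 2, 1, 4, 1, 2, 3, 7, 4, 3, 2, 1, 0, 1, 2, 3, 4, 7, 3, 2, 1, 4]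
  | 23 => [5, 5]
  | 24 => [6, 5, 6, 5, 6, 5]
  | 25 => [7, 5, 7, 5]
  | 26 => [8, 5, 8, 5]
  | 27 => [1, 2, 3, 7, 4, 3, 2, 1, 0, 1, 2, 3, 4, 7, 3, 2, 1, 5, 1, 2, 3, 7, 4, 3, 2, 1, 0, 1, 2, 3, 4, 7, 3, 2, 1, 5, 1, 2, 3, 7, 4, 3, 2, 1, 0, 1, 2, 3, 4, 7, 3, 2, 1, 5]
  | 28 => [6, 6]
  | 29 => [7, 6, 7, 6]
  | 30 => [8, 6, 8, 6]
  | 31 => [1, 2, 3, 7, 4, 3, 2, 1, 0, 1, 2, 3, 4, 7, 3, 2, 1, 6, 1, 2, 3, 7, 4, 3, 2, 1, 0, 1, 2, 3, 4, 7, 3, 2, 1, 6]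
  | 32 => [7, 7]
  | 33 => [8, 7, 8, 7, 8, 7]
  | 34 => [1, 2, 3, 7, 4, 3, 2, 1, 0, 1, 2, 3, 4, 7, 3, 2, 1, 7, 1, 2, 3, 7, 4, 3, 2, 1, 0, 1, 2, 3, 4, 7, 3, 2, 1, 7]
  | 35 => [8, 8]
  | 36 => [1, 2, 3, 7, 4, 3, 2, 1, 0, 1, 2, 3, 4, 7, 3, 2, 1, 8, 1, 2, 3, 7, 4, 3, 2, 1, 0, 1, 2, 3, 4, 7, 3, 2, 1, 8, 1, 2, 3, 7, 4, 3, 2, 1, 0, 1, 2, 3, 4, 7, 3, 2, 1, 8]
  | 37 => [1, 2, 3, 7, 4, 3, 2, 1, 0, 1, 2, 3, 4, 7, 3, 2, 1, 1, 2, 3, 7, 4, 3, 2, 1, 0, 1, 2, 3, 4, 7, 3, 2, 1]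
  | 38 => [8, 7, 6, 5, 4, 3, 2, 8, 7, 6, 5, 4, 3, 2, 8, 7, 6, 5, 4, 3, 2, 8, 7, 6, 5, 4, 3, 2, 8, 7, 6, 5, 4, 3, 2, 8, 7, 6, 5, 4, 3, 2, 8, 7, 6, 5, 4, 3, 2, 8, 7, 6, 5, 4, 3, 2, 8, 7, 6, 5, 4, 3, 2]
  | 39 => [7, 8, 1, 2, 3, 7, 4, 3, 2, 1, 0, 1, 2, 3, 4, 7, 3, 2, 1, 5, 4, 3, 7, 8, 1, 2, 3, 7, 4, 3, 2, 1, 0, 1, 2, 3, 4, 7, 3, 2, 1, 5, 4, 3, 7, 8, 1, 2, 3, 7, 4, 3, 2, 1, 0, 1, 2, 3, 4, 7, 3, 2, 1, 5, 4, 3, 7, 8, 1, 2, 3, 7, 4, 3, 2, 1, 0, 1, 2, 3, 4, 7, 3, 2, 1, 5, 4, 3, 7, 8, 1, 2, 3, 7, 4, 3, 2, 1, 0, 1, 2, 3, 4, 7, 3, 2, 1, 5, 4, 3]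
  | 40 => [1, 2, 3, 7, 4, 3, 2, 1, 0, 1, 2, 3, 4, 7, 3, 2, 1, 8, 7, 4, 3, 2, 1, 2, 3, 7, 4, 3, 2, 1, 0, 1, 2, 3, 4, 7, 3, 2, 1, 8, 7, 4, 3, 2, 1, 2, 3, 7, 4, 3, 2, 1, 0, 1, 2, 3, 4, 7, 3, 2, 1, 8, 7, 4, 3, 2, 1, 2, 3, 7, 4, 3, 2, 1, 0, 1, 2, 3, 4, 7, 3, 2, 1, 8, 7, 4, 3, 2, 1, 2, 3, 7, 4, 3, 2, 1, 0, 1, 2, 3, 4, 7, 3, 2, 1, 8, 7, 4, 3, 2]
  | 41 => [7, 8, 1, 2, 3, 7, 4, 3, 2, 1, 0, 1, 2, 3, 4, 7, 3, 2, 1, 6, 5, 4, 7, 8, 1, 2, 3, 7, 4, 3, 2, 1, 0, 1, 2, 3, 4, 7, 3, 2, 1, 6, 5, 4, 7, 8, 1, 2, 3, 7, 4, 3, 2, 1, 0, 1, 2, 3, 4, 7, 3, 2, 1, 6, 5, 4, 7, 8, 1, 2, 3, 7, 4, 3, 2, 1, 0, 1, 2, 3, 4, 7, 3, 2, 1, 6, 5, 4, 7, 8, 1, 2, 3, 7, 4, 3, 2, 1, 0, 1, 2, 3, 4, 7, 3, 2, 1, 6, 5, 4]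
  | 42 => [1, 0, 1, 0, 1, 0, 1, 0, 1, 0, 1, 0]
  | 43 => [1, 2, 0, 1, 0, 1, 0, 2, 1, 0, 1, 2, 0, 1, 0, 1, 0, 2, 1, 0]
  | 44 => [0, 2]
  | 45 => [0, 3]
  | 46 => [0, 4]
  | 47 => [0, 5]
  | 48 => [0, 6]
  | 49 => [0, 7]
  | 50 => [0, 8]
  | _ => []
def idR : Nat → List Nat
  | 0 => [7, 4, 3, 2, 1, 0, 7, 4, 3, 2, 1, 0, 7, 4, 3, 2, 1, 0, 7, 4, 3, 2, 1, 0, 7, 4, 3, 2, 1, 0, 0]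
  | 1 => [0, 1, 2, 3, 7, 4, 3, 2, 1, 0, 1, 2, 3, 4, 7, 3, 2, 1, 2, 3, 4, 7, 3, 2, 3, 7, 4, 3, 4, 7]
  | 2 => []
  | 3 => []
  | 4 => []
  | 5 => []
  | 6 => []
  | 7 => []
  | 8 => []
  | 9 => []
  | 10 => []
  | 11 => []
  | 12 => []
  | 13 => []
  | 14 => []
  | 15 => []
  | 16 => []
  | 17 => []
  | 18 => []
  | 19 => []
  | 20 => []
  | 21 => []
  | 22 => []
  | 23 => []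
  | 24 => []
  | 25 => []
  | 26 => []
  | 27 => []
  | 28 => []
  | 29 => []
  | 30 => []
  | 31 => []
  | 32 => []
  | 33 => []
  | 34 => []
  | 35 => []
  | 36 => []
  | 37 => []
  | 38 => []
  | 39 => []
  | 40 => [0]
  | 41 => [0]
  | 42 => []
  | 43 => []
  | 44 => [2, 0]
  | 45 => [3, 0]
  | 46 => [4, 0]
  | 47 => [5, 0]
  | 48 => [6, 0]
  | 49 => [7, 0]
  | 50 => [8, 0]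
  | _ => []
def fl0 (i : Nat) : Nat := T0 (T1 (T2 (T3 (T4 (T7 (T0 (T1 (T2 (T3 (T4 (T7 (T0 (T1 (T2 (T3 (T4 (T7 (T0 (T1 (T2 (T3 (T4 (T7 (T0 (T1 (T2 (T3 (T4 (T7 (T0 i))))))))))))))))))))))))))))))
def fr0 (i : Nat) : Nat := T0 (T0 (T1 (T2 (T3 (T4 (T7 (T0 (T1 (T2 (T3 (T4 (T7 (T0 (T1 (T2 (T3 (T4 (T7 (T0 (T1 (T2 (T3 (T4 (T7 (T0 (T1 (T2 (T3 (T4 (T7 i))))))))))))))))))))))))))))))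
def fl1 (i : Nat) : Nat := T0 (T1 (T2 (T3 (T4 (T7 (T0 (T1 (T2 (T3 (T4 (T7 (T0 (T1 (T2 (T3 (T4 (T7 (T0 (T1 (T2 (T3 (T4 (T7 (T0 (T1 (T2 (T3 (T4 (T7 i)))))))))))))))))))))))))))))
def fr1 (i : Nat) : Nat := T7 (T4 (T3 (T4 (T7 (T3 (T2 (T3 (T7 (T4 (T3 (T2 (T1 (T2 (T3 (T7 (T4 (T3 (T2 (T1 (T0 (T1 (T2 (T3 (T4 (T7 (T3 (T2 (T1 (T0 i)))))))))))))))))))))))))))))
def fl2 (i : Nat) : Nat := T2 (T2 i)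
def fr2 (i : Nat) : Nat := i
def fl3 (i : Nat) : Nat := T2 (T3 (T2 (T3 (T2 (T3 i)))))
def fr3 (i : Nat) : Nat := i
def fl4 (i : Nat) : Nat := T2 (T4 (T2 (T4 i)))
def fr4 (i : Nat) : Nat := i
def fl5 (i : Nat) : Nat := T2 (T5 (T2 (T5 i)))
def fr5 (i : Nat) : Nat := i
def fl6 (i : Nat) : Nat := T2 (T6 (T2 (T6 i)))
def fr6 (i : Nat) : Nat := i
def fl7 (i : Nat) : Nat := T2 (T7 (T2 (T7 i)))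
def fr7 (i : Nat) : Nat := i
def fl8 (i : Nat) : Nat := T2 (T8 (T2 (T8 i)))
def fr8 (i : Nat) : Nat := i
def fl9 (i : Nat) : Nat := T2 (T1 (T2 (T3 (T7 (T4 (T3 (T2 (T1 (T0 (T1 (T2 (T3 (T4 (T7 (T3 (T2 (T1 (T2 (T1 (T2 (T3 (T7 (T4 (T3 (T2 (T1 (T0 (T1 (T2 (T3 (T4 (T7 (T3 (T2 (T1 i)))))))))))))))))))))))))))))))))))
def fr9 (i : Nat) : Nat := i
def fl10 (i : Nat) : Nat := T3 (T3 i)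
def fr10 (i : Nat) : Nat := i
def fl11 (i : Nat) : Nat := T3 (T4 (T3 (T4 (T3 (T4 i)))))
def fr11 (i : Nat) : Nat := i
def fl12 (i : Nat) : Nat := T3 (T5 (T3 (T5 i)))
def fr12 (i : Nat) : Nat := i
def fl13 (i : Nat) : Nat := T3 (T6 (T3 (T6 i)))
def fr13 (i : Nat) : Nat := i
def fl14 (i : Nat) : Nat := T3 (T7 (T3 (T7 (T3 (T7 i)))))
def fr14 (i : Nat) : Nat := i
def fl15 (i : Nat) : Nat := T3 (T8 (T3 (T8 i)))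
def fr15 (i : Nat) : Nat := i
def fl16 (i : Nat) : Nat := T3 (T1 (T2 (T3 (T7 (T4 (T3 (T2 (T1 (T0 (T1 (T2 (T3 (T4 (T7 (T3 (T2 (T1 (T3 (T1 (T2 (T3 (T7 (T4 (T3 (T2 (T1 (T0 (T1 (T2 (T3 (T4 (T7 (T3 (T2 (T1 i)))))))))))))))))))))))))))))))))))
def fr16 (i : Nat) : Nat := i
def fl17 (i : Nat) : Nat := T4 (T4 i)
def fr17 (i : Nat) : Nat := i
def fl18 (i : Nat) : Nat := T4 (T5 (T4 (T5 (T4 (T5 i)))))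
def fr18 (i : Nat) : Nat := i
def fl19 (i : Nat) : Nat := T4 (T6 (T4 (T6 i)))
def fr19 (i : Nat) : Nat := i
def fl20 (i : Nat) : Nat := T4 (T7 (T4 (T7 i)))
def fr20 (i : Nat) : Nat := i
def fl21 (i : Nat) : Nat := T4 (T8 (T4 (T8 i)))
def fr21 (i : Nat) : Nat := i
def fl22 (i : Nat) : Nat := T4 (T1 (T2 (T3 (T7 (T4 (T3 (T2 (T1 (T0 (T1 (T2 (T3 (T4 (T7 (T3 (T2 (T1 (T4 (T1 (T2 (T3 (T7 (T4 (T3 (T2 (T1 (T0 (T1 (T2 (T3 (T4 (T7 (T3 (T2 (T1 i)))))))))))))))))))))))))))))))))))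
def fr22 (i : Nat) : Nat := i
def fl23 (i : Nat) : Nat := T5 (T5 i)
def fr23 (i : Nat) : Nat := i
def fl24 (i : Nat) : Nat := T5 (T6 (T5 (T6 (T5 (T6 i)))))
def fr24 (i : Nat) : Nat := i
def fl25 (i : Nat) : Nat := T5 (T7 (T5 (T7 i)))
def fr25 (i : Nat) : Nat := i
def fl26 (i : Nat) : Nat := T5 (T8 (T5 (T8 i)))
def fr26 (i : Nat) : Nat := i
def fl27 (i : Nat) : Nat := T5 (T1 (T2 (T3 (T7 (T4 (T3 (T2 (T1 (T0 (T1 (T2 (T3 (T4 (T7 (T3 (T2 (T1 (T5 (T1 (T2 (T3 (T7 (T4 (T3 (T2 (T1 (T0 (T1 (T2 (T3 (T4 (T7 (T3 (T2 (T1 (T5 (T1 (T2 (T3 (T7 (T4 (T3 (T2 (T1 (T0 (T1 (T2 (T3 (T4 (T7 (T3 (T2 (T1 i)))))))))))))))))))))))))))))))))))))))))))))))))))))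
def fr27 (i : Nat) : Nat := i
def fl28 (i : Nat) : Nat := T6 (T6 i)
def fr28 (i : Nat) : Nat := i
def fl29 (i : Nat) : Nat := T6 (T7 (T6 (T7 i)))
def fr29 (i : Nat) : Nat := i
def fl30 (i : Nat) : Nat := T6 (T8 (T6 (T8 i)))
def fr30 (i : Nat) : Nat := i
def fl31 (i : Nat) : Nat := T6 (T1 (T2 (T3 (T7 (T4 (T3 (T2 (T1 (T0 (T1 (T2 (T3 (T4 (T7 (T3 (T2 (T1 (T6 (T1 (T2 (T3 (T7 (T4 (T3 (T2 (T1 (T0 (T1 (T2 (T3 (T4 (T7 (T3 (T2 (T1 i)))))))))))))))))))))))))))))))))))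
def fr31 (i : Nat) : Nat := i
def fl32 (i : Nat) : Nat := T7 (T7 i)
def fr32 (i : Nat) : Nat := i
def fl33 (i : Nat) : Nat := T7 (T8 (T7 (T8 (T7 (T8 i)))))
def fr33 (i : Nat) : Nat := i
def fl34 (i : Nat) : Nat := T7 (T1 (T2 (T3 (T7 (T4 (T3 (T2 (T1 (T0 (T1 (T2 (T3 (T4 (T7 (T3 (T2 (T1 (T7 (T1 (T2 (T3 (T7 (T4 (T3 (T2 (T1 (T0 (T1 (T2 (T3 (T4 (T7 (T3 (T2 (T1 i)))))))))))))))))))))))))))))))))))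
def fr34 (i : Nat) : Nat := i
def fl35 (i : Nat) : Nat := T8 (T8 i)
def fr35 (i : Nat) : Nat := i
def fl36 (i : Nat) : Nat := T8 (T1 (T2 (T3 (T7 (T4 (T3 (T2 (T1 (T0 (T1 (T2 (T3 (T4 (T7 (T3 (T2 (T1 (T8 (T1 (T2 (T3 (T7 (T4 (T3 (T2 (T1 (T0 (T1 (T2 (T3 (T4 (T7 (T3 (T2 (T1 (T8 (T1 (T2 (T3 (T7 (T4 (T3 (T2 (T1 (T0 (T1 (T2 (T3 (T4 (T7 (T3 (T2 (T1 i)))))))))))))))))))))))))))))))))))))))))))))))))))))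
def fr36 (i : Nat) : Nat := i
def fl37 (i : Nat) : Nat := T1 (T2 (T3 (T7 (T4 (T3 (T2 (T1 (T0 (T1 (T2 (T3 (T4 (T7 (T3 (T2 (T1 (T1 (T2 (T3 (T7 (T4 (T3 (T2 (T1 (T0 (T1 (T2 (T3 (T4 (T7 (T3 (T2 (T1 i)))))))))))))))))))))))))))))))))
def fr37 (i : Nat) : Nat := i
def fl38 (i : Nat) : Nat := T2 (T3 (T4 (T5 (T6 (T7 (T8 (T2 (T3 (T4 (T5 (T6 (T7 (T8 (T2 (T3 (T4 (T5 (T6 (T7 (T8 (T2 (T3 (T4 (T5 (T6 (T7 (T8 (T2 (T3 (T4 (T5 (T6 (T7 (T8 (T2 (T3 (T4 (T5 (T6 (T7 (T8 (T2 (T3 (T4 (T5 (T6 (T7 (T8 (T2 (T3 (T4 (T5 (T6 (T7 (T8 (T2 (T3 (T4 (T5 (T6 (T7 (T8 i))))))))))))))))))))))))))))))))))))))))))))))))))))))))))))))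
def fr38 (i : Nat) : Nat := i
def fl39 (i : Nat) : Nat := T3 (T4 (T5 (T1 (T2 (T3 (T7 (T4 (T3 (T2 (T1 (T0 (T1 (T2 (T3 (T4 (T7 (T3 (T2 (T1 (T8 (T7 (T3 (T4 (T5 (T1 (T2 (T3 (T7 (T4 (T3 (T2 (T1 (T0 (T1 (T2 (T3 (T4 (T7 (T3 (T2 (T1 (T8 (T7 (T3 (T4 (T5 (T1 (T2 (T3 (T7 (T4 (T3 (T2 (T1 (T0 (T1 (T2 (T3 (T4 (T7 (T3 (T2 (T1 (T8 (T7 (T3 (T4 (T5 (T1 (T2 (T3 (T7 (T4 (T3 (T2 (T1 (T0 (T1 (T2 (T3 (T4 (T7 (T3 (T2 (T1 (T8 (T7 (T3 (T4 (T5 (T1 (T2 (T3 (T7 (T4 (T3 (T2 (T1 (T0 (T1 (T2 (T3 (T4 (T7 (T3 (T2 (T1 (T8 (T7 i)))))))))))))))))))))))))))))))))))))))))))))))))))))))))))))))))))))))))))))))))))))))))))))))))))))))))))))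
def fr39 (i : Nat) : Nat := i
def fl40 (i : Nat) : Nat := T2 (T3 (T4 (T7 (T8 (T1 (T2 (T3 (T7 (T4 (T3 (T2 (T1 (T0 (T1 (T2 (T3 (T4 (T7 (T3 (T2 (T1 (T2 (T3 (T4 (T7 (T8 (T1 (T2 (T3 (T7 (T4 (T3 (T2 (T1 (T0 (T1 (T2 (T3 (T4 (T7 (T3 (T2 (T1 (T2 (T3 (T4 (T7 (T8 (T1 (T2 (T3 (T7 (T4 (T3 (T2 (T1 (T0 (T1 (T2 (T3 (T4 (T7 (T3 (T2 (T1 (T2 (T3 (T4 (T7 (T8 (T1 (T2 (T3 (T7 (T4 (T3 (T2 (T1 (T0 (T1 (T2 (T3 (T4 (T7 (T3 (T2 (T1 (T2 (T3 (T4 (T7 (T8 (T1 (T2 (T3 (T7 (T4 (T3 (T2 (T1 (T0 (T1 (T2 (T3 (T4 (T7 (T3 (T2 (T1 i)))))))))))))))))))))))))))))))))))))))))))))))))))))))))))))))))))))))))))))))))))))))))))))))))))))))))))))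
def fr40 (i : Nat) : Nat := T0 i
def fl41 (i : Nat) : Nat := T4 (T5 (T6 (T1 (T2 (T3 (T7 (T4 (T3 (T2 (T1 (T0 (T1 (T2 (T3 (T4 (T7 (T3 (T2 (T1 (T8 (T7 (T4 (T5 (T6 (T1 (T2 (T3 (T7 (T4 (T3 (T2 (T1 (T0 (T1 (T2 (T3 (T4 (T7 (T3 (T2 (T1 (T8 (T7 (T4 (T5 (T6 (T1 (T2 (T3 (T7 (T4 (T3 (T2 (T1 (T0 (T1 (T2 (T3 (T4 (T7 (T3 (T2 (T1 (T8 (T7 (T4 (T5 (T6 (T1 (T2 (T3 (T7 (T4 (T3 (T2 (T1 (T0 (T1 (T2 (T3 (T4 (T7 (T3 (T2 (T1 (T8 (T7 (T4 (T5 (T6 (T1 (T2 (T3 (T7 (T4 (T3 (T2 (T1 (T0 (T1 (T2 (T3 (T4 (T7 (T3 (T2 (T1 (T8 (T7 i)))))))))))))))))))))))))))))))))))))))))))))))))))))))))))))))))))))))))))))))))))))))))))))))))))))))))))))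
def fr41 (i : Nat) : Nat := T0 i
def fl42 (i : Nat) : Nat := T0 (T1 (T0 (T1 (T0 (T1 (T0 (T1 (T0 (T1 (T0 (T1 i)))))))))))
def fr42 (i : Nat) : Nat := i
def fl43 (i : Nat) : Nat := T0 (T1 (T2 (T0 (T1 (T0 (T1 (T0 (T2 (T1 (T0 (T1 (T2 (T0 (T1 (T0 (T1 (T0 (T2 (T1 i)))))))))))))))))))
def fr43 (i : Nat) : Nat := i
def fl44 (i : Nat) : Nat := T2 (T0 i)
def fr44 (i : Nat) : Nat := T0 (T2 i)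
def fl45 (i : Nat) : Nat := T3 (T0 i)
def fr45 (i : Nat) : Nat := T0 (T3 i)
def fl46 (i : Nat) : Nat := T4 (T0 i)
def fr46 (i : Nat) : Nat := T0 (T4 i)
def fl47 (i : Nat) : Nat := T5 (T0 i)
def fr47 (i : Nat) : Nat := T0 (T5 i)
def fl48 (i : Nat) : Nat := T6 (T0 i)
def fr48 (i : Nat) : Nat := T0 (T6 i)
def fl49 (i : Nat) : Nat := T7 (T0 i)
def fr49 (i : Nat) : Nat := T0 (T7 i)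
def fl50 (i : Nat) : Nat := T8 (T0 i)
def fr50 (i : Nat) : Nat := T0 (T8 i)
def ckY (i : Nat) : Bool := Nat.ble nn i || (Nat.beq (fl0 i) (fr0 i) && (Nat.beq (fl1 i) (fr1 i) && (Nat.beq (fl2 i) (fr2 i) && (Nat.beq (fl3 i) (fr3 i) && (Nat.beq (fl4 i) (fr4 i) && (Nat.beq (fl5 i) (fr5 i) && (Nat.beq (fl6 i) (fr6 i) && (Nat.beq (fl7 i) (fr7 i) && (Nat.beq (fl8 i) (fr8 i) && (Nat.beq (fl9 i) (fr9 i) && (Nat.beq (fl10 i) (fr10 i) && (Nat.beq (fl11 i) (fr11 i) && (Nat.beq (fl12 i) (fr12 i) && (Nat.beq (fl13 i) (fr13 i) && (Nat.beq (fl14 i) (fr14 i) && (Nat.beq (fl15 i) (fr15 i) && (Nat.beq (fl16 i) (fr16 i) && (Nat.beq (fl17 i) (fr17 i) && (Nat.beq (fl18 i) (fr18 i) && (Nat.beq (fl19 i) (fr19 i) && (Nat.beq (fl20 i) (fr20 i) && (Nat.beq (fl21 i) (fr21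 i) && (Nat.beq (fl22 i) (fr22 i) && (Nat.beq (fl23 i) (fr23 i) && (Nat.beq (fl24 i) (fr24 i) && (Nat.beq (fl25 i) (fr25 i) && (Nat.beq (fl26 i) (fr26 i) && (Nat.beq (fl27 i) (fr27 i) && (Nat.beq (fl28 i) (fr28 i) && (Nat.beq (fl29 i) (fr29 i) && (Nat.beq (fl30 i) (fr30 i) && (Nat.beq (fl31 i) (fr31 i) && (Nat.beq (fl32 i) (fr32 i) && (Nat.beq (fl33 i) (fr33 i) && (Nat.beq (fl34 i) (fr34 i) && (Nat.beq (fl35 i) (fr35 i) && (Nat.beq (fl36 i) (fr36 i) && (Nat.beq (fl37 i) (fr37 i) && (Nat.beq (fl38 i) (fr38 i) && (Nat.beq (fl39 i) (fr39 i) && (Nat.beq (fl40 i) (fr40 i) && (Nat.beq (fl41 i) (fr41 i) && (Nat.beq (fl42 i) (fr42 i) && (Nat.beq (fl43 i) (fr43 i) && (Nat.beq (fl44 i) (fr44 i) && (Nat.beq (fl45 i) (fr45 i) && (Nat.beq (fl46 i) (fr46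 i) && (Nat.beq (fl47 i) (fr47 i) && (Nat.beq (fl48 i) (fr48 i) && (Nat.beq (fl49 i) (fr49 i) && (Nat.beq (fl50 i) (fr50 i) && true)))))))))))))))))))))))))))))))))))))))))))))))))))

end Cfsg.Agent.Lib.Helper25.TC.Fi22Y
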