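import Cfsg.Agent.Lib.Helper25.TCFi22Y

set_option autoImplicit false
set_option maxRecDepth 1000000
set_option linter.unusedVariables false
set_option Elab.async false

namespace Cfsg.Agent.Lib.Helper25.TC.Fi22Y

open Cfsg.Agent.Lib.Helper25.TC Cfsg.Agent.Lib.Helper25.TC.Fi22_3510

theorem k_yp_0 : allR ckY 6 0 = true := by decide +kernel
theorem k_yp_1 : allR ckY 6 64 = true := by decide +kernel
theorem k_yp_2 : allR ckY 6 128 = true := by decide +kernel
theorem k_yp_3 : allR ckY 6 192 = true := by decide +kernel
theorem k_yp_4 : allR ckY 6 256 = true := by decide +kernel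
theorem k_yp_5 : allR ckY 6 320 = true := by decide +kernel
theorem k_yp_6 : allR ckY 6 384 = true := by decide +kernel
theorem k_yp_7 : allR ckY 6 448 = true := by decide +kernel
theorem k_yp_8 : allR ckY 6 512 = true := by decide +kernel
theorem k_yp_9 : allR ckY 6 576 = true := by decide +kernel
theorem k_yp_10 : allR ckY 6 640 = true := by decide +kernel
theorem k_yp_11 : allR ckY 6 704 = true := by decide +kernel
theorem k_yp_12 : allR ckY 6 768 = true := by decide +kernel
theorem k_yp_13 : allR ckY 6 832 = true := by decide +kernel
theorem k_yp_14 : allR ckY 6 896 = true := by decide +kernel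
theorem k_yp_15 : allR ckY 6 960 = true := by decide +kernel
theorem k_yp_16 : allR ckY 6 1024 = true := by decide +kernel
theorem k_yp_17 : allR ckY 6 1088 = true := by decide +kernel
theorem k_yp_18 : allR ckY 6 1152 = true := by decide +kernel
theorem k_yp_19 : allR ckY 6 1216 = true := by decide +kernel

end Cfsg.Agent.Lib.Helper25.TC.Fi22Y
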