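import Cfsg.Agent.Lib.Helper25.TCFi22Y

set_option autoImplicit false
set_option maxRecDepth 1000000
set_option linter.unusedVariables false
set_option Elab.async false

namespace Cfsg.Agent.Lib.Helper25.TC.Fi22Y

open Cfsg.Agent.Lib.Helper25.TC Cfsg.Agent.Lib.Helper25.TC.Fi22_3510

theorem k_yp_20 : allR ckY 6 1280 = true := by decide +kernel
theorem k_yp_21 : allR ckY 6 1344 = true := by decide +kernel
theorem k_yp_22 : allR ckY 6 1408 = true := by decide +kernel
theorem k_yp_23 : allR ckY 6 1472 = true := by decide +kernel
theorem k_yp_24 : allR ckY 6 1536 = true := by decide +kernel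
theorem k_yp_25 : allR ckY 6 1600 = true := by decide +kernel
theorem k_yp_26 : allR ckY 6 1664 = true := by decide +kernel
theorem k_yp_27 : allR ckY 6 1728 = true := by decide +kernel
theorem k_yp_28 : allR ckY 6 1792 = true := by decide +kernel
theorem k_yp_29 : allR ckY 6 1856 = true := by decide +kernel
theorem k_yp_30 : allR ckY 6 1920 = true := by decide +kernel
theorem k_yp_31 : allR ckY 6 1984 = true := by decide +kernel
theorem k_yp_32 : allR ckY 6 2048 = true := by decide +kernel
theorem k_yp_33 : allR ckY 6 2112 = true := by decide +kernel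
theorem k_yp_34 : allR ckY 6 2176 = true := by decide +kernel
theorem k_yp_35 : allR ckY 6 2240 = true := by decide +kernel
theorem k_yp_36 : allR ckY 6 2304 = true := by decide +kernel
theorem k_yp_37 : allR ckY 6 2368 = true := by decide +kernel
theorem k_yp_38 : allR ckY 6 2432 = true := by decide +kernel
theorem k_yp_39 : allR ckY 6 2496 = true := by decide +kernel

end Cfsg.Agent.Lib.Helper25.TC.Fi22Y
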