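import Cfsg.Agent.Lib.Helper25.TCFi22Y

set_option autoImplicit false
set_option maxRecDepth 1000000
set_option linter.unusedVariables false
set_option Elab.async false

namespace Cfsg.Agent.Lib.Helper25.TC.Fi22Y

open Cfsg.Agent.Lib.Helper25.TC Cfsg.Agent.Lib.Helper25.TC.Fi22_3510

theorem k_yp_40 : allR ckY 6 2560 = true := by decide +kernel
theorem k_yp_41 : allR ckY 6 2624 = true := by decide +kernel
theorem k_yp_42 : allR ckY 6 2688 = true := by decide +kernel
theorem k_yp_43 : allR ckY 6 2752 = true := by decide +kernel
theorem k_yp_44 : allR ckY 6 2816 = true := by decide +kernel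
theorem k_yp_45 : allR ckY 6 2880 = true := by decide +kernel
theorem k_yp_46 : allR ckY 6 2944 = true := by decide +kernel
theorem k_yp_47 : allR ckY 6 3008 = true := by decide +kernel
theorem k_yp_48 : allR ckY 6 3072 = true := by decide +kernel
theorem k_yp_49 : allR ckY 6 3136 = true := by decide +kernel
theorem k_yp_50 : allR ckY 6 3200 = true := by decide +kernel
theorem k_yp_51 : allR ckY 6 3264 = true := by decide +kernel
theorem k_yp_52 : allR ckY 6 3328 = true := by decide +kernel
theorem k_yp_53 : allR ckY 6 3392 = true := by decide +kernel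
theorem k_yp_54 : allR ckY 6 3456 = true := by decide +kernel
theorem k_yp_55 : allR ckY 6 3520 = true := by decide +kernel
theorem k_yp_56 : allR ckY 6 3584 = true := by decide +kernel
theorem k_yp_57 : allR ckY 6 3648 = true := by decide +kernel
theorem k_yp_58 : allR ckY 6 3712 = true := by decide +kernel
theorem k_yp_59 : allR ckY 6 3776 = true := by decide +kernel
theorem k_yp_60 : allR ckY 6 3840 = true := by decide +kernel
theorem k_yp_61 : allR ckY 6 3904 = true := by decide +kernel
theorem k_yp_62 : allR ckY 6 3968 = true := by decide +kernel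
theorem k_yp_63 : allR ckY 6 4032 = true := by decide +kernel

end Cfsg.Agent.Lib.Helper25.TC.Fi22Y
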