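import Cfsg.Agent.Lib.Helper25.TCFi22Y
import Cfsg.Agent.Lib.Helper25.TCFi22YP0
import Cfsg.Agent.Lib.Helper25.TCFi22YP1
import Cfsg.Agent.Lib.Helper25.TCFi22YP2
import Cfsg.Agent.Lib.Helper25.TCExistC

set_option autoImplicit false
set_option maxRecDepth 1000000
set_option linter.unusedVariables false
set_option linter.unusedSimpArgs false

namespace Cfsg.Agent.Lib.Helper25.TC.Fi22Y

open Cfsg.Spor Cfsg.Agent.Lib.Helper25.TC

theorem k_y : allR ckY 12 0 = true := (allR_join _ _ _ _ (by decide) (allR_join _ _ _ _ (by decide) (allR_join _ _ _ _ (by decide) (allR_join _ _ _ _ (by decide) (allR_join _ _ _ _ (by decide) (allR_join _ _ _ _ (by decide) k_yp_0 k_yp_1) (allR_join _ _ _ _ (by decide) k_yp_2 k_yp_3)) (allR_join _ _ _ _ (by decide) (allR_join _ _ _ _ (by decide) k_yp_4 k_yp_5) (allR_join _ _ _ _ (by decide) k_yp_6 k_yp_7))) (allR_join _ _ _ _ (by decide) (allR_join _ _ _ _ (by decide) (allR_join _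 _ _ _ (by decide) k_yp_8 k_yp_9) (allR_join _ _ _ _ (by decide) k_yp_10 k_yp_11)) (allR_join _ _ _ _ (by decide) (allR_join _ _ _ _ (by decide) k_yp_12 k_yp_13) (allR_join _ _ _ _ (by decide) k_yp_14 k_yp_15)))) (allR_join _ _ _ _ (by decide) (allR_join _ _ _ _ (by decide) (allR_join _ _ _ _ (by decide) (allR_join _ _ _ _ (by decide) k_yp_16 k_yp_17) (allR_join _ _ _ _ (by decide) k_yp_18 k_yp_19)) (allR_join _ _ _ _ (by decide) (allR_join _ _ _ _ (by decide) k_yp_20 k_yp_21) (allR_join _ _ _ _ (by decide) k_yp_22 k_yp_23))) (allR_join _ _ _ _ (by decide) (allR_join _ _ _ _ (by decide) (allR_join _ _ _ _ (by decide) k_yp_24 k_yp_25) (allR_join _ _ _ _ (by decide) k_yp_26 k_yp_27)) (allR_join _ _ _ _ (by decide) (allR_join _ _ _ _ (by decide) k_yp_28 k_yp_29) (allR_join _ _ _ _ (by decide) k_yp_30 k_yp_31))))) (allR_join _ _ _ _ (by decide) (allR_join _ _ _ _ (by decide) (allR_join _ _ _ _ (by decide) (allR_join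 _ _ _ _ (by decide) (allR_join _ _ _ _ (by decide) k_yp_32 k_yp_33) (allR_join _ _ _ _ (by decide) k_yp_34 k_yp_35)) (allR_join _ _ _ _ (by decide) (allR_join _ _ _ _ (by decide) k_yp_36 k_yp_37) (allR_join _ _ _ _ (by decide) k_yp_38 k_yp_39))) (allR_join _ _ _ _ (by decide) (allR_join _ _ _ _ (by decide) (allR_join _ _ _ _ (by decide) k_yp_40 k_yp_41) (allR_join _ _ _ _ (by decide) k_yp_42 k_yp_43)) (allR_join _ _ _ _ (by decide) (allR_join _ _ _ _ (by decide) k_yp_44 k_yp_45) (allR_join _ _ _ _ (by decide) k_yp_46 k_yp_47)))) (allR_join _ _ _ _ (by decide) (allR_join _ _ _ _ (by decide) (allR_join _ _ _ _ (by decide) (allR_join _ _ _ _ (by decide) k_yp_48 k_yp_49) (allR_join _ _ _ _ (by decide) k_yp_50 k_yp_51)) (allR_join _ _ _ _ (by decide) (allR_join _ _ _ _ (by decide) k_yp_52 k_yp_53) (allR_join _ _ _ _ (by decide) k_yp_54 k_yp_55))) (allR_join _ _ _ _ (by decide) (allR_join _ _ _ _ (by decide)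 (allR_join _ _ _ _ (by decide) k_yp_56 k_yp_57) (allR_join _ _ _ _ (by decide) k_yp_58 k_yp_59)) (allR_join _ _ _ _ (by decide) (allR_join _ _ _ _ (by decide) k_yp_60 k_yp_61) (allR_join _ _ _ _ (by decide) k_yp_62 k_yp_63))))))

theorem ckY_spec : ∀ i < Fi22_3510.nn, ckY i = true := all_lt_pow _ Fi22_3510.nn 12 (by decide) k_y

theorem fl0_eq (i : Nat) : tr Fi22_3510.T (idL 0) i = fl0 i := rfl
theorem fr0_eq (i : Nat) : tr Fi22_3510.T (idR 0) i = fr0 i := rfl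
theorem fl1_eq (i : Nat) : tr Fi22_3510.T (idL 1) i = fl1 i := rfl
theorem fr1_eq (i : Nat) : tr Fi22_3510.T (idR 1) i = fr1 i := rfl
theorem fl2_eq (i : Nat) : tr Fi22_3510.T (idL 2) i = fl2 i := rfl
theorem fr2_eq (i : Nat) : tr Fi22_3510.T (idR 2) i = fr2 i := rfl
theorem fl3_eq (i : Nat) : tr Fi22_3510.T (idL 3) i = fl3 i := rfl
theorem fr3_eq (i : Nat) : tr Fi22_3510.T (idR 3) i = fr3 i := rfl
theorem fl4_eq (i : Nat) : tr Fi22_3510.T (idL 4) i = fl4 i := rfl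
theorem fr4_eq (i : Nat) : tr Fi22_3510.T (idR 4) i = fr4 i := rfl
theorem fl5_eq (i : Nat) : tr Fi22_3510.T (idL 5) i = fl5 i := rfl
theorem fr5_eq (i : Nat) : tr Fi22_3510.T (idR 5) i = fr5 i := rfl
theorem fl6_eq (i : Nat) : tr Fi22_3510.T (idL 6) i = fl6 i := rfl
theorem fr6_eq (i : Nat) : tr Fi22_3510.T (idR 6) i = fr6 i := rfl
theorem fl7_eq (i : Nat) : tr Fi22_3510.T (idL 7) i = fl7 i := rfl
theorem fr7_eq (i : Nat) : tr Fi22_3510.T (idR 7) i = fr7 i := rfl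
theorem fl8_eq (i : Nat) : tr Fi22_3510.T (idL 8) i = fl8 i := rfl
theorem fr8_eq (i : Nat) : tr Fi22_3510.T (idR 8) i = fr8 i := rfl
theorem fl9_eq (i : Nat) : tr Fi22_3510.T (idL 9) i = fl9 i := rfl
theorem fr9_eq (i : Nat) : tr Fi22_3510.T (idR 9) i = fr9 i := rfl
theorem fl10_eq (i : Nat) : tr Fi22_3510.T (idL 10) i = fl10 i := rfl
theorem fr10_eq (i : Nat) : tr Fi22_3510.T (idR 10) i = fr10 i := rfl
theorem fl11_eq (i : Nat) : tr Fi22_3510.T (idL 11) i = fl11 i := rfl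
theorem fr11_eq (i : Nat) : tr Fi22_3510.T (idR 11) i = fr11 i := rfl
theorem fl12_eq (i : Nat) : tr Fi22_3510.T (idL 12) i = fl12 i := rfl
theorem fr12_eq (i : Nat) : tr Fi22_3510.T (idR 12) i = fr12 i := rfl
theorem fl13_eq (i : Nat) : tr Fi22_3510.T (idL 13) i = fl13 i := rfl
theorem fr13_eq (i : Nat) : tr Fi22_3510.T (idR 13) i = fr13 i := rfl
theorem fl14_eq (i : Nat) : tr Fi22_3510.T (idL 14) i = fl14 i := rfl
theorem fr14_eq (i : Nat) : tr Fi22_3510.T (idR 14) i = fr14 i := rfl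
theorem fl15_eq (i : Nat) : tr Fi22_3510.T (idL 15) i = fl15 i := rfl
theorem fr15_eq (i : Nat) : tr Fi22_3510.T (idR 15) i = fr15 i := rfl
theorem fl16_eq (i : Nat) : tr Fi22_3510.T (idL 16) i = fl16 i := rfl
theorem fr16_eq (i : Nat) : tr Fi22_3510.T (idR 16) i = fr16 i := rfl
theorem fl17_eq (i : Nat) : tr Fi22_3510.T (idL 17) i = fl17 i := rfl
theorem fr17_eq (i : Nat) : tr Fi22_3510.T (idR 17) i = fr17 i := rfl
theorem fl18_eq (i : Nat) : tr Fi22_3510.T (idL 18) i = fl18 i := rfl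
theorem fr18_eq (i : Nat) : tr Fi22_3510.T (idR 18) i = fr18 i := rfl
theorem fl19_eq (i : Nat) : tr Fi22_3510.T (idL 19) i = fl19 i := rfl
theorem fr19_eq (i : Nat) : tr Fi22_3510.T (idR 19) i = fr19 i := rfl
theorem fl20_eq (i : Nat) : tr Fi22_3510.T (idL 20) i = fl20 i := rfl
theorem fr20_eq (i : Nat) : tr Fi22_3510.T (idR 20) i = fr20 i := rfl
theorem fl21_eq (i : Nat) : tr Fi22_3510.T (idL 21) i = fl21 i := rfl
theorem fr21_eq (i : Nat) : tr Fi22_3510.T (idR 21) i = fr21 i := rfl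
theorem fl22_eq (i : Nat) : tr Fi22_3510.T (idL 22) i = fl22 i := rfl
theorem fr22_eq (i : Nat) : tr Fi22_3510.T (idR 22) i = fr22 i := rfl
theorem fl23_eq (i : Nat) : tr Fi22_3510.T (idL 23) i = fl23 i := rfl
theorem fr23_eq (i : Nat) : tr Fi22_3510.T (idR 23) i = fr23 i := rfl
theorem fl24_eq (i : Nat) : tr Fi22_3510.T (idL 24) i = fl24 i := rfl
theorem fr24_eq (i : Nat) : tr Fi22_3510.T (idR 24) i = fr24 i := rfl
theorem fl25_eq (i : Nat) : tr Fi22_3510.T (idL 25) i = fl25 i := rfl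
theorem fr25_eq (i : Nat) : tr Fi22_3510.T (idR 25) i = fr25 i := rfl
theorem fl26_eq (i : Nat) : tr Fi22_3510.T (idL 26) i = fl26 i := rfl
theorem fr26_eq (i : Nat) : tr Fi22_3510.T (idR 26) i = fr26 i := rfl
theorem fl27_eq (i : Nat) : tr Fi22_3510.T (idL 27) i = fl27 i := rfl
theorem fr27_eq (i : Nat) : tr Fi22_3510.T (idR 27) i = fr27 i := rfl
theorem fl28_eq (i : Nat) : tr Fi22_3510.T (idL 28) i = fl28 i := rfl
theorem fr28_eq (i : Nat) : tr Fi22_3510.T (idR 28) i = fr28 i := rfl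
theorem fl29_eq (i : Nat) : tr Fi22_3510.T (idL 29) i = fl29 i := rfl
theorem fr29_eq (i : Nat) : tr Fi22_3510.T (idR 29) i = fr29 i := rfl
theorem fl30_eq (i : Nat) : tr Fi22_3510.T (idL 30) i = fl30 i := rfl
theorem fr30_eq (i : Nat) : tr Fi22_3510.T (idR 30) i = fr30 i := rfl
theorem fl31_eq (i : Nat) : tr Fi22_3510.T (idL 31) i = fl31 i := rfl
theorem fr31_eq (i : Nat) : tr Fi22_3510.T (idR 31) i = fr31 i := rfl
theorem fl32_eq (i : Nat) : tr Fi22_3510.T (idL 32) i = fl32 i := rfl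
theorem fr32_eq (i : Nat) : tr Fi22_3510.T (idR 32) i = fr32 i := rfl
theorem fl33_eq (i : Nat) : tr Fi22_3510.T (idL 33) i = fl33 i := rfl
theorem fr33_eq (i : Nat) : tr Fi22_3510.T (idR 33) i = fr33 i := rfl
theorem fl34_eq (i : Nat) : tr Fi22_3510.T (idL 34) i = fl34 i := rfl
theorem fr34_eq (i : Nat) : tr Fi22_3510.T (idR 34) i = fr34 i := rfl
theorem fl35_eq (i : Nat) : tr Fi22_3510.T (idL 35) i = fl35 i := rfl
theorem fr35_eq (i : Nat) : tr Fi22_3510.T (idR 35) i = fr35 i := rfl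
theorem fl36_eq (i : Nat) : tr Fi22_3510.T (idL 36) i = fl36 i := rfl
theorem fr36_eq (i : Nat) : tr Fi22_3510.T (idR 36) i = fr36 i := rfl
theorem fl37_eq (i : Nat) : tr Fi22_3510.T (idL 37) i = fl37 i := rfl
theorem fr37_eq (i : Nat) : tr Fi22_3510.T (idR 37) i = fr37 i := rfl
theorem fl38_eq (i : Nat) : tr Fi22_3510.T (idL 38) i = fl38 i := rfl
theorem fr38_eq (i : Nat) : tr Fi22_3510.T (idR 38) i = fr38 i := rfl
theorem fl39_eq (i : Nat) : tr Fi22_3510.T (idL 39) i = fl39 i := rfl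
theorem fr39_eq (i : Nat) : tr Fi22_3510.T (idR 39) i = fr39 i := rfl
theorem fl40_eq (i : Nat) : tr Fi22_3510.T (idL 40) i = fl40 i := rfl
theorem fr40_eq (i : Nat) : tr Fi22_3510.T (idR 40) i = fr40 i := rfl
theorem fl41_eq (i : Nat) : tr Fi22_3510.T (idL 41) i = fl41 i := rfl
theorem fr41_eq (i : Nat) : tr Fi22_3510.T (idR 41) i = fr41 i := rfl
theorem fl42_eq (i : Nat) : tr Fi22_3510.T (idL 42) i = fl42 i := rfl
theorem fr42_eq (i : Nat) : tr Fi22_3510.T (idR 42) i = fr42 i := rfl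
theorem fl43_eq (i : Nat) : tr Fi22_3510.T (idL 43) i = fl43 i := rfl
theorem fr43_eq (i : Nat) : tr Fi22_3510.T (idR 43) i = fr43 i := rfl
theorem fl44_eq (i : Nat) : tr Fi22_3510.T (idL 44) i = fl44 i := rfl
theorem fr44_eq (i : Nat) : tr Fi22_3510.T (idR 44) i = fr44 i := rfl
theorem fl45_eq (i : Nat) : tr Fi22_3510.T (idL 45) i = fl45 i := rfl
theorem fr45_eq (i : Nat) : tr Fi22_3510.T (idR 45) i = fr45 i := rfl
theorem fl46_eq (i : Nat) : tr Fi22_3510.T (idL 46) i = fl46 i := rfl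
theorem fr46_eq (i : Nat) : tr Fi22_3510.T (idR 46) i = fr46 i := rfl
theorem fl47_eq (i : Nat) : tr Fi22_3510.T (idL 47) i = fl47 i := rfl
theorem fr47_eq (i : Nat) : tr Fi22_3510.T (idR 47) i = fr47 i := rfl
theorem fl48_eq (i : Nat) : tr Fi22_3510.T (idL 48) i = fl48 i := rfl
theorem fr48_eq (i : Nat) : tr Fi22_3510.T (idR 48) i = fr48 i := rfl
theorem fl49_eq (i : Nat) : tr Fi22_3510.T (idL 49) i = fl49 i := rfl
theorem fr49_eq (i : Nat) : tr Fi22_3510.T (idR 49) i = fr49 i := rfl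
theorem fl50_eq (i : Nat) : tr Fi22_3510.T (idL 50) i = fl50 i := rfl
theorem fr50_eq (i : Nat) : tr Fi22_3510.T (idR 50) i = fr50 i := rfl

theorem tr_id (j : Nat) (hj : j < 51) : ∀ i < Fi22_3510.nn, tr Fi22_3510.T (idL j) i = tr Fi22_3510.T (idR j) i := by
  intro i hi
  have h := ckY_spec i hi
  simp only [ckY, Bool.or_eq_true, Bool.and_eq_true] at h
  rcases h with h | h
  · have := Nat.le_of_ble_eq_true h; omega
  · obtain ⟨h0, h1, h2, h3, h4, h5, h6, h7, h8, h9, h10, h11, h12, h13, h14, h15, h16, h17, h18, h19, h20, h21, h22, h23, h24, h25, h26, h27, h28, h29, h30, h31, h32, h33, h34, h35, h36, h37, h38, h39, h40, h41, h42, h43, h44, h45, h46, h47, h48, h49, h50, _⟩ := h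
    interval_cases j
    · rw [fl0_eq, fr0_eq]; exact Nat.eq_of_beq_eq_true h0
    · rw [fl1_eq, fr1_eq]; exact Nat.eq_of_beq_eq_true h1
    · rw [fl2_eq, fr2_eq]; exact Nat.eq_of_beq_eq_true h2
    · rw [fl3_eq, fr3_eq]; exact Nat.eq_of_beq_eq_true h3
    · rw [fl4_eq, fr4_eq]; exact Nat.eq_of_beq_eq_true h4
    · rw [fl5_eq, fr5_eq]; exact Nat.eq_of_beq_eq_true h5
    · rw [fl6_eq, fr6_eq]; exact Nat.eq_of_beq_eq_true h6
    · rw [fl7_eq, fr7_eq]; exact Nat.eq_of_beq_eq_true h7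
    · rw [fl8_eq, fr8_eq]; exact Nat.eq_of_beq_eq_true h8
    · rw [fl9_eq, fr9_eq]; exact Nat.eq_of_beq_eq_true h9
    · rw [fl10_eq, fr10_eq]; exact Nat.eq_of_beq_eq_true h10
    · rw [fl11_eq, fr11_eq]; exact Nat.eq_of_beq_eq_true h11
    · rw [fl12_eq, fr12_eq]; exact Nat.eq_of_beq_eq_true h12
    · rw [fl13_eq, fr13_eq]; exact Nat.eq_of_beq_eq_true h13
    · rw [fl14_eq, fr14_eq]; exact Nat.eq_of_beq_eq_true h14
    · rw [fl15_eq, fr15_eq]; exact Nat.eq_of_beq_eq_true h15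
    · rw [fl16_eq, fr16_eq]; exact Nat.eq_of_beq_eq_true h16
    · rw [fl17_eq, fr17_eq]; exact Nat.eq_of_beq_eq_true h17
    · rw [fl18_eq, fr18_eq]; exact Nat.eq_of_beq_eq_true h18
    · rw [fl19_eq, fr19_eq]; exact Nat.eq_of_beq_eq_true h19
    · rw [fl20_eq, fr20_eq]; exact Nat.eq_of_beq_eq_true h20
    · rw [fl21_eq, fr21_eq]; exact Nat.eq_of_beq_eq_true h21
    · rw [fl22_eq, fr22_eq]; exact Nat.eq_of_beq_eq_true h22
    · rw [fl23_eq, fr23_eq]; exact Nat.eq_of_beq_eq_true h23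
    · rw [fl24_eq, fr24_eq]; exact Nat.eq_of_beq_eq_true h24
    · rw [fl25_eq, fr25_eq]; exact Nat.eq_of_beq_eq_true h25
    · rw [fl26_eq, fr26_eq]; exact Nat.eq_of_beq_eq_true h26
    · rw [fl27_eq, fr27_eq]; exact Nat.eq_of_beq_eq_true h27
    · rw [fl28_eq, fr28_eq]; exact Nat.eq_of_beq_eq_true h28
    · rw [fl29_eq, fr29_eq]; exact Nat.eq_of_beq_eq_true h29
    · rw [fl30_eq, fr30_eq]; exact Nat.eq_of_beq_eq_true h30
    · rw [fl31_eq, fr31_eq]; exact Nat.eq_of_beq_eq_true h31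
    · rw [fl32_eq, fr32_eq]; exact Nat.eq_of_beq_eq_true h32
    · rw [fl33_eq, fr33_eq]; exact Nat.eq_of_beq_eq_true h33
    · rw [fl34_eq, fr34_eq]; exact Nat.eq_of_beq_eq_true h34
    · rw [fl35_eq, fr35_eq]; exact Nat.eq_of_beq_eq_true h35
    · rw [fl36_eq, fr36_eq]; exact Nat.eq_of_beq_eq_true h36
    · rw [fl37_eq, fr37_eq]; exact Nat.eq_of_beq_eq_true h37
    · rw [fl38_eq, fr38_eq]; exact Nat.eq_of_beq_eq_true h38
    · rw [fl39_eq, fr39_eq]; exact Nat.eq_of_beq_eq_true h39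
    · rw [fl40_eq, fr40_eq]; exact Nat.eq_of_beq_eq_true h40
    · rw [fl41_eq, fr41_eq]; exact Nat.eq_of_beq_eq_true h41
    · rw [fl42_eq, fr42_eq]; exact Nat.eq_of_beq_eq_true h42
    · rw [fl43_eq, fr43_eq]; exact Nat.eq_of_beq_eq_true h43
    · rw [fl44_eq, fr44_eq]; exact Nat.eq_of_beq_eq_true h44
    · rw [fl45_eq, fr45_eq]; exact Nat.eq_of_beq_eq_true h45
    · rw [fl46_eq, fr46_eq]; exact Nat.eq_of_beq_eq_true h46
    · rw [fl47_eq, fr47_eq]; exact Nat.eq_of_beq_eq_true h47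
    · rw [fl48_eq, fr48_eq]; exact Nat.eq_of_beq_eq_true h48
    · rw [fl49_eq, fr49_eq]; exact Nat.eq_of_beq_eq_true h49
    · rw [fl50_eq, fr50_eq]; exact Nat.eq_of_beq_eq_true h50

theorem letters_lt : ∀ j < 51, (∀ x ∈ idL j, x < 9) ∧ (∀ x ∈ idR j, x < 9) := by
  decide +kernel

/-- word identities in the presented group (given faithfulness of the coset action) -/
theorem evr_id (hinj : Function.Injective (Fi22_3510.checks.phi Fi22_3510.setup)) (j : Nat) (hj : j < 51) :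
    evr (cgen Fi22.edges Fi22.extra 9 Fi22_3510.ofIdx) (idL j) = evr (cgen Fi22.edges Fi22.extra 9 Fi22_3510.ofIdx) (idR j) :=
  Fi22_3510.checks.evr_eq_of_tr Fi22_3510.setup hinj (idL j) (idR j) (letters_lt j hj).1 (letters_lt j hj).2 (tr_id j hj)

theorem id_comm : idL 0 = [0] ++ tw ∧ idR 0 = tw ++ [0] := by decide +kernel

theorem id_tw : idL 1 = tw ∧ idR 1 = [0] ++ xw ++ [2] ++ cp ++ [4] ++ [7] := by decide +kernel

theorem id_rel : ∀ j < 40, idL (2 + j) = subst (U6Q_6336.relWords.getD j []) ∧ idR (2 + j) = rhsL.getD j [] := by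
  decide +kernel

theorem rhs_cases : ∀ j < 40, rhsL.getD j [] = [] ∨ rhsL.getD j [] = [0] := by decide +kernel

theorem id_W1 : idL 42 = (List.replicate 3 W1).flatten ∧ idR 42 = [] := by decide +kernel
theorem id_W6 : idL 43 = (List.replicate 2 W6).flatten ∧ idR 43 = [] := by decide +kernel

theorem id_comm_gen : ∀ j < 7, idL (44 + j) = [0, 2 + j] ∧ idR (44 + j) = [2 + j, 0] := by decide +kernel

theorem u1_pt : tr Fi22_3510.T u1 0 = 1 ∧ ∀ x ∈ u1, x < 9 := by decide +kernel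
theorem u6_pt : tr Fi22_3510.T u6 0 = 6 ∧ ∀ x ∈ u6, x < 9 := by decide +kernel
theorem xw_pt : tr Fi22_3510.T xw 0 = 0 ∧ ∀ x ∈ xw, x < 9 := by decide +kernel
theorem a_moves : tr Fi22_3510.T [0] 1 ≠ 1 := by decide +kernel
theorem c_moves : tr Fi22_3510.T [2] 2 ≠ 2 ∧ tr Fi22_3510.T [2] 2 ≠ tr Fi22_3510.T [0] 2 := by decide +kernel

end Cfsg.Agent.Lib.Helper25.TC.Fi22Y
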