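import Cfsg.Agent.Lib.Helper25.TCFi22_14080T

set_option autoImplicit false
set_option maxRecDepth 1000000
set_option linter.unusedVariables false
set_option Elab.async false

namespace Cfsg.Agent.Lib.Helper25.TC.Fi22_14080

open Cfsg.Agent.Lib.Helper25.TC

theorem k_certp_143 : allR (ckCert C nF) 9 73216 = true := by decide +kernel
theorem k_certp_144 : allR (ckCert C nF) 9 73728 = true := by decide +kernel
theorem k_certp_145 : allR (ckCert C nF) 9 74240 = true := by decide +kernel
theorem k_certp_146 : allR (ckCert C nF) 9 74752 = true := by decide +kernel
theorem k_certp_147 : allR (ckCert C nF) 9 75264 = true := by decide +kernel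
theorem k_certp_148 : allR (ckCert C nF) 9 75776 = true := by decide +kernel
theorem k_certp_149 : allR (ckCert C nF) 9 76288 = true := by decide +kernel
theorem k_certp_150 : allR (ckCert C nF) 9 76800 = true := by decide +kernel
theorem k_certp_151 : allR (ckCert C nF) 9 77312 = true := by decide +kernel
theorem k_certp_152 : allR (ckCert C nF) 9 77824 = true := by decide +kernel
theorem k_certp_153 : allR (ckCert C nF) 9 78336 = true := by decide +kernel
theorem k_certp_154 : allR (ckCert C nF) 9 78848 = true := by decide +kernel
theorem k_certp_155 : allR (ckCert C nF) 9 79360 = true := by decide +kernel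
theorem k_certp_156 : allR (ckCert C nF) 9 79872 = true := by decide +kernel
theorem k_certp_157 : allR (ckCert C nF) 9 80384 = true := by decide +kernel
theorem k_certp_158 : allR (ckCert C nF) 9 80896 = true := by decide +kernel
theorem k_certp_159 : allR (ckCert C nF) 9 81408 = true := by decide +kernel
theorem k_certp_160 : allR (ckCert C nF) 9 81920 = true := by decide +kernel
theorem k_certp_161 : allR (ckCert C nF) 9 82432 = true := by decide +kernel
theorem k_certp_162 : allR (ckCert C nF) 9 82944 = true := by decide +kernel
theorem k_certp_163 : allR (ckCert C nF) 9 83456 = true := by decide +kernel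
theorem k_certp_164 : allR (ckCert C nF) 9 83968 = true := by decide +kernel
theorem k_certp_165 : allR (ckCert C nF) 9 84480 = true := by decide +kernel
theorem k_certp_166 : allR (ckCert C nF) 9 84992 = true := by decide +kernel
theorem k_certp_167 : allR (ckCert C nF) 9 85504 = true := by decide +kernel
theorem k_certp_168 : allR (ckCert C nF) 9 86016 = true := by decide +kernel
theorem k_certp_169 : allR (ckCert C nF) 9 86528 = true := by decide +kernel
theorem k_certp_170 : allR (ckCert C nF) 9 87040 = true := by decide +kernel
theorem k_certp_171 : allR (ckCert C nF) 9 87552 = true := by decide +kernel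
theorem k_certp_172 : allR (ckCert C nF) 9 88064 = true := by decide +kernel
theorem k_certp_173 : allR (ckCert C nF) 9 88576 = true := by decide +kernel
theorem k_certp_174 : allR (ckCert C nF) 9 89088 = true := by decide +kernel
theorem k_certp_175 : allR (ckCert C nF) 9 89600 = true := by decide +kernel
theorem k_certp_176 : allR (ckCert C nF) 9 90112 = true := by decide +kernel
theorem k_certp_177 : allR (ckCert C nF) 9 90624 = true := by decide +kernel
theorem k_certp_178 : allR (ckCert C nF) 9 91136 = true := by decide +kernel
theorem k_certp_179 : allR (ckCert C nF) 9 91648 = true := by decide +kernel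
theorem k_certp_180 : allR (ckCert C nF) 9 92160 = true := by decide +kernel
theorem k_certp_181 : allR (ckCert C nF) 9 92672 = true := by decide +kernel
theorem k_certp_182 : allR (ckCert C nF) 9 93184 = true := by decide +kernel
theorem k_certp_183 : allR (ckCert C nF) 9 93696 = true := by decide +kernel
theorem k_certp_184 : allR (ckCert C nF) 9 94208 = true := by decide +kernel
theorem k_certp_185 : allR (ckCert C nF) 9 94720 = true := by decide +kernel
theorem k_certp_186 : allR (ckCert C nF) 9 95232 = true := by decide +kernel
theorem k_certp_187 : allR (ckCert C nF) 9 95744 = true := by decide +kernel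
theorem k_certp_188 : allR (ckCert C nF) 9 96256 = true := by decide +kernel
theorem k_certp_189 : allR (ckCert C nF) 9 96768 = true := by decide +kernel
theorem k_certp_190 : allR (ckCert C nF) 9 97280 = true := by decide +kernel
theorem k_certp_191 : allR (ckCert C nF) 9 97792 = true := by decide +kernel
theorem k_certp_192 : allR (ckCert C nF) 9 98304 = true := by decide +kernel
theorem k_certp_193 : allR (ckCert C nF) 9 98816 = true := by decide +kernel
theorem k_certp_194 : allR (ckCert C nF) 9 99328 = true := by decide +kernel
theorem k_certp_195 : allR (ckCert C nF) 9 99840 = true := by decide +kernel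
theorem k_certp_196 : allR (ckCert C nF) 9 100352 = true := by decide +kernel
theorem k_certp_197 : allR (ckCert C nF) 9 100864 = true := by decide +kernel
theorem k_certp_198 : allR (ckCert C nF) 9 101376 = true := by decide +kernel
theorem k_certp_199 : allR (ckCert C nF) 9 101888 = true := by decide +kernel
theorem k_certp_200 : allR (ckCert C nF) 9 102400 = true := by decide +kernel
theorem k_certp_201 : allR (ckCert C nF) 9 102912 = true := by decide +kernel
theorem k_certp_202 : allR (ckCert C nF) 9 103424 = true := by decide +kernel
theorem k_certp_203 : allR (ckCert C nF) 9 103936 = true := by decide +kernel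
theorem k_certp_204 : allR (ckCert C nF) 9 104448 = true := by decide +kernel
theorem k_certp_205 : allR (ckCert C nF) 9 104960 = true := by decide +kernel
theorem k_certp_206 : allR (ckCert C nF) 9 105472 = true := by decide +kernel
theorem k_certp_207 : allR (ckCert C nF) 9 105984 = true := by decide +kernel
theorem k_certp_208 : allR (ckCert C nF) 9 106496 = true := by decide +kernel
theorem k_certp_209 : allR (ckCert C nF) 9 107008 = true := by decide +kernel
theorem k_certp_210 : allR (ckCert C nF) 9 107520 = true := by decide +kernel
theorem k_certp_211 : allR (ckCert C nF) 9 108032 = true := by decide +kernel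
theorem k_certp_212 : allR (ckCert C nF) 9 108544 = true := by decide +kernel
theorem k_certp_213 : allR (ckCert C nF) 9 109056 = true := by decide +kernel
theorem k_certp_214 : allR (ckCert C nF) 9 109568 = true := by decide +kernel
theorem k_certp_215 : allR (ckCert C nF) 9 110080 = true := by decide +kernel
theorem k_certp_216 : allR (ckCert C nF) 9 110592 = true := by decide +kernel
theorem k_certp_217 : allR (ckCert C nF) 9 111104 = true := by decide +kernel
theorem k_certp_218 : allR (ckCert C nF) 9 111616 = true := by decide +kernel
theorem k_certp_219 : allR (ckCert C nF) 9 112128 = true := by decide +kernel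
theorem k_certp_220 : allR (ckCert C nF) 9 112640 = true := by decide +kernel
theorem k_certp_221 : allR (ckCert C nF) 9 113152 = true := by decide +kernel
theorem k_certp_222 : allR (ckCert C nF) 9 113664 = true := by decide +kernel
theorem k_certp_223 : allR (ckCert C nF) 9 114176 = true := by decide +kernel
theorem k_certp_224 : allR (ckCert C nF) 9 114688 = true := by decide +kernel
theorem k_certp_225 : allR (ckCert C nF) 9 115200 = true := by decide +kernel
theorem k_certp_226 : allR (ckCert C nF) 9 115712 = true := by decide +kernel
theorem k_certp_227 : allR (ckCert C nF) 9 116224 = true := by decide +kernel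
theorem k_certp_228 : allR (ckCert C nF) 9 116736 = true := by decide +kernel
theorem k_certp_229 : allR (ckCert C nF) 9 117248 = true := by decide +kernel
theorem k_certp_230 : allR (ckCert C nF) 9 117760 = true := by decide +kernel
theorem k_certp_231 : allR (ckCert C nF) 9 118272 = true := by decide +kernel
theorem k_certp_232 : allR (ckCert C nF) 9 118784 = true := by decide +kernel
theorem k_certp_233 : allR (ckCert C nF) 9 119296 = true := by decide +kernel
theorem k_certp_234 : allR (ckCert C nF) 9 119808 = true := by decide +kernel
theorem k_certp_235 : allR (ckCert C nF) 9 120320 = true := by decide +kernel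
theorem k_certp_236 : allR (ckCert C nF) 9 120832 = true := by decide +kernel
theorem k_certp_237 : allR (ckCert C nF) 9 121344 = true := by decide +kernel
theorem k_certp_238 : allR (ckCert C nF) 9 121856 = true := by decide +kernel
theorem k_certp_239 : allR (ckCert C nF) 9 122368 = true := by decide +kernel
theorem k_certp_240 : allR (ckCert C nF) 9 122880 = true := by decide +kernel
theorem k_certp_241 : allR (ckCert C nF) 9 123392 = true := by decide +kernel
theorem k_certp_242 : allR (ckCert C nF) 9 123904 = true := by decide +kernel
theorem k_certp_243 : allR (ckCert C nF) 9 124416 = true := by decide +kernel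
theorem k_certp_244 : allR (ckCert C nF) 9 124928 = true := by decide +kernel
theorem k_certp_245 : allR (ckCert C nF) 9 125440 = true := by decide +kernel
theorem k_certp_246 : allR (ckCert C nF) 9 125952 = true := by decide +kernel
theorem k_certp_247 : allR (ckCert C nF) 9 126464 = true := by decide +kernel
theorem k_certp_248 : allR (ckCert C nF) 9 126976 = true := by decide +kernel
theorem k_certp_249 : allR (ckCert C nF) 9 127488 = true := by decide +kernel
theorem k_certp_250 : allR (ckCert C nF) 9 128000 = true := by decide +kernel
theorem k_certp_251 : allR (ckCert C nF) 9 128512 = true := by decide +kernel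
theorem k_certp_252 : allR (ckCert C nF) 9 129024 = true := by decide +kernel
theorem k_certp_253 : allR (ckCert C nF) 9 129536 = true := by decide +kernel
theorem k_certp_254 : allR (ckCert C nF) 9 130048 = true := by decide +kernel
theorem k_certp_255 : allR (ckCert C nF) 9 130560 = true := by decide +kernel
theorem k_finp_0 : allR (ckFin C 9 nn nF can fin T) 8 0 = true := by decide +kernel
theorem k_finp_1 : allR (ckFin C 9 nn nF can fin T) 8 256 = true := by decide +kernel
theorem k_finp_2 : allR (ckFin C 9 nn nF can fin T) 8 512 = true := by decide +kernel
theorem k_finp_3 : allR (ckFin C 9 nn nF can fin T) 8 768 = true := by decide +kernel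
theorem k_finp_4 : allR (ckFin C 9 nn nF can fin T) 8 1024 = true := by decide +kernel
theorem k_finp_5 : allR (ckFin C 9 nn nF can fin T) 8 1280 = true := by decide +kernel
theorem k_finp_6 : allR (ckFin C 9 nn nF can fin T) 8 1536 = true := by decide +kernel
theorem k_finp_7 : allR (ckFin C 9 nn nF can fin T) 8 1792 = true := by decide +kernel
theorem k_finp_8 : allR (ckFin C 9 nn nF can fin T) 8 2048 = true := by decide +kernel
theorem k_finp_9 : allR (ckFin C 9 nn nF can fin T) 8 2304 = true := by decide +kernel
theorem k_finp_10 : allR (ckFin C 9 nn nF can fin T) 8 2560 = true := by decide +kernel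
theorem k_finp_11 : allR (ckFin C 9 nn nF can fin T) 8 2816 = true := by decide +kernel
theorem k_finp_12 : allR (ckFin C 9 nn nF can fin T) 8 3072 = true := by decide +kernel
theorem k_finp_13 : allR (ckFin C 9 nn nF can fin T) 8 3328 = true := by decide +kernel
theorem k_finp_14 : allR (ckFin C 9 nn nF can fin T) 8 3584 = true := by decide +kernel
theorem k_finp_15 : allR (ckFin C 9 nn nF can fin T) 8 3840 = true := by decide +kernel
theorem k_finp_16 : allR (ckFin C 9 nn nF can fin T) 8 4096 = true := by decide +kernel
theorem k_finp_17 : allR (ckFin C 9 nn nF can fin T) 8 4352 = true := by decide +kernel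
theorem k_finp_18 : allR (ckFin C 9 nn nF can fin T) 8 4608 = true := by decide +kernel
theorem k_finp_19 : allR (ckFin C 9 nn nF can fin T) 8 4864 = true := by decide +kernel
theorem k_finp_20 : allR (ckFin C 9 nn nF can fin T) 8 5120 = true := by decide +kernel
theorem k_finp_21 : allR (ckFin C 9 nn nF can fin T) 8 5376 = true := by decide +kernel
theorem k_finp_22 : allR (ckFin C 9 nn nF can fin T) 8 5632 = true := by decide +kernel
theorem k_finp_23 : allR (ckFin C 9 nn nF can fin T) 8 5888 = true := by decide +kernel
theorem k_finp_24 : allR (ckFin C 9 nn nF can fin T) 8 6144 = true := by decide +kernel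
theorem k_finp_25 : allR (ckFin C 9 nn nF can fin T) 8 6400 = true := by decide +kernel
theorem k_finp_26 : allR (ckFin C 9 nn nF can fin T) 8 6656 = true := by decide +kernel

end Cfsg.Agent.Lib.Helper25.TC.Fi22_14080
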