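import Cfsg.Agent.Lib.Helper25.TCFi22_3510T

set_option autoImplicit false
set_option maxRecDepth 1000000
set_option linter.unusedVariables false

namespace Cfsg.Agent.Lib.Helper25.TC.Fi22_3510

open Cfsg.Agent.Lib.Helper25.TC

theorem k_fin : allR (ckFin C 9 nn nF can fin T) 12 0 = true := by decide +kernel
theorem k_tbl : allR (ckTbl 9 nn T) 12 0 = true := by decide +kernel
theorem k_tree : allR (ckTree 9 nn T bp bg) 12 0 = true := by decide +kernel
theorem k_oinv : allR (ckOrbInv nn T sw ol) 12 0 = true := by decide +kernel
theorem k_otree : allR (ckOrbTree nn T sw roots ol op ow od) 12 0 = true := by decide +kernel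

end Cfsg.Agent.Lib.Helper25.TC.Fi22_3510
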