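import Cfsg.Agent.Lib.Helper25.TCFi22_3510T

set_option autoImplicit false
set_option maxRecDepth 1000000
set_option linter.unusedVariables false

namespace Cfsg.Agent.Lib.Helper25.TC.Fi22_3510

open Cfsg.Agent.Lib.Helper25.TC

theorem k_relp_0 : allR fastRel 12 0 = true := by decide +kernel

end Cfsg.Agent.Lib.Helper25.TC.Fi22_3510
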