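import Cfsg.Agent.Lib.Helper25.TCFiChainLe
import Cfsg.Agent.Lib.Helper25.TCF2O7_728I
import Cfsg.Agent.Lib.Helper25.TCF2Fi22_14080I

set_option autoImplicit false
set_option maxRecDepth 1000000
set_option linter.unusedVariables false
set_option linter.unusedSimpArgs false
set_option linter.constructorNameAsVariable false

/-! Upper bounds for the orders of the groups given by the sub-presentations of the presentation of `Fi₂₃` on
`b, …, i` and on `a, …, i`. -/

namespace Cfsg.Agent.Lib.Helper25.TC.FiChain

open Cfsg.Spor Cfsg.Agent.Lib.Helper25.TC Cfsg.Agent.Lib.Helper25.Pres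

/-- the sub-presentation of the presentation of `Fi₂₃` on `b, …, i` has order at most `2 * 4585351680` -/
theorem card_le_2O7 : Finite (CoxPresented F2O7.Gen F2O7.edges F2O7.extra) ∧
    Nat.card (CoxPresented F2O7.Gen F2O7.edges F2O7.extra) ≤ 9170703360 := by
  have h := card_le_step (edges₁ := FY222.edges) (extra₁ := FY222.extra) (edges := F2O7.edges) (extra := F2O7.extra)
    F2O7_728.setup F2O7_728.checks F2O7.emb
    (by intro a _ b _; cases a <;> cases b <;> decide)
    (by
      intro r hr
      simp only [FY222.extra, List.mem_cons, List.not_mem_nil, or_false] at hr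
      rcases hr with rfl
      simp [F2O7.extra, F2O7.emb, map_mul, map_inv, map_pow, FreeGroup.map.of])
    (by
      intro w hw
      simp only [F2O7_728.sw, List.mem_cons, List.not_mem_nil, or_false] at hw
      rcases hw with rfl | rfl | rfl | rfl | rfl | rfl | rfl
      · exact ⟨.b, rfl⟩
      · exact ⟨.c, rfl⟩
      · exact ⟨.d, rfl⟩
      · exact ⟨.e, rfl⟩
      · exact ⟨.f, rfl⟩
      · exact ⟨.h, rfl⟩
      · exact ⟨.i, rfl⟩)
    12597120 card_le_Y222
  exact ⟨h.1, h.2.trans (by decide)⟩

/-- the sub-presentation of the presentation of `Fi₂₃` on `a, …, i` has order at most `2 * 64561751654400` -/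
theorem card_le_2Fi22 : Finite (CoxPresented F2Fi22.Gen F2Fi22.edges F2Fi22.extra) ∧
    Nat.card (CoxPresented F2Fi22.Gen F2Fi22.edges F2Fi22.extra) ≤ 129123503308800 := by
  have h := card_le_step (edges₁ := F2O7.edges) (extra₁ := F2O7.extra) (edges := F2Fi22.edges)
    (extra := F2Fi22.extra) F2Fi22_14080.setup F2Fi22_14080.checks F2Fi22.emb
    (by intro a _ b _; cases a <;> cases b <;> decide)
    (by
      intro r hr
      simp only [F2O7.extra, List.mem_cons, List.not_mem_nil, or_false] at hr
      rcases hr with rfl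
      simp [F2Fi22.extra, F2Fi22.emb, map_mul, map_inv, map_pow, FreeGroup.map.of])
    (by
      intro w hw
      simp only [F2Fi22_14080.sw, List.mem_cons, List.not_mem_nil, or_false] at hw
      rcases hw with rfl | rfl | rfl | rfl | rfl | rfl | rfl | rfl
      · exact ⟨.b, rfl⟩
      · exact ⟨.c, rfl⟩
      · exact ⟨.d, rfl⟩
      · exact ⟨.e, rfl⟩
      · exact ⟨.f, rfl⟩
      · exact ⟨.g, rfl⟩
      · exact ⟨.h, rfl⟩
      · exact ⟨.i, rfl⟩)
    9170703360 card_le_2O7
  exact ⟨h.1, h.2.trans (by decide)⟩

end Cfsg.Agent.Lib.Helper25.TC.FiChain
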