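import Cfsg.Agent.Lib.Helper25.TCFi23XMain
import Cfsg.Agent.Lib.Helper25.TCFi22XMain
import Cfsg.Agent.Lib.Helper25.TCExistF

set_option autoImplicit false
set_option maxRecDepth 1000000
set_option linter.unusedVariables false
set_option linter.unusedSimpArgs false
set_option linter.constructorNameAsVariable false

/-! The subgroup of the presented Fischer group `Fi₂₃` generated by `a, …, i` is a non-split double cover of the
presented group `Fi₂₂`. -/

namespace Cfsg.Agent.Lib.Helper25.TC.Fi23Cover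

open Cfsg.Spor Cfsg.Agent.Lib.Helper25.TC Cfsg.Agent.Lib.Helper25.Pres

/-- the group given by the sub-presentation on `a, …, i` -/
abbrev PP := CoxPresented F2Fi22.Gen F2Fi22.edges F2Fi22.extra

/-- the subgroup of `Fi₂₃` generated by `a, …, i` -/
abbrev HH : Subgroup Cfsg.Spor.Fi23 := subH Fi23.edges Fi23.extra 10 Fi23_31671.ofIdx Fi23_31671.sw

/-- the generators of the sub-presentation as generators of `Fi₂₂` -/
def emb22 : F2Fi22.Gen → Cfsg.Spor.Fi22.Gen
  | .a => .a
  | .b => .b
  | .c => .c
  | .d => .d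
  | .e => .e
  | .f => .f
  | .g => .g
  | .h => .h
  | .i => .i

theorem exists_f : ∃ f : PP →* Cfsg.Spor.Fi23,
    ∀ a, f (PresentedGroup.of a) = PresentedGroup.of (F2Fi22.embFi23 a) :=
  exists_hom_of_emb (edges₁ := F2Fi22.edges) (extra₁ := F2Fi22.extra) (edges := Fi23.edges) (extra := Fi23.extra)
    F2Fi22.embFi23
    (by intro a _ b _; cases a <;> cases b <;> decide)
    (by
      intro r hr
      simp only [F2Fi22.extra, List.mem_cons, List.not_mem_nil, or_false] at hr
      rcases hr with rfl | rfl <;>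
        simp [Fi23.extra, F2Fi22.embFi23, map_mul, map_inv, map_pow, FreeGroup.map.of])

theorem exists_pi : ∃ π : PP →* Cfsg.Spor.Fi22,
    ∀ a, π (PresentedGroup.of a) = PresentedGroup.of (emb22 a) :=
  exists_hom_of_emb (edges₁ := F2Fi22.edges) (extra₁ := F2Fi22.extra) (edges := Fi22.edges) (extra := Fi22.extra)
    emb22
    (by intro a _ b _; cases a <;> cases b <;> decide)
    (by
      intro r hr
      simp only [F2Fi22.extra, List.mem_cons, List.not_mem_nil, or_false] at hr
      rcases hr with rfl | rfl <;>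
        simp [Fi22.extra, emb22, map_mul, map_inv, map_pow, FreeGroup.map.of])

theorem card_HH : Nat.card HH = 129123503308800 := by
  have h1 := (HH).index_mul_card
  have h2 : (HH).index = 31671 := Fi23_31671.checks.index_eq Fi23_31671.setup
  have h3 : Nat.card Cfsg.Spor.Fi23 = 4089470473293004800 := Fi23X.simple_card.2.2.1
  rw [h2, h3] at h1
  have : 31671 * Nat.card HH = 31671 * 129123503308800 := by rw [h1]
  exact Nat.eq_of_mul_eq_mul_left (by decide) this

theorem hconn : ∀ x < 9, Abelianization.of (cgen F2Fi22.edges F2Fi22.extra 9 F2Fi22_14080.ofIdx x) =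
    Abelianization.of (cgen F2Fi22.edges F2Fi22.extra 9 F2Fi22_14080.ofIdx 0) := by
  have e01 := abel_gen_eq F2Fi22_14080.setup 0 1 (by decide) (by decide) ⟨1, by decide⟩
  have e12 := abel_gen_eq F2Fi22_14080.setup 1 2 (by decide) (by decide) ⟨1, by decide⟩
  have e23 := abel_gen_eq F2Fi22_14080.setup 2 3 (by decide) (by decide) ⟨1, by decide⟩
  have e34 := abel_gen_eq F2Fi22_14080.setup 3 4 (by decide) (by decide) ⟨1, by decide⟩
  have e45 := abel_gen_eq F2Fi22_14080.setup 4 5 (by decide) (by decide) ⟨1, by decide⟩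
  have e56 := abel_gen_eq F2Fi22_14080.setup 5 6 (by decide) (by decide) ⟨1, by decide⟩
  have e37 := abel_gen_eq F2Fi22_14080.setup 3 7 (by decide) (by decide) ⟨1, by decide⟩
  have e78 := abel_gen_eq F2Fi22_14080.setup 7 8 (by decide) (by decide) ⟨1, by decide⟩
  intro x hx
  interval_cases x
  · rfl
  · exact e01.symm
  · exact (e01.trans e12).symm
  · exact (e01.trans (e12.trans e23)).symm
  · exact (e01.trans (e12.trans (e23.trans e34))).symm
  · exact (e01.trans (e12.trans (e23.trans (e34.trans e45)))).symm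
  · exact (e01.trans (e12.trans (e23.trans (e34.trans (e45.trans e56))))).symm
  · exact (e01.trans (e12.trans (e23.trans e37))).symm
  · exact (e01.trans (e12.trans (e23.trans (e37.trans e78)))).symm

/-- the relator `(a b c d e f h)^9` as a word (acting order) -/
def oddW : List Nat := (List.replicate 9 [7, 5, 4, 3, 2, 1, 0]).flatten

theorem hperf : ∀ S : Subgroup PP, S.index ≠ 2 :=
  no_index_two_of_odd_relator F2Fi22_14080.setup hconn oddW
    (by rw [F2Fi22_14080.relWords_eq]; decide +kernel) (by decide +kernel) ⟨31, by decide +kernel⟩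

/-- the data behind the double cover: an isomorphism from the presented group `PP` onto `HH` and a surjection
of `PP` onto `Fi₂₂` with kernel of order two -/
theorem cover_data : ∃ (e : PP ≃* HH) (π : PP →* Cfsg.Spor.Fi22), Function.Surjective π ∧
    Nat.card PP = 2 * Nat.card Cfsg.Spor.Fi22 ∧ Subgroup.center Cfsg.Spor.Fi22 = ⊥ ∧ Finite PP := by
  obtain ⟨f, hf⟩ := exists_f
  obtain ⟨π, hπ⟩ := exists_pi
  obtain ⟨hPfin, hPle⟩ := FiChain.card_le_2Fi22
  have hs := Fi23_31671.setup
  -- the range of `f` is `HH`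
  have hge : HH ≤ f.range := by
    unfold HH subH
    rw [Subgroup.closure_le]
    rintro g ⟨w, hw, rfl⟩
    simp only [Fi23_31671.sw, List.mem_cons, List.not_mem_nil, or_false] at hw
    rcases hw with rfl | rfl | rfl | rfl | rfl | rfl | rfl | rfl | rfl
    · exact ⟨PresentedGroup.of .a, by rw [hf, evr_singleton, ← cgen_idx hs]; rfl⟩
    · exact ⟨PresentedGroup.of .b, by rw [hf, evr_singleton, ← cgen_idx hs]; rfl⟩
    · exact ⟨PresentedGroup.of .c, by rw [hf, evr_singleton, ← cgen_idx hs]; rfl⟩
    · exact ⟨PresentedGroup.of .d, by rw [hf, evr_singleton, ← cgen_idx hs]; rfl⟩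
    · exact ⟨PresentedGroup.of .e, by rw [hf, evr_singleton, ← cgen_idx hs]; rfl⟩
    · exact ⟨PresentedGroup.of .f, by rw [hf, evr_singleton, ← cgen_idx hs]; rfl⟩
    · exact ⟨PresentedGroup.of .g, by rw [hf, evr_singleton, ← cgen_idx hs]; rfl⟩
    · exact ⟨PresentedGroup.of .h, by rw [hf, evr_singleton, ← cgen_idx hs]; rfl⟩
    · exact ⟨PresentedGroup.of .i, by rw [hf, evr_singleton, ← cgen_idx hs]; rfl⟩
  have hle : f.range ≤ HH := by
    rw [MonoidHom.range_eq_map, ← PresentedGroup.closure_range_of, MonoidHom.map_closure, Subgroup.closure_le]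
    rintro g ⟨_, ⟨a, rfl⟩, rfl⟩
    rw [hf, ← cgen_idx hs, ← evr_singleton (cgen Fi23.edges Fi23.extra 10 Fi23_31671.ofIdx)]
    apply Subgroup.subset_closure
    refine ⟨_, ?_, rfl⟩
    cases a <;> simp [Fi23_31671.sw, Fi23_31671.idx, F2Fi22.embFi23]
  let f' : PP →* HH := f.codRestrict HH (fun p => hle ⟨p, rfl⟩)
  have hsurj : Function.Surjective f' := by
    rintro ⟨h, hh⟩
    obtain ⟨p, rfl⟩ := hge hh
    exact ⟨p, rfl⟩
  have hHfin : Finite HH := Finite.of_surjective f' hsurj
  have hcardP : Nat.card PP = 129123503308800 := by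
    apply le_antisymm hPle
    rw [← card_HH]
    exact Nat.card_le_card_of_surjective f' hsurj
  have hbij : Function.Bijective f' :=
    hsurj.bijective_of_nat_card_le (by rw [hcardP, card_HH])
  let e : PP ≃* HH := MulEquiv.ofBijective f' hbij
  -- surjectivity of `π`
  have hπs : Function.Surjective π := by
    rw [← MonoidHom.range_eq_top, eq_top_iff, ← PresentedGroup.closure_range_of, Subgroup.closure_le]
    rintro g ⟨b, rfl⟩
    cases b
    · exact ⟨PresentedGroup.of .a, hπ _⟩
    · exact ⟨PresentedGroup.of .b, hπ _⟩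
    · exact ⟨PresentedGroup.of .c, hπ _⟩
    · exact ⟨PresentedGroup.of .d, hπ _⟩
    · exact ⟨PresentedGroup.of .e, hπ _⟩
    · exact ⟨PresentedGroup.of .f, hπ _⟩
    · exact ⟨PresentedGroup.of .g, hπ _⟩
    · exact ⟨PresentedGroup.of .h, hπ _⟩
    · exact ⟨PresentedGroup.of .i, hπ _⟩
  have h22 := Fi22X.simple_card
  have hcard22 : Nat.card Cfsg.Spor.Fi22 = 64561751654400 := h22.2.2.1
  have hfin22 : Finite Cfsg.Spor.Fi22 := Nat.finite_of_card_ne_zero (by rw [hcard22]; decide)
  have hK : Subgroup.center Cfsg.Spor.Fi22 = ⊥ :=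
    center_eq_bot_of_simple h22.2.1 (by rw [hcard22]; norm_num)
  exact ⟨e, π, hπs, by rw [hcardP, hcard22], hK, hPfin⟩

/-- the subgroup of the presented `Fi₂₃` generated by `a, …, i` is a non-split double cover of the presented
`Fi₂₂` -/
theorem cover : Cfsg.IsNonsplitDoubleCover HH Cfsg.Spor.Fi22 := by
  obtain ⟨e, π, hπs, hcardP, hK, hPfin⟩ := cover_data
  exact nonsplitDoubleCover_of_equiv e π hπs hcardP hK hperf

end Cfsg.Agent.Lib.Helper25.TC.Fi23Cover
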