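import Cfsg.Agent.Lib.Helper25.TCFi23Y

set_option autoImplicit false
set_option maxRecDepth 1000000
set_option linter.unusedVariables false
set_option Elab.async false

namespace Cfsg.Agent.Lib.Helper25.TC.Fi23Y

open Cfsg.Agent.Lib.Helper25.TC Cfsg.Agent.Lib.Helper25.TC.Fi23_31671

theorem k_yp_0 : allR ckY 5 0 = true := by decide +kernel
theorem k_yp_1 : allR ckY 5 32 = true := by decide +kernel
theorem k_yp_2 : allR ckY 5 64 = true := by decide +kernel
theorem k_yp_3 : allR ckY 5 96 = true := by decide +kernel
theorem k_yp_4 : allR ckY 5 128 = true := by decide +kernel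
theorem k_yp_5 : allR ckY 5 160 = true := by decide +kernel
theorem k_yp_6 : allR ckY 5 192 = true := by decide +kernel
theorem k_yp_7 : allR ckY 5 224 = true := by decide +kernel
theorem k_yp_8 : allR ckY 5 256 = true := by decide +kernel
theorem k_yp_9 : allR ckY 5 288 = true := by decide +kernel
theorem k_yp_10 : allR ckY 5 320 = true := by decide +kernel
theorem k_yp_11 : allR ckY 5 352 = true := by decide +kernel
theorem k_yp_12 : allR ckY 5 384 = true := by decide +kernel
theorem k_yp_13 : allR ckY 5 416 = true := by decide +kernel
theorem k_yp_14 : allR ckY 5 448 = true := by decide +kernel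
theorem k_yp_15 : allR ckY 5 480 = true := by decide +kernel
theorem k_yp_16 : allR ckY 5 512 = true := by decide +kernel
theorem k_yp_17 : allR ckY 5 544 = true := by decide +kernel
theorem k_yp_18 : allR ckY 5 576 = true := by decide +kernel
theorem k_yp_19 : allR ckY 5 608 = true := by decide +kernel
theorem k_yp_20 : allR ckY 5 640 = true := by decide +kernel
theorem k_yp_21 : allR ckY 5 672 = true := by decide +kernel
theorem k_yp_22 : allR ckY 5 704 = true := by decide +kernel
theorem k_yp_23 : allR ckY 5 736 = true := by decide +kernel

end Cfsg.Agent.Lib.Helper25.TC.Fi23Y
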