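import Cfsg.Agent.Lib.Helper25.TCFi23Y

set_option autoImplicit false
set_option maxRecDepth 1000000
set_option linter.unusedVariables false
set_option Elab.async false

namespace Cfsg.Agent.Lib.Helper25.TC.Fi23Y

open Cfsg.Agent.Lib.Helper25.TC Cfsg.Agent.Lib.Helper25.TC.Fi23_31671

theorem k_yp_24 : allR ckY 5 768 = true := by decide +kernel
theorem k_yp_25 : allR ckY 5 800 = true := by decide +kernel
theorem k_yp_26 : allR ckY 5 832 = true := by decide +kernel
theorem k_yp_27 : allR ckY 5 864 = true := by decide +kernel
theorem k_yp_28 : allR ckY 5 896 = true := by decide +kernel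
theorem k_yp_29 : allR ckY 5 928 = true := by decide +kernel
theorem k_yp_30 : allR ckY 5 960 = true := by decide +kernel
theorem k_yp_31 : allR ckY 5 992 = true := by decide +kernel
theorem k_yp_32 : allR ckY 5 1024 = true := by decide +kernel
theorem k_yp_33 : allR ckY 5 1056 = true := by decide +kernel
theorem k_yp_34 : allR ckY 5 1088 = true := by decide +kernel
theorem k_yp_35 : allR ckY 5 1120 = true := by decide +kernel
theorem k_yp_36 : allR ckY 5 1152 = true := by decide +kernel
theorem k_yp_37 : allR ckY 5 1184 = true := by decide +kernel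
theorem k_yp_38 : allR ckY 5 1216 = true := by decide +kernel
theorem k_yp_39 : allR ckY 5 1248 = true := by decide +kernel
theorem k_yp_40 : allR ckY 5 1280 = true := by decide +kernel
theorem k_yp_41 : allR ckY 5 1312 = true := by decide +kernel
theorem k_yp_42 : allR ckY 5 1344 = true := by decide +kernel
theorem k_yp_43 : allR ckY 5 1376 = true := by decide +kernel
theorem k_yp_44 : allR ckY 5 1408 = true := by decide +kernel
theorem k_yp_45 : allR ckY 5 1440 = true := by decide +kernel
theorem k_yp_46 : allR ckY 5 1472 = true := by decide +kernel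
theorem k_yp_47 : allR ckY 5 1504 = true := by decide +kernel

end Cfsg.Agent.Lib.Helper25.TC.Fi23Y
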