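import Cfsg.Agent.Lib.Helper25.TCFi23Y

set_option autoImplicit false
set_option maxRecDepth 1000000
set_option linter.unusedVariables false
set_option Elab.async false

namespace Cfsg.Agent.Lib.Helper25.TC.Fi23Y

open Cfsg.Agent.Lib.Helper25.TC Cfsg.Agent.Lib.Helper25.TC.Fi23_31671

theorem k_yp_264 : allR ckY 5 8448 = true := by decide +kernel
theorem k_yp_265 : allR ckY 5 8480 = true := by decide +kernel
theorem k_yp_266 : allR ckY 5 8512 = true := by decide +kernel
theorem k_yp_267 : allR ckY 5 8544 = true := by decide +kernel
theorem k_yp_268 : allR ckY 5 8576 = true := by decide +kernel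
theorem k_yp_269 : allR ckY 5 8608 = true := by decide +kernel
theorem k_yp_270 : allR ckY 5 8640 = true := by decide +kernel
theorem k_yp_271 : allR ckY 5 8672 = true := by decide +kernel
theorem k_yp_272 : allR ckY 5 8704 = true := by decide +kernel
theorem k_yp_273 : allR ckY 5 8736 = true := by decide +kernel
theorem k_yp_274 : allR ckY 5 8768 = true := by decide +kernel
theorem k_yp_275 : allR ckY 5 8800 = true := by decide +kernel
theorem k_yp_276 : allR ckY 5 8832 = true := by decide +kernel
theorem k_yp_277 : allR ckY 5 8864 = true := by decide +kernel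
theorem k_yp_278 : allR ckY 5 8896 = true := by decide +kernel
theorem k_yp_279 : allR ckY 5 8928 = true := by decide +kernel
theorem k_yp_280 : allR ckY 5 8960 = true := by decide +kernel
theorem k_yp_281 : allR ckY 5 8992 = true := by decide +kernel
theorem k_yp_282 : allR ckY 5 9024 = true := by decide +kernel
theorem k_yp_283 : allR ckY 5 9056 = true := by decide +kernel
theorem k_yp_284 : allR ckY 5 9088 = true := by decide +kernel
theorem k_yp_285 : allR ckY 5 9120 = true := by decide +kernel
theorem k_yp_286 : allR ckY 5 9152 = true := by decide +kernel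
theorem k_yp_287 : allR ckY 5 9184 = true := by decide +kernel

end Cfsg.Agent.Lib.Helper25.TC.Fi23Y
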