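import Cfsg.Agent.Lib.Helper25.TCFi23Y

set_option autoImplicit false
set_option maxRecDepth 1000000
set_option linter.unusedVariables false
set_option Elab.async false

namespace Cfsg.Agent.Lib.Helper25.TC.Fi23Y

open Cfsg.Agent.Lib.Helper25.TC Cfsg.Agent.Lib.Helper25.TC.Fi23_31671

theorem k_yp_288 : allR ckY 5 9216 = true := by decide +kernel
theorem k_yp_289 : allR ckY 5 9248 = true := by decide +kernel
theorem k_yp_290 : allR ckY 5 9280 = true := by decide +kernel
theorem k_yp_291 : allR ckY 5 9312 = true := by decide +kernel
theorem k_yp_292 : allR ckY 5 9344 = true := by decide +kernel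
theorem k_yp_293 : allR ckY 5 9376 = true := by decide +kernel
theorem k_yp_294 : allR ckY 5 9408 = true := by decide +kernel
theorem k_yp_295 : allR ckY 5 9440 = true := by decide +kernel
theorem k_yp_296 : allR ckY 5 9472 = true := by decide +kernel
theorem k_yp_297 : allR ckY 5 9504 = true := by decide +kernel
theorem k_yp_298 : allR ckY 5 9536 = true := by decide +kernel
theorem k_yp_299 : allR ckY 5 9568 = true := by decide +kernel
theorem k_yp_300 : allR ckY 5 9600 = true := by decide +kernel
theorem k_yp_301 : allR ckY 5 9632 = true := by decide +kernel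
theorem k_yp_302 : allR ckY 5 9664 = true := by decide +kernel
theorem k_yp_303 : allR ckY 5 9696 = true := by decide +kernel
theorem k_yp_304 : allR ckY 5 9728 = true := by decide +kernel
theorem k_yp_305 : allR ckY 5 9760 = true := by decide +kernel
theorem k_yp_306 : allR ckY 5 9792 = true := by decide +kernel
theorem k_yp_307 : allR ckY 5 9824 = true := by decide +kernel
theorem k_yp_308 : allR ckY 5 9856 = true := by decide +kernel
theorem k_yp_309 : allR ckY 5 9888 = true := by decide +kernel
theorem k_yp_310 : allR ckY 5 9920 = true := by decide +kernel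
theorem k_yp_311 : allR ckY 5 9952 = true := by decide +kernel

end Cfsg.Agent.Lib.Helper25.TC.Fi23Y
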