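import Cfsg.Agent.Lib.Helper25.TCFi23Y

set_option autoImplicit false
set_option maxRecDepth 1000000
set_option linter.unusedVariables false
set_option Elab.async false

namespace Cfsg.Agent.Lib.Helper25.TC.Fi23Y

open Cfsg.Agent.Lib.Helper25.TC Cfsg.Agent.Lib.Helper25.TC.Fi23_31671

theorem k_yp_312 : allR ckY 5 9984 = true := by decide +kernel
theorem k_yp_313 : allR ckY 5 10016 = true := by decide +kernel
theorem k_yp_314 : allR ckY 5 10048 = true := by decide +kernel
theorem k_yp_315 : allR ckY 5 10080 = true := by decide +kernel
theorem k_yp_316 : allR ckY 5 10112 = true := by decide +kernel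
theorem k_yp_317 : allR ckY 5 10144 = true := by decide +kernel
theorem k_yp_318 : allR ckY 5 10176 = true := by decide +kernel
theorem k_yp_319 : allR ckY 5 10208 = true := by decide +kernel
theorem k_yp_320 : allR ckY 5 10240 = true := by decide +kernel
theorem k_yp_321 : allR ckY 5 10272 = true := by decide +kernel
theorem k_yp_322 : allR ckY 5 10304 = true := by decide +kernel
theorem k_yp_323 : allR ckY 5 10336 = true := by decide +kernel
theorem k_yp_324 : allR ckY 5 10368 = true := by decide +kernel
theorem k_yp_325 : allR ckY 5 10400 = true := by decide +kernel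
theorem k_yp_326 : allR ckY 5 10432 = true := by decide +kernel
theorem k_yp_327 : allR ckY 5 10464 = true := by decide +kernel
theorem k_yp_328 : allR ckY 5 10496 = true := by decide +kernel
theorem k_yp_329 : allR ckY 5 10528 = true := by decide +kernel
theorem k_yp_330 : allR ckY 5 10560 = true := by decide +kernel
theorem k_yp_331 : allR ckY 5 10592 = true := by decide +kernel
theorem k_yp_332 : allR ckY 5 10624 = true := by decide +kernel
theorem k_yp_333 : allR ckY 5 10656 = true := by decide +kernel
theorem k_yp_334 : allR ckY 5 10688 = true := by decide +kernel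
theorem k_yp_335 : allR ckY 5 10720 = true := by decide +kernel

end Cfsg.Agent.Lib.Helper25.TC.Fi23Y
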