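import Cfsg.Agent.Lib.Helper25.TCFi23Y

set_option autoImplicit false
set_option maxRecDepth 1000000
set_option linter.unusedVariables false
set_option Elab.async false

namespace Cfsg.Agent.Lib.Helper25.TC.Fi23Y

open Cfsg.Agent.Lib.Helper25.TC Cfsg.Agent.Lib.Helper25.TC.Fi23_31671

theorem k_yp_336 : allR ckY 5 10752 = true := by decide +kernel
theorem k_yp_337 : allR ckY 5 10784 = true := by decide +kernel
theorem k_yp_338 : allR ckY 5 10816 = true := by decide +kernel
theorem k_yp_339 : allR ckY 5 10848 = true := by decide +kernel
theorem k_yp_340 : allR ckY 5 10880 = true := by decide +kernel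
theorem k_yp_341 : allR ckY 5 10912 = true := by decide +kernel
theorem k_yp_342 : allR ckY 5 10944 = true := by decide +kernel
theorem k_yp_343 : allR ckY 5 10976 = true := by decide +kernel
theorem k_yp_344 : allR ckY 5 11008 = true := by decide +kernel
theorem k_yp_345 : allR ckY 5 11040 = true := by decide +kernel
theorem k_yp_346 : allR ckY 5 11072 = true := by decide +kernel
theorem k_yp_347 : allR ckY 5 11104 = true := by decide +kernel
theorem k_yp_348 : allR ckY 5 11136 = true := by decide +kernel
theorem k_yp_349 : allR ckY 5 11168 = true := by decide +kernel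
theorem k_yp_350 : allR ckY 5 11200 = true := by decide +kernel
theorem k_yp_351 : allR ckY 5 11232 = true := by decide +kernel
theorem k_yp_352 : allR ckY 5 11264 = true := by decide +kernel
theorem k_yp_353 : allR ckY 5 11296 = true := by decide +kernel
theorem k_yp_354 : allR ckY 5 11328 = true := by decide +kernel
theorem k_yp_355 : allR ckY 5 11360 = true := by decide +kernel
theorem k_yp_356 : allR ckY 5 11392 = true := by decide +kernel
theorem k_yp_357 : allR ckY 5 11424 = true := by decide +kernel
theorem k_yp_358 : allR ckY 5 11456 = true := by decide +kernel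
theorem k_yp_359 : allR ckY 5 11488 = true := by decide +kernel

end Cfsg.Agent.Lib.Helper25.TC.Fi23Y
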