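import Cfsg.Agent.Lib.Helper25.TCFi23Y

set_option autoImplicit false
set_option maxRecDepth 1000000
set_option linter.unusedVariables false
set_option Elab.async false

namespace Cfsg.Agent.Lib.Helper25.TC.Fi23Y

open Cfsg.Agent.Lib.Helper25.TC Cfsg.Agent.Lib.Helper25.TC.Fi23_31671

theorem k_yp_360 : allR ckY 5 11520 = true := by decide +kernel
theorem k_yp_361 : allR ckY 5 11552 = true := by decide +kernel
theorem k_yp_362 : allR ckY 5 11584 = true := by decide +kernel
theorem k_yp_363 : allR ckY 5 11616 = true := by decide +kernel
theorem k_yp_364 : allR ckY 5 11648 = true := by decide +kernel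
theorem k_yp_365 : allR ckY 5 11680 = true := by decide +kernel
theorem k_yp_366 : allR ckY 5 11712 = true := by decide +kernel
theorem k_yp_367 : allR ckY 5 11744 = true := by decide +kernel
theorem k_yp_368 : allR ckY 5 11776 = true := by decide +kernel
theorem k_yp_369 : allR ckY 5 11808 = true := by decide +kernel
theorem k_yp_370 : allR ckY 5 11840 = true := by decide +kernel
theorem k_yp_371 : allR ckY 5 11872 = true := by decide +kernel
theorem k_yp_372 : allR ckY 5 11904 = true := by decide +kernel
theorem k_yp_373 : allR ckY 5 11936 = true := by decide +kernel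
theorem k_yp_374 : allR ckY 5 11968 = true := by decide +kernel
theorem k_yp_375 : allR ckY 5 12000 = true := by decide +kernel
theorem k_yp_376 : allR ckY 5 12032 = true := by decide +kernel
theorem k_yp_377 : allR ckY 5 12064 = true := by decide +kernel
theorem k_yp_378 : allR ckY 5 12096 = true := by decide +kernel
theorem k_yp_379 : allR ckY 5 12128 = true := by decide +kernel
theorem k_yp_380 : allR ckY 5 12160 = true := by decide +kernel
theorem k_yp_381 : allR ckY 5 12192 = true := by decide +kernel
theorem k_yp_382 : allR ckY 5 12224 = true := by decide +kernel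
theorem k_yp_383 : allR ckY 5 12256 = true := by decide +kernel

end Cfsg.Agent.Lib.Helper25.TC.Fi23Y
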