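import Cfsg.Agent.Lib.Helper25.TCFi23Y

set_option autoImplicit false
set_option maxRecDepth 1000000
set_option linter.unusedVariables false
set_option Elab.async false

namespace Cfsg.Agent.Lib.Helper25.TC.Fi23Y

open Cfsg.Agent.Lib.Helper25.TC Cfsg.Agent.Lib.Helper25.TC.Fi23_31671

theorem k_yp_384 : allR ckY 5 12288 = true := by decide +kernel
theorem k_yp_385 : allR ckY 5 12320 = true := by decide +kernel
theorem k_yp_386 : allR ckY 5 12352 = true := by decide +kernel
theorem k_yp_387 : allR ckY 5 12384 = true := by decide +kernel
theorem k_yp_388 : allR ckY 5 12416 = true := by decide +kernel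
theorem k_yp_389 : allR ckY 5 12448 = true := by decide +kernel
theorem k_yp_390 : allR ckY 5 12480 = true := by decide +kernel
theorem k_yp_391 : allR ckY 5 12512 = true := by decide +kernel
theorem k_yp_392 : allR ckY 5 12544 = true := by decide +kernel
theorem k_yp_393 : allR ckY 5 12576 = true := by decide +kernel
theorem k_yp_394 : allR ckY 5 12608 = true := by decide +kernel
theorem k_yp_395 : allR ckY 5 12640 = true := by decide +kernel
theorem k_yp_396 : allR ckY 5 12672 = true := by decide +kernel
theorem k_yp_397 : allR ckY 5 12704 = true := by decide +kernel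
theorem k_yp_398 : allR ckY 5 12736 = true := by decide +kernel
theorem k_yp_399 : allR ckY 5 12768 = true := by decide +kernel
theorem k_yp_400 : allR ckY 5 12800 = true := by decide +kernel
theorem k_yp_401 : allR ckY 5 12832 = true := by decide +kernel
theorem k_yp_402 : allR ckY 5 12864 = true := by decide +kernel
theorem k_yp_403 : allR ckY 5 12896 = true := by decide +kernel
theorem k_yp_404 : allR ckY 5 12928 = true := by decide +kernel
theorem k_yp_405 : allR ckY 5 12960 = true := by decide +kernel
theorem k_yp_406 : allR ckY 5 12992 = true := by decide +kernel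
theorem k_yp_407 : allR ckY 5 13024 = true := by decide +kernel

end Cfsg.Agent.Lib.Helper25.TC.Fi23Y
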