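import Cfsg.Agent.Lib.Helper25.TCFi23Y

set_option autoImplicit false
set_option maxRecDepth 1000000
set_option linter.unusedVariables false
set_option Elab.async false

namespace Cfsg.Agent.Lib.Helper25.TC.Fi23Y

open Cfsg.Agent.Lib.Helper25.TC Cfsg.Agent.Lib.Helper25.TC.Fi23_31671

theorem k_yp_408 : allR ckY 5 13056 = true := by decide +kernel
theorem k_yp_409 : allR ckY 5 13088 = true := by decide +kernel
theorem k_yp_410 : allR ckY 5 13120 = true := by decide +kernel
theorem k_yp_411 : allR ckY 5 13152 = true := by decide +kernel
theorem k_yp_412 : allR ckY 5 13184 = true := by decide +kernel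
theorem k_yp_413 : allR ckY 5 13216 = true := by decide +kernel
theorem k_yp_414 : allR ckY 5 13248 = true := by decide +kernel
theorem k_yp_415 : allR ckY 5 13280 = true := by decide +kernel
theorem k_yp_416 : allR ckY 5 13312 = true := by decide +kernel
theorem k_yp_417 : allR ckY 5 13344 = true := by decide +kernel
theorem k_yp_418 : allR ckY 5 13376 = true := by decide +kernel
theorem k_yp_419 : allR ckY 5 13408 = true := by decide +kernel
theorem k_yp_420 : allR ckY 5 13440 = true := by decide +kernel
theorem k_yp_421 : allR ckY 5 13472 = true := by decide +kernel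
theorem k_yp_422 : allR ckY 5 13504 = true := by decide +kernel
theorem k_yp_423 : allR ckY 5 13536 = true := by decide +kernel
theorem k_yp_424 : allR ckY 5 13568 = true := by decide +kernel
theorem k_yp_425 : allR ckY 5 13600 = true := by decide +kernel
theorem k_yp_426 : allR ckY 5 13632 = true := by decide +kernel
theorem k_yp_427 : allR ckY 5 13664 = true := by decide +kernel
theorem k_yp_428 : allR ckY 5 13696 = true := by decide +kernel
theorem k_yp_429 : allR ckY 5 13728 = true := by decide +kernel
theorem k_yp_430 : allR ckY 5 13760 = true := by decide +kernel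
theorem k_yp_431 : allR ckY 5 13792 = true := by decide +kernel

end Cfsg.Agent.Lib.Helper25.TC.Fi23Y
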