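import Cfsg.Agent.Lib.Helper25.TCFi23Y

set_option autoImplicit false
set_option maxRecDepth 1000000
set_option linter.unusedVariables false
set_option Elab.async false

namespace Cfsg.Agent.Lib.Helper25.TC.Fi23Y

open Cfsg.Agent.Lib.Helper25.TC Cfsg.Agent.Lib.Helper25.TC.Fi23_31671

theorem k_yp_432 : allR ckY 5 13824 = true := by decide +kernel
theorem k_yp_433 : allR ckY 5 13856 = true := by decide +kernel
theorem k_yp_434 : allR ckY 5 13888 = true := by decide +kernel
theorem k_yp_435 : allR ckY 5 13920 = true := by decide +kernel
theorem k_yp_436 : allR ckY 5 13952 = true := by decide +kernel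
theorem k_yp_437 : allR ckY 5 13984 = true := by decide +kernel
theorem k_yp_438 : allR ckY 5 14016 = true := by decide +kernel
theorem k_yp_439 : allR ckY 5 14048 = true := by decide +kernel
theorem k_yp_440 : allR ckY 5 14080 = true := by decide +kernel
theorem k_yp_441 : allR ckY 5 14112 = true := by decide +kernel
theorem k_yp_442 : allR ckY 5 14144 = true := by decide +kernel
theorem k_yp_443 : allR ckY 5 14176 = true := by decide +kernel
theorem k_yp_444 : allR ckY 5 14208 = true := by decide +kernel
theorem k_yp_445 : allR ckY 5 14240 = true := by decide +kernel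
theorem k_yp_446 : allR ckY 5 14272 = true := by decide +kernel
theorem k_yp_447 : allR ckY 5 14304 = true := by decide +kernel
theorem k_yp_448 : allR ckY 5 14336 = true := by decide +kernel
theorem k_yp_449 : allR ckY 5 14368 = true := by decide +kernel
theorem k_yp_450 : allR ckY 5 14400 = true := by decide +kernel
theorem k_yp_451 : allR ckY 5 14432 = true := by decide +kernel
theorem k_yp_452 : allR ckY 5 14464 = true := by decide +kernel
theorem k_yp_453 : allR ckY 5 14496 = true := by decide +kernel
theorem k_yp_454 : allR ckY 5 14528 = true := by decide +kernel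
theorem k_yp_455 : allR ckY 5 14560 = true := by decide +kernel

end Cfsg.Agent.Lib.Helper25.TC.Fi23Y
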