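import Cfsg.Agent.Lib.Helper25.TCFi23Y

set_option autoImplicit false
set_option maxRecDepth 1000000
set_option linter.unusedVariables false
set_option Elab.async false

namespace Cfsg.Agent.Lib.Helper25.TC.Fi23Y

open Cfsg.Agent.Lib.Helper25.TC Cfsg.Agent.Lib.Helper25.TC.Fi23_31671

theorem k_yp_456 : allR ckY 5 14592 = true := by decide +kernel
theorem k_yp_457 : allR ckY 5 14624 = true := by decide +kernel
theorem k_yp_458 : allR ckY 5 14656 = true := by decide +kernel
theorem k_yp_459 : allR ckY 5 14688 = true := by decide +kernel
theorem k_yp_460 : allR ckY 5 14720 = true := by decide +kernel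
theorem k_yp_461 : allR ckY 5 14752 = true := by decide +kernel
theorem k_yp_462 : allR ckY 5 14784 = true := by decide +kernel
theorem k_yp_463 : allR ckY 5 14816 = true := by decide +kernel
theorem k_yp_464 : allR ckY 5 14848 = true := by decide +kernel
theorem k_yp_465 : allR ckY 5 14880 = true := by decide +kernel
theorem k_yp_466 : allR ckY 5 14912 = true := by decide +kernel
theorem k_yp_467 : allR ckY 5 14944 = true := by decide +kernel
theorem k_yp_468 : allR ckY 5 14976 = true := by decide +kernel
theorem k_yp_469 : allR ckY 5 15008 = true := by decide +kernel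
theorem k_yp_470 : allR ckY 5 15040 = true := by decide +kernel
theorem k_yp_471 : allR ckY 5 15072 = true := by decide +kernel
theorem k_yp_472 : allR ckY 5 15104 = true := by decide +kernel
theorem k_yp_473 : allR ckY 5 15136 = true := by decide +kernel
theorem k_yp_474 : allR ckY 5 15168 = true := by decide +kernel
theorem k_yp_475 : allR ckY 5 15200 = true := by decide +kernel
theorem k_yp_476 : allR ckY 5 15232 = true := by decide +kernel
theorem k_yp_477 : allR ckY 5 15264 = true := by decide +kernel
theorem k_yp_478 : allR ckY 5 15296 = true := by decide +kernel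
theorem k_yp_479 : allR ckY 5 15328 = true := by decide +kernel

end Cfsg.Agent.Lib.Helper25.TC.Fi23Y
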