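import Cfsg.Agent.Lib.Helper25.TCFi23Y

set_option autoImplicit false
set_option maxRecDepth 1000000
set_option linter.unusedVariables false
set_option Elab.async false

namespace Cfsg.Agent.Lib.Helper25.TC.Fi23Y

open Cfsg.Agent.Lib.Helper25.TC Cfsg.Agent.Lib.Helper25.TC.Fi23_31671

theorem k_yp_48 : allR ckY 5 1536 = true := by decide +kernel
theorem k_yp_49 : allR ckY 5 1568 = true := by decide +kernel
theorem k_yp_50 : allR ckY 5 1600 = true := by decide +kernel
theorem k_yp_51 : allR ckY 5 1632 = true := by decide +kernel
theorem k_yp_52 : allR ckY 5 1664 = true := by decide +kernel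
theorem k_yp_53 : allR ckY 5 1696 = true := by decide +kernel
theorem k_yp_54 : allR ckY 5 1728 = true := by decide +kernel
theorem k_yp_55 : allR ckY 5 1760 = true := by decide +kernel
theorem k_yp_56 : allR ckY 5 1792 = true := by decide +kernel
theorem k_yp_57 : allR ckY 5 1824 = true := by decide +kernel
theorem k_yp_58 : allR ckY 5 1856 = true := by decide +kernel
theorem k_yp_59 : allR ckY 5 1888 = true := by decide +kernel
theorem k_yp_60 : allR ckY 5 1920 = true := by decide +kernel
theorem k_yp_61 : allR ckY 5 1952 = true := by decide +kernel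
theorem k_yp_62 : allR ckY 5 1984 = true := by decide +kernel
theorem k_yp_63 : allR ckY 5 2016 = true := by decide +kernel
theorem k_yp_64 : allR ckY 5 2048 = true := by decide +kernel
theorem k_yp_65 : allR ckY 5 2080 = true := by decide +kernel
theorem k_yp_66 : allR ckY 5 2112 = true := by decide +kernel
theorem k_yp_67 : allR ckY 5 2144 = true := by decide +kernel
theorem k_yp_68 : allR ckY 5 2176 = true := by decide +kernel
theorem k_yp_69 : allR ckY 5 2208 = true := by decide +kernel
theorem k_yp_70 : allR ckY 5 2240 = true := by decide +kernel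
theorem k_yp_71 : allR ckY 5 2272 = true := by decide +kernel

end Cfsg.Agent.Lib.Helper25.TC.Fi23Y
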