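import Cfsg.Agent.Lib.Helper25.TCFi23Y

set_option autoImplicit false
set_option maxRecDepth 1000000
set_option linter.unusedVariables false
set_option Elab.async false

namespace Cfsg.Agent.Lib.Helper25.TC.Fi23Y

open Cfsg.Agent.Lib.Helper25.TC Cfsg.Agent.Lib.Helper25.TC.Fi23_31671

theorem k_yp_480 : allR ckY 5 15360 = true := by decide +kernel
theorem k_yp_481 : allR ckY 5 15392 = true := by decide +kernel
theorem k_yp_482 : allR ckY 5 15424 = true := by decide +kernel
theorem k_yp_483 : allR ckY 5 15456 = true := by decide +kernel
theorem k_yp_484 : allR ckY 5 15488 = true := by decide +kernel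
theorem k_yp_485 : allR ckY 5 15520 = true := by decide +kernel
theorem k_yp_486 : allR ckY 5 15552 = true := by decide +kernel
theorem k_yp_487 : allR ckY 5 15584 = true := by decide +kernel
theorem k_yp_488 : allR ckY 5 15616 = true := by decide +kernel
theorem k_yp_489 : allR ckY 5 15648 = true := by decide +kernel
theorem k_yp_490 : allR ckY 5 15680 = true := by decide +kernel
theorem k_yp_491 : allR ckY 5 15712 = true := by decide +kernel
theorem k_yp_492 : allR ckY 5 15744 = true := by decide +kernel
theorem k_yp_493 : allR ckY 5 15776 = true := by decide +kernel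
theorem k_yp_494 : allR ckY 5 15808 = true := by decide +kernel
theorem k_yp_495 : allR ckY 5 15840 = true := by decide +kernel
theorem k_yp_496 : allR ckY 5 15872 = true := by decide +kernel
theorem k_yp_497 : allR ckY 5 15904 = true := by decide +kernel
theorem k_yp_498 : allR ckY 5 15936 = true := by decide +kernel
theorem k_yp_499 : allR ckY 5 15968 = true := by decide +kernel
theorem k_yp_500 : allR ckY 5 16000 = true := by decide +kernel
theorem k_yp_501 : allR ckY 5 16032 = true := by decide +kernel
theorem k_yp_502 : allR ckY 5 16064 = true := by decide +kernel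
theorem k_yp_503 : allR ckY 5 16096 = true := by decide +kernel

end Cfsg.Agent.Lib.Helper25.TC.Fi23Y
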