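import Cfsg.Agent.Lib.Helper25.TCFi23Y

set_option autoImplicit false
set_option maxRecDepth 1000000
set_option linter.unusedVariables false
set_option Elab.async false

namespace Cfsg.Agent.Lib.Helper25.TC.Fi23Y

open Cfsg.Agent.Lib.Helper25.TC Cfsg.Agent.Lib.Helper25.TC.Fi23_31671

theorem k_yp_504 : allR ckY 5 16128 = true := by decide +kernel
theorem k_yp_505 : allR ckY 5 16160 = true := by decide +kernel
theorem k_yp_506 : allR ckY 5 16192 = true := by decide +kernel
theorem k_yp_507 : allR ckY 5 16224 = true := by decide +kernel
theorem k_yp_508 : allR ckY 5 16256 = true := by decide +kernel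
theorem k_yp_509 : allR ckY 5 16288 = true := by decide +kernel
theorem k_yp_510 : allR ckY 5 16320 = true := by decide +kernel
theorem k_yp_511 : allR ckY 5 16352 = true := by decide +kernel
theorem k_yp_512 : allR ckY 5 16384 = true := by decide +kernel
theorem k_yp_513 : allR ckY 5 16416 = true := by decide +kernel
theorem k_yp_514 : allR ckY 5 16448 = true := by decide +kernel
theorem k_yp_515 : allR ckY 5 16480 = true := by decide +kernel
theorem k_yp_516 : allR ckY 5 16512 = true := by decide +kernel
theorem k_yp_517 : allR ckY 5 16544 = true := by decide +kernel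
theorem k_yp_518 : allR ckY 5 16576 = true := by decide +kernel
theorem k_yp_519 : allR ckY 5 16608 = true := by decide +kernel
theorem k_yp_520 : allR ckY 5 16640 = true := by decide +kernel
theorem k_yp_521 : allR ckY 5 16672 = true := by decide +kernel
theorem k_yp_522 : allR ckY 5 16704 = true := by decide +kernel
theorem k_yp_523 : allR ckY 5 16736 = true := by decide +kernel
theorem k_yp_524 : allR ckY 5 16768 = true := by decide +kernel
theorem k_yp_525 : allR ckY 5 16800 = true := by decide +kernel
theorem k_yp_526 : allR ckY 5 16832 = true := by decide +kernel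
theorem k_yp_527 : allR ckY 5 16864 = true := by decide +kernel

end Cfsg.Agent.Lib.Helper25.TC.Fi23Y
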