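import Cfsg.Agent.Lib.Helper25.TCFi23Y

set_option autoImplicit false
set_option maxRecDepth 1000000
set_option linter.unusedVariables false
set_option Elab.async false

namespace Cfsg.Agent.Lib.Helper25.TC.Fi23Y

open Cfsg.Agent.Lib.Helper25.TC Cfsg.Agent.Lib.Helper25.TC.Fi23_31671

theorem k_yp_552 : allR ckY 5 17664 = true := by decide +kernel
theorem k_yp_553 : allR ckY 5 17696 = true := by decide +kernel
theorem k_yp_554 : allR ckY 5 17728 = true := by decide +kernel
theorem k_yp_555 : allR ckY 5 17760 = true := by decide +kernel
theorem k_yp_556 : allR ckY 5 17792 = true := by decide +kernel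
theorem k_yp_557 : allR ckY 5 17824 = true := by decide +kernel
theorem k_yp_558 : allR ckY 5 17856 = true := by decide +kernel
theorem k_yp_559 : allR ckY 5 17888 = true := by decide +kernel
theorem k_yp_560 : allR ckY 5 17920 = true := by decide +kernel
theorem k_yp_561 : allR ckY 5 17952 = true := by decide +kernel
theorem k_yp_562 : allR ckY 5 17984 = true := by decide +kernel
theorem k_yp_563 : allR ckY 5 18016 = true := by decide +kernel
theorem k_yp_564 : allR ckY 5 18048 = true := by decide +kernel
theorem k_yp_565 : allR ckY 5 18080 = true := by decide +kernel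
theorem k_yp_566 : allR ckY 5 18112 = true := by decide +kernel
theorem k_yp_567 : allR ckY 5 18144 = true := by decide +kernel
theorem k_yp_568 : allR ckY 5 18176 = true := by decide +kernel
theorem k_yp_569 : allR ckY 5 18208 = true := by decide +kernel
theorem k_yp_570 : allR ckY 5 18240 = true := by decide +kernel
theorem k_yp_571 : allR ckY 5 18272 = true := by decide +kernel
theorem k_yp_572 : allR ckY 5 18304 = true := by decide +kernel
theorem k_yp_573 : allR ckY 5 18336 = true := by decide +kernel
theorem k_yp_574 : allR ckY 5 18368 = true := by decide +kernel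
theorem k_yp_575 : allR ckY 5 18400 = true := by decide +kernel

end Cfsg.Agent.Lib.Helper25.TC.Fi23Y
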