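import Cfsg.Agent.Lib.Helper25.TCFi23Y

set_option autoImplicit false
set_option maxRecDepth 1000000
set_option linter.unusedVariables false
set_option Elab.async false

namespace Cfsg.Agent.Lib.Helper25.TC.Fi23Y

open Cfsg.Agent.Lib.Helper25.TC Cfsg.Agent.Lib.Helper25.TC.Fi23_31671

theorem k_yp_576 : allR ckY 5 18432 = true := by decide +kernel
theorem k_yp_577 : allR ckY 5 18464 = true := by decide +kernel
theorem k_yp_578 : allR ckY 5 18496 = true := by decide +kernel
theorem k_yp_579 : allR ckY 5 18528 = true := by decide +kernel
theorem k_yp_580 : allR ckY 5 18560 = true := by decide +kernel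
theorem k_yp_581 : allR ckY 5 18592 = true := by decide +kernel
theorem k_yp_582 : allR ckY 5 18624 = true := by decide +kernel
theorem k_yp_583 : allR ckY 5 18656 = true := by decide +kernel
theorem k_yp_584 : allR ckY 5 18688 = true := by decide +kernel
theorem k_yp_585 : allR ckY 5 18720 = true := by decide +kernel
theorem k_yp_586 : allR ckY 5 18752 = true := by decide +kernel
theorem k_yp_587 : allR ckY 5 18784 = true := by decide +kernel
theorem k_yp_588 : allR ckY 5 18816 = true := by decide +kernel
theorem k_yp_589 : allR ckY 5 18848 = true := by decide +kernel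
theorem k_yp_590 : allR ckY 5 18880 = true := by decide +kernel
theorem k_yp_591 : allR ckY 5 18912 = true := by decide +kernel
theorem k_yp_592 : allR ckY 5 18944 = true := by decide +kernel
theorem k_yp_593 : allR ckY 5 18976 = true := by decide +kernel
theorem k_yp_594 : allR ckY 5 19008 = true := by decide +kernel
theorem k_yp_595 : allR ckY 5 19040 = true := by decide +kernel
theorem k_yp_596 : allR ckY 5 19072 = true := by decide +kernel
theorem k_yp_597 : allR ckY 5 19104 = true := by decide +kernel
theorem k_yp_598 : allR ckY 5 19136 = true := by decide +kernel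
theorem k_yp_599 : allR ckY 5 19168 = true := by decide +kernel

end Cfsg.Agent.Lib.Helper25.TC.Fi23Y
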