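import Cfsg.Agent.Lib.Helper25.TCFi23Y

set_option autoImplicit false
set_option maxRecDepth 1000000
set_option linter.unusedVariables false
set_option Elab.async false

namespace Cfsg.Agent.Lib.Helper25.TC.Fi23Y

open Cfsg.Agent.Lib.Helper25.TC Cfsg.Agent.Lib.Helper25.TC.Fi23_31671

theorem k_yp_600 : allR ckY 5 19200 = true := by decide +kernel
theorem k_yp_601 : allR ckY 5 19232 = true := by decide +kernel
theorem k_yp_602 : allR ckY 5 19264 = true := by decide +kernel
theorem k_yp_603 : allR ckY 5 19296 = true := by decide +kernel
theorem k_yp_604 : allR ckY 5 19328 = true := by decide +kernel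
theorem k_yp_605 : allR ckY 5 19360 = true := by decide +kernel
theorem k_yp_606 : allR ckY 5 19392 = true := by decide +kernel
theorem k_yp_607 : allR ckY 5 19424 = true := by decide +kernel
theorem k_yp_608 : allR ckY 5 19456 = true := by decide +kernel
theorem k_yp_609 : allR ckY 5 19488 = true := by decide +kernel
theorem k_yp_610 : allR ckY 5 19520 = true := by decide +kernel
theorem k_yp_611 : allR ckY 5 19552 = true := by decide +kernel
theorem k_yp_612 : allR ckY 5 19584 = true := by decide +kernel
theorem k_yp_613 : allR ckY 5 19616 = true := by decide +kernel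
theorem k_yp_614 : allR ckY 5 19648 = true := by decide +kernel
theorem k_yp_615 : allR ckY 5 19680 = true := by decide +kernel
theorem k_yp_616 : allR ckY 5 19712 = true := by decide +kernel
theorem k_yp_617 : allR ckY 5 19744 = true := by decide +kernel
theorem k_yp_618 : allR ckY 5 19776 = true := by decide +kernel
theorem k_yp_619 : allR ckY 5 19808 = true := by decide +kernel
theorem k_yp_620 : allR ckY 5 19840 = true := by decide +kernel
theorem k_yp_621 : allR ckY 5 19872 = true := by decide +kernel
theorem k_yp_622 : allR ckY 5 19904 = true := by decide +kernel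
theorem k_yp_623 : allR ckY 5 19936 = true := by decide +kernel

end Cfsg.Agent.Lib.Helper25.TC.Fi23Y
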