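import Cfsg.Agent.Lib.Helper25.TCFi23Y

set_option autoImplicit false
set_option maxRecDepth 1000000
set_option linter.unusedVariables false
set_option Elab.async false

namespace Cfsg.Agent.Lib.Helper25.TC.Fi23Y

open Cfsg.Agent.Lib.Helper25.TC Cfsg.Agent.Lib.Helper25.TC.Fi23_31671

theorem k_yp_624 : allR ckY 5 19968 = true := by decide +kernel
theorem k_yp_625 : allR ckY 5 20000 = true := by decide +kernel
theorem k_yp_626 : allR ckY 5 20032 = true := by decide +kernel
theorem k_yp_627 : allR ckY 5 20064 = true := by decide +kernel
theorem k_yp_628 : allR ckY 5 20096 = true := by decide +kernel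
theorem k_yp_629 : allR ckY 5 20128 = true := by decide +kernel
theorem k_yp_630 : allR ckY 5 20160 = true := by decide +kernel
theorem k_yp_631 : allR ckY 5 20192 = true := by decide +kernel
theorem k_yp_632 : allR ckY 5 20224 = true := by decide +kernel
theorem k_yp_633 : allR ckY 5 20256 = true := by decide +kernel
theorem k_yp_634 : allR ckY 5 20288 = true := by decide +kernel
theorem k_yp_635 : allR ckY 5 20320 = true := by decide +kernel
theorem k_yp_636 : allR ckY 5 20352 = true := by decide +kernel
theorem k_yp_637 : allR ckY 5 20384 = true := by decide +kernel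
theorem k_yp_638 : allR ckY 5 20416 = true := by decide +kernel
theorem k_yp_639 : allR ckY 5 20448 = true := by decide +kernel
theorem k_yp_640 : allR ckY 5 20480 = true := by decide +kernel
theorem k_yp_641 : allR ckY 5 20512 = true := by decide +kernel
theorem k_yp_642 : allR ckY 5 20544 = true := by decide +kernel
theorem k_yp_643 : allR ckY 5 20576 = true := by decide +kernel
theorem k_yp_644 : allR ckY 5 20608 = true := by decide +kernel
theorem k_yp_645 : allR ckY 5 20640 = true := by decide +kernel
theorem k_yp_646 : allR ckY 5 20672 = true := by decide +kernel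
theorem k_yp_647 : allR ckY 5 20704 = true := by decide +kernel

end Cfsg.Agent.Lib.Helper25.TC.Fi23Y
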