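import Cfsg.Agent.Lib.Helper25.TCFi23Y

set_option autoImplicit false
set_option maxRecDepth 1000000
set_option linter.unusedVariables false
set_option Elab.async false

namespace Cfsg.Agent.Lib.Helper25.TC.Fi23Y

open Cfsg.Agent.Lib.Helper25.TC Cfsg.Agent.Lib.Helper25.TC.Fi23_31671

theorem k_yp_648 : allR ckY 5 20736 = true := by decide +kernel
theorem k_yp_649 : allR ckY 5 20768 = true := by decide +kernel
theorem k_yp_650 : allR ckY 5 20800 = true := by decide +kernel
theorem k_yp_651 : allR ckY 5 20832 = true := by decide +kernel
theorem k_yp_652 : allR ckY 5 20864 = true := by decide +kernel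
theorem k_yp_653 : allR ckY 5 20896 = true := by decide +kernel
theorem k_yp_654 : allR ckY 5 20928 = true := by decide +kernel
theorem k_yp_655 : allR ckY 5 20960 = true := by decide +kernel
theorem k_yp_656 : allR ckY 5 20992 = true := by decide +kernel
theorem k_yp_657 : allR ckY 5 21024 = true := by decide +kernel
theorem k_yp_658 : allR ckY 5 21056 = true := by decide +kernel
theorem k_yp_659 : allR ckY 5 21088 = true := by decide +kernel
theorem k_yp_660 : allR ckY 5 21120 = true := by decide +kernel
theorem k_yp_661 : allR ckY 5 21152 = true := by decide +kernel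
theorem k_yp_662 : allR ckY 5 21184 = true := by decide +kernel
theorem k_yp_663 : allR ckY 5 21216 = true := by decide +kernel
theorem k_yp_664 : allR ckY 5 21248 = true := by decide +kernel
theorem k_yp_665 : allR ckY 5 21280 = true := by decide +kernel
theorem k_yp_666 : allR ckY 5 21312 = true := by decide +kernel
theorem k_yp_667 : allR ckY 5 21344 = true := by decide +kernel
theorem k_yp_668 : allR ckY 5 21376 = true := by decide +kernel
theorem k_yp_669 : allR ckY 5 21408 = true := by decide +kernel
theorem k_yp_670 : allR ckY 5 21440 = true := by decide +kernel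
theorem k_yp_671 : allR ckY 5 21472 = true := by decide +kernel

end Cfsg.Agent.Lib.Helper25.TC.Fi23Y
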