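import Cfsg.Agent.Lib.Helper25.TCFi23Y

set_option autoImplicit false
set_option maxRecDepth 1000000
set_option linter.unusedVariables false
set_option Elab.async false

namespace Cfsg.Agent.Lib.Helper25.TC.Fi23Y

open Cfsg.Agent.Lib.Helper25.TC Cfsg.Agent.Lib.Helper25.TC.Fi23_31671

theorem k_yp_672 : allR ckY 5 21504 = true := by decide +kernel
theorem k_yp_673 : allR ckY 5 21536 = true := by decide +kernel
theorem k_yp_674 : allR ckY 5 21568 = true := by decide +kernel
theorem k_yp_675 : allR ckY 5 21600 = true := by decide +kernel
theorem k_yp_676 : allR ckY 5 21632 = true := by decide +kernel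
theorem k_yp_677 : allR ckY 5 21664 = true := by decide +kernel
theorem k_yp_678 : allR ckY 5 21696 = true := by decide +kernel
theorem k_yp_679 : allR ckY 5 21728 = true := by decide +kernel
theorem k_yp_680 : allR ckY 5 21760 = true := by decide +kernel
theorem k_yp_681 : allR ckY 5 21792 = true := by decide +kernel
theorem k_yp_682 : allR ckY 5 21824 = true := by decide +kernel
theorem k_yp_683 : allR ckY 5 21856 = true := by decide +kernel
theorem k_yp_684 : allR ckY 5 21888 = true := by decide +kernel
theorem k_yp_685 : allR ckY 5 21920 = true := by decide +kernel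
theorem k_yp_686 : allR ckY 5 21952 = true := by decide +kernel
theorem k_yp_687 : allR ckY 5 21984 = true := by decide +kernel
theorem k_yp_688 : allR ckY 5 22016 = true := by decide +kernel
theorem k_yp_689 : allR ckY 5 22048 = true := by decide +kernel
theorem k_yp_690 : allR ckY 5 22080 = true := by decide +kernel
theorem k_yp_691 : allR ckY 5 22112 = true := by decide +kernel
theorem k_yp_692 : allR ckY 5 22144 = true := by decide +kernel
theorem k_yp_693 : allR ckY 5 22176 = true := by decide +kernel
theorem k_yp_694 : allR ckY 5 22208 = true := by decide +kernel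
theorem k_yp_695 : allR ckY 5 22240 = true := by decide +kernel

end Cfsg.Agent.Lib.Helper25.TC.Fi23Y
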