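import Cfsg.Agent.Lib.Helper25.TCFi23Y

set_option autoImplicit false
set_option maxRecDepth 1000000
set_option linter.unusedVariables false
set_option Elab.async false

namespace Cfsg.Agent.Lib.Helper25.TC.Fi23Y

open Cfsg.Agent.Lib.Helper25.TC Cfsg.Agent.Lib.Helper25.TC.Fi23_31671

theorem k_yp_696 : allR ckY 5 22272 = true := by decide +kernel
theorem k_yp_697 : allR ckY 5 22304 = true := by decide +kernel
theorem k_yp_698 : allR ckY 5 22336 = true := by decide +kernel
theorem k_yp_699 : allR ckY 5 22368 = true := by decide +kernel
theorem k_yp_700 : allR ckY 5 22400 = true := by decide +kernel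
theorem k_yp_701 : allR ckY 5 22432 = true := by decide +kernel
theorem k_yp_702 : allR ckY 5 22464 = true := by decide +kernel
theorem k_yp_703 : allR ckY 5 22496 = true := by decide +kernel
theorem k_yp_704 : allR ckY 5 22528 = true := by decide +kernel
theorem k_yp_705 : allR ckY 5 22560 = true := by decide +kernel
theorem k_yp_706 : allR ckY 5 22592 = true := by decide +kernel
theorem k_yp_707 : allR ckY 5 22624 = true := by decide +kernel
theorem k_yp_708 : allR ckY 5 22656 = true := by decide +kernel
theorem k_yp_709 : allR ckY 5 22688 = true := by decide +kernel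
theorem k_yp_710 : allR ckY 5 22720 = true := by decide +kernel
theorem k_yp_711 : allR ckY 5 22752 = true := by decide +kernel
theorem k_yp_712 : allR ckY 5 22784 = true := by decide +kernel
theorem k_yp_713 : allR ckY 5 22816 = true := by decide +kernel
theorem k_yp_714 : allR ckY 5 22848 = true := by decide +kernel
theorem k_yp_715 : allR ckY 5 22880 = true := by decide +kernel
theorem k_yp_716 : allR ckY 5 22912 = true := by decide +kernel
theorem k_yp_717 : allR ckY 5 22944 = true := by decide +kernel
theorem k_yp_718 : allR ckY 5 22976 = true := by decide +kernel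
theorem k_yp_719 : allR ckY 5 23008 = true := by decide +kernel

end Cfsg.Agent.Lib.Helper25.TC.Fi23Y
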