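import Cfsg.Agent.Lib.Helper25.TCFi23Y

set_option autoImplicit false
set_option maxRecDepth 1000000
set_option linter.unusedVariables false
set_option Elab.async false

namespace Cfsg.Agent.Lib.Helper25.TC.Fi23Y

open Cfsg.Agent.Lib.Helper25.TC Cfsg.Agent.Lib.Helper25.TC.Fi23_31671

theorem k_yp_72 : allR ckY 5 2304 = true := by decide +kernel
theorem k_yp_73 : allR ckY 5 2336 = true := by decide +kernel
theorem k_yp_74 : allR ckY 5 2368 = true := by decide +kernel
theorem k_yp_75 : allR ckY 5 2400 = true := by decide +kernel
theorem k_yp_76 : allR ckY 5 2432 = true := by decide +kernel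
theorem k_yp_77 : allR ckY 5 2464 = true := by decide +kernel
theorem k_yp_78 : allR ckY 5 2496 = true := by decide +kernel
theorem k_yp_79 : allR ckY 5 2528 = true := by decide +kernel
theorem k_yp_80 : allR ckY 5 2560 = true := by decide +kernel
theorem k_yp_81 : allR ckY 5 2592 = true := by decide +kernel
theorem k_yp_82 : allR ckY 5 2624 = true := by decide +kernel
theorem k_yp_83 : allR ckY 5 2656 = true := by decide +kernel
theorem k_yp_84 : allR ckY 5 2688 = true := by decide +kernel
theorem k_yp_85 : allR ckY 5 2720 = true := by decide +kernel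
theorem k_yp_86 : allR ckY 5 2752 = true := by decide +kernel
theorem k_yp_87 : allR ckY 5 2784 = true := by decide +kernel
theorem k_yp_88 : allR ckY 5 2816 = true := by decide +kernel
theorem k_yp_89 : allR ckY 5 2848 = true := by decide +kernel
theorem k_yp_90 : allR ckY 5 2880 = true := by decide +kernel
theorem k_yp_91 : allR ckY 5 2912 = true := by decide +kernel
theorem k_yp_92 : allR ckY 5 2944 = true := by decide +kernel
theorem k_yp_93 : allR ckY 5 2976 = true := by decide +kernel
theorem k_yp_94 : allR ckY 5 3008 = true := by decide +kernel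
theorem k_yp_95 : allR ckY 5 3040 = true := by decide +kernel

end Cfsg.Agent.Lib.Helper25.TC.Fi23Y
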