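import Cfsg.Agent.Lib.Helper25.TCFi23Y

set_option autoImplicit false
set_option maxRecDepth 1000000
set_option linter.unusedVariables false
set_option Elab.async false

namespace Cfsg.Agent.Lib.Helper25.TC.Fi23Y

open Cfsg.Agent.Lib.Helper25.TC Cfsg.Agent.Lib.Helper25.TC.Fi23_31671

theorem k_yp_720 : allR ckY 5 23040 = true := by decide +kernel
theorem k_yp_721 : allR ckY 5 23072 = true := by decide +kernel
theorem k_yp_722 : allR ckY 5 23104 = true := by decide +kernel
theorem k_yp_723 : allR ckY 5 23136 = true := by decide +kernel
theorem k_yp_724 : allR ckY 5 23168 = true := by decide +kernel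
theorem k_yp_725 : allR ckY 5 23200 = true := by decide +kernel
theorem k_yp_726 : allR ckY 5 23232 = true := by decide +kernel
theorem k_yp_727 : allR ckY 5 23264 = true := by decide +kernel
theorem k_yp_728 : allR ckY 5 23296 = true := by decide +kernel
theorem k_yp_729 : allR ckY 5 23328 = true := by decide +kernel
theorem k_yp_730 : allR ckY 5 23360 = true := by decide +kernel
theorem k_yp_731 : allR ckY 5 23392 = true := by decide +kernel
theorem k_yp_732 : allR ckY 5 23424 = true := by decide +kernel
theorem k_yp_733 : allR ckY 5 23456 = true := by decide +kernel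
theorem k_yp_734 : allR ckY 5 23488 = true := by decide +kernel
theorem k_yp_735 : allR ckY 5 23520 = true := by decide +kernel
theorem k_yp_736 : allR ckY 5 23552 = true := by decide +kernel
theorem k_yp_737 : allR ckY 5 23584 = true := by decide +kernel
theorem k_yp_738 : allR ckY 5 23616 = true := by decide +kernel
theorem k_yp_739 : allR ckY 5 23648 = true := by decide +kernel
theorem k_yp_740 : allR ckY 5 23680 = true := by decide +kernel
theorem k_yp_741 : allR ckY 5 23712 = true := by decide +kernel
theorem k_yp_742 : allR ckY 5 23744 = true := by decide +kernel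
theorem k_yp_743 : allR ckY 5 23776 = true := by decide +kernel

end Cfsg.Agent.Lib.Helper25.TC.Fi23Y
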