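import Cfsg.Agent.Lib.Helper25.TCFi23Y

set_option autoImplicit false
set_option maxRecDepth 1000000
set_option linter.unusedVariables false
set_option Elab.async false

namespace Cfsg.Agent.Lib.Helper25.TC.Fi23Y

open Cfsg.Agent.Lib.Helper25.TC Cfsg.Agent.Lib.Helper25.TC.Fi23_31671

theorem k_yp_744 : allR ckY 5 23808 = true := by decide +kernel
theorem k_yp_745 : allR ckY 5 23840 = true := by decide +kernel
theorem k_yp_746 : allR ckY 5 23872 = true := by decide +kernel
theorem k_yp_747 : allR ckY 5 23904 = true := by decide +kernel
theorem k_yp_748 : allR ckY 5 23936 = true := by decide +kernel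
theorem k_yp_749 : allR ckY 5 23968 = true := by decide +kernel
theorem k_yp_750 : allR ckY 5 24000 = true := by decide +kernel
theorem k_yp_751 : allR ckY 5 24032 = true := by decide +kernel
theorem k_yp_752 : allR ckY 5 24064 = true := by decide +kernel
theorem k_yp_753 : allR ckY 5 24096 = true := by decide +kernel
theorem k_yp_754 : allR ckY 5 24128 = true := by decide +kernel
theorem k_yp_755 : allR ckY 5 24160 = true := by decide +kernel
theorem k_yp_756 : allR ckY 5 24192 = true := by decide +kernel
theorem k_yp_757 : allR ckY 5 24224 = true := by decide +kernel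
theorem k_yp_758 : allR ckY 5 24256 = true := by decide +kernel
theorem k_yp_759 : allR ckY 5 24288 = true := by decide +kernel
theorem k_yp_760 : allR ckY 5 24320 = true := by decide +kernel
theorem k_yp_761 : allR ckY 5 24352 = true := by decide +kernel
theorem k_yp_762 : allR ckY 5 24384 = true := by decide +kernel
theorem k_yp_763 : allR ckY 5 24416 = true := by decide +kernel
theorem k_yp_764 : allR ckY 5 24448 = true := by decide +kernel
theorem k_yp_765 : allR ckY 5 24480 = true := by decide +kernel
theorem k_yp_766 : allR ckY 5 24512 = true := by decide +kernel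
theorem k_yp_767 : allR ckY 5 24544 = true := by decide +kernel

end Cfsg.Agent.Lib.Helper25.TC.Fi23Y
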