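import Cfsg.Agent.Lib.Helper25.TCFi23Y

set_option autoImplicit false
set_option maxRecDepth 1000000
set_option linter.unusedVariables false
set_option Elab.async false

namespace Cfsg.Agent.Lib.Helper25.TC.Fi23Y

open Cfsg.Agent.Lib.Helper25.TC Cfsg.Agent.Lib.Helper25.TC.Fi23_31671

theorem k_yp_768 : allR ckY 5 24576 = true := by decide +kernel
theorem k_yp_769 : allR ckY 5 24608 = true := by decide +kernel
theorem k_yp_770 : allR ckY 5 24640 = true := by decide +kernel
theorem k_yp_771 : allR ckY 5 24672 = true := by decide +kernel
theorem k_yp_772 : allR ckY 5 24704 = true := by decide +kernel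
theorem k_yp_773 : allR ckY 5 24736 = true := by decide +kernel
theorem k_yp_774 : allR ckY 5 24768 = true := by decide +kernel
theorem k_yp_775 : allR ckY 5 24800 = true := by decide +kernel
theorem k_yp_776 : allR ckY 5 24832 = true := by decide +kernel
theorem k_yp_777 : allR ckY 5 24864 = true := by decide +kernel
theorem k_yp_778 : allR ckY 5 24896 = true := by decide +kernel
theorem k_yp_779 : allR ckY 5 24928 = true := by decide +kernel
theorem k_yp_780 : allR ckY 5 24960 = true := by decide +kernel
theorem k_yp_781 : allR ckY 5 24992 = true := by decide +kernel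
theorem k_yp_782 : allR ckY 5 25024 = true := by decide +kernel
theorem k_yp_783 : allR ckY 5 25056 = true := by decide +kernel
theorem k_yp_784 : allR ckY 5 25088 = true := by decide +kernel
theorem k_yp_785 : allR ckY 5 25120 = true := by decide +kernel
theorem k_yp_786 : allR ckY 5 25152 = true := by decide +kernel
theorem k_yp_787 : allR ckY 5 25184 = true := by decide +kernel
theorem k_yp_788 : allR ckY 5 25216 = true := by decide +kernel
theorem k_yp_789 : allR ckY 5 25248 = true := by decide +kernel
theorem k_yp_790 : allR ckY 5 25280 = true := by decide +kernel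
theorem k_yp_791 : allR ckY 5 25312 = true := by decide +kernel

end Cfsg.Agent.Lib.Helper25.TC.Fi23Y
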