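import Cfsg.Agent.Lib.Helper25.TCFi23Y

set_option autoImplicit false
set_option maxRecDepth 1000000
set_option linter.unusedVariables false
set_option Elab.async false

namespace Cfsg.Agent.Lib.Helper25.TC.Fi23Y

open Cfsg.Agent.Lib.Helper25.TC Cfsg.Agent.Lib.Helper25.TC.Fi23_31671

theorem k_yp_792 : allR ckY 5 25344 = true := by decide +kernel
theorem k_yp_793 : allR ckY 5 25376 = true := by decide +kernel
theorem k_yp_794 : allR ckY 5 25408 = true := by decide +kernel
theorem k_yp_795 : allR ckY 5 25440 = true := by decide +kernel
theorem k_yp_796 : allR ckY 5 25472 = true := by decide +kernel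
theorem k_yp_797 : allR ckY 5 25504 = true := by decide +kernel
theorem k_yp_798 : allR ckY 5 25536 = true := by decide +kernel
theorem k_yp_799 : allR ckY 5 25568 = true := by decide +kernel
theorem k_yp_800 : allR ckY 5 25600 = true := by decide +kernel
theorem k_yp_801 : allR ckY 5 25632 = true := by decide +kernel
theorem k_yp_802 : allR ckY 5 25664 = true := by decide +kernel
theorem k_yp_803 : allR ckY 5 25696 = true := by decide +kernel
theorem k_yp_804 : allR ckY 5 25728 = true := by decide +kernel
theorem k_yp_805 : allR ckY 5 25760 = true := by decide +kernel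
theorem k_yp_806 : allR ckY 5 25792 = true := by decide +kernel
theorem k_yp_807 : allR ckY 5 25824 = true := by decide +kernel
theorem k_yp_808 : allR ckY 5 25856 = true := by decide +kernel
theorem k_yp_809 : allR ckY 5 25888 = true := by decide +kernel
theorem k_yp_810 : allR ckY 5 25920 = true := by decide +kernel
theorem k_yp_811 : allR ckY 5 25952 = true := by decide +kernel
theorem k_yp_812 : allR ckY 5 25984 = true := by decide +kernel
theorem k_yp_813 : allR ckY 5 26016 = true := by decide +kernel
theorem k_yp_814 : allR ckY 5 26048 = true := by decide +kernel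
theorem k_yp_815 : allR ckY 5 26080 = true := by decide +kernel

end Cfsg.Agent.Lib.Helper25.TC.Fi23Y
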