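import Cfsg.Agent.Lib.Helper25.TCFi23Y

set_option autoImplicit false
set_option maxRecDepth 1000000
set_option linter.unusedVariables false
set_option Elab.async false

namespace Cfsg.Agent.Lib.Helper25.TC.Fi23Y

open Cfsg.Agent.Lib.Helper25.TC Cfsg.Agent.Lib.Helper25.TC.Fi23_31671

theorem k_yp_840 : allR ckY 5 26880 = true := by decide +kernel
theorem k_yp_841 : allR ckY 5 26912 = true := by decide +kernel
theorem k_yp_842 : allR ckY 5 26944 = true := by decide +kernel
theorem k_yp_843 : allR ckY 5 26976 = true := by decide +kernel
theorem k_yp_844 : allR ckY 5 27008 = true := by decide +kernel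
theorem k_yp_845 : allR ckY 5 27040 = true := by decide +kernel
theorem k_yp_846 : allR ckY 5 27072 = true := by decide +kernel
theorem k_yp_847 : allR ckY 5 27104 = true := by decide +kernel
theorem k_yp_848 : allR ckY 5 27136 = true := by decide +kernel
theorem k_yp_849 : allR ckY 5 27168 = true := by decide +kernel
theorem k_yp_850 : allR ckY 5 27200 = true := by decide +kernel
theorem k_yp_851 : allR ckY 5 27232 = true := by decide +kernel
theorem k_yp_852 : allR ckY 5 27264 = true := by decide +kernel
theorem k_yp_853 : allR ckY 5 27296 = true := by decide +kernel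
theorem k_yp_854 : allR ckY 5 27328 = true := by decide +kernel
theorem k_yp_855 : allR ckY 5 27360 = true := by decide +kernel
theorem k_yp_856 : allR ckY 5 27392 = true := by decide +kernel
theorem k_yp_857 : allR ckY 5 27424 = true := by decide +kernel
theorem k_yp_858 : allR ckY 5 27456 = true := by decide +kernel
theorem k_yp_859 : allR ckY 5 27488 = true := by decide +kernel
theorem k_yp_860 : allR ckY 5 27520 = true := by decide +kernel
theorem k_yp_861 : allR ckY 5 27552 = true := by decide +kernel
theorem k_yp_862 : allR ckY 5 27584 = true := by decide +kernel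
theorem k_yp_863 : allR ckY 5 27616 = true := by decide +kernel

end Cfsg.Agent.Lib.Helper25.TC.Fi23Y
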