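import Cfsg.Agent.Lib.Helper25.TCFi23Y

set_option autoImplicit false
set_option maxRecDepth 1000000
set_option linter.unusedVariables false
set_option Elab.async false

namespace Cfsg.Agent.Lib.Helper25.TC.Fi23Y

open Cfsg.Agent.Lib.Helper25.TC Cfsg.Agent.Lib.Helper25.TC.Fi23_31671

theorem k_yp_864 : allR ckY 5 27648 = true := by decide +kernel
theorem k_yp_865 : allR ckY 5 27680 = true := by decide +kernel
theorem k_yp_866 : allR ckY 5 27712 = true := by decide +kernel
theorem k_yp_867 : allR ckY 5 27744 = true := by decide +kernel
theorem k_yp_868 : allR ckY 5 27776 = true := by decide +kernel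
theorem k_yp_869 : allR ckY 5 27808 = true := by decide +kernel
theorem k_yp_870 : allR ckY 5 27840 = true := by decide +kernel
theorem k_yp_871 : allR ckY 5 27872 = true := by decide +kernel
theorem k_yp_872 : allR ckY 5 27904 = true := by decide +kernel
theorem k_yp_873 : allR ckY 5 27936 = true := by decide +kernel
theorem k_yp_874 : allR ckY 5 27968 = true := by decide +kernel
theorem k_yp_875 : allR ckY 5 28000 = true := by decide +kernel
theorem k_yp_876 : allR ckY 5 28032 = true := by decide +kernel
theorem k_yp_877 : allR ckY 5 28064 = true := by decide +kernel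
theorem k_yp_878 : allR ckY 5 28096 = true := by decide +kernel
theorem k_yp_879 : allR ckY 5 28128 = true := by decide +kernel
theorem k_yp_880 : allR ckY 5 28160 = true := by decide +kernel
theorem k_yp_881 : allR ckY 5 28192 = true := by decide +kernel
theorem k_yp_882 : allR ckY 5 28224 = true := by decide +kernel
theorem k_yp_883 : allR ckY 5 28256 = true := by decide +kernel
theorem k_yp_884 : allR ckY 5 28288 = true := by decide +kernel
theorem k_yp_885 : allR ckY 5 28320 = true := by decide +kernel
theorem k_yp_886 : allR ckY 5 28352 = true := by decide +kernel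
theorem k_yp_887 : allR ckY 5 28384 = true := by decide +kernel

end Cfsg.Agent.Lib.Helper25.TC.Fi23Y
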