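import Cfsg.Agent.Lib.Helper25.TCFi23Y

set_option autoImplicit false
set_option maxRecDepth 1000000
set_option linter.unusedVariables false
set_option Elab.async false

namespace Cfsg.Agent.Lib.Helper25.TC.Fi23Y

open Cfsg.Agent.Lib.Helper25.TC Cfsg.Agent.Lib.Helper25.TC.Fi23_31671

theorem k_yp_888 : allR ckY 5 28416 = true := by decide +kernel
theorem k_yp_889 : allR ckY 5 28448 = true := by decide +kernel
theorem k_yp_890 : allR ckY 5 28480 = true := by decide +kernel
theorem k_yp_891 : allR ckY 5 28512 = true := by decide +kernel
theorem k_yp_892 : allR ckY 5 28544 = true := by decide +kernel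
theorem k_yp_893 : allR ckY 5 28576 = true := by decide +kernel
theorem k_yp_894 : allR ckY 5 28608 = true := by decide +kernel
theorem k_yp_895 : allR ckY 5 28640 = true := by decide +kernel
theorem k_yp_896 : allR ckY 5 28672 = true := by decide +kernel
theorem k_yp_897 : allR ckY 5 28704 = true := by decide +kernel
theorem k_yp_898 : allR ckY 5 28736 = true := by decide +kernel
theorem k_yp_899 : allR ckY 5 28768 = true := by decide +kernel
theorem k_yp_900 : allR ckY 5 28800 = true := by decide +kernel
theorem k_yp_901 : allR ckY 5 28832 = true := by decide +kernel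
theorem k_yp_902 : allR ckY 5 28864 = true := by decide +kernel
theorem k_yp_903 : allR ckY 5 28896 = true := by decide +kernel
theorem k_yp_904 : allR ckY 5 28928 = true := by decide +kernel
theorem k_yp_905 : allR ckY 5 28960 = true := by decide +kernel
theorem k_yp_906 : allR ckY 5 28992 = true := by decide +kernel
theorem k_yp_907 : allR ckY 5 29024 = true := by decide +kernel
theorem k_yp_908 : allR ckY 5 29056 = true := by decide +kernel
theorem k_yp_909 : allR ckY 5 29088 = true := by decide +kernel
theorem k_yp_910 : allR ckY 5 29120 = true := by decide +kernel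
theorem k_yp_911 : allR ckY 5 29152 = true := by decide +kernel

end Cfsg.Agent.Lib.Helper25.TC.Fi23Y
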