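import Cfsg.Agent.Lib.Helper25.TCFi23Y

set_option autoImplicit false
set_option maxRecDepth 1000000
set_option linter.unusedVariables false
set_option Elab.async false

namespace Cfsg.Agent.Lib.Helper25.TC.Fi23Y

open Cfsg.Agent.Lib.Helper25.TC Cfsg.Agent.Lib.Helper25.TC.Fi23_31671

theorem k_yp_912 : allR ckY 5 29184 = true := by decide +kernel
theorem k_yp_913 : allR ckY 5 29216 = true := by decide +kernel
theorem k_yp_914 : allR ckY 5 29248 = true := by decide +kernel
theorem k_yp_915 : allR ckY 5 29280 = true := by decide +kernel
theorem k_yp_916 : allR ckY 5 29312 = true := by decide +kernel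
theorem k_yp_917 : allR ckY 5 29344 = true := by decide +kernel
theorem k_yp_918 : allR ckY 5 29376 = true := by decide +kernel
theorem k_yp_919 : allR ckY 5 29408 = true := by decide +kernel
theorem k_yp_920 : allR ckY 5 29440 = true := by decide +kernel
theorem k_yp_921 : allR ckY 5 29472 = true := by decide +kernel
theorem k_yp_922 : allR ckY 5 29504 = true := by decide +kernel
theorem k_yp_923 : allR ckY 5 29536 = true := by decide +kernel
theorem k_yp_924 : allR ckY 5 29568 = true := by decide +kernel
theorem k_yp_925 : allR ckY 5 29600 = true := by decide +kernel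
theorem k_yp_926 : allR ckY 5 29632 = true := by decide +kernel
theorem k_yp_927 : allR ckY 5 29664 = true := by decide +kernel
theorem k_yp_928 : allR ckY 5 29696 = true := by decide +kernel
theorem k_yp_929 : allR ckY 5 29728 = true := by decide +kernel
theorem k_yp_930 : allR ckY 5 29760 = true := by decide +kernel
theorem k_yp_931 : allR ckY 5 29792 = true := by decide +kernel
theorem k_yp_932 : allR ckY 5 29824 = true := by decide +kernel
theorem k_yp_933 : allR ckY 5 29856 = true := by decide +kernel
theorem k_yp_934 : allR ckY 5 29888 = true := by decide +kernel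
theorem k_yp_935 : allR ckY 5 29920 = true := by decide +kernel

end Cfsg.Agent.Lib.Helper25.TC.Fi23Y
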