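import Cfsg.Agent.Lib.Helper25.TCFi23Y

set_option autoImplicit false
set_option maxRecDepth 1000000
set_option linter.unusedVariables false
set_option Elab.async false

namespace Cfsg.Agent.Lib.Helper25.TC.Fi23Y

open Cfsg.Agent.Lib.Helper25.TC Cfsg.Agent.Lib.Helper25.TC.Fi23_31671

theorem k_yp_936 : allR ckY 5 29952 = true := by decide +kernel
theorem k_yp_937 : allR ckY 5 29984 = true := by decide +kernel
theorem k_yp_938 : allR ckY 5 30016 = true := by decide +kernel
theorem k_yp_939 : allR ckY 5 30048 = true := by decide +kernel
theorem k_yp_940 : allR ckY 5 30080 = true := by decide +kernel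
theorem k_yp_941 : allR ckY 5 30112 = true := by decide +kernel
theorem k_yp_942 : allR ckY 5 30144 = true := by decide +kernel
theorem k_yp_943 : allR ckY 5 30176 = true := by decide +kernel
theorem k_yp_944 : allR ckY 5 30208 = true := by decide +kernel
theorem k_yp_945 : allR ckY 5 30240 = true := by decide +kernel
theorem k_yp_946 : allR ckY 5 30272 = true := by decide +kernel
theorem k_yp_947 : allR ckY 5 30304 = true := by decide +kernel
theorem k_yp_948 : allR ckY 5 30336 = true := by decide +kernel
theorem k_yp_949 : allR ckY 5 30368 = true := by decide +kernel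
theorem k_yp_950 : allR ckY 5 30400 = true := by decide +kernel
theorem k_yp_951 : allR ckY 5 30432 = true := by decide +kernel
theorem k_yp_952 : allR ckY 5 30464 = true := by decide +kernel
theorem k_yp_953 : allR ckY 5 30496 = true := by decide +kernel
theorem k_yp_954 : allR ckY 5 30528 = true := by decide +kernel
theorem k_yp_955 : allR ckY 5 30560 = true := by decide +kernel
theorem k_yp_956 : allR ckY 5 30592 = true := by decide +kernel
theorem k_yp_957 : allR ckY 5 30624 = true := by decide +kernel
theorem k_yp_958 : allR ckY 5 30656 = true := by decide +kernel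
theorem k_yp_959 : allR ckY 5 30688 = true := by decide +kernel

end Cfsg.Agent.Lib.Helper25.TC.Fi23Y
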