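import Cfsg.Agent.Lib.Helper25.TCFi23Y

set_option autoImplicit false
set_option maxRecDepth 1000000
set_option linter.unusedVariables false
set_option Elab.async false

namespace Cfsg.Agent.Lib.Helper25.TC.Fi23Y

open Cfsg.Agent.Lib.Helper25.TC Cfsg.Agent.Lib.Helper25.TC.Fi23_31671

theorem k_yp_96 : allR ckY 5 3072 = true := by decide +kernel
theorem k_yp_97 : allR ckY 5 3104 = true := by decide +kernel
theorem k_yp_98 : allR ckY 5 3136 = true := by decide +kernel
theorem k_yp_99 : allR ckY 5 3168 = true := by decide +kernel
theorem k_yp_100 : allR ckY 5 3200 = true := by decide +kernel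
theorem k_yp_101 : allR ckY 5 3232 = true := by decide +kernel
theorem k_yp_102 : allR ckY 5 3264 = true := by decide +kernel
theorem k_yp_103 : allR ckY 5 3296 = true := by decide +kernel
theorem k_yp_104 : allR ckY 5 3328 = true := by decide +kernel
theorem k_yp_105 : allR ckY 5 3360 = true := by decide +kernel
theorem k_yp_106 : allR ckY 5 3392 = true := by decide +kernel
theorem k_yp_107 : allR ckY 5 3424 = true := by decide +kernel
theorem k_yp_108 : allR ckY 5 3456 = true := by decide +kernel
theorem k_yp_109 : allR ckY 5 3488 = true := by decide +kernel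
theorem k_yp_110 : allR ckY 5 3520 = true := by decide +kernel
theorem k_yp_111 : allR ckY 5 3552 = true := by decide +kernel
theorem k_yp_112 : allR ckY 5 3584 = true := by decide +kernel
theorem k_yp_113 : allR ckY 5 3616 = true := by decide +kernel
theorem k_yp_114 : allR ckY 5 3648 = true := by decide +kernel
theorem k_yp_115 : allR ckY 5 3680 = true := by decide +kernel
theorem k_yp_116 : allR ckY 5 3712 = true := by decide +kernel
theorem k_yp_117 : allR ckY 5 3744 = true := by decide +kernel
theorem k_yp_118 : allR ckY 5 3776 = true := by decide +kernel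
theorem k_yp_119 : allR ckY 5 3808 = true := by decide +kernel

end Cfsg.Agent.Lib.Helper25.TC.Fi23Y
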