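import Cfsg.Agent.Lib.Helper25.TCFi23Y

set_option autoImplicit false
set_option maxRecDepth 1000000
set_option linter.unusedVariables false
set_option Elab.async false

namespace Cfsg.Agent.Lib.Helper25.TC.Fi23Y

open Cfsg.Agent.Lib.Helper25.TC Cfsg.Agent.Lib.Helper25.TC.Fi23_31671

theorem k_yp_960 : allR ckY 5 30720 = true := by decide +kernel
theorem k_yp_961 : allR ckY 5 30752 = true := by decide +kernel
theorem k_yp_962 : allR ckY 5 30784 = true := by decide +kernel
theorem k_yp_963 : allR ckY 5 30816 = true := by decide +kernel
theorem k_yp_964 : allR ckY 5 30848 = true := by decide +kernel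
theorem k_yp_965 : allR ckY 5 30880 = true := by decide +kernel
theorem k_yp_966 : allR ckY 5 30912 = true := by decide +kernel
theorem k_yp_967 : allR ckY 5 30944 = true := by decide +kernel
theorem k_yp_968 : allR ckY 5 30976 = true := by decide +kernel
theorem k_yp_969 : allR ckY 5 31008 = true := by decide +kernel
theorem k_yp_970 : allR ckY 5 31040 = true := by decide +kernel
theorem k_yp_971 : allR ckY 5 31072 = true := by decide +kernel
theorem k_yp_972 : allR ckY 5 31104 = true := by decide +kernel
theorem k_yp_973 : allR ckY 5 31136 = true := by decide +kernel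
theorem k_yp_974 : allR ckY 5 31168 = true := by decide +kernel
theorem k_yp_975 : allR ckY 5 31200 = true := by decide +kernel
theorem k_yp_976 : allR ckY 5 31232 = true := by decide +kernel
theorem k_yp_977 : allR ckY 5 31264 = true := by decide +kernel
theorem k_yp_978 : allR ckY 5 31296 = true := by decide +kernel
theorem k_yp_979 : allR ckY 5 31328 = true := by decide +kernel
theorem k_yp_980 : allR ckY 5 31360 = true := by decide +kernel
theorem k_yp_981 : allR ckY 5 31392 = true := by decide +kernel
theorem k_yp_982 : allR ckY 5 31424 = true := by decide +kernel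
theorem k_yp_983 : allR ckY 5 31456 = true := by decide +kernel

end Cfsg.Agent.Lib.Helper25.TC.Fi23Y
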