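import Cfsg.Agent.Lib.Helper25.TCFi23Y

set_option autoImplicit false
set_option maxRecDepth 1000000
set_option linter.unusedVariables false
set_option Elab.async false

namespace Cfsg.Agent.Lib.Helper25.TC.Fi23Y

open Cfsg.Agent.Lib.Helper25.TC Cfsg.Agent.Lib.Helper25.TC.Fi23_31671

theorem k_yp_984 : allR ckY 5 31488 = true := by decide +kernel
theorem k_yp_985 : allR ckY 5 31520 = true := by decide +kernel
theorem k_yp_986 : allR ckY 5 31552 = true := by decide +kernel
theorem k_yp_987 : allR ckY 5 31584 = true := by decide +kernel
theorem k_yp_988 : allR ckY 5 31616 = true := by decide +kernel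
theorem k_yp_989 : allR ckY 5 31648 = true := by decide +kernel
theorem k_yp_990 : allR ckY 5 31680 = true := by decide +kernel
theorem k_yp_991 : allR ckY 5 31712 = true := by decide +kernel
theorem k_yp_992 : allR ckY 5 31744 = true := by decide +kernel
theorem k_yp_993 : allR ckY 5 31776 = true := by decide +kernel
theorem k_yp_994 : allR ckY 5 31808 = true := by decide +kernel
theorem k_yp_995 : allR ckY 5 31840 = true := by decide +kernel
theorem k_yp_996 : allR ckY 5 31872 = true := by decide +kernel
theorem k_yp_997 : allR ckY 5 31904 = true := by decide +kernel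
theorem k_yp_998 : allR ckY 5 31936 = true := by decide +kernel
theorem k_yp_999 : allR ckY 5 31968 = true := by decide +kernel
theorem k_yp_1000 : allR ckY 5 32000 = true := by decide +kernel
theorem k_yp_1001 : allR ckY 5 32032 = true := by decide +kernel
theorem k_yp_1002 : allR ckY 5 32064 = true := by decide +kernel
theorem k_yp_1003 : allR ckY 5 32096 = true := by decide +kernel
theorem k_yp_1004 : allR ckY 5 32128 = true := by decide +kernel
theorem k_yp_1005 : allR ckY 5 32160 = true := by decide +kernel
theorem k_yp_1006 : allR ckY 5 32192 = true := by decide +kernel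
theorem k_yp_1007 : allR ckY 5 32224 = true := by decide +kernel
theorem k_yp_1008 : allR ckY 5 32256 = true := by decide +kernel
theorem k_yp_1009 : allR ckY 5 32288 = true := by decide +kernel
theorem k_yp_1010 : allR ckY 5 32320 = true := by decide +kernel
theorem k_yp_1011 : allR ckY 5 32352 = true := by decide +kernel
theorem k_yp_1012 : allR ckY 5 32384 = true := by decide +kernel
theorem k_yp_1013 : allR ckY 5 32416 = true := by decide +kernel
theorem k_yp_1014 : allR ckY 5 32448 = true := by decide +kernel
theorem k_yp_1015 : allR ckY 5 32480 = true := by decide +kernel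
theorem k_yp_1016 : allR ckY 5 32512 = true := by decide +kernel
theorem k_yp_1017 : allR ckY 5 32544 = true := by decide +kernel
theorem k_yp_1018 : allR ckY 5 32576 = true := by decide +kernel
theorem k_yp_1019 : allR ckY 5 32608 = true := by decide +kernel
theorem k_yp_1020 : allR ckY 5 32640 = true := by decide +kernel
theorem k_yp_1021 : allR ckY 5 32672 = true := by decide +kernel
theorem k_yp_1022 : allR ckY 5 32704 = true := by decide +kernel
theorem k_yp_1023 : allR ckY 5 32736 = true := by decide +kernel

end Cfsg.Agent.Lib.Helper25.TC.Fi23Y
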