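import Cfsg.Agent.Lib.Helper25.TCFi23Y

set_option autoImplicit false
set_option maxRecDepth 1000000
set_option linter.unusedVariables false
set_option Elab.async false

namespace Cfsg.Agent.Lib.Helper25.TC.Fi23Y

open Cfsg.Agent.Lib.Helper25.TC Cfsg.Agent.Lib.Helper25.TC.Fi23_31671

theorem k_yp_120 : allR ckY 5 3840 = true := by decide +kernel
theorem k_yp_121 : allR ckY 5 3872 = true := by decide +kernel
theorem k_yp_122 : allR ckY 5 3904 = true := by decide +kernel
theorem k_yp_123 : allR ckY 5 3936 = true := by decide +kernel
theorem k_yp_124 : allR ckY 5 3968 = true := by decide +kernel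
theorem k_yp_125 : allR ckY 5 4000 = true := by decide +kernel
theorem k_yp_126 : allR ckY 5 4032 = true := by decide +kernel
theorem k_yp_127 : allR ckY 5 4064 = true := by decide +kernel
theorem k_yp_128 : allR ckY 5 4096 = true := by decide +kernel
theorem k_yp_129 : allR ckY 5 4128 = true := by decide +kernel
theorem k_yp_130 : allR ckY 5 4160 = true := by decide +kernel
theorem k_yp_131 : allR ckY 5 4192 = true := by decide +kernel
theorem k_yp_132 : allR ckY 5 4224 = true := by decide +kernel
theorem k_yp_133 : allR ckY 5 4256 = true := by decide +kernel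
theorem k_yp_134 : allR ckY 5 4288 = true := by decide +kernel
theorem k_yp_135 : allR ckY 5 4320 = true := by decide +kernel
theorem k_yp_136 : allR ckY 5 4352 = true := by decide +kernel
theorem k_yp_137 : allR ckY 5 4384 = true := by decide +kernel
theorem k_yp_138 : allR ckY 5 4416 = true := by decide +kernel
theorem k_yp_139 : allR ckY 5 4448 = true := by decide +kernel
theorem k_yp_140 : allR ckY 5 4480 = true := by decide +kernel
theorem k_yp_141 : allR ckY 5 4512 = true := by decide +kernel
theorem k_yp_142 : allR ckY 5 4544 = true := by decide +kernel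
theorem k_yp_143 : allR ckY 5 4576 = true := by decide +kernel

end Cfsg.Agent.Lib.Helper25.TC.Fi23Y
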