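import Cfsg.Agent.Lib.Helper25.TCFi23Y

set_option autoImplicit false
set_option maxRecDepth 1000000
set_option linter.unusedVariables false
set_option Elab.async false

namespace Cfsg.Agent.Lib.Helper25.TC.Fi23Y

open Cfsg.Agent.Lib.Helper25.TC Cfsg.Agent.Lib.Helper25.TC.Fi23_31671

theorem k_yp_144 : allR ckY 5 4608 = true := by decide +kernel
theorem k_yp_145 : allR ckY 5 4640 = true := by decide +kernel
theorem k_yp_146 : allR ckY 5 4672 = true := by decide +kernel
theorem k_yp_147 : allR ckY 5 4704 = true := by decide +kernel
theorem k_yp_148 : allR ckY 5 4736 = true := by decide +kernel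
theorem k_yp_149 : allR ckY 5 4768 = true := by decide +kernel
theorem k_yp_150 : allR ckY 5 4800 = true := by decide +kernel
theorem k_yp_151 : allR ckY 5 4832 = true := by decide +kernel
theorem k_yp_152 : allR ckY 5 4864 = true := by decide +kernel
theorem k_yp_153 : allR ckY 5 4896 = true := by decide +kernel
theorem k_yp_154 : allR ckY 5 4928 = true := by decide +kernel
theorem k_yp_155 : allR ckY 5 4960 = true := by decide +kernel
theorem k_yp_156 : allR ckY 5 4992 = true := by decide +kernel
theorem k_yp_157 : allR ckY 5 5024 = true := by decide +kernel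
theorem k_yp_158 : allR ckY 5 5056 = true := by decide +kernel
theorem k_yp_159 : allR ckY 5 5088 = true := by decide +kernel
theorem k_yp_160 : allR ckY 5 5120 = true := by decide +kernel
theorem k_yp_161 : allR ckY 5 5152 = true := by decide +kernel
theorem k_yp_162 : allR ckY 5 5184 = true := by decide +kernel
theorem k_yp_163 : allR ckY 5 5216 = true := by decide +kernel
theorem k_yp_164 : allR ckY 5 5248 = true := by decide +kernel
theorem k_yp_165 : allR ckY 5 5280 = true := by decide +kernel
theorem k_yp_166 : allR ckY 5 5312 = true := by decide +kernel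
theorem k_yp_167 : allR ckY 5 5344 = true := by decide +kernel

end Cfsg.Agent.Lib.Helper25.TC.Fi23Y
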