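import Cfsg.Agent.Lib.Helper25.TCFi23Y

set_option autoImplicit false
set_option maxRecDepth 1000000
set_option linter.unusedVariables false
set_option Elab.async false

namespace Cfsg.Agent.Lib.Helper25.TC.Fi23Y

open Cfsg.Agent.Lib.Helper25.TC Cfsg.Agent.Lib.Helper25.TC.Fi23_31671

theorem k_yp_168 : allR ckY 5 5376 = true := by decide +kernel
theorem k_yp_169 : allR ckY 5 5408 = true := by decide +kernel
theorem k_yp_170 : allR ckY 5 5440 = true := by decide +kernel
theorem k_yp_171 : allR ckY 5 5472 = true := by decide +kernel
theorem k_yp_172 : allR ckY 5 5504 = true := by decide +kernel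
theorem k_yp_173 : allR ckY 5 5536 = true := by decide +kernel
theorem k_yp_174 : allR ckY 5 5568 = true := by decide +kernel
theorem k_yp_175 : allR ckY 5 5600 = true := by decide +kernel
theorem k_yp_176 : allR ckY 5 5632 = true := by decide +kernel
theorem k_yp_177 : allR ckY 5 5664 = true := by decide +kernel
theorem k_yp_178 : allR ckY 5 5696 = true := by decide +kernel
theorem k_yp_179 : allR ckY 5 5728 = true := by decide +kernel
theorem k_yp_180 : allR ckY 5 5760 = true := by decide +kernel
theorem k_yp_181 : allR ckY 5 5792 = true := by decide +kernel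
theorem k_yp_182 : allR ckY 5 5824 = true := by decide +kernel
theorem k_yp_183 : allR ckY 5 5856 = true := by decide +kernel
theorem k_yp_184 : allR ckY 5 5888 = true := by decide +kernel
theorem k_yp_185 : allR ckY 5 5920 = true := by decide +kernel
theorem k_yp_186 : allR ckY 5 5952 = true := by decide +kernel
theorem k_yp_187 : allR ckY 5 5984 = true := by decide +kernel
theorem k_yp_188 : allR ckY 5 6016 = true := by decide +kernel
theorem k_yp_189 : allR ckY 5 6048 = true := by decide +kernel
theorem k_yp_190 : allR ckY 5 6080 = true := by decide +kernel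
theorem k_yp_191 : allR ckY 5 6112 = true := by decide +kernel

end Cfsg.Agent.Lib.Helper25.TC.Fi23Y
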