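import Cfsg.Agent.Lib.Helper25.TCFi23Y

set_option autoImplicit false
set_option maxRecDepth 1000000
set_option linter.unusedVariables false
set_option Elab.async false

namespace Cfsg.Agent.Lib.Helper25.TC.Fi23Y

open Cfsg.Agent.Lib.Helper25.TC Cfsg.Agent.Lib.Helper25.TC.Fi23_31671

theorem k_yp_192 : allR ckY 5 6144 = true := by decide +kernel
theorem k_yp_193 : allR ckY 5 6176 = true := by decide +kernel
theorem k_yp_194 : allR ckY 5 6208 = true := by decide +kernel
theorem k_yp_195 : allR ckY 5 6240 = true := by decide +kernel
theorem k_yp_196 : allR ckY 5 6272 = true := by decide +kernel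
theorem k_yp_197 : allR ckY 5 6304 = true := by decide +kernel
theorem k_yp_198 : allR ckY 5 6336 = true := by decide +kernel
theorem k_yp_199 : allR ckY 5 6368 = true := by decide +kernel
theorem k_yp_200 : allR ckY 5 6400 = true := by decide +kernel
theorem k_yp_201 : allR ckY 5 6432 = true := by decide +kernel
theorem k_yp_202 : allR ckY 5 6464 = true := by decide +kernel
theorem k_yp_203 : allR ckY 5 6496 = true := by decide +kernel
theorem k_yp_204 : allR ckY 5 6528 = true := by decide +kernel
theorem k_yp_205 : allR ckY 5 6560 = true := by decide +kernel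
theorem k_yp_206 : allR ckY 5 6592 = true := by decide +kernel
theorem k_yp_207 : allR ckY 5 6624 = true := by decide +kernel
theorem k_yp_208 : allR ckY 5 6656 = true := by decide +kernel
theorem k_yp_209 : allR ckY 5 6688 = true := by decide +kernel
theorem k_yp_210 : allR ckY 5 6720 = true := by decide +kernel
theorem k_yp_211 : allR ckY 5 6752 = true := by decide +kernel
theorem k_yp_212 : allR ckY 5 6784 = true := by decide +kernel
theorem k_yp_213 : allR ckY 5 6816 = true := by decide +kernel
theorem k_yp_214 : allR ckY 5 6848 = true := by decide +kernel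
theorem k_yp_215 : allR ckY 5 6880 = true := by decide +kernel

end Cfsg.Agent.Lib.Helper25.TC.Fi23Y
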