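import Cfsg.Agent.Lib.Helper25.TCFi23Y

set_option autoImplicit false
set_option maxRecDepth 1000000
set_option linter.unusedVariables false
set_option Elab.async false

namespace Cfsg.Agent.Lib.Helper25.TC.Fi23Y

open Cfsg.Agent.Lib.Helper25.TC Cfsg.Agent.Lib.Helper25.TC.Fi23_31671

theorem k_yp_216 : allR ckY 5 6912 = true := by decide +kernel
theorem k_yp_217 : allR ckY 5 6944 = true := by decide +kernel
theorem k_yp_218 : allR ckY 5 6976 = true := by decide +kernel
theorem k_yp_219 : allR ckY 5 7008 = true := by decide +kernel
theorem k_yp_220 : allR ckY 5 7040 = true := by decide +kernel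
theorem k_yp_221 : allR ckY 5 7072 = true := by decide +kernel
theorem k_yp_222 : allR ckY 5 7104 = true := by decide +kernel
theorem k_yp_223 : allR ckY 5 7136 = true := by decide +kernel
theorem k_yp_224 : allR ckY 5 7168 = true := by decide +kernel
theorem k_yp_225 : allR ckY 5 7200 = true := by decide +kernel
theorem k_yp_226 : allR ckY 5 7232 = true := by decide +kernel
theorem k_yp_227 : allR ckY 5 7264 = true := by decide +kernel
theorem k_yp_228 : allR ckY 5 7296 = true := by decide +kernel
theorem k_yp_229 : allR ckY 5 7328 = true := by decide +kernel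
theorem k_yp_230 : allR ckY 5 7360 = true := by decide +kernel
theorem k_yp_231 : allR ckY 5 7392 = true := by decide +kernel
theorem k_yp_232 : allR ckY 5 7424 = true := by decide +kernel
theorem k_yp_233 : allR ckY 5 7456 = true := by decide +kernel
theorem k_yp_234 : allR ckY 5 7488 = true := by decide +kernel
theorem k_yp_235 : allR ckY 5 7520 = true := by decide +kernel
theorem k_yp_236 : allR ckY 5 7552 = true := by decide +kernel
theorem k_yp_237 : allR ckY 5 7584 = true := by decide +kernel
theorem k_yp_238 : allR ckY 5 7616 = true := by decide +kernel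
theorem k_yp_239 : allR ckY 5 7648 = true := by decide +kernel

end Cfsg.Agent.Lib.Helper25.TC.Fi23Y
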