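import Cfsg.Agent.Lib.Helper25.TCFi23Y
import Cfsg.Agent.Lib.Helper25.TCFi23YP0
import Cfsg.Agent.Lib.Helper25.TCFi23YP1
import Cfsg.Agent.Lib.Helper25.TCFi23YP2
import Cfsg.Agent.Lib.Helper25.TCFi23YP3
import Cfsg.Agent.Lib.Helper25.TCFi23YP4
import Cfsg.Agent.Lib.Helper25.TCFi23YP5
import Cfsg.Agent.Lib.Helper25.TCFi23YP6
import Cfsg.Agent.Lib.Helper25.TCFi23YP7
import Cfsg.Agent.Lib.Helper25.TCFi23YP8
import Cfsg.Agent.Lib.Helper25.TCFi23YP9
import Cfsg.Agent.Lib.Helper25.TCFi23YP10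
import Cfsg.Agent.Lib.Helper25.TCFi23YP11
import Cfsg.Agent.Lib.Helper25.TCFi23YP12
import Cfsg.Agent.Lib.Helper25.TCFi23YP13
import Cfsg.Agent.Lib.Helper25.TCFi23YP14
import Cfsg.Agent.Lib.Helper25.TCFi23YP15
import Cfsg.Agent.Lib.Helper25.TCFi23YP16
import Cfsg.Agent.Lib.Helper25.TCFi23YP17
import Cfsg.Agent.Lib.Helper25.TCFi23YP18
import Cfsg.Agent.Lib.Helper25.TCFi23YP19
import Cfsg.Agent.Lib.Helper25.TCFi23YP20
import Cfsg.Agent.Lib.Helper25.TCFi23YP21
import Cfsg.Agent.Lib.Helper25.TCFi23YP22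
import Cfsg.Agent.Lib.Helper25.TCFi23YP23
import Cfsg.Agent.Lib.Helper25.TCFi23YP24
import Cfsg.Agent.Lib.Helper25.TCFi23YP25
import Cfsg.Agent.Lib.Helper25.TCFi23YP26
import Cfsg.Agent.Lib.Helper25.TCFi23YP27
import Cfsg.Agent.Lib.Helper25.TCFi23YP28
import Cfsg.Agent.Lib.Helper25.TCFi23YP29
import Cfsg.Agent.Lib.Helper25.TCFi23YP30
import Cfsg.Agent.Lib.Helper25.TCFi23YP31
import Cfsg.Agent.Lib.Helper25.TCFi23YP32
import Cfsg.Agent.Lib.Helper25.TCFi23YP33
import Cfsg.Agent.Lib.Helper25.TCFi23YP34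
import Cfsg.Agent.Lib.Helper25.TCFi23YP35
import Cfsg.Agent.Lib.Helper25.TCFi23YP36
import Cfsg.Agent.Lib.Helper25.TCFi23YP37
import Cfsg.Agent.Lib.Helper25.TCFi23YP38
import Cfsg.Agent.Lib.Helper25.TCFi23YP39
import Cfsg.Agent.Lib.Helper25.TCFi23YP40
import Cfsg.Agent.Lib.Helper25.TCFi23YP41
import Cfsg.Agent.Lib.Helper25.TCExistC

set_option autoImplicit false
set_option maxRecDepth 1000000
set_option linter.unusedVariables false
set_option linter.unusedSimpArgs false

namespace Cfsg.Agent.Lib.Helper25.TC.Fi23Y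

open Cfsg.Spor Cfsg.Agent.Lib.Helper25.TC

theorem k_y : allR ckY 15 0 = true := (allR_join _ _ _ _ (by decide) (allR_join _ _ _ _ (by decide) (allR_join _ _ _ _ (by decide) (allR_join _ _ _ _ (by decide) (allR_join _ _ _ _ (by decide) (allR_join _ _ _ _ (by decide) (allR_join _ _ _ _ (by decide) (allR_join _ _ _ _ (by decide) (allR_join _ _ _ _ (by decide) (allR_join _ _ _ _ (by decide) k_yp_0 k_yp_1) (allR_join _ _ _ _ (by decide) k_yp_2 k_yp_3)) (allR_join _ _ _ _ (by decide) (allR_join _ _ _ _ (by decide) k_yp_4 k_yp_5) (allR_join _ _ _ _ (by decide) k_yp_6 k_yp_7))) (allR_join _ _ _ _ (by decide) (allR_join _ _ _ _ (by decide) (allR_join _ _ _ _ (by decide) k_yp_8 k_yp_9) (allR_join _ _ _ _ (by decide) k_yp_10 k_yp_11)) (allR_join _ _ _ _ (by decide) (allR_join _ _ _ _ (by decide) k_yp_12 k_yp_13) (allR_join _ _ _ _ (by decide) k_yp_14 k_yp_15)))) (allR_join _ _ _ _ (by decide) (allR_join _ _ _ _ (by decide) (allR_join _ _ _ _ (by decide) (allR_join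 _ _ _ _ (by decide) k_yp_16 k_yp_17) (allR_join _ _ _ _ (by decide) k_yp_18 k_yp_19)) (allR_join _ _ _ _ (by decide) (allR_join _ _ _ _ (by decide) k_yp_20 k_yp_21) (allR_join _ _ _ _ (by decide) k_yp_22 k_yp_23))) (allR_join _ _ _ _ (by decide) (allR_join _ _ _ _ (by decide) (allR_join _ _ _ _ (by decide) k_yp_24 k_yp_25) (allR_join _ _ _ _ (by decide) k_yp_26 k_yp_27)) (allR_join _ _ _ _ (by decide) (allR_join _ _ _ _ (by decide) k_yp_28 k_yp_29) (allR_join _ _ _ _ (by decide) k_yp_30 k_yp_31))))) (allR_join _ _ _ _ (by decide) (allR_join _ _ _ _ (by decide) (allR_join _ _ _ _ (by decide) (allR_join _ _ _ _ (by decide) (allR_join _ _ _ _ (by decide) k_yp_32 k_yp_33) (allR_join _ _ _ _ (by decide) k_yp_34 k_yp_35)) (allR_join _ _ _ _ (by decide) (allR_join _ _ _ _ (by decide) k_yp_36 k_yp_37) (allR_join _ _ _ _ (by decide) k_yp_38 k_yp_39))) (allR_join _ _ _ _ (by decide) (allR_join _ _ _ _ (by decide) (allR_join _ _ _ _ (by decide) k_yp_40 k_yp_41)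 (allR_join _ _ _ _ (by decide) k_yp_42 k_yp_43)) (allR_join _ _ _ _ (by decide) (allR_join _ _ _ _ (by decide) k_yp_44 k_yp_45) (allR_join _ _ _ _ (by decide) k_yp_46 k_yp_47)))) (allR_join _ _ _ _ (by decide) (allR_join _ _ _ _ (by decide) (allR_join _ _ _ _ (by decide) (allR_join _ _ _ _ (by decide) k_yp_48 k_yp_49) (allR_join _ _ _ _ (by decide) k_yp_50 k_yp_51)) (allR_join _ _ _ _ (by decide) (allR_join _ _ _ _ (by decide) k_yp_52 k_yp_53) (allR_join _ _ _ _ (by decide) k_yp_54 k_yp_55))) (allR_join _ _ _ _ (by decide) (allR_join _ _ _ _ (by decide) (allR_join _ _ _ _ (by decide) k_yp_56 k_yp_57) (allR_join _ _ _ _ (by decide) k_yp_58 k_yp_59)) (allR_join _ _ _ _ (by decide) (allR_join _ _ _ _ (by decide) k_yp_60 k_yp_61) (allR_join _ _ _ _ (by decide) k_yp_62 k_yp_63)))))) (allR_join _ _ _ _ (by decide) (allR_join _ _ _ _ (by decide) (allR_join _ _ _ _ (by decide) (allR_join _ _ _ _ (by decide) (allR_join _ _ _ _ (by decide) (allR_join _ _ _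 _ (by decide) k_yp_64 k_yp_65) (allR_join _ _ _ _ (by decide) k_yp_66 k_yp_67)) (allR_join _ _ _ _ (by decide) (allR_join _ _ _ _ (by decide) k_yp_68 k_yp_69) (allR_join _ _ _ _ (by decide) k_yp_70 k_yp_71))) (allR_join _ _ _ _ (by decide) (allR_join _ _ _ _ (by decide) (allR_join _ _ _ _ (by decide) k_yp_72 k_yp_73) (allR_join _ _ _ _ (by decide) k_yp_74 k_yp_75)) (allR_join _ _ _ _ (by decide) (allR_join _ _ _ _ (by decide) k_yp_76 k_yp_77) (allR_join _ _ _ _ (by decide) k_yp_78 k_yp_79)))) (allR_join _ _ _ _ (by decide) (allR_join _ _ _ _ (by decide) (allR_join _ _ _ _ (by decide) (allR_join _ _ _ _ (by decide) k_yp_80 k_yp_81) (allR_join _ _ _ _ (by decide) k_yp_82 k_yp_83)) (allR_join _ _ _ _ (by decide) (allR_join _ _ _ _ (by decide) k_yp_84 k_yp_85) (allR_join _ _ _ _ (by decide) k_yp_86 k_yp_87))) (allR_join _ _ _ _ (by decide) (allR_join _ _ _ _ (by decide) (allR_join _ _ _ _ (by decide) k_yp_88 k_yp_89) (allR_join _ _ _ _ (by decide) k_yp_90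 k_yp_91)) (allR_join _ _ _ _ (by decide) (allR_join _ _ _ _ (by decide) k_yp_92 k_yp_93) (allR_join _ _ _ _ (by decide) k_yp_94 k_yp_95))))) (allR_join _ _ _ _ (by decide) (allR_join _ _ _ _ (by decide) (allR_join _ _ _ _ (by decide) (allR_join _ _ _ _ (by decide) (allR_join _ _ _ _ (by decide) k_yp_96 k_yp_97) (allR_join _ _ _ _ (by decide) k_yp_98 k_yp_99)) (allR_join _ _ _ _ (by decide) (allR_join _ _ _ _ (by decide) k_yp_100 k_yp_101) (allR_join _ _ _ _ (by decide) k_yp_102 k_yp_103))) (allR_join _ _ _ _ (by decide) (allR_join _ _ _ _ (by decide) (allR_join _ _ _ _ (by decide) k_yp_104 k_yp_105) (allR_join _ _ _ _ (by decide) k_yp_106 k_yp_107)) (allR_join _ _ _ _ (by decide) (allR_join _ _ _ _ (by decide) k_yp_108 k_yp_109) (allR_join _ _ _ _ (by decide) k_yp_110 k_yp_111)))) (allR_join _ _ _ _ (by decide) (allR_join _ _ _ _ (by decide) (allR_join _ _ _ _ (by decide) (allR_join _ _ _ _ (by decide) k_yp_112 k_yp_113) (allR_join _ _ _ _ (by decide)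 k_yp_114 k_yp_115)) (allR_join _ _ _ _ (by decide) (allR_join _ _ _ _ (by decide) k_yp_116 k_yp_117) (allR_join _ _ _ _ (by decide) k_yp_118 k_yp_119))) (allR_join _ _ _ _ (by decide) (allR_join _ _ _ _ (by decide) (allR_join _ _ _ _ (by decide) k_yp_120 k_yp_121) (allR_join _ _ _ _ (by decide) k_yp_122 k_yp_123)) (allR_join _ _ _ _ (by decide) (allR_join _ _ _ _ (by decide) k_yp_124 k_yp_125) (allR_join _ _ _ _ (by decide) k_yp_126 k_yp_127))))))) (allR_join _ _ _ _ (by decide) (allR_join _ _ _ _ (by decide) (allR_join _ _ _ _ (by decide) (allR_join _ _ _ _ (by decide) (allR_join _ _ _ _ (by decide) (allR_join _ _ _ _ (by decide) (allR_join _ _ _ _ (by decide) k_yp_128 k_yp_129) (allR_join _ _ _ _ (by decide) k_yp_130 k_yp_131)) (allR_join _ _ _ _ (by decide) (allR_join _ _ _ _ (by decide) k_yp_132 k_yp_133) (allR_join _ _ _ _ (by decide) k_yp_134 k_yp_135))) (allR_join _ _ _ _ (by decide) (allR_join _ _ _ _ (by decide) (allR_join _ _ _ _ (by decide)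 k_yp_136 k_yp_137) (allR_join _ _ _ _ (by decide) k_yp_138 k_yp_139)) (allR_join _ _ _ _ (by decide) (allR_join _ _ _ _ (by decide) k_yp_140 k_yp_141) (allR_join _ _ _ _ (by decide) k_yp_142 k_yp_143)))) (allR_join _ _ _ _ (by decide) (allR_join _ _ _ _ (by decide) (allR_join _ _ _ _ (by decide) (allR_join _ _ _ _ (by decide) k_yp_144 k_yp_145) (allR_join _ _ _ _ (by decide) k_yp_146 k_yp_147)) (allR_join _ _ _ _ (by decide) (allR_join _ _ _ _ (by decide) k_yp_148 k_yp_149) (allR_join _ _ _ _ (by decide) k_yp_150 k_yp_151))) (allR_join _ _ _ _ (by decide) (allR_join _ _ _ _ (by decide) (allR_join _ _ _ _ (by decide) k_yp_152 k_yp_153) (allR_join _ _ _ _ (by decide) k_yp_154 k_yp_155)) (allR_join _ _ _ _ (by decide) (allR_join _ _ _ _ (by decide) k_yp_156 k_yp_157) (allR_join _ _ _ _ (by decide) k_yp_158 k_yp_159))))) (allR_join _ _ _ _ (by decide) (allR_join _ _ _ _ (by decide) (allR_join _ _ _ _ (by decide) (allR_join _ _ _ _ (by decide) (allR_join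 _ _ _ _ (by decide) k_yp_160 k_yp_161) (allR_join _ _ _ _ (by decide) k_yp_162 k_yp_163)) (allR_join _ _ _ _ (by decide) (allR_join _ _ _ _ (by decide) k_yp_164 k_yp_165) (allR_join _ _ _ _ (by decide) k_yp_166 k_yp_167))) (allR_join _ _ _ _ (by decide) (allR_join _ _ _ _ (by decide) (allR_join _ _ _ _ (by decide) k_yp_168 k_yp_169) (allR_join _ _ _ _ (by decide) k_yp_170 k_yp_171)) (allR_join _ _ _ _ (by decide) (allR_join _ _ _ _ (by decide) k_yp_172 k_yp_173) (allR_join _ _ _ _ (by decide) k_yp_174 k_yp_175)))) (allR_join _ _ _ _ (by decide) (allR_join _ _ _ _ (by decide) (allR_join _ _ _ _ (by decide) (allR_join _ _ _ _ (by decide) k_yp_176 k_yp_177) (allR_join _ _ _ _ (by decide) k_yp_178 k_yp_179)) (allR_join _ _ _ _ (by decide) (allR_join _ _ _ _ (by decide) k_yp_180 k_yp_181) (allR_join _ _ _ _ (by decide) k_yp_182 k_yp_183))) (allR_join _ _ _ _ (by decide) (allR_join _ _ _ _ (by decide) (allR_join _ _ _ _ (by decide) k_yp_184 k_yp_185) (allR_join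 _ _ _ _ (by decide) k_yp_186 k_yp_187)) (allR_join _ _ _ _ (by decide) (allR_join _ _ _ _ (by decide) k_yp_188 k_yp_189) (allR_join _ _ _ _ (by decide) k_yp_190 k_yp_191)))))) (allR_join _ _ _ _ (by decide) (allR_join _ _ _ _ (by decide) (allR_join _ _ _ _ (by decide) (allR_join _ _ _ _ (by decide) (allR_join _ _ _ _ (by decide) (allR_join _ _ _ _ (by decide) k_yp_192 k_yp_193) (allR_join _ _ _ _ (by decide) k_yp_194 k_yp_195)) (allR_join _ _ _ _ (by decide) (allR_join _ _ _ _ (by decide) k_yp_196 k_yp_197) (allR_join _ _ _ _ (by decide) k_yp_198 k_yp_199))) (allR_join _ _ _ _ (by decide) (allR_join _ _ _ _ (by decide) (allR_join _ _ _ _ (by decide) k_yp_200 k_yp_201) (allR_join _ _ _ _ (by decide) k_yp_202 k_yp_203)) (allR_join _ _ _ _ (by decide) (allR_join _ _ _ _ (by decide) k_yp_204 k_yp_205) (allR_join _ _ _ _ (by decide) k_yp_206 k_yp_207)))) (allR_join _ _ _ _ (by decide) (allR_join _ _ _ _ (by decide) (allR_join _ _ _ _ (by decide) (allR_join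 _ _ _ _ (by decide) k_yp_208 k_yp_209) (allR_join _ _ _ _ (by decide) k_yp_210 k_yp_211)) (allR_join _ _ _ _ (by decide) (allR_join _ _ _ _ (by decide) k_yp_212 k_yp_213) (allR_join _ _ _ _ (by decide) k_yp_214 k_yp_215))) (allR_join _ _ _ _ (by decide) (allR_join _ _ _ _ (by decide) (allR_join _ _ _ _ (by decide) k_yp_216 k_yp_217) (allR_join _ _ _ _ (by decide) k_yp_218 k_yp_219)) (allR_join _ _ _ _ (by decide) (allR_join _ _ _ _ (by decide) k_yp_220 k_yp_221) (allR_join _ _ _ _ (by decide) k_yp_222 k_yp_223))))) (allR_join _ _ _ _ (by decide) (allR_join _ _ _ _ (by decide) (allR_join _ _ _ _ (by decide) (allR_join _ _ _ _ (by decide) (allR_join _ _ _ _ (by decide) k_yp_224 k_yp_225) (allR_join _ _ _ _ (by decide) k_yp_226 k_yp_227)) (allR_join _ _ _ _ (by decide) (allR_join _ _ _ _ (by decide) k_yp_228 k_yp_229) (allR_join _ _ _ _ (by decide) k_yp_230 k_yp_231))) (allR_join _ _ _ _ (by decide) (allR_join _ _ _ _ (by decide) (allR_join _ _ _ _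 (by decide) k_yp_232 k_yp_233) (allR_join _ _ _ _ (by decide) k_yp_234 k_yp_235)) (allR_join _ _ _ _ (by decide) (allR_join _ _ _ _ (by decide) k_yp_236 k_yp_237) (allR_join _ _ _ _ (by decide) k_yp_238 k_yp_239)))) (allR_join _ _ _ _ (by decide) (allR_join _ _ _ _ (by decide) (allR_join _ _ _ _ (by decide) (allR_join _ _ _ _ (by decide) k_yp_240 k_yp_241) (allR_join _ _ _ _ (by decide) k_yp_242 k_yp_243)) (allR_join _ _ _ _ (by decide) (allR_join _ _ _ _ (by decide) k_yp_244 k_yp_245) (allR_join _ _ _ _ (by decide) k_yp_246 k_yp_247))) (allR_join _ _ _ _ (by decide) (allR_join _ _ _ _ (by decide) (allR_join _ _ _ _ (by decide) k_yp_248 k_yp_249) (allR_join _ _ _ _ (by decide) k_yp_250 k_yp_251)) (allR_join _ _ _ _ (by decide) (allR_join _ _ _ _ (by decide) k_yp_252 k_yp_253) (allR_join _ _ _ _ (by decide) k_yp_254 k_yp_255)))))))) (allR_join _ _ _ _ (by decide) (allR_join _ _ _ _ (by decide) (allR_join _ _ _ _ (by decide) (allR_join _ _ _ _ (by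 decide) (allR_join _ _ _ _ (by decide) (allR_join _ _ _ _ (by decide) (allR_join _ _ _ _ (by decide) (allR_join _ _ _ _ (by decide) k_yp_256 k_yp_257) (allR_join _ _ _ _ (by decide) k_yp_258 k_yp_259)) (allR_join _ _ _ _ (by decide) (allR_join _ _ _ _ (by decide) k_yp_260 k_yp_261) (allR_join _ _ _ _ (by decide) k_yp_262 k_yp_263))) (allR_join _ _ _ _ (by decide) (allR_join _ _ _ _ (by decide) (allR_join _ _ _ _ (by decide) k_yp_264 k_yp_265) (allR_join _ _ _ _ (by decide) k_yp_266 k_yp_267)) (allR_join _ _ _ _ (by decide) (allR_join _ _ _ _ (by decide) k_yp_268 k_yp_269) (allR_join _ _ _ _ (by decide) k_yp_270 k_yp_271)))) (allR_join _ _ _ _ (by decide) (allR_join _ _ _ _ (by decide) (allR_join _ _ _ _ (by decide) (allR_join _ _ _ _ (by decide) k_yp_272 k_yp_273) (allR_join _ _ _ _ (by decide) k_yp_274 k_yp_275)) (allR_join _ _ _ _ (by decide) (allR_join _ _ _ _ (by decide) k_yp_276 k_yp_277) (allR_join _ _ _ _ (by decide) k_yp_278 k_yp_279))) (allR_join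 _ _ _ _ (by decide) (allR_join _ _ _ _ (by decide) (allR_join _ _ _ _ (by decide) k_yp_280 k_yp_281) (allR_join _ _ _ _ (by decide) k_yp_282 k_yp_283)) (allR_join _ _ _ _ (by decide) (allR_join _ _ _ _ (by decide) k_yp_284 k_yp_285) (allR_join _ _ _ _ (by decide) k_yp_286 k_yp_287))))) (allR_join _ _ _ _ (by decide) (allR_join _ _ _ _ (by decide) (allR_join _ _ _ _ (by decide) (allR_join _ _ _ _ (by decide) (allR_join _ _ _ _ (by decide) k_yp_288 k_yp_289) (allR_join _ _ _ _ (by decide) k_yp_290 k_yp_291)) (allR_join _ _ _ _ (by decide) (allR_join _ _ _ _ (by decide) k_yp_292 k_yp_293) (allR_join _ _ _ _ (by decide) k_yp_294 k_yp_295))) (allR_join _ _ _ _ (by decide) (allR_join _ _ _ _ (by decide) (allR_join _ _ _ _ (by decide) k_yp_296 k_yp_297) (allR_join _ _ _ _ (by decide) k_yp_298 k_yp_299)) (allR_join _ _ _ _ (by decide) (allR_join _ _ _ _ (by decide) k_yp_300 k_yp_301) (allR_join _ _ _ _ (by decide) k_yp_302 k_yp_303)))) (allR_join _ _ _ _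 (by decide) (allR_join _ _ _ _ (by decide) (allR_join _ _ _ _ (by decide) (allR_join _ _ _ _ (by decide) k_yp_304 k_yp_305) (allR_join _ _ _ _ (by decide) k_yp_306 k_yp_307)) (allR_join _ _ _ _ (by decide) (allR_join _ _ _ _ (by decide) k_yp_308 k_yp_309) (allR_join _ _ _ _ (by decide) k_yp_310 k_yp_311))) (allR_join _ _ _ _ (by decide) (allR_join _ _ _ _ (by decide) (allR_join _ _ _ _ (by decide) k_yp_312 k_yp_313) (allR_join _ _ _ _ (by decide) k_yp_314 k_yp_315)) (allR_join _ _ _ _ (by decide) (allR_join _ _ _ _ (by decide) k_yp_316 k_yp_317) (allR_join _ _ _ _ (by decide) k_yp_318 k_yp_319)))))) (allR_join _ _ _ _ (by decide) (allR_join _ _ _ _ (by decide) (allR_join _ _ _ _ (by decide) (allR_join _ _ _ _ (by decide) (allR_join _ _ _ _ (by decide) (allR_join _ _ _ _ (by decide) k_yp_320 k_yp_321) (allR_join _ _ _ _ (by decide) k_yp_322 k_yp_323)) (allR_join _ _ _ _ (by decide) (allR_join _ _ _ _ (by decide) k_yp_324 k_yp_325) (allR_join _ _ _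 _ (by decide) k_yp_326 k_yp_327))) (allR_join _ _ _ _ (by decide) (allR_join _ _ _ _ (by decide) (allR_join _ _ _ _ (by decide) k_yp_328 k_yp_329) (allR_join _ _ _ _ (by decide) k_yp_330 k_yp_331)) (allR_join _ _ _ _ (by decide) (allR_join _ _ _ _ (by decide) k_yp_332 k_yp_333) (allR_join _ _ _ _ (by decide) k_yp_334 k_yp_335)))) (allR_join _ _ _ _ (by decide) (allR_join _ _ _ _ (by decide) (allR_join _ _ _ _ (by decide) (allR_join _ _ _ _ (by decide) k_yp_336 k_yp_337) (allR_join _ _ _ _ (by decide) k_yp_338 k_yp_339)) (allR_join _ _ _ _ (by decide) (allR_join _ _ _ _ (by decide) k_yp_340 k_yp_341) (allR_join _ _ _ _ (by decide) k_yp_342 k_yp_343))) (allR_join _ _ _ _ (by decide) (allR_join _ _ _ _ (by decide) (allR_join _ _ _ _ (by decide) k_yp_344 k_yp_345) (allR_join _ _ _ _ (by decide) k_yp_346 k_yp_347)) (allR_join _ _ _ _ (by decide) (allR_join _ _ _ _ (by decide) k_yp_348 k_yp_349) (allR_join _ _ _ _ (by decide) k_yp_350 k_yp_351))))) (allR_join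 _ _ _ _ (by decide) (allR_join _ _ _ _ (by decide) (allR_join _ _ _ _ (by decide) (allR_join _ _ _ _ (by decide) (allR_join _ _ _ _ (by decide) k_yp_352 k_yp_353) (allR_join _ _ _ _ (by decide) k_yp_354 k_yp_355)) (allR_join _ _ _ _ (by decide) (allR_join _ _ _ _ (by decide) k_yp_356 k_yp_357) (allR_join _ _ _ _ (by decide) k_yp_358 k_yp_359))) (allR_join _ _ _ _ (by decide) (allR_join _ _ _ _ (by decide) (allR_join _ _ _ _ (by decide) k_yp_360 k_yp_361) (allR_join _ _ _ _ (by decide) k_yp_362 k_yp_363)) (allR_join _ _ _ _ (by decide) (allR_join _ _ _ _ (by decide) k_yp_364 k_yp_365) (allR_join _ _ _ _ (by decide) k_yp_366 k_yp_367)))) (allR_join _ _ _ _ (by decide) (allR_join _ _ _ _ (by decide) (allR_join _ _ _ _ (by decide) (allR_join _ _ _ _ (by decide) k_yp_368 k_yp_369) (allR_join _ _ _ _ (by decide) k_yp_370 k_yp_371)) (allR_join _ _ _ _ (by decide) (allR_join _ _ _ _ (by decide) k_yp_372 k_yp_373) (allR_join _ _ _ _ (by decide) k_yp_374 k_yp_375)))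 (allR_join _ _ _ _ (by decide) (allR_join _ _ _ _ (by decide) (allR_join _ _ _ _ (by decide) k_yp_376 k_yp_377) (allR_join _ _ _ _ (by decide) k_yp_378 k_yp_379)) (allR_join _ _ _ _ (by decide) (allR_join _ _ _ _ (by decide) k_yp_380 k_yp_381) (allR_join _ _ _ _ (by decide) k_yp_382 k_yp_383))))))) (allR_join _ _ _ _ (by decide) (allR_join _ _ _ _ (by decide) (allR_join _ _ _ _ (by decide) (allR_join _ _ _ _ (by decide) (allR_join _ _ _ _ (by decide) (allR_join _ _ _ _ (by decide) (allR_join _ _ _ _ (by decide) k_yp_384 k_yp_385) (allR_join _ _ _ _ (by decide) k_yp_386 k_yp_387)) (allR_join _ _ _ _ (by decide) (allR_join _ _ _ _ (by decide) k_yp_388 k_yp_389) (allR_join _ _ _ _ (by decide) k_yp_390 k_yp_391))) (allR_join _ _ _ _ (by decide) (allR_join _ _ _ _ (by decide) (allR_join _ _ _ _ (by decide) k_yp_392 k_yp_393) (allR_join _ _ _ _ (by decide) k_yp_394 k_yp_395)) (allR_join _ _ _ _ (by decide) (allR_join _ _ _ _ (by decide) k_yp_396 k_yp_397)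 (allR_join _ _ _ _ (by decide) k_yp_398 k_yp_399)))) (allR_join _ _ _ _ (by decide) (allR_join _ _ _ _ (by decide) (allR_join _ _ _ _ (by decide) (allR_join _ _ _ _ (by decide) k_yp_400 k_yp_401) (allR_join _ _ _ _ (by decide) k_yp_402 k_yp_403)) (allR_join _ _ _ _ (by decide) (allR_join _ _ _ _ (by decide) k_yp_404 k_yp_405) (allR_join _ _ _ _ (by decide) k_yp_406 k_yp_407))) (allR_join _ _ _ _ (by decide) (allR_join _ _ _ _ (by decide) (allR_join _ _ _ _ (by decide) k_yp_408 k_yp_409) (allR_join _ _ _ _ (by decide) k_yp_410 k_yp_411)) (allR_join _ _ _ _ (by decide) (allR_join _ _ _ _ (by decide) k_yp_412 k_yp_413) (allR_join _ _ _ _ (by decide) k_yp_414 k_yp_415))))) (allR_join _ _ _ _ (by decide) (allR_join _ _ _ _ (by decide) (allR_join _ _ _ _ (by decide) (allR_join _ _ _ _ (by decide) (allR_join _ _ _ _ (by decide) k_yp_416 k_yp_417) (allR_join _ _ _ _ (by decide) k_yp_418 k_yp_419)) (allR_join _ _ _ _ (by decide) (allR_join _ _ _ _ (by decide)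 k_yp_420 k_yp_421) (allR_join _ _ _ _ (by decide) k_yp_422 k_yp_423))) (allR_join _ _ _ _ (by decide) (allR_join _ _ _ _ (by decide) (allR_join _ _ _ _ (by decide) k_yp_424 k_yp_425) (allR_join _ _ _ _ (by decide) k_yp_426 k_yp_427)) (allR_join _ _ _ _ (by decide) (allR_join _ _ _ _ (by decide) k_yp_428 k_yp_429) (allR_join _ _ _ _ (by decide) k_yp_430 k_yp_431)))) (allR_join _ _ _ _ (by decide) (allR_join _ _ _ _ (by decide) (allR_join _ _ _ _ (by decide) (allR_join _ _ _ _ (by decide) k_yp_432 k_yp_433) (allR_join _ _ _ _ (by decide) k_yp_434 k_yp_435)) (allR_join _ _ _ _ (by decide) (allR_join _ _ _ _ (by decide) k_yp_436 k_yp_437) (allR_join _ _ _ _ (by decide) k_yp_438 k_yp_439))) (allR_join _ _ _ _ (by decide) (allR_join _ _ _ _ (by decide) (allR_join _ _ _ _ (by decide) k_yp_440 k_yp_441) (allR_join _ _ _ _ (by decide) k_yp_442 k_yp_443)) (allR_join _ _ _ _ (by decide) (allR_join _ _ _ _ (by decide) k_yp_444 k_yp_445) (allR_join _ _ _ _ (by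 decide) k_yp_446 k_yp_447)))))) (allR_join _ _ _ _ (by decide) (allR_join _ _ _ _ (by decide) (allR_join _ _ _ _ (by decide) (allR_join _ _ _ _ (by decide) (allR_join _ _ _ _ (by decide) (allR_join _ _ _ _ (by decide) k_yp_448 k_yp_449) (allR_join _ _ _ _ (by decide) k_yp_450 k_yp_451)) (allR_join _ _ _ _ (by decide) (allR_join _ _ _ _ (by decide) k_yp_452 k_yp_453) (allR_join _ _ _ _ (by decide) k_yp_454 k_yp_455))) (allR_join _ _ _ _ (by decide) (allR_join _ _ _ _ (by decide) (allR_join _ _ _ _ (by decide) k_yp_456 k_yp_457) (allR_join _ _ _ _ (by decide) k_yp_458 k_yp_459)) (allR_join _ _ _ _ (by decide) (allR_join _ _ _ _ (by decide) k_yp_460 k_yp_461) (allR_join _ _ _ _ (by decide) k_yp_462 k_yp_463)))) (allR_join _ _ _ _ (by decide) (allR_join _ _ _ _ (by decide) (allR_join _ _ _ _ (by decide) (allR_join _ _ _ _ (by decide) k_yp_464 k_yp_465) (allR_join _ _ _ _ (by decide) k_yp_466 k_yp_467)) (allR_join _ _ _ _ (by decide) (allR_join _ _ _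 _ (by decide) k_yp_468 k_yp_469) (allR_join _ _ _ _ (by decide) k_yp_470 k_yp_471))) (allR_join _ _ _ _ (by decide) (allR_join _ _ _ _ (by decide) (allR_join _ _ _ _ (by decide) k_yp_472 k_yp_473) (allR_join _ _ _ _ (by decide) k_yp_474 k_yp_475)) (allR_join _ _ _ _ (by decide) (allR_join _ _ _ _ (by decide) k_yp_476 k_yp_477) (allR_join _ _ _ _ (by decide) k_yp_478 k_yp_479))))) (allR_join _ _ _ _ (by decide) (allR_join _ _ _ _ (by decide) (allR_join _ _ _ _ (by decide) (allR_join _ _ _ _ (by decide) (allR_join _ _ _ _ (by decide) k_yp_480 k_yp_481) (allR_join _ _ _ _ (by decide) k_yp_482 k_yp_483)) (allR_join _ _ _ _ (by decide) (allR_join _ _ _ _ (by decide) k_yp_484 k_yp_485) (allR_join _ _ _ _ (by decide) k_yp_486 k_yp_487))) (allR_join _ _ _ _ (by decide) (allR_join _ _ _ _ (by decide) (allR_join _ _ _ _ (by decide) k_yp_488 k_yp_489) (allR_join _ _ _ _ (by decide) k_yp_490 k_yp_491)) (allR_join _ _ _ _ (by decide) (allR_join _ _ _ _ (by decide)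 k_yp_492 k_yp_493) (allR_join _ _ _ _ (by decide) k_yp_494 k_yp_495)))) (allR_join _ _ _ _ (by decide) (allR_join _ _ _ _ (by decide) (allR_join _ _ _ _ (by decide) (allR_join _ _ _ _ (by decide) k_yp_496 k_yp_497) (allR_join _ _ _ _ (by decide) k_yp_498 k_yp_499)) (allR_join _ _ _ _ (by decide) (allR_join _ _ _ _ (by decide) k_yp_500 k_yp_501) (allR_join _ _ _ _ (by decide) k_yp_502 k_yp_503))) (allR_join _ _ _ _ (by decide) (allR_join _ _ _ _ (by decide) (allR_join _ _ _ _ (by decide) k_yp_504 k_yp_505) (allR_join _ _ _ _ (by decide) k_yp_506 k_yp_507)) (allR_join _ _ _ _ (by decide) (allR_join _ _ _ _ (by decide) k_yp_508 k_yp_509) (allR_join _ _ _ _ (by decide) k_yp_510 k_yp_511))))))))) (allR_join _ _ _ _ (by decide) (allR_join _ _ _ _ (by decide) (allR_join _ _ _ _ (by decide) (allR_join _ _ _ _ (by decide) (allR_join _ _ _ _ (by decide) (allR_join _ _ _ _ (by decide) (allR_join _ _ _ _ (by decide) (allR_join _ _ _ _ (by decide) (allR_join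 _ _ _ _ (by decide) k_yp_512 k_yp_513) (allR_join _ _ _ _ (by decide) k_yp_514 k_yp_515)) (allR_join _ _ _ _ (by decide) (allR_join _ _ _ _ (by decide) k_yp_516 k_yp_517) (allR_join _ _ _ _ (by decide) k_yp_518 k_yp_519))) (allR_join _ _ _ _ (by decide) (allR_join _ _ _ _ (by decide) (allR_join _ _ _ _ (by decide) k_yp_520 k_yp_521) (allR_join _ _ _ _ (by decide) k_yp_522 k_yp_523)) (allR_join _ _ _ _ (by decide) (allR_join _ _ _ _ (by decide) k_yp_524 k_yp_525) (allR_join _ _ _ _ (by decide) k_yp_526 k_yp_527)))) (allR_join _ _ _ _ (by decide) (allR_join _ _ _ _ (by decide) (allR_join _ _ _ _ (by decide) (allR_join _ _ _ _ (by decide) k_yp_528 k_yp_529) (allR_join _ _ _ _ (by decide) k_yp_530 k_yp_531)) (allR_join _ _ _ _ (by decide) (allR_join _ _ _ _ (by decide) k_yp_532 k_yp_533) (allR_join _ _ _ _ (by decide) k_yp_534 k_yp_535))) (allR_join _ _ _ _ (by decide) (allR_join _ _ _ _ (by decide) (allR_join _ _ _ _ (by decide) k_yp_536 k_yp_537) (allR_join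 _ _ _ _ (by decide) k_yp_538 k_yp_539)) (allR_join _ _ _ _ (by decide) (allR_join _ _ _ _ (by decide) k_yp_540 k_yp_541) (allR_join _ _ _ _ (by decide) k_yp_542 k_yp_543))))) (allR_join _ _ _ _ (by decide) (allR_join _ _ _ _ (by decide) (allR_join _ _ _ _ (by decide) (allR_join _ _ _ _ (by decide) (allR_join _ _ _ _ (by decide) k_yp_544 k_yp_545) (allR_join _ _ _ _ (by decide) k_yp_546 k_yp_547)) (allR_join _ _ _ _ (by decide) (allR_join _ _ _ _ (by decide) k_yp_548 k_yp_549) (allR_join _ _ _ _ (by decide) k_yp_550 k_yp_551))) (allR_join _ _ _ _ (by decide) (allR_join _ _ _ _ (by decide) (allR_join _ _ _ _ (by decide) k_yp_552 k_yp_553) (allR_join _ _ _ _ (by decide) k_yp_554 k_yp_555)) (allR_join _ _ _ _ (by decide) (allR_join _ _ _ _ (by decide) k_yp_556 k_yp_557) (allR_join _ _ _ _ (by decide) k_yp_558 k_yp_559)))) (allR_join _ _ _ _ (by decide) (allR_join _ _ _ _ (by decide) (allR_join _ _ _ _ (by decide) (allR_join _ _ _ _ (by decide) k_yp_560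 k_yp_561) (allR_join _ _ _ _ (by decide) k_yp_562 k_yp_563)) (allR_join _ _ _ _ (by decide) (allR_join _ _ _ _ (by decide) k_yp_564 k_yp_565) (allR_join _ _ _ _ (by decide) k_yp_566 k_yp_567))) (allR_join _ _ _ _ (by decide) (allR_join _ _ _ _ (by decide) (allR_join _ _ _ _ (by decide) k_yp_568 k_yp_569) (allR_join _ _ _ _ (by decide) k_yp_570 k_yp_571)) (allR_join _ _ _ _ (by decide) (allR_join _ _ _ _ (by decide) k_yp_572 k_yp_573) (allR_join _ _ _ _ (by decide) k_yp_574 k_yp_575)))))) (allR_join _ _ _ _ (by decide) (allR_join _ _ _ _ (by decide) (allR_join _ _ _ _ (by decide) (allR_join _ _ _ _ (by decide) (allR_join _ _ _ _ (by decide) (allR_join _ _ _ _ (by decide) k_yp_576 k_yp_577) (allR_join _ _ _ _ (by decide) k_yp_578 k_yp_579)) (allR_join _ _ _ _ (by decide) (allR_join _ _ _ _ (by decide) k_yp_580 k_yp_581) (allR_join _ _ _ _ (by decide) k_yp_582 k_yp_583))) (allR_join _ _ _ _ (by decide) (allR_join _ _ _ _ (by decide) (allR_join _ _ _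 _ (by decide) k_yp_584 k_yp_585) (allR_join _ _ _ _ (by decide) k_yp_586 k_yp_587)) (allR_join _ _ _ _ (by decide) (allR_join _ _ _ _ (by decide) k_yp_588 k_yp_589) (allR_join _ _ _ _ (by decide) k_yp_590 k_yp_591)))) (allR_join _ _ _ _ (by decide) (allR_join _ _ _ _ (by decide) (allR_join _ _ _ _ (by decide) (allR_join _ _ _ _ (by decide) k_yp_592 k_yp_593) (allR_join _ _ _ _ (by decide) k_yp_594 k_yp_595)) (allR_join _ _ _ _ (by decide) (allR_join _ _ _ _ (by decide) k_yp_596 k_yp_597) (allR_join _ _ _ _ (by decide) k_yp_598 k_yp_599))) (allR_join _ _ _ _ (by decide) (allR_join _ _ _ _ (by decide) (allR_join _ _ _ _ (by decide) k_yp_600 k_yp_601) (allR_join _ _ _ _ (by decide) k_yp_602 k_yp_603)) (allR_join _ _ _ _ (by decide) (allR_join _ _ _ _ (by decide) k_yp_604 k_yp_605) (allR_join _ _ _ _ (by decide) k_yp_606 k_yp_607))))) (allR_join _ _ _ _ (by decide) (allR_join _ _ _ _ (by decide) (allR_join _ _ _ _ (by decide) (allR_join _ _ _ _ (by decide)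 (allR_join _ _ _ _ (by decide) k_yp_608 k_yp_609) (allR_join _ _ _ _ (by decide) k_yp_610 k_yp_611)) (allR_join _ _ _ _ (by decide) (allR_join _ _ _ _ (by decide) k_yp_612 k_yp_613) (allR_join _ _ _ _ (by decide) k_yp_614 k_yp_615))) (allR_join _ _ _ _ (by decide) (allR_join _ _ _ _ (by decide) (allR_join _ _ _ _ (by decide) k_yp_616 k_yp_617) (allR_join _ _ _ _ (by decide) k_yp_618 k_yp_619)) (allR_join _ _ _ _ (by decide) (allR_join _ _ _ _ (by decide) k_yp_620 k_yp_621) (allR_join _ _ _ _ (by decide) k_yp_622 k_yp_623)))) (allR_join _ _ _ _ (by decide) (allR_join _ _ _ _ (by decide) (allR_join _ _ _ _ (by decide) (allR_join _ _ _ _ (by decide) k_yp_624 k_yp_625) (allR_join _ _ _ _ (by decide) k_yp_626 k_yp_627)) (allR_join _ _ _ _ (by decide) (allR_join _ _ _ _ (by decide) k_yp_628 k_yp_629) (allR_join _ _ _ _ (by decide) k_yp_630 k_yp_631))) (allR_join _ _ _ _ (by decide) (allR_join _ _ _ _ (by decide) (allR_join _ _ _ _ (by decide) k_yp_632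 k_yp_633) (allR_join _ _ _ _ (by decide) k_yp_634 k_yp_635)) (allR_join _ _ _ _ (by decide) (allR_join _ _ _ _ (by decide) k_yp_636 k_yp_637) (allR_join _ _ _ _ (by decide) k_yp_638 k_yp_639))))))) (allR_join _ _ _ _ (by decide) (allR_join _ _ _ _ (by decide) (allR_join _ _ _ _ (by decide) (allR_join _ _ _ _ (by decide) (allR_join _ _ _ _ (by decide) (allR_join _ _ _ _ (by decide) (allR_join _ _ _ _ (by decide) k_yp_640 k_yp_641) (allR_join _ _ _ _ (by decide) k_yp_642 k_yp_643)) (allR_join _ _ _ _ (by decide) (allR_join _ _ _ _ (by decide) k_yp_644 k_yp_645) (allR_join _ _ _ _ (by decide) k_yp_646 k_yp_647))) (allR_join _ _ _ _ (by decide) (allR_join _ _ _ _ (by decide) (allR_join _ _ _ _ (by decide) k_yp_648 k_yp_649) (allR_join _ _ _ _ (by decide) k_yp_650 k_yp_651)) (allR_join _ _ _ _ (by decide) (allR_join _ _ _ _ (by decide) k_yp_652 k_yp_653) (allR_join _ _ _ _ (by decide) k_yp_654 k_yp_655)))) (allR_join _ _ _ _ (by decide) (allR_join _ _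 _ _ (by decide) (allR_join _ _ _ _ (by decide) (allR_join _ _ _ _ (by decide) k_yp_656 k_yp_657) (allR_join _ _ _ _ (by decide) k_yp_658 k_yp_659)) (allR_join _ _ _ _ (by decide) (allR_join _ _ _ _ (by decide) k_yp_660 k_yp_661) (allR_join _ _ _ _ (by decide) k_yp_662 k_yp_663))) (allR_join _ _ _ _ (by decide) (allR_join _ _ _ _ (by decide) (allR_join _ _ _ _ (by decide) k_yp_664 k_yp_665) (allR_join _ _ _ _ (by decide) k_yp_666 k_yp_667)) (allR_join _ _ _ _ (by decide) (allR_join _ _ _ _ (by decide) k_yp_668 k_yp_669) (allR_join _ _ _ _ (by decide) k_yp_670 k_yp_671))))) (allR_join _ _ _ _ (by decide) (allR_join _ _ _ _ (by decide) (allR_join _ _ _ _ (by decide) (allR_join _ _ _ _ (by decide) (allR_join _ _ _ _ (by decide) k_yp_672 k_yp_673) (allR_join _ _ _ _ (by decide) k_yp_674 k_yp_675)) (allR_join _ _ _ _ (by decide) (allR_join _ _ _ _ (by decide) k_yp_676 k_yp_677) (allR_join _ _ _ _ (by decide) k_yp_678 k_yp_679))) (allR_join _ _ _ _ (by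 decide) (allR_join _ _ _ _ (by decide) (allR_join _ _ _ _ (by decide) k_yp_680 k_yp_681) (allR_join _ _ _ _ (by decide) k_yp_682 k_yp_683)) (allR_join _ _ _ _ (by decide) (allR_join _ _ _ _ (by decide) k_yp_684 k_yp_685) (allR_join _ _ _ _ (by decide) k_yp_686 k_yp_687)))) (allR_join _ _ _ _ (by decide) (allR_join _ _ _ _ (by decide) (allR_join _ _ _ _ (by decide) (allR_join _ _ _ _ (by decide) k_yp_688 k_yp_689) (allR_join _ _ _ _ (by decide) k_yp_690 k_yp_691)) (allR_join _ _ _ _ (by decide) (allR_join _ _ _ _ (by decide) k_yp_692 k_yp_693) (allR_join _ _ _ _ (by decide) k_yp_694 k_yp_695))) (allR_join _ _ _ _ (by decide) (allR_join _ _ _ _ (by decide) (allR_join _ _ _ _ (by decide) k_yp_696 k_yp_697) (allR_join _ _ _ _ (by decide) k_yp_698 k_yp_699)) (allR_join _ _ _ _ (by decide) (allR_join _ _ _ _ (by decide) k_yp_700 k_yp_701) (allR_join _ _ _ _ (by decide) k_yp_702 k_yp_703)))))) (allR_join _ _ _ _ (by decide) (allR_join _ _ _ _ (by decide)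 (allR_join _ _ _ _ (by decide) (allR_join _ _ _ _ (by decide) (allR_join _ _ _ _ (by decide) (allR_join _ _ _ _ (by decide) k_yp_704 k_yp_705) (allR_join _ _ _ _ (by decide) k_yp_706 k_yp_707)) (allR_join _ _ _ _ (by decide) (allR_join _ _ _ _ (by decide) k_yp_708 k_yp_709) (allR_join _ _ _ _ (by decide) k_yp_710 k_yp_711))) (allR_join _ _ _ _ (by decide) (allR_join _ _ _ _ (by decide) (allR_join _ _ _ _ (by decide) k_yp_712 k_yp_713) (allR_join _ _ _ _ (by decide) k_yp_714 k_yp_715)) (allR_join _ _ _ _ (by decide) (allR_join _ _ _ _ (by decide) k_yp_716 k_yp_717) (allR_join _ _ _ _ (by decide) k_yp_718 k_yp_719)))) (allR_join _ _ _ _ (by decide) (allR_join _ _ _ _ (by decide) (allR_join _ _ _ _ (by decide) (allR_join _ _ _ _ (by decide) k_yp_720 k_yp_721) (allR_join _ _ _ _ (by decide) k_yp_722 k_yp_723)) (allR_join _ _ _ _ (by decide) (allR_join _ _ _ _ (by decide) k_yp_724 k_yp_725) (allR_join _ _ _ _ (by decide) k_yp_726 k_yp_727))) (allR_join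 _ _ _ _ (by decide) (allR_join _ _ _ _ (by decide) (allR_join _ _ _ _ (by decide) k_yp_728 k_yp_729) (allR_join _ _ _ _ (by decide) k_yp_730 k_yp_731)) (allR_join _ _ _ _ (by decide) (allR_join _ _ _ _ (by decide) k_yp_732 k_yp_733) (allR_join _ _ _ _ (by decide) k_yp_734 k_yp_735))))) (allR_join _ _ _ _ (by decide) (allR_join _ _ _ _ (by decide) (allR_join _ _ _ _ (by decide) (allR_join _ _ _ _ (by decide) (allR_join _ _ _ _ (by decide) k_yp_736 k_yp_737) (allR_join _ _ _ _ (by decide) k_yp_738 k_yp_739)) (allR_join _ _ _ _ (by decide) (allR_join _ _ _ _ (by decide) k_yp_740 k_yp_741) (allR_join _ _ _ _ (by decide) k_yp_742 k_yp_743))) (allR_join _ _ _ _ (by decide) (allR_join _ _ _ _ (by decide) (allR_join _ _ _ _ (by decide) k_yp_744 k_yp_745) (allR_join _ _ _ _ (by decide) k_yp_746 k_yp_747)) (allR_join _ _ _ _ (by decide) (allR_join _ _ _ _ (by decide) k_yp_748 k_yp_749) (allR_join _ _ _ _ (by decide) k_yp_750 k_yp_751)))) (allR_join _ _ _ _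 (by decide) (allR_join _ _ _ _ (by decide) (allR_join _ _ _ _ (by decide) (allR_join _ _ _ _ (by decide) k_yp_752 k_yp_753) (allR_join _ _ _ _ (by decide) k_yp_754 k_yp_755)) (allR_join _ _ _ _ (by decide) (allR_join _ _ _ _ (by decide) k_yp_756 k_yp_757) (allR_join _ _ _ _ (by decide) k_yp_758 k_yp_759))) (allR_join _ _ _ _ (by decide) (allR_join _ _ _ _ (by decide) (allR_join _ _ _ _ (by decide) k_yp_760 k_yp_761) (allR_join _ _ _ _ (by decide) k_yp_762 k_yp_763)) (allR_join _ _ _ _ (by decide) (allR_join _ _ _ _ (by decide) k_yp_764 k_yp_765) (allR_join _ _ _ _ (by decide) k_yp_766 k_yp_767)))))))) (allR_join _ _ _ _ (by decide) (allR_join _ _ _ _ (by decide) (allR_join _ _ _ _ (by decide) (allR_join _ _ _ _ (by decide) (allR_join _ _ _ _ (by decide) (allR_join _ _ _ _ (by decide) (allR_join _ _ _ _ (by decide) (allR_join _ _ _ _ (by decide) k_yp_768 k_yp_769) (allR_join _ _ _ _ (by decide) k_yp_770 k_yp_771)) (allR_join _ _ _ _ (by decide) (allR_join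 _ _ _ _ (by decide) k_yp_772 k_yp_773) (allR_join _ _ _ _ (by decide) k_yp_774 k_yp_775))) (allR_join _ _ _ _ (by decide) (allR_join _ _ _ _ (by decide) (allR_join _ _ _ _ (by decide) k_yp_776 k_yp_777) (allR_join _ _ _ _ (by decide) k_yp_778 k_yp_779)) (allR_join _ _ _ _ (by decide) (allR_join _ _ _ _ (by decide) k_yp_780 k_yp_781) (allR_join _ _ _ _ (by decide) k_yp_782 k_yp_783)))) (allR_join _ _ _ _ (by decide) (allR_join _ _ _ _ (by decide) (allR_join _ _ _ _ (by decide) (allR_join _ _ _ _ (by decide) k_yp_784 k_yp_785) (allR_join _ _ _ _ (by decide) k_yp_786 k_yp_787)) (allR_join _ _ _ _ (by decide) (allR_join _ _ _ _ (by decide) k_yp_788 k_yp_789) (allR_join _ _ _ _ (by decide) k_yp_790 k_yp_791))) (allR_join _ _ _ _ (by decide) (allR_join _ _ _ _ (by decide) (allR_join _ _ _ _ (by decide) k_yp_792 k_yp_793) (allR_join _ _ _ _ (by decide) k_yp_794 k_yp_795)) (allR_join _ _ _ _ (by decide) (allR_join _ _ _ _ (by decide) k_yp_796 k_yp_797) (allR_join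 _ _ _ _ (by decide) k_yp_798 k_yp_799))))) (allR_join _ _ _ _ (by decide) (allR_join _ _ _ _ (by decide) (allR_join _ _ _ _ (by decide) (allR_join _ _ _ _ (by decide) (allR_join _ _ _ _ (by decide) k_yp_800 k_yp_801) (allR_join _ _ _ _ (by decide) k_yp_802 k_yp_803)) (allR_join _ _ _ _ (by decide) (allR_join _ _ _ _ (by decide) k_yp_804 k_yp_805) (allR_join _ _ _ _ (by decide) k_yp_806 k_yp_807))) (allR_join _ _ _ _ (by decide) (allR_join _ _ _ _ (by decide) (allR_join _ _ _ _ (by decide) k_yp_808 k_yp_809) (allR_join _ _ _ _ (by decide) k_yp_810 k_yp_811)) (allR_join _ _ _ _ (by decide) (allR_join _ _ _ _ (by decide) k_yp_812 k_yp_813) (allR_join _ _ _ _ (by decide) k_yp_814 k_yp_815)))) (allR_join _ _ _ _ (by decide) (allR_join _ _ _ _ (by decide) (allR_join _ _ _ _ (by decide) (allR_join _ _ _ _ (by decide) k_yp_816 k_yp_817) (allR_join _ _ _ _ (by decide) k_yp_818 k_yp_819)) (allR_join _ _ _ _ (by decide) (allR_join _ _ _ _ (by decide) k_yp_820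 k_yp_821) (allR_join _ _ _ _ (by decide) k_yp_822 k_yp_823))) (allR_join _ _ _ _ (by decide) (allR_join _ _ _ _ (by decide) (allR_join _ _ _ _ (by decide) k_yp_824 k_yp_825) (allR_join _ _ _ _ (by decide) k_yp_826 k_yp_827)) (allR_join _ _ _ _ (by decide) (allR_join _ _ _ _ (by decide) k_yp_828 k_yp_829) (allR_join _ _ _ _ (by decide) k_yp_830 k_yp_831)))))) (allR_join _ _ _ _ (by decide) (allR_join _ _ _ _ (by decide) (allR_join _ _ _ _ (by decide) (allR_join _ _ _ _ (by decide) (allR_join _ _ _ _ (by decide) (allR_join _ _ _ _ (by decide) k_yp_832 k_yp_833) (allR_join _ _ _ _ (by decide) k_yp_834 k_yp_835)) (allR_join _ _ _ _ (by decide) (allR_join _ _ _ _ (by decide) k_yp_836 k_yp_837) (allR_join _ _ _ _ (by decide) k_yp_838 k_yp_839))) (allR_join _ _ _ _ (by decide) (allR_join _ _ _ _ (by decide) (allR_join _ _ _ _ (by decide) k_yp_840 k_yp_841) (allR_join _ _ _ _ (by decide) k_yp_842 k_yp_843)) (allR_join _ _ _ _ (by decide) (allR_join _ _ _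 _ (by decide) k_yp_844 k_yp_845) (allR_join _ _ _ _ (by decide) k_yp_846 k_yp_847)))) (allR_join _ _ _ _ (by decide) (allR_join _ _ _ _ (by decide) (allR_join _ _ _ _ (by decide) (allR_join _ _ _ _ (by decide) k_yp_848 k_yp_849) (allR_join _ _ _ _ (by decide) k_yp_850 k_yp_851)) (allR_join _ _ _ _ (by decide) (allR_join _ _ _ _ (by decide) k_yp_852 k_yp_853) (allR_join _ _ _ _ (by decide) k_yp_854 k_yp_855))) (allR_join _ _ _ _ (by decide) (allR_join _ _ _ _ (by decide) (allR_join _ _ _ _ (by decide) k_yp_856 k_yp_857) (allR_join _ _ _ _ (by decide) k_yp_858 k_yp_859)) (allR_join _ _ _ _ (by decide) (allR_join _ _ _ _ (by decide) k_yp_860 k_yp_861) (allR_join _ _ _ _ (by decide) k_yp_862 k_yp_863))))) (allR_join _ _ _ _ (by decide) (allR_join _ _ _ _ (by decide) (allR_join _ _ _ _ (by decide) (allR_join _ _ _ _ (by decide) (allR_join _ _ _ _ (by decide) k_yp_864 k_yp_865) (allR_join _ _ _ _ (by decide) k_yp_866 k_yp_867)) (allR_join _ _ _ _ (by decide)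 (allR_join _ _ _ _ (by decide) k_yp_868 k_yp_869) (allR_join _ _ _ _ (by decide) k_yp_870 k_yp_871))) (allR_join _ _ _ _ (by decide) (allR_join _ _ _ _ (by decide) (allR_join _ _ _ _ (by decide) k_yp_872 k_yp_873) (allR_join _ _ _ _ (by decide) k_yp_874 k_yp_875)) (allR_join _ _ _ _ (by decide) (allR_join _ _ _ _ (by decide) k_yp_876 k_yp_877) (allR_join _ _ _ _ (by decide) k_yp_878 k_yp_879)))) (allR_join _ _ _ _ (by decide) (allR_join _ _ _ _ (by decide) (allR_join _ _ _ _ (by decide) (allR_join _ _ _ _ (by decide) k_yp_880 k_yp_881) (allR_join _ _ _ _ (by decide) k_yp_882 k_yp_883)) (allR_join _ _ _ _ (by decide) (allR_join _ _ _ _ (by decide) k_yp_884 k_yp_885) (allR_join _ _ _ _ (by decide) k_yp_886 k_yp_887))) (allR_join _ _ _ _ (by decide) (allR_join _ _ _ _ (by decide) (allR_join _ _ _ _ (by decide) k_yp_888 k_yp_889) (allR_join _ _ _ _ (by decide) k_yp_890 k_yp_891)) (allR_join _ _ _ _ (by decide) (allR_join _ _ _ _ (by decide) k_yp_892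 k_yp_893) (allR_join _ _ _ _ (by decide) k_yp_894 k_yp_895))))))) (allR_join _ _ _ _ (by decide) (allR_join _ _ _ _ (by decide) (allR_join _ _ _ _ (by decide) (allR_join _ _ _ _ (by decide) (allR_join _ _ _ _ (by decide) (allR_join _ _ _ _ (by decide) (allR_join _ _ _ _ (by decide) k_yp_896 k_yp_897) (allR_join _ _ _ _ (by decide) k_yp_898 k_yp_899)) (allR_join _ _ _ _ (by decide) (allR_join _ _ _ _ (by decide) k_yp_900 k_yp_901) (allR_join _ _ _ _ (by decide) k_yp_902 k_yp_903))) (allR_join _ _ _ _ (by decide) (allR_join _ _ _ _ (by decide) (allR_join _ _ _ _ (by decide) k_yp_904 k_yp_905) (allR_join _ _ _ _ (by decide) k_yp_906 k_yp_907)) (allR_join _ _ _ _ (by decide) (allR_join _ _ _ _ (by decide) k_yp_908 k_yp_909) (allR_join _ _ _ _ (by decide) k_yp_910 k_yp_911)))) (allR_join _ _ _ _ (by decide) (allR_join _ _ _ _ (by decide) (allR_join _ _ _ _ (by decide) (allR_join _ _ _ _ (by decide) k_yp_912 k_yp_913) (allR_join _ _ _ _ (by decide) k_yp_914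 k_yp_915)) (allR_join _ _ _ _ (by decide) (allR_join _ _ _ _ (by decide) k_yp_916 k_yp_917) (allR_join _ _ _ _ (by decide) k_yp_918 k_yp_919))) (allR_join _ _ _ _ (by decide) (allR_join _ _ _ _ (by decide) (allR_join _ _ _ _ (by decide) k_yp_920 k_yp_921) (allR_join _ _ _ _ (by decide) k_yp_922 k_yp_923)) (allR_join _ _ _ _ (by decide) (allR_join _ _ _ _ (by decide) k_yp_924 k_yp_925) (allR_join _ _ _ _ (by decide) k_yp_926 k_yp_927))))) (allR_join _ _ _ _ (by decide) (allR_join _ _ _ _ (by decide) (allR_join _ _ _ _ (by decide) (allR_join _ _ _ _ (by decide) (allR_join _ _ _ _ (by decide) k_yp_928 k_yp_929) (allR_join _ _ _ _ (by decide) k_yp_930 k_yp_931)) (allR_join _ _ _ _ (by decide) (allR_join _ _ _ _ (by decide) k_yp_932 k_yp_933) (allR_join _ _ _ _ (by decide) k_yp_934 k_yp_935))) (allR_join _ _ _ _ (by decide) (allR_join _ _ _ _ (by decide) (allR_join _ _ _ _ (by decide) k_yp_936 k_yp_937) (allR_join _ _ _ _ (by decide) k_yp_938 k_yp_939))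 (allR_join _ _ _ _ (by decide) (allR_join _ _ _ _ (by decide) k_yp_940 k_yp_941) (allR_join _ _ _ _ (by decide) k_yp_942 k_yp_943)))) (allR_join _ _ _ _ (by decide) (allR_join _ _ _ _ (by decide) (allR_join _ _ _ _ (by decide) (allR_join _ _ _ _ (by decide) k_yp_944 k_yp_945) (allR_join _ _ _ _ (by decide) k_yp_946 k_yp_947)) (allR_join _ _ _ _ (by decide) (allR_join _ _ _ _ (by decide) k_yp_948 k_yp_949) (allR_join _ _ _ _ (by decide) k_yp_950 k_yp_951))) (allR_join _ _ _ _ (by decide) (allR_join _ _ _ _ (by decide) (allR_join _ _ _ _ (by decide) k_yp_952 k_yp_953) (allR_join _ _ _ _ (by decide) k_yp_954 k_yp_955)) (allR_join _ _ _ _ (by decide) (allR_join _ _ _ _ (by decide) k_yp_956 k_yp_957) (allR_join _ _ _ _ (by decide) k_yp_958 k_yp_959)))))) (allR_join _ _ _ _ (by decide) (allR_join _ _ _ _ (by decide) (allR_join _ _ _ _ (by decide) (allR_join _ _ _ _ (by decide) (allR_join _ _ _ _ (by decide) (allR_join _ _ _ _ (by decide) k_yp_960 k_yp_961)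 (allR_join _ _ _ _ (by decide) k_yp_962 k_yp_963)) (allR_join _ _ _ _ (by decide) (allR_join _ _ _ _ (by decide) k_yp_964 k_yp_965) (allR_join _ _ _ _ (by decide) k_yp_966 k_yp_967))) (allR_join _ _ _ _ (by decide) (allR_join _ _ _ _ (by decide) (allR_join _ _ _ _ (by decide) k_yp_968 k_yp_969) (allR_join _ _ _ _ (by decide) k_yp_970 k_yp_971)) (allR_join _ _ _ _ (by decide) (allR_join _ _ _ _ (by decide) k_yp_972 k_yp_973) (allR_join _ _ _ _ (by decide) k_yp_974 k_yp_975)))) (allR_join _ _ _ _ (by decide) (allR_join _ _ _ _ (by decide) (allR_join _ _ _ _ (by decide) (allR_join _ _ _ _ (by decide) k_yp_976 k_yp_977) (allR_join _ _ _ _ (by decide) k_yp_978 k_yp_979)) (allR_join _ _ _ _ (by decide) (allR_join _ _ _ _ (by decide) k_yp_980 k_yp_981) (allR_join _ _ _ _ (by decide) k_yp_982 k_yp_983))) (allR_join _ _ _ _ (by decide) (allR_join _ _ _ _ (by decide) (allR_join _ _ _ _ (by decide) k_yp_984 k_yp_985) (allR_join _ _ _ _ (by decide) k_yp_986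 k_yp_987)) (allR_join _ _ _ _ (by decide) (allR_join _ _ _ _ (by decide) k_yp_988 k_yp_989) (allR_join _ _ _ _ (by decide) k_yp_990 k_yp_991))))) (allR_join _ _ _ _ (by decide) (allR_join _ _ _ _ (by decide) (allR_join _ _ _ _ (by decide) (allR_join _ _ _ _ (by decide) (allR_join _ _ _ _ (by decide) k_yp_992 k_yp_993) (allR_join _ _ _ _ (by decide) k_yp_994 k_yp_995)) (allR_join _ _ _ _ (by decide) (allR_join _ _ _ _ (by decide) k_yp_996 k_yp_997) (allR_join _ _ _ _ (by decide) k_yp_998 k_yp_999))) (allR_join _ _ _ _ (by decide) (allR_join _ _ _ _ (by decide) (allR_join _ _ _ _ (by decide) k_yp_1000 k_yp_1001) (allR_join _ _ _ _ (by decide) k_yp_1002 k_yp_1003)) (allR_join _ _ _ _ (by decide) (allR_join _ _ _ _ (by decide) k_yp_1004 k_yp_1005) (allR_join _ _ _ _ (by decide) k_yp_1006 k_yp_1007)))) (allR_join _ _ _ _ (by decide) (allR_join _ _ _ _ (by decide) (allR_join _ _ _ _ (by decide) (allR_join _ _ _ _ (by decide) k_yp_1008 k_yp_1009) (allR_join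 _ _ _ _ (by decide) k_yp_1010 k_yp_1011)) (allR_join _ _ _ _ (by decide) (allR_join _ _ _ _ (by decide) k_yp_1012 k_yp_1013) (allR_join _ _ _ _ (by decide) k_yp_1014 k_yp_1015))) (allR_join _ _ _ _ (by decide) (allR_join _ _ _ _ (by decide) (allR_join _ _ _ _ (by decide) k_yp_1016 k_yp_1017) (allR_join _ _ _ _ (by decide) k_yp_1018 k_yp_1019)) (allR_join _ _ _ _ (by decide) (allR_join _ _ _ _ (by decide) k_yp_1020 k_yp_1021) (allR_join _ _ _ _ (by decide) k_yp_1022 k_yp_1023))))))))))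

theorem ckY_spec : ∀ i < Fi23_31671.nn, ckY i = true := all_lt_pow _ Fi23_31671.nn 15 (by decide) k_y

theorem fl0_eq (i : Nat) : tr Fi23_31671.T (idL 0) i = fl0 i := rfl
theorem fr0_eq (i : Nat) : tr Fi23_31671.T (idR 0) i = fr0 i := rfl
theorem fl1_eq (i : Nat) : tr Fi23_31671.T (idL 1) i = fl1 i := rfl
theorem fr1_eq (i : Nat) : tr Fi23_31671.T (idR 1) i = fr1 i := rfl
theorem fl2_eq (i : Nat) : tr Fi23_31671.T (idL 2) i = fl2 i := rfl
theorem fr2_eq (i : Nat) : tr Fi23_31671.T (idR 2) i = fr2 i := rfl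
theorem fl3_eq (i : Nat) : tr Fi23_31671.T (idL 3) i = fl3 i := rfl
theorem fr3_eq (i : Nat) : tr Fi23_31671.T (idR 3) i = fr3 i := rfl
theorem fl4_eq (i : Nat) : tr Fi23_31671.T (idL 4) i = fl4 i := rfl
theorem fr4_eq (i : Nat) : tr Fi23_31671.T (idR 4) i = fr4 i := rfl
theorem fl5_eq (i : Nat) : tr Fi23_31671.T (idL 5) i = fl5 i := rfl
theorem fr5_eq (i : Nat) : tr Fi23_31671.T (idR 5) i = fr5 i := rfl
theorem fl6_eq (i : Nat) : tr Fi23_31671.T (idL 6) i = fl6 i := rfl
theorem fr6_eq (i : Nat) : tr Fi23_31671.T (idR 6) i = fr6 i := rfl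
theorem fl7_eq (i : Nat) : tr Fi23_31671.T (idL 7) i = fl7 i := rfl
theorem fr7_eq (i : Nat) : tr Fi23_31671.T (idR 7) i = fr7 i := rfl
theorem fl8_eq (i : Nat) : tr Fi23_31671.T (idL 8) i = fl8 i := rfl
theorem fr8_eq (i : Nat) : tr Fi23_31671.T (idR 8) i = fr8 i := rfl
theorem fl9_eq (i : Nat) : tr Fi23_31671.T (idL 9) i = fl9 i := rfl
theorem fr9_eq (i : Nat) : tr Fi23_31671.T (idR 9) i = fr9 i := rfl
theorem fl10_eq (i : Nat) : tr Fi23_31671.T (idL 10) i = fl10 i := rfl
theorem fr10_eq (i : Nat) : tr Fi23_31671.T (idR 10) i = fr10 i := rfl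

theorem tr_id (j : Nat) (hj : j < 11) : ∀ i < Fi23_31671.nn, tr Fi23_31671.T (idL j) i = tr Fi23_31671.T (idR j) i := by
  intro i hi
  have h := ckY_spec i hi
  simp only [ckY, Bool.or_eq_true, Bool.and_eq_true] at h
  rcases h with h | h
  · have := Nat.le_of_ble_eq_true h; omega
  · obtain ⟨h0, h1, h2, h3, h4, h5, h6, h7, h8, h9, h10, _⟩ := h
    interval_cases j
    · rw [fl0_eq, fr0_eq]; exact Nat.eq_of_beq_eq_true h0
    · rw [fl1_eq, fr1_eq]; exact Nat.eq_of_beq_eq_true h1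
    · rw [fl2_eq, fr2_eq]; exact Nat.eq_of_beq_eq_true h2
    · rw [fl3_eq, fr3_eq]; exact Nat.eq_of_beq_eq_true h3
    · rw [fl4_eq, fr4_eq]; exact Nat.eq_of_beq_eq_true h4
    · rw [fl5_eq, fr5_eq]; exact Nat.eq_of_beq_eq_true h5
    · rw [fl6_eq, fr6_eq]; exact Nat.eq_of_beq_eq_true h6
    · rw [fl7_eq, fr7_eq]; exact Nat.eq_of_beq_eq_true h7
    · rw [fl8_eq, fr8_eq]; exact Nat.eq_of_beq_eq_true h8
    · rw [fl9_eq, fr9_eq]; exact Nat.eq_of_beq_eq_true h9
    · rw [fl10_eq, fr10_eq]; exact Nat.eq_of_beq_eq_true h10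

theorem letters_lt : ∀ j < 11, (∀ x ∈ idL j, x < 10) ∧ (∀ x ∈ idR j, x < 10) := by
  decide +kernel

/-- word identities in the presented group (given faithfulness of the coset action) -/
theorem evr_id (hinj : Function.Injective (Fi23_31671.checks.phi Fi23_31671.setup)) (j : Nat) (hj : j < 11) :
    evr (cgen Fi23.edges Fi23.extra 10 Fi23_31671.ofIdx) (idL j) = evr (cgen Fi23.edges Fi23.extra 10 Fi23_31671.ofIdx) (idR j) :=
  Fi23_31671.checks.evr_eq_of_tr Fi23_31671.setup hinj (idL j) (idR j) (letters_lt j hj).1 (letters_lt j hj).2 (tr_id j hj)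

theorem idL_comm : ∀ j < 9, idL j = tw ++ [[0, 1, 2, 3, 4, 5, 6, 8, 9].getD j 0] ∧ idR j = [[0, 1, 2, 3, 4, 5, 6, 8, 9].getD j 0] ++ tw := by
  decide +kernel

theorem idL_W1 : idL 9 = (List.replicate 3 W1).flatten ∧ idR 9 = [] := by decide +kernel
theorem idL_W52 : idL 10 = (List.replicate 2 W52).flatten ∧ idR 10 = [] := by decide +kernel

theorem tw_moves : tr Fi23_31671.T tw 1 ≠ 1 := by decide +kernel
theorem u1_pt : tr Fi23_31671.T u1 0 = 1 ∧ ∀ x ∈ u1, x < 10 := by decide +kernel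
theorem u52_pt : tr Fi23_31671.T u52 0 = 52 ∧ ∀ x ∈ u52, x < 10 := by decide +kernel
theorem tw_lt : ∀ x ∈ tw, x < 10 := by decide +kernel

end Cfsg.Agent.Lib.Helper25.TC.Fi23Y
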