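import Cfsg.Agent.Lib.Helper25.TCFi23XMain
import Cfsg.Agent.Lib.Helper25.TCFi23YMain
import Cfsg.Agent.Lib.Helper25.TCFi23Cover
import Cfsg.Agent.Lib.Helper25.TCExistG
import Cfsg.Agent.Lib.Helper25.TCExistI
import Cfsg.Prelude.Def_Sporadic

set_option autoImplicit false
set_option maxRecDepth 1000000
set_option linter.unusedVariables false
set_option linter.unusedSimpArgs false
set_option linter.constructorNameAsVariable false

/-! The presented Fischer group `Fi₂₃` is generated by a class of 31671 3-transpositions whose centralizers are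
non-split double covers of the presented group `Fi₂₂`. -/

namespace Cfsg.Agent.Lib.Helper25.TC.Fi23Class

open Cfsg.Spor Cfsg.Agent.Lib.Helper25.TC

/-- the presented group `Fi₂₃` -/
abbrev KG := Fi23X.KG

/-- the generators, indexed by numbers -/
noncomputable abbrev gn : Nat → KG := cgen Fi23.edges Fi23.extra 10 Fi23_31671.ofIdx

/-- the transposition centralized by `a, …, i` -/
noncomputable abbrev t0 : KG := evr gn Fi23Y.tw

theorem hinj : Function.Injective (Fi23_31671.checks.phi Fi23_31671.setup) := Fi23X.simple_card.1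

theorem hsimple : IsSimpleGroup KG := Fi23X.simple_card.2.1

theorem hcard : Nat.card KG = 4089470473293004800 := Fi23X.simple_card.2.2.1

theorem hfin : Finite KG := Nat.finite_of_card_ne_zero (by rw [hcard]; decide)

theorem gn_comm : ∀ j < 9, gn ([0, 1, 2, 3, 4, 5, 6, 8, 9].getD j 0) * t0 = t0 * gn ([0, 1, 2, 3, 4, 5, 6, 8, 9].getD j 0) := by
  intro j hj
  have h := Fi23Y.evr_id hinj j (by omega)
  obtain ⟨hl, hr⟩ := Fi23Y.idL_comm j hj
  rw [hl, hr, evr_append, evr_append, evr_singleton] at h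
  exact h

theorem HH_le : Fi23Cover.HH ≤ Subgroup.centralizer ({t0} : Set KG) := by
  unfold Fi23Cover.HH subH
  rw [Subgroup.closure_le]
  rintro g ⟨w, hw, rfl⟩
  simp only [Fi23_31671.sw, List.mem_cons, List.not_mem_nil, or_false] at hw
  rw [SetLike.mem_coe, Subgroup.mem_centralizer_iff]
  intro y hy
  rw [Set.mem_singleton_iff] at hy
  subst hy
  rcases hw with rfl | rfl | rfl | rfl | rfl | rfl | rfl | rfl | rfl
  · rw [evr_singleton]; exact (gn_comm 0 (by decide)).symm
  · rw [evr_singleton]; exact (gn_comm 1 (by decide)).symm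
  · rw [evr_singleton]; exact (gn_comm 2 (by decide)).symm
  · rw [evr_singleton]; exact (gn_comm 3 (by decide)).symm
  · rw [evr_singleton]; exact (gn_comm 4 (by decide)).symm
  · rw [evr_singleton]; exact (gn_comm 5 (by decide)).symm
  · rw [evr_singleton]; exact (gn_comm 6 (by decide)).symm
  · rw [evr_singleton]; exact (gn_comm 7 (by decide)).symm
  · rw [evr_singleton]; exact (gn_comm 8 (by decide)).symm

theorem t0_ne_one : t0 ≠ 1 := by
  intro h
  have hp := Fi23_31671.checks.permHyp Fi23_31671.setup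
  have h1 := phi_word hp Fi23Y.tw Fi23Y.tw_lt ⟨1, by decide⟩
  have h2 : evr gn Fi23Y.tw = (1 : KG) := h
  rw [h2, map_one] at h1
  exact Fi23Y.tw_moves h1.symm

theorem t0_mul_self : t0 * t0 = 1 := by
  have hinv := cgen_mul_self Fi23_31671.setup
  have e : Fi23Y.tw = Fi23Y.vv ++ [1] ++ Fi23Y.vv.reverse := rfl
  have e2 : t0 = (evr gn Fi23Y.vv)⁻¹ * (gn 1 * evr gn Fi23Y.vv) := by
    show evr gn Fi23Y.tw = _
    rw [e, evr_append, evr_append, evr_reverse gn hinv, evr_singleton]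
  rw [e2]
  calc (evr gn Fi23Y.vv)⁻¹ * (gn 1 * evr gn Fi23Y.vv) * ((evr gn Fi23Y.vv)⁻¹ * (gn 1 * evr gn Fi23Y.vv))
      = (evr gn Fi23Y.vv)⁻¹ * (gn 1 * gn 1) * evr gn Fi23Y.vv := by group
    _ = 1 := by rw [hinv 1]; group

theorem centralizer_eq : Subgroup.centralizer ({t0} : Set KG) = Fi23Cover.HH := by
  have := hfin
  have hh := Fi23_31671.checks.tableHyp Fi23_31671.setup
  have hp := Fi23_31671.checks.permHyp Fi23_31671.setup
  have horb := Fi23_31671.checks.orbitHyp_all (edges := Fi23.edges) (extra := Fi23.extra)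
    (ofIdx := Fi23_31671.ofIdx) Fi23_31671.orbChecks
  rcases overgroup_of_table hh hp horb 3 Fi23X.hol_all.1 Fi23X.hol_all.2 Fi23X.harith _ HH_le with h | h
  · exact h
  · exfalso
    have hc : Subgroup.center KG = ⊥ := center_eq_bot_of_simple hsimple (by rw [hcard]; norm_num)
    have hm : t0 ∈ Subgroup.center KG := by
      rw [Subgroup.mem_center_iff]
      intro g
      have hg : g ∈ Subgroup.centralizer ({t0} : Set KG) := by rw [h]; trivial
      exact (Subgroup.mem_centralizer_iff.mp hg t0 rfl).symm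
    rw [hc, Subgroup.mem_bot] at hm
    exact t0_ne_one hm

/-- the product of `t₀` with its conjugate under `g` has order at most three -/
def Pg (g : KG) : Prop := (t0 * (g * t0 * g⁻¹)) ^ 2 = 1 ∨ (t0 * (g * t0 * g⁻¹)) ^ 3 = 1

theorem Pg_right (h : KG) (hh : h ∈ Fi23Cover.HH) (g : KG) (hg : Pg g) : Pg (g * h) := by
  have hc : t0 * h = h * t0 := Subgroup.mem_centralizer_iff.mp (HH_le hh) t0 rfl
  have e : g * h * t0 * (g * h)⁻¹ = g * t0 * g⁻¹ := by
    calc g * h * t0 * (g * h)⁻¹ = g * (h * t0) * h⁻¹ * g⁻¹ := by group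
      _ = g * (t0 * h) * h⁻¹ * g⁻¹ := by rw [hc]
      _ = g * t0 * g⁻¹ := by group
  unfold Pg
  rw [e]
  exact hg

theorem Pg_left (h : KG) (hh : h ∈ Fi23Cover.HH) (g : KG) (hg : Pg g) : Pg (h * g) := by
  have hc : t0 * h = h * t0 := Subgroup.mem_centralizer_iff.mp (HH_le hh) t0 rfl
  have e : t0 * (h * g * t0 * (h * g)⁻¹) = h * (t0 * (g * t0 * g⁻¹)) * h⁻¹ := by
    calc t0 * (h * g * t0 * (h * g)⁻¹) = (t0 * h) * (g * t0 * g⁻¹) * h⁻¹ := by group
      _ = (h * t0) * (g * t0 * g⁻¹) * h⁻¹ := by rw [hc]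
      _ = h * (t0 * (g * t0 * g⁻¹)) * h⁻¹ := by group
  unfold Pg
  rw [e, conj_pow, conj_pow]
  rcases hg with hg | hg
  · left; rw [hg]; group
  · right; rw [hg]; group

theorem Pg_one : Pg 1 := by
  left
  have : t0 * (1 * t0 * 1⁻¹) = 1 := by rw [one_mul, inv_one, mul_one]; exact t0_mul_self
  rw [this, one_pow]

theorem evr_W (u : List Nat) :
    evr gn (u.reverse ++ Fi23Y.tw ++ u ++ Fi23Y.tw) = t0 * (evr gn u * t0 * (evr gn u)⁻¹) := by
  have hinv := cgen_mul_self Fi23_31671.setup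
  rw [evr_append, evr_append, evr_append, evr_reverse gn hinv]
  simp only [mul_assoc]

theorem Pg_u1 : Pg (evr gn Fi23Y.u1) := by
  right
  have h := Fi23Y.evr_id hinj 9 (by decide)
  rw [Fi23Y.idL_W1.1, Fi23Y.idL_W1.2, evr_flatten_replicate] at h
  rw [← evr_W Fi23Y.u1]
  exact h

theorem Pg_u52 : Pg (evr gn Fi23Y.u52) := by
  left
  have h := Fi23Y.evr_id hinj 10 (by decide)
  rw [Fi23Y.idL_W52.1, Fi23Y.idL_W52.2, evr_flatten_replicate] at h
  rw [← evr_W Fi23Y.u52]
  exact h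

theorem hrep : ∀ i < Fi23_31671.nn, ∃ g, Pg g ∧
    Fi23_31671.ol ((Fi23_31671.checks.phi Fi23_31671.setup) g ⟨0, Fi23_31671.checks.hn⟩).val = Fi23_31671.ol i := by
  intro i hi
  have hp := Fi23_31671.checks.permHyp Fi23_31671.setup
  have h3 := Fi23X.hol_all.1 i hi
  have h0 : Fi23_31671.ol 0 = 0 := by decide +kernel
  have h1 : Fi23_31671.ol 1 = 1 := by decide +kernel
  have h52 : Fi23_31671.ol 52 = 2 := by decide +kernel
  have c : Fi23_31671.ol i = 0 ∨ Fi23_31671.ol i = 1 ∨ Fi23_31671.ol i = 2 := by omega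
  rcases c with c | c | c
  · refine ⟨1, Pg_one, ?_⟩
    rw [map_one, Equiv.Perm.one_apply, c]
    exact h0
  · refine ⟨evr gn Fi23Y.u1, Pg_u1, ?_⟩
    rw [phi_word hp Fi23Y.u1 Fi23Y.u1_pt.2 ⟨0, Fi23_31671.checks.hn⟩, Fi23Y.u1_pt.1, c]
    exact h1
  · refine ⟨evr gn Fi23Y.u52, Pg_u52, ?_⟩
    rw [phi_word hp Fi23Y.u52 Fi23Y.u52_pt.2 ⟨0, Fi23_31671.checks.hn⟩, Fi23Y.u52_pt.1, c]
    exact h52

theorem Pg_all : ∀ g, Pg g := by
  have hh := Fi23_31671.checks.tableHyp Fi23_31671.setup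
  have hp := Fi23_31671.checks.permHyp Fi23_31671.setup
  have horb := Fi23_31671.checks.orbitHyp_all (edges := Fi23.edges) (extra := Fi23.extra)
    (ofIdx := Fi23_31671.ofIdx) Fi23_31671.orbChecks
  exact forall_of_double_coset hh hp horb Pg Pg_left Pg_right hrep

/-- the Fischer group of order 4089470473293004800 exists as a 3-transposition group -/
theorem fi23_class : ∃ (G : Type) (_ : Group G) (_ : Finite G), Cfsg.IsFi23 G ∧ ∃ D : Set G,
    Cfsg.IsThreeTranspositionClass D ∧ Nat.card D = 31671 ∧ ∀ d ∈ D, ∃ (K : Type) (_ : Group K),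
      Cfsg.IsFi22 K ∧ Cfsg.IsNonsplitDoubleCover (Subgroup.centralizer ({d} : Set G)) K := by
  refine ⟨KG, inferInstance, hfin, ⟨hsimple, hcard⟩, conjugatesOf t0,
    threeTranspositionClass_of_rep hsimple t0 t0_mul_self t0_ne_one Pg_all, ?_, ?_⟩
  · rw [card_conjugatesOf, centralizer_eq]
    exact Fi23_31671.checks.index_eq Fi23_31671.setup
  · intro d hd
    obtain ⟨c, rfl⟩ := isConj_iff.mp (show IsConj t0 d from hd)
    obtain ⟨e, π, hπs, hcardP, hK, hPfin⟩ := Fi23Cover.cover_data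
    refine ⟨Cfsg.Spor.Fi22, inferInstance, ⟨Fi22X.simple_card.2.1, Fi22X.simple_card.2.2.1⟩, ?_⟩
    let e2 : Fi23Cover.HH ≃* Subgroup.centralizer ({t0} : Set KG) := MulEquiv.subgroupCongr centralizer_eq.symm
    exact nonsplitDoubleCover_of_equiv ((e.trans e2).trans (centralizerConjEquiv c t0)) π hπs hcardP hK
      Fi23Cover.hperf

end Cfsg.Agent.Lib.Helper25.TC.Fi23Class
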