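import Cfsg.Agent.Lib.Helper25.TCFi23XL

set_option autoImplicit false
set_option maxRecDepth 1000000
set_option linter.unusedVariables false
set_option Elab.async false

namespace Cfsg.Agent.Lib.Helper25.TC.Fi23X

open Cfsg.Agent.Lib.Helper25.TC Cfsg.Agent.Lib.Helper25.TC.Fi23_31671

theorem k_lvE_0_11 : ckChunk Fi23_31671.T 10 [52, 0] 9592 12151 14223 (lvE_0_11.map (decW 295)) = true := by decide +kernel

end Cfsg.Agent.Lib.Helper25.TC.Fi23X
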