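import Cfsg.Agent.Lib.Helper25.TCFi23X

set_option autoImplicit false
set_option maxRecDepth 1000000
set_option linter.unusedVariables false
set_option Elab.async false

namespace Cfsg.Agent.Lib.Helper25.TC.Fi23X

open Cfsg.Agent.Lib.Helper25.TC Cfsg.Agent.Lib.Helper25.TC.Fi23_31671

theorem k_xp_0 : allR ckX 5 0 = true := by decide +kernel
theorem k_xp_1 : allR ckX 5 32 = true := by decide +kernel
theorem k_xp_2 : allR ckX 5 64 = true := by decide +kernel
theorem k_xp_3 : allR ckX 5 96 = true := by decide +kernel
theorem k_xp_4 : allR ckX 5 128 = true := by decide +kernel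
theorem k_xp_5 : allR ckX 5 160 = true := by decide +kernel
theorem k_xp_6 : allR ckX 5 192 = true := by decide +kernel
theorem k_xp_7 : allR ckX 5 224 = true := by decide +kernel
theorem k_xp_8 : allR ckX 5 256 = true := by decide +kernel
theorem k_xp_9 : allR ckX 5 288 = true := by decide +kernel
theorem k_xp_10 : allR ckX 5 320 = true := by decide +kernel
theorem k_xp_11 : allR ckX 5 352 = true := by decide +kernel
theorem k_xp_12 : allR ckX 5 384 = true := by decide +kernel
theorem k_xp_13 : allR ckX 5 416 = true := by decide +kernel
theorem k_xp_14 : allR ckX 5 448 = true := by decide +kernel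
theorem k_xp_15 : allR ckX 5 480 = true := by decide +kernel
theorem k_xp_16 : allR ckX 5 512 = true := by decide +kernel
theorem k_xp_17 : allR ckX 5 544 = true := by decide +kernel
theorem k_xp_18 : allR ckX 5 576 = true := by decide +kernel
theorem k_xp_19 : allR ckX 5 608 = true := by decide +kernel
theorem k_xp_20 : allR ckX 5 640 = true := by decide +kernel
theorem k_xp_21 : allR ckX 5 672 = true := by decide +kernel
theorem k_xp_22 : allR ckX 5 704 = true := by decide +kernel
theorem k_xp_23 : allR ckX 5 736 = true := by decide +kernel
theorem k_xp_24 : allR ckX 5 768 = true := by decide +kernel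
theorem k_xp_25 : allR ckX 5 800 = true := by decide +kernel
theorem k_xp_26 : allR ckX 5 832 = true := by decide +kernel
theorem k_xp_27 : allR ckX 5 864 = true := by decide +kernel
theorem k_xp_28 : allR ckX 5 896 = true := by decide +kernel
theorem k_xp_29 : allR ckX 5 928 = true := by decide +kernel
theorem k_xp_30 : allR ckX 5 960 = true := by decide +kernel
theorem k_xp_31 : allR ckX 5 992 = true := by decide +kernel
theorem k_xp_32 : allR ckX 5 1024 = true := by decide +kernel
theorem k_xp_33 : allR ckX 5 1056 = true := by decide +kernel
theorem k_xp_34 : allR ckX 5 1088 = true := by decide +kernel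
theorem k_xp_35 : allR ckX 5 1120 = true := by decide +kernel

end Cfsg.Agent.Lib.Helper25.TC.Fi23X
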