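import Cfsg.Agent.Lib.Helper25.TCFi23X

set_option autoImplicit false
set_option maxRecDepth 1000000
set_option linter.unusedVariables false
set_option Elab.async false

namespace Cfsg.Agent.Lib.Helper25.TC.Fi23X

open Cfsg.Agent.Lib.Helper25.TC Cfsg.Agent.Lib.Helper25.TC.Fi23_31671

theorem k_xp_36 : allR ckX 5 1152 = true := by decide +kernel
theorem k_xp_37 : allR ckX 5 1184 = true := by decide +kernel
theorem k_xp_38 : allR ckX 5 1216 = true := by decide +kernel
theorem k_xp_39 : allR ckX 5 1248 = true := by decide +kernel
theorem k_xp_40 : allR ckX 5 1280 = true := by decide +kernel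
theorem k_xp_41 : allR ckX 5 1312 = true := by decide +kernel
theorem k_xp_42 : allR ckX 5 1344 = true := by decide +kernel
theorem k_xp_43 : allR ckX 5 1376 = true := by decide +kernel
theorem k_xp_44 : allR ckX 5 1408 = true := by decide +kernel
theorem k_xp_45 : allR ckX 5 1440 = true := by decide +kernel
theorem k_xp_46 : allR ckX 5 1472 = true := by decide +kernel
theorem k_xp_47 : allR ckX 5 1504 = true := by decide +kernel
theorem k_xp_48 : allR ckX 5 1536 = true := by decide +kernel
theorem k_xp_49 : allR ckX 5 1568 = true := by decide +kernel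
theorem k_xp_50 : allR ckX 5 1600 = true := by decide +kernel
theorem k_xp_51 : allR ckX 5 1632 = true := by decide +kernel
theorem k_xp_52 : allR ckX 5 1664 = true := by decide +kernel
theorem k_xp_53 : allR ckX 5 1696 = true := by decide +kernel
theorem k_xp_54 : allR ckX 5 1728 = true := by decide +kernel
theorem k_xp_55 : allR ckX 5 1760 = true := by decide +kernel
theorem k_xp_56 : allR ckX 5 1792 = true := by decide +kernel
theorem k_xp_57 : allR ckX 5 1824 = true := by decide +kernel
theorem k_xp_58 : allR ckX 5 1856 = true := by decide +kernel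
theorem k_xp_59 : allR ckX 5 1888 = true := by decide +kernel
theorem k_xp_60 : allR ckX 5 1920 = true := by decide +kernel
theorem k_xp_61 : allR ckX 5 1952 = true := by decide +kernel
theorem k_xp_62 : allR ckX 5 1984 = true := by decide +kernel
theorem k_xp_63 : allR ckX 5 2016 = true := by decide +kernel
theorem k_xp_64 : allR ckX 5 2048 = true := by decide +kernel
theorem k_xp_65 : allR ckX 5 2080 = true := by decide +kernel
theorem k_xp_66 : allR ckX 5 2112 = true := by decide +kernel
theorem k_xp_67 : allR ckX 5 2144 = true := by decide +kernel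
theorem k_xp_68 : allR ckX 5 2176 = true := by decide +kernel
theorem k_xp_69 : allR ckX 5 2208 = true := by decide +kernel
theorem k_xp_70 : allR ckX 5 2240 = true := by decide +kernel
theorem k_xp_71 : allR ckX 5 2272 = true := by decide +kernel

end Cfsg.Agent.Lib.Helper25.TC.Fi23X
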