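import Cfsg.Agent.Lib.Helper25.TCFi23X

set_option autoImplicit false
set_option maxRecDepth 1000000
set_option linter.unusedVariables false
set_option Elab.async false

namespace Cfsg.Agent.Lib.Helper25.TC.Fi23X

open Cfsg.Agent.Lib.Helper25.TC Cfsg.Agent.Lib.Helper25.TC.Fi23_31671

theorem k_xp_360 : allR ckX 5 11520 = true := by decide +kernel
theorem k_xp_361 : allR ckX 5 11552 = true := by decide +kernel
theorem k_xp_362 : allR ckX 5 11584 = true := by decide +kernel
theorem k_xp_363 : allR ckX 5 11616 = true := by decide +kernel
theorem k_xp_364 : allR ckX 5 11648 = true := by decide +kernel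
theorem k_xp_365 : allR ckX 5 11680 = true := by decide +kernel
theorem k_xp_366 : allR ckX 5 11712 = true := by decide +kernel
theorem k_xp_367 : allR ckX 5 11744 = true := by decide +kernel
theorem k_xp_368 : allR ckX 5 11776 = true := by decide +kernel
theorem k_xp_369 : allR ckX 5 11808 = true := by decide +kernel
theorem k_xp_370 : allR ckX 5 11840 = true := by decide +kernel
theorem k_xp_371 : allR ckX 5 11872 = true := by decide +kernel
theorem k_xp_372 : allR ckX 5 11904 = true := by decide +kernel
theorem k_xp_373 : allR ckX 5 11936 = true := by decide +kernel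
theorem k_xp_374 : allR ckX 5 11968 = true := by decide +kernel
theorem k_xp_375 : allR ckX 5 12000 = true := by decide +kernel
theorem k_xp_376 : allR ckX 5 12032 = true := by decide +kernel
theorem k_xp_377 : allR ckX 5 12064 = true := by decide +kernel
theorem k_xp_378 : allR ckX 5 12096 = true := by decide +kernel
theorem k_xp_379 : allR ckX 5 12128 = true := by decide +kernel
theorem k_xp_380 : allR ckX 5 12160 = true := by decide +kernel
theorem k_xp_381 : allR ckX 5 12192 = true := by decide +kernel
theorem k_xp_382 : allR ckX 5 12224 = true := by decide +kernel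
theorem k_xp_383 : allR ckX 5 12256 = true := by decide +kernel
theorem k_xp_384 : allR ckX 5 12288 = true := by decide +kernel
theorem k_xp_385 : allR ckX 5 12320 = true := by decide +kernel
theorem k_xp_386 : allR ckX 5 12352 = true := by decide +kernel
theorem k_xp_387 : allR ckX 5 12384 = true := by decide +kernel
theorem k_xp_388 : allR ckX 5 12416 = true := by decide +kernel
theorem k_xp_389 : allR ckX 5 12448 = true := by decide +kernel
theorem k_xp_390 : allR ckX 5 12480 = true := by decide +kernel
theorem k_xp_391 : allR ckX 5 12512 = true := by decide +kernel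
theorem k_xp_392 : allR ckX 5 12544 = true := by decide +kernel
theorem k_xp_393 : allR ckX 5 12576 = true := by decide +kernel
theorem k_xp_394 : allR ckX 5 12608 = true := by decide +kernel
theorem k_xp_395 : allR ckX 5 12640 = true := by decide +kernel

end Cfsg.Agent.Lib.Helper25.TC.Fi23X
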