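import Cfsg.Agent.Lib.Helper25.TCFi23X

set_option autoImplicit false
set_option maxRecDepth 1000000
set_option linter.unusedVariables false
set_option Elab.async false

namespace Cfsg.Agent.Lib.Helper25.TC.Fi23X

open Cfsg.Agent.Lib.Helper25.TC Cfsg.Agent.Lib.Helper25.TC.Fi23_31671

theorem k_xp_396 : allR ckX 5 12672 = true := by decide +kernel
theorem k_xp_397 : allR ckX 5 12704 = true := by decide +kernel
theorem k_xp_398 : allR ckX 5 12736 = true := by decide +kernel
theorem k_xp_399 : allR ckX 5 12768 = true := by decide +kernel
theorem k_xp_400 : allR ckX 5 12800 = true := by decide +kernel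
theorem k_xp_401 : allR ckX 5 12832 = true := by decide +kernel
theorem k_xp_402 : allR ckX 5 12864 = true := by decide +kernel
theorem k_xp_403 : allR ckX 5 12896 = true := by decide +kernel
theorem k_xp_404 : allR ckX 5 12928 = true := by decide +kernel
theorem k_xp_405 : allR ckX 5 12960 = true := by decide +kernel
theorem k_xp_406 : allR ckX 5 12992 = true := by decide +kernel
theorem k_xp_407 : allR ckX 5 13024 = true := by decide +kernel
theorem k_xp_408 : allR ckX 5 13056 = true := by decide +kernel
theorem k_xp_409 : allR ckX 5 13088 = true := by decide +kernel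
theorem k_xp_410 : allR ckX 5 13120 = true := by decide +kernel
theorem k_xp_411 : allR ckX 5 13152 = true := by decide +kernel
theorem k_xp_412 : allR ckX 5 13184 = true := by decide +kernel
theorem k_xp_413 : allR ckX 5 13216 = true := by decide +kernel
theorem k_xp_414 : allR ckX 5 13248 = true := by decide +kernel
theorem k_xp_415 : allR ckX 5 13280 = true := by decide +kernel
theorem k_xp_416 : allR ckX 5 13312 = true := by decide +kernel
theorem k_xp_417 : allR ckX 5 13344 = true := by decide +kernel
theorem k_xp_418 : allR ckX 5 13376 = true := by decide +kernel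
theorem k_xp_419 : allR ckX 5 13408 = true := by decide +kernel
theorem k_xp_420 : allR ckX 5 13440 = true := by decide +kernel
theorem k_xp_421 : allR ckX 5 13472 = true := by decide +kernel
theorem k_xp_422 : allR ckX 5 13504 = true := by decide +kernel
theorem k_xp_423 : allR ckX 5 13536 = true := by decide +kernel
theorem k_xp_424 : allR ckX 5 13568 = true := by decide +kernel
theorem k_xp_425 : allR ckX 5 13600 = true := by decide +kernel
theorem k_xp_426 : allR ckX 5 13632 = true := by decide +kernel
theorem k_xp_427 : allR ckX 5 13664 = true := by decide +kernel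
theorem k_xp_428 : allR ckX 5 13696 = true := by decide +kernel
theorem k_xp_429 : allR ckX 5 13728 = true := by decide +kernel
theorem k_xp_430 : allR ckX 5 13760 = true := by decide +kernel
theorem k_xp_431 : allR ckX 5 13792 = true := by decide +kernel

end Cfsg.Agent.Lib.Helper25.TC.Fi23X
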