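import Cfsg.Agent.Lib.Helper25.TCFi23X

set_option autoImplicit false
set_option maxRecDepth 1000000
set_option linter.unusedVariables false
set_option Elab.async false

namespace Cfsg.Agent.Lib.Helper25.TC.Fi23X

open Cfsg.Agent.Lib.Helper25.TC Cfsg.Agent.Lib.Helper25.TC.Fi23_31671

theorem k_xp_432 : allR ckX 5 13824 = true := by decide +kernel
theorem k_xp_433 : allR ckX 5 13856 = true := by decide +kernel
theorem k_xp_434 : allR ckX 5 13888 = true := by decide +kernel
theorem k_xp_435 : allR ckX 5 13920 = true := by decide +kernel
theorem k_xp_436 : allR ckX 5 13952 = true := by decide +kernel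
theorem k_xp_437 : allR ckX 5 13984 = true := by decide +kernel
theorem k_xp_438 : allR ckX 5 14016 = true := by decide +kernel
theorem k_xp_439 : allR ckX 5 14048 = true := by decide +kernel
theorem k_xp_440 : allR ckX 5 14080 = true := by decide +kernel
theorem k_xp_441 : allR ckX 5 14112 = true := by decide +kernel
theorem k_xp_442 : allR ckX 5 14144 = true := by decide +kernel
theorem k_xp_443 : allR ckX 5 14176 = true := by decide +kernel
theorem k_xp_444 : allR ckX 5 14208 = true := by decide +kernel
theorem k_xp_445 : allR ckX 5 14240 = true := by decide +kernel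
theorem k_xp_446 : allR ckX 5 14272 = true := by decide +kernel
theorem k_xp_447 : allR ckX 5 14304 = true := by decide +kernel
theorem k_xp_448 : allR ckX 5 14336 = true := by decide +kernel
theorem k_xp_449 : allR ckX 5 14368 = true := by decide +kernel
theorem k_xp_450 : allR ckX 5 14400 = true := by decide +kernel
theorem k_xp_451 : allR ckX 5 14432 = true := by decide +kernel
theorem k_xp_452 : allR ckX 5 14464 = true := by decide +kernel
theorem k_xp_453 : allR ckX 5 14496 = true := by decide +kernel
theorem k_xp_454 : allR ckX 5 14528 = true := by decide +kernel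
theorem k_xp_455 : allR ckX 5 14560 = true := by decide +kernel
theorem k_xp_456 : allR ckX 5 14592 = true := by decide +kernel
theorem k_xp_457 : allR ckX 5 14624 = true := by decide +kernel
theorem k_xp_458 : allR ckX 5 14656 = true := by decide +kernel
theorem k_xp_459 : allR ckX 5 14688 = true := by decide +kernel
theorem k_xp_460 : allR ckX 5 14720 = true := by decide +kernel
theorem k_xp_461 : allR ckX 5 14752 = true := by decide +kernel
theorem k_xp_462 : allR ckX 5 14784 = true := by decide +kernel
theorem k_xp_463 : allR ckX 5 14816 = true := by decide +kernel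
theorem k_xp_464 : allR ckX 5 14848 = true := by decide +kernel
theorem k_xp_465 : allR ckX 5 14880 = true := by decide +kernel
theorem k_xp_466 : allR ckX 5 14912 = true := by decide +kernel
theorem k_xp_467 : allR ckX 5 14944 = true := by decide +kernel

end Cfsg.Agent.Lib.Helper25.TC.Fi23X
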