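import Cfsg.Agent.Lib.Helper25.TCFi23X

set_option autoImplicit false
set_option maxRecDepth 1000000
set_option linter.unusedVariables false
set_option Elab.async false

namespace Cfsg.Agent.Lib.Helper25.TC.Fi23X

open Cfsg.Agent.Lib.Helper25.TC Cfsg.Agent.Lib.Helper25.TC.Fi23_31671

theorem k_xp_468 : allR ckX 5 14976 = true := by decide +kernel
theorem k_xp_469 : allR ckX 5 15008 = true := by decide +kernel
theorem k_xp_470 : allR ckX 5 15040 = true := by decide +kernel
theorem k_xp_471 : allR ckX 5 15072 = true := by decide +kernel
theorem k_xp_472 : allR ckX 5 15104 = true := by decide +kernel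
theorem k_xp_473 : allR ckX 5 15136 = true := by decide +kernel
theorem k_xp_474 : allR ckX 5 15168 = true := by decide +kernel
theorem k_xp_475 : allR ckX 5 15200 = true := by decide +kernel
theorem k_xp_476 : allR ckX 5 15232 = true := by decide +kernel
theorem k_xp_477 : allR ckX 5 15264 = true := by decide +kernel
theorem k_xp_478 : allR ckX 5 15296 = true := by decide +kernel
theorem k_xp_479 : allR ckX 5 15328 = true := by decide +kernel
theorem k_xp_480 : allR ckX 5 15360 = true := by decide +kernel
theorem k_xp_481 : allR ckX 5 15392 = true := by decide +kernel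
theorem k_xp_482 : allR ckX 5 15424 = true := by decide +kernel
theorem k_xp_483 : allR ckX 5 15456 = true := by decide +kernel
theorem k_xp_484 : allR ckX 5 15488 = true := by decide +kernel
theorem k_xp_485 : allR ckX 5 15520 = true := by decide +kernel
theorem k_xp_486 : allR ckX 5 15552 = true := by decide +kernel
theorem k_xp_487 : allR ckX 5 15584 = true := by decide +kernel
theorem k_xp_488 : allR ckX 5 15616 = true := by decide +kernel
theorem k_xp_489 : allR ckX 5 15648 = true := by decide +kernel
theorem k_xp_490 : allR ckX 5 15680 = true := by decide +kernel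
theorem k_xp_491 : allR ckX 5 15712 = true := by decide +kernel
theorem k_xp_492 : allR ckX 5 15744 = true := by decide +kernel
theorem k_xp_493 : allR ckX 5 15776 = true := by decide +kernel
theorem k_xp_494 : allR ckX 5 15808 = true := by decide +kernel
theorem k_xp_495 : allR ckX 5 15840 = true := by decide +kernel
theorem k_xp_496 : allR ckX 5 15872 = true := by decide +kernel
theorem k_xp_497 : allR ckX 5 15904 = true := by decide +kernel
theorem k_xp_498 : allR ckX 5 15936 = true := by decide +kernel
theorem k_xp_499 : allR ckX 5 15968 = true := by decide +kernel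
theorem k_xp_500 : allR ckX 5 16000 = true := by decide +kernel
theorem k_xp_501 : allR ckX 5 16032 = true := by decide +kernel
theorem k_xp_502 : allR ckX 5 16064 = true := by decide +kernel
theorem k_xp_503 : allR ckX 5 16096 = true := by decide +kernel

end Cfsg.Agent.Lib.Helper25.TC.Fi23X
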