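import Cfsg.Agent.Lib.Helper25.TCFi23X

set_option autoImplicit false
set_option maxRecDepth 1000000
set_option linter.unusedVariables false
set_option Elab.async false

namespace Cfsg.Agent.Lib.Helper25.TC.Fi23X

open Cfsg.Agent.Lib.Helper25.TC Cfsg.Agent.Lib.Helper25.TC.Fi23_31671

theorem k_xp_504 : allR ckX 5 16128 = true := by decide +kernel
theorem k_xp_505 : allR ckX 5 16160 = true := by decide +kernel
theorem k_xp_506 : allR ckX 5 16192 = true := by decide +kernel
theorem k_xp_507 : allR ckX 5 16224 = true := by decide +kernel
theorem k_xp_508 : allR ckX 5 16256 = true := by decide +kernel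
theorem k_xp_509 : allR ckX 5 16288 = true := by decide +kernel
theorem k_xp_510 : allR ckX 5 16320 = true := by decide +kernel
theorem k_xp_511 : allR ckX 5 16352 = true := by decide +kernel
theorem k_xp_512 : allR ckX 5 16384 = true := by decide +kernel
theorem k_xp_513 : allR ckX 5 16416 = true := by decide +kernel
theorem k_xp_514 : allR ckX 5 16448 = true := by decide +kernel
theorem k_xp_515 : allR ckX 5 16480 = true := by decide +kernel
theorem k_xp_516 : allR ckX 5 16512 = true := by decide +kernel
theorem k_xp_517 : allR ckX 5 16544 = true := by decide +kernel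
theorem k_xp_518 : allR ckX 5 16576 = true := by decide +kernel
theorem k_xp_519 : allR ckX 5 16608 = true := by decide +kernel
theorem k_xp_520 : allR ckX 5 16640 = true := by decide +kernel
theorem k_xp_521 : allR ckX 5 16672 = true := by decide +kernel
theorem k_xp_522 : allR ckX 5 16704 = true := by decide +kernel
theorem k_xp_523 : allR ckX 5 16736 = true := by decide +kernel
theorem k_xp_524 : allR ckX 5 16768 = true := by decide +kernel
theorem k_xp_525 : allR ckX 5 16800 = true := by decide +kernel
theorem k_xp_526 : allR ckX 5 16832 = true := by decide +kernel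
theorem k_xp_527 : allR ckX 5 16864 = true := by decide +kernel
theorem k_xp_528 : allR ckX 5 16896 = true := by decide +kernel
theorem k_xp_529 : allR ckX 5 16928 = true := by decide +kernel
theorem k_xp_530 : allR ckX 5 16960 = true := by decide +kernel
theorem k_xp_531 : allR ckX 5 16992 = true := by decide +kernel
theorem k_xp_532 : allR ckX 5 17024 = true := by decide +kernel
theorem k_xp_533 : allR ckX 5 17056 = true := by decide +kernel
theorem k_xp_534 : allR ckX 5 17088 = true := by decide +kernel
theorem k_xp_535 : allR ckX 5 17120 = true := by decide +kernel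
theorem k_xp_536 : allR ckX 5 17152 = true := by decide +kernel
theorem k_xp_537 : allR ckX 5 17184 = true := by decide +kernel
theorem k_xp_538 : allR ckX 5 17216 = true := by decide +kernel
theorem k_xp_539 : allR ckX 5 17248 = true := by decide +kernel

end Cfsg.Agent.Lib.Helper25.TC.Fi23X
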