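import Cfsg.Agent.Lib.Helper25.TCFi23X

set_option autoImplicit false
set_option maxRecDepth 1000000
set_option linter.unusedVariables false
set_option Elab.async false

namespace Cfsg.Agent.Lib.Helper25.TC.Fi23X

open Cfsg.Agent.Lib.Helper25.TC Cfsg.Agent.Lib.Helper25.TC.Fi23_31671

theorem k_xp_540 : allR ckX 5 17280 = true := by decide +kernel
theorem k_xp_541 : allR ckX 5 17312 = true := by decide +kernel
theorem k_xp_542 : allR ckX 5 17344 = true := by decide +kernel
theorem k_xp_543 : allR ckX 5 17376 = true := by decide +kernel
theorem k_xp_544 : allR ckX 5 17408 = true := by decide +kernel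
theorem k_xp_545 : allR ckX 5 17440 = true := by decide +kernel
theorem k_xp_546 : allR ckX 5 17472 = true := by decide +kernel
theorem k_xp_547 : allR ckX 5 17504 = true := by decide +kernel
theorem k_xp_548 : allR ckX 5 17536 = true := by decide +kernel
theorem k_xp_549 : allR ckX 5 17568 = true := by decide +kernel
theorem k_xp_550 : allR ckX 5 17600 = true := by decide +kernel
theorem k_xp_551 : allR ckX 5 17632 = true := by decide +kernel
theorem k_xp_552 : allR ckX 5 17664 = true := by decide +kernel
theorem k_xp_553 : allR ckX 5 17696 = true := by decide +kernel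
theorem k_xp_554 : allR ckX 5 17728 = true := by decide +kernel
theorem k_xp_555 : allR ckX 5 17760 = true := by decide +kernel
theorem k_xp_556 : allR ckX 5 17792 = true := by decide +kernel
theorem k_xp_557 : allR ckX 5 17824 = true := by decide +kernel
theorem k_xp_558 : allR ckX 5 17856 = true := by decide +kernel
theorem k_xp_559 : allR ckX 5 17888 = true := by decide +kernel
theorem k_xp_560 : allR ckX 5 17920 = true := by decide +kernel
theorem k_xp_561 : allR ckX 5 17952 = true := by decide +kernel
theorem k_xp_562 : allR ckX 5 17984 = true := by decide +kernel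
theorem k_xp_563 : allR ckX 5 18016 = true := by decide +kernel
theorem k_xp_564 : allR ckX 5 18048 = true := by decide +kernel
theorem k_xp_565 : allR ckX 5 18080 = true := by decide +kernel
theorem k_xp_566 : allR ckX 5 18112 = true := by decide +kernel
theorem k_xp_567 : allR ckX 5 18144 = true := by decide +kernel
theorem k_xp_568 : allR ckX 5 18176 = true := by decide +kernel
theorem k_xp_569 : allR ckX 5 18208 = true := by decide +kernel
theorem k_xp_570 : allR ckX 5 18240 = true := by decide +kernel
theorem k_xp_571 : allR ckX 5 18272 = true := by decide +kernel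
theorem k_xp_572 : allR ckX 5 18304 = true := by decide +kernel
theorem k_xp_573 : allR ckX 5 18336 = true := by decide +kernel
theorem k_xp_574 : allR ckX 5 18368 = true := by decide +kernel
theorem k_xp_575 : allR ckX 5 18400 = true := by decide +kernel

end Cfsg.Agent.Lib.Helper25.TC.Fi23X
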