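import Cfsg.Agent.Lib.Helper25.TCFi23X

set_option autoImplicit false
set_option maxRecDepth 1000000
set_option linter.unusedVariables false
set_option Elab.async false

namespace Cfsg.Agent.Lib.Helper25.TC.Fi23X

open Cfsg.Agent.Lib.Helper25.TC Cfsg.Agent.Lib.Helper25.TC.Fi23_31671

theorem k_xp_576 : allR ckX 5 18432 = true := by decide +kernel
theorem k_xp_577 : allR ckX 5 18464 = true := by decide +kernel
theorem k_xp_578 : allR ckX 5 18496 = true := by decide +kernel
theorem k_xp_579 : allR ckX 5 18528 = true := by decide +kernel
theorem k_xp_580 : allR ckX 5 18560 = true := by decide +kernel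
theorem k_xp_581 : allR ckX 5 18592 = true := by decide +kernel
theorem k_xp_582 : allR ckX 5 18624 = true := by decide +kernel
theorem k_xp_583 : allR ckX 5 18656 = true := by decide +kernel
theorem k_xp_584 : allR ckX 5 18688 = true := by decide +kernel
theorem k_xp_585 : allR ckX 5 18720 = true := by decide +kernel
theorem k_xp_586 : allR ckX 5 18752 = true := by decide +kernel
theorem k_xp_587 : allR ckX 5 18784 = true := by decide +kernel
theorem k_xp_588 : allR ckX 5 18816 = true := by decide +kernel
theorem k_xp_589 : allR ckX 5 18848 = true := by decide +kernel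
theorem k_xp_590 : allR ckX 5 18880 = true := by decide +kernel
theorem k_xp_591 : allR ckX 5 18912 = true := by decide +kernel
theorem k_xp_592 : allR ckX 5 18944 = true := by decide +kernel
theorem k_xp_593 : allR ckX 5 18976 = true := by decide +kernel
theorem k_xp_594 : allR ckX 5 19008 = true := by decide +kernel
theorem k_xp_595 : allR ckX 5 19040 = true := by decide +kernel
theorem k_xp_596 : allR ckX 5 19072 = true := by decide +kernel
theorem k_xp_597 : allR ckX 5 19104 = true := by decide +kernel
theorem k_xp_598 : allR ckX 5 19136 = true := by decide +kernel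
theorem k_xp_599 : allR ckX 5 19168 = true := by decide +kernel
theorem k_xp_600 : allR ckX 5 19200 = true := by decide +kernel
theorem k_xp_601 : allR ckX 5 19232 = true := by decide +kernel
theorem k_xp_602 : allR ckX 5 19264 = true := by decide +kernel
theorem k_xp_603 : allR ckX 5 19296 = true := by decide +kernel
theorem k_xp_604 : allR ckX 5 19328 = true := by decide +kernel
theorem k_xp_605 : allR ckX 5 19360 = true := by decide +kernel
theorem k_xp_606 : allR ckX 5 19392 = true := by decide +kernel
theorem k_xp_607 : allR ckX 5 19424 = true := by decide +kernel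
theorem k_xp_608 : allR ckX 5 19456 = true := by decide +kernel
theorem k_xp_609 : allR ckX 5 19488 = true := by decide +kernel
theorem k_xp_610 : allR ckX 5 19520 = true := by decide +kernel
theorem k_xp_611 : allR ckX 5 19552 = true := by decide +kernel

end Cfsg.Agent.Lib.Helper25.TC.Fi23X
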