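import Cfsg.Agent.Lib.Helper25.TCFi23X

set_option autoImplicit false
set_option maxRecDepth 1000000
set_option linter.unusedVariables false
set_option Elab.async false

namespace Cfsg.Agent.Lib.Helper25.TC.Fi23X

open Cfsg.Agent.Lib.Helper25.TC Cfsg.Agent.Lib.Helper25.TC.Fi23_31671

theorem k_xp_612 : allR ckX 5 19584 = true := by decide +kernel
theorem k_xp_613 : allR ckX 5 19616 = true := by decide +kernel
theorem k_xp_614 : allR ckX 5 19648 = true := by decide +kernel
theorem k_xp_615 : allR ckX 5 19680 = true := by decide +kernel
theorem k_xp_616 : allR ckX 5 19712 = true := by decide +kernel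
theorem k_xp_617 : allR ckX 5 19744 = true := by decide +kernel
theorem k_xp_618 : allR ckX 5 19776 = true := by decide +kernel
theorem k_xp_619 : allR ckX 5 19808 = true := by decide +kernel
theorem k_xp_620 : allR ckX 5 19840 = true := by decide +kernel
theorem k_xp_621 : allR ckX 5 19872 = true := by decide +kernel
theorem k_xp_622 : allR ckX 5 19904 = true := by decide +kernel
theorem k_xp_623 : allR ckX 5 19936 = true := by decide +kernel
theorem k_xp_624 : allR ckX 5 19968 = true := by decide +kernel
theorem k_xp_625 : allR ckX 5 20000 = true := by decide +kernel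
theorem k_xp_626 : allR ckX 5 20032 = true := by decide +kernel
theorem k_xp_627 : allR ckX 5 20064 = true := by decide +kernel
theorem k_xp_628 : allR ckX 5 20096 = true := by decide +kernel
theorem k_xp_629 : allR ckX 5 20128 = true := by decide +kernel
theorem k_xp_630 : allR ckX 5 20160 = true := by decide +kernel
theorem k_xp_631 : allR ckX 5 20192 = true := by decide +kernel
theorem k_xp_632 : allR ckX 5 20224 = true := by decide +kernel
theorem k_xp_633 : allR ckX 5 20256 = true := by decide +kernel
theorem k_xp_634 : allR ckX 5 20288 = true := by decide +kernel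
theorem k_xp_635 : allR ckX 5 20320 = true := by decide +kernel
theorem k_xp_636 : allR ckX 5 20352 = true := by decide +kernel
theorem k_xp_637 : allR ckX 5 20384 = true := by decide +kernel
theorem k_xp_638 : allR ckX 5 20416 = true := by decide +kernel
theorem k_xp_639 : allR ckX 5 20448 = true := by decide +kernel
theorem k_xp_640 : allR ckX 5 20480 = true := by decide +kernel
theorem k_xp_641 : allR ckX 5 20512 = true := by decide +kernel
theorem k_xp_642 : allR ckX 5 20544 = true := by decide +kernel
theorem k_xp_643 : allR ckX 5 20576 = true := by decide +kernel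
theorem k_xp_644 : allR ckX 5 20608 = true := by decide +kernel
theorem k_xp_645 : allR ckX 5 20640 = true := by decide +kernel
theorem k_xp_646 : allR ckX 5 20672 = true := by decide +kernel
theorem k_xp_647 : allR ckX 5 20704 = true := by decide +kernel

end Cfsg.Agent.Lib.Helper25.TC.Fi23X
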