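import Cfsg.Agent.Lib.Helper25.TCFi23X

set_option autoImplicit false
set_option maxRecDepth 1000000
set_option linter.unusedVariables false
set_option Elab.async false

namespace Cfsg.Agent.Lib.Helper25.TC.Fi23X

open Cfsg.Agent.Lib.Helper25.TC Cfsg.Agent.Lib.Helper25.TC.Fi23_31671

theorem k_xp_684 : allR ckX 5 21888 = true := by decide +kernel
theorem k_xp_685 : allR ckX 5 21920 = true := by decide +kernel
theorem k_xp_686 : allR ckX 5 21952 = true := by decide +kernel
theorem k_xp_687 : allR ckX 5 21984 = true := by decide +kernel
theorem k_xp_688 : allR ckX 5 22016 = true := by decide +kernel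
theorem k_xp_689 : allR ckX 5 22048 = true := by decide +kernel
theorem k_xp_690 : allR ckX 5 22080 = true := by decide +kernel
theorem k_xp_691 : allR ckX 5 22112 = true := by decide +kernel
theorem k_xp_692 : allR ckX 5 22144 = true := by decide +kernel
theorem k_xp_693 : allR ckX 5 22176 = true := by decide +kernel
theorem k_xp_694 : allR ckX 5 22208 = true := by decide +kernel
theorem k_xp_695 : allR ckX 5 22240 = true := by decide +kernel
theorem k_xp_696 : allR ckX 5 22272 = true := by decide +kernel
theorem k_xp_697 : allR ckX 5 22304 = true := by decide +kernel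
theorem k_xp_698 : allR ckX 5 22336 = true := by decide +kernel
theorem k_xp_699 : allR ckX 5 22368 = true := by decide +kernel
theorem k_xp_700 : allR ckX 5 22400 = true := by decide +kernel
theorem k_xp_701 : allR ckX 5 22432 = true := by decide +kernel
theorem k_xp_702 : allR ckX 5 22464 = true := by decide +kernel
theorem k_xp_703 : allR ckX 5 22496 = true := by decide +kernel
theorem k_xp_704 : allR ckX 5 22528 = true := by decide +kernel
theorem k_xp_705 : allR ckX 5 22560 = true := by decide +kernel
theorem k_xp_706 : allR ckX 5 22592 = true := by decide +kernel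
theorem k_xp_707 : allR ckX 5 22624 = true := by decide +kernel
theorem k_xp_708 : allR ckX 5 22656 = true := by decide +kernel
theorem k_xp_709 : allR ckX 5 22688 = true := by decide +kernel
theorem k_xp_710 : allR ckX 5 22720 = true := by decide +kernel
theorem k_xp_711 : allR ckX 5 22752 = true := by decide +kernel
theorem k_xp_712 : allR ckX 5 22784 = true := by decide +kernel
theorem k_xp_713 : allR ckX 5 22816 = true := by decide +kernel
theorem k_xp_714 : allR ckX 5 22848 = true := by decide +kernel
theorem k_xp_715 : allR ckX 5 22880 = true := by decide +kernel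
theorem k_xp_716 : allR ckX 5 22912 = true := by decide +kernel
theorem k_xp_717 : allR ckX 5 22944 = true := by decide +kernel
theorem k_xp_718 : allR ckX 5 22976 = true := by decide +kernel
theorem k_xp_719 : allR ckX 5 23008 = true := by decide +kernel

end Cfsg.Agent.Lib.Helper25.TC.Fi23X
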