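import Cfsg.Agent.Lib.Helper25.TCFi23X

set_option autoImplicit false
set_option maxRecDepth 1000000
set_option linter.unusedVariables false
set_option Elab.async false

namespace Cfsg.Agent.Lib.Helper25.TC.Fi23X

open Cfsg.Agent.Lib.Helper25.TC Cfsg.Agent.Lib.Helper25.TC.Fi23_31671

theorem k_xp_72 : allR ckX 5 2304 = true := by decide +kernel
theorem k_xp_73 : allR ckX 5 2336 = true := by decide +kernel
theorem k_xp_74 : allR ckX 5 2368 = true := by decide +kernel
theorem k_xp_75 : allR ckX 5 2400 = true := by decide +kernel
theorem k_xp_76 : allR ckX 5 2432 = true := by decide +kernel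
theorem k_xp_77 : allR ckX 5 2464 = true := by decide +kernel
theorem k_xp_78 : allR ckX 5 2496 = true := by decide +kernel
theorem k_xp_79 : allR ckX 5 2528 = true := by decide +kernel
theorem k_xp_80 : allR ckX 5 2560 = true := by decide +kernel
theorem k_xp_81 : allR ckX 5 2592 = true := by decide +kernel
theorem k_xp_82 : allR ckX 5 2624 = true := by decide +kernel
theorem k_xp_83 : allR ckX 5 2656 = true := by decide +kernel
theorem k_xp_84 : allR ckX 5 2688 = true := by decide +kernel
theorem k_xp_85 : allR ckX 5 2720 = true := by decide +kernel
theorem k_xp_86 : allR ckX 5 2752 = true := by decide +kernel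
theorem k_xp_87 : allR ckX 5 2784 = true := by decide +kernel
theorem k_xp_88 : allR ckX 5 2816 = true := by decide +kernel
theorem k_xp_89 : allR ckX 5 2848 = true := by decide +kernel
theorem k_xp_90 : allR ckX 5 2880 = true := by decide +kernel
theorem k_xp_91 : allR ckX 5 2912 = true := by decide +kernel
theorem k_xp_92 : allR ckX 5 2944 = true := by decide +kernel
theorem k_xp_93 : allR ckX 5 2976 = true := by decide +kernel
theorem k_xp_94 : allR ckX 5 3008 = true := by decide +kernel
theorem k_xp_95 : allR ckX 5 3040 = true := by decide +kernel
theorem k_xp_96 : allR ckX 5 3072 = true := by decide +kernel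
theorem k_xp_97 : allR ckX 5 3104 = true := by decide +kernel
theorem k_xp_98 : allR ckX 5 3136 = true := by decide +kernel
theorem k_xp_99 : allR ckX 5 3168 = true := by decide +kernel
theorem k_xp_100 : allR ckX 5 3200 = true := by decide +kernel
theorem k_xp_101 : allR ckX 5 3232 = true := by decide +kernel
theorem k_xp_102 : allR ckX 5 3264 = true := by decide +kernel
theorem k_xp_103 : allR ckX 5 3296 = true := by decide +kernel
theorem k_xp_104 : allR ckX 5 3328 = true := by decide +kernel
theorem k_xp_105 : allR ckX 5 3360 = true := by decide +kernel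
theorem k_xp_106 : allR ckX 5 3392 = true := by decide +kernel
theorem k_xp_107 : allR ckX 5 3424 = true := by decide +kernel

end Cfsg.Agent.Lib.Helper25.TC.Fi23X
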