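import Cfsg.Agent.Lib.Helper25.TCFi23X

set_option autoImplicit false
set_option maxRecDepth 1000000
set_option linter.unusedVariables false
set_option Elab.async false

namespace Cfsg.Agent.Lib.Helper25.TC.Fi23X

open Cfsg.Agent.Lib.Helper25.TC Cfsg.Agent.Lib.Helper25.TC.Fi23_31671

theorem k_xp_720 : allR ckX 5 23040 = true := by decide +kernel
theorem k_xp_721 : allR ckX 5 23072 = true := by decide +kernel
theorem k_xp_722 : allR ckX 5 23104 = true := by decide +kernel
theorem k_xp_723 : allR ckX 5 23136 = true := by decide +kernel
theorem k_xp_724 : allR ckX 5 23168 = true := by decide +kernel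
theorem k_xp_725 : allR ckX 5 23200 = true := by decide +kernel
theorem k_xp_726 : allR ckX 5 23232 = true := by decide +kernel
theorem k_xp_727 : allR ckX 5 23264 = true := by decide +kernel
theorem k_xp_728 : allR ckX 5 23296 = true := by decide +kernel
theorem k_xp_729 : allR ckX 5 23328 = true := by decide +kernel
theorem k_xp_730 : allR ckX 5 23360 = true := by decide +kernel
theorem k_xp_731 : allR ckX 5 23392 = true := by decide +kernel
theorem k_xp_732 : allR ckX 5 23424 = true := by decide +kernel
theorem k_xp_733 : allR ckX 5 23456 = true := by decide +kernel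
theorem k_xp_734 : allR ckX 5 23488 = true := by decide +kernel
theorem k_xp_735 : allR ckX 5 23520 = true := by decide +kernel
theorem k_xp_736 : allR ckX 5 23552 = true := by decide +kernel
theorem k_xp_737 : allR ckX 5 23584 = true := by decide +kernel
theorem k_xp_738 : allR ckX 5 23616 = true := by decide +kernel
theorem k_xp_739 : allR ckX 5 23648 = true := by decide +kernel
theorem k_xp_740 : allR ckX 5 23680 = true := by decide +kernel
theorem k_xp_741 : allR ckX 5 23712 = true := by decide +kernel
theorem k_xp_742 : allR ckX 5 23744 = true := by decide +kernel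
theorem k_xp_743 : allR ckX 5 23776 = true := by decide +kernel
theorem k_xp_744 : allR ckX 5 23808 = true := by decide +kernel
theorem k_xp_745 : allR ckX 5 23840 = true := by decide +kernel
theorem k_xp_746 : allR ckX 5 23872 = true := by decide +kernel
theorem k_xp_747 : allR ckX 5 23904 = true := by decide +kernel
theorem k_xp_748 : allR ckX 5 23936 = true := by decide +kernel
theorem k_xp_749 : allR ckX 5 23968 = true := by decide +kernel
theorem k_xp_750 : allR ckX 5 24000 = true := by decide +kernel
theorem k_xp_751 : allR ckX 5 24032 = true := by decide +kernel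
theorem k_xp_752 : allR ckX 5 24064 = true := by decide +kernel
theorem k_xp_753 : allR ckX 5 24096 = true := by decide +kernel
theorem k_xp_754 : allR ckX 5 24128 = true := by decide +kernel
theorem k_xp_755 : allR ckX 5 24160 = true := by decide +kernel

end Cfsg.Agent.Lib.Helper25.TC.Fi23X
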