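import Cfsg.Agent.Lib.Helper25.TCFi23X

set_option autoImplicit false
set_option maxRecDepth 1000000
set_option linter.unusedVariables false
set_option Elab.async false

namespace Cfsg.Agent.Lib.Helper25.TC.Fi23X

open Cfsg.Agent.Lib.Helper25.TC Cfsg.Agent.Lib.Helper25.TC.Fi23_31671

theorem k_xp_756 : allR ckX 5 24192 = true := by decide +kernel
theorem k_xp_757 : allR ckX 5 24224 = true := by decide +kernel
theorem k_xp_758 : allR ckX 5 24256 = true := by decide +kernel
theorem k_xp_759 : allR ckX 5 24288 = true := by decide +kernel
theorem k_xp_760 : allR ckX 5 24320 = true := by decide +kernel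
theorem k_xp_761 : allR ckX 5 24352 = true := by decide +kernel
theorem k_xp_762 : allR ckX 5 24384 = true := by decide +kernel
theorem k_xp_763 : allR ckX 5 24416 = true := by decide +kernel
theorem k_xp_764 : allR ckX 5 24448 = true := by decide +kernel
theorem k_xp_765 : allR ckX 5 24480 = true := by decide +kernel
theorem k_xp_766 : allR ckX 5 24512 = true := by decide +kernel
theorem k_xp_767 : allR ckX 5 24544 = true := by decide +kernel
theorem k_xp_768 : allR ckX 5 24576 = true := by decide +kernel
theorem k_xp_769 : allR ckX 5 24608 = true := by decide +kernel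
theorem k_xp_770 : allR ckX 5 24640 = true := by decide +kernel
theorem k_xp_771 : allR ckX 5 24672 = true := by decide +kernel
theorem k_xp_772 : allR ckX 5 24704 = true := by decide +kernel
theorem k_xp_773 : allR ckX 5 24736 = true := by decide +kernel
theorem k_xp_774 : allR ckX 5 24768 = true := by decide +kernel
theorem k_xp_775 : allR ckX 5 24800 = true := by decide +kernel
theorem k_xp_776 : allR ckX 5 24832 = true := by decide +kernel
theorem k_xp_777 : allR ckX 5 24864 = true := by decide +kernel
theorem k_xp_778 : allR ckX 5 24896 = true := by decide +kernel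
theorem k_xp_779 : allR ckX 5 24928 = true := by decide +kernel
theorem k_xp_780 : allR ckX 5 24960 = true := by decide +kernel
theorem k_xp_781 : allR ckX 5 24992 = true := by decide +kernel
theorem k_xp_782 : allR ckX 5 25024 = true := by decide +kernel
theorem k_xp_783 : allR ckX 5 25056 = true := by decide +kernel
theorem k_xp_784 : allR ckX 5 25088 = true := by decide +kernel
theorem k_xp_785 : allR ckX 5 25120 = true := by decide +kernel
theorem k_xp_786 : allR ckX 5 25152 = true := by decide +kernel
theorem k_xp_787 : allR ckX 5 25184 = true := by decide +kernel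
theorem k_xp_788 : allR ckX 5 25216 = true := by decide +kernel
theorem k_xp_789 : allR ckX 5 25248 = true := by decide +kernel
theorem k_xp_790 : allR ckX 5 25280 = true := by decide +kernel
theorem k_xp_791 : allR ckX 5 25312 = true := by decide +kernel

end Cfsg.Agent.Lib.Helper25.TC.Fi23X
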