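import Cfsg.Agent.Lib.Helper25.TCFi23X

set_option autoImplicit false
set_option maxRecDepth 1000000
set_option linter.unusedVariables false
set_option Elab.async false

namespace Cfsg.Agent.Lib.Helper25.TC.Fi23X

open Cfsg.Agent.Lib.Helper25.TC Cfsg.Agent.Lib.Helper25.TC.Fi23_31671

theorem k_xp_792 : allR ckX 5 25344 = true := by decide +kernel
theorem k_xp_793 : allR ckX 5 25376 = true := by decide +kernel
theorem k_xp_794 : allR ckX 5 25408 = true := by decide +kernel
theorem k_xp_795 : allR ckX 5 25440 = true := by decide +kernel
theorem k_xp_796 : allR ckX 5 25472 = true := by decide +kernel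
theorem k_xp_797 : allR ckX 5 25504 = true := by decide +kernel
theorem k_xp_798 : allR ckX 5 25536 = true := by decide +kernel
theorem k_xp_799 : allR ckX 5 25568 = true := by decide +kernel
theorem k_xp_800 : allR ckX 5 25600 = true := by decide +kernel
theorem k_xp_801 : allR ckX 5 25632 = true := by decide +kernel
theorem k_xp_802 : allR ckX 5 25664 = true := by decide +kernel
theorem k_xp_803 : allR ckX 5 25696 = true := by decide +kernel
theorem k_xp_804 : allR ckX 5 25728 = true := by decide +kernel
theorem k_xp_805 : allR ckX 5 25760 = true := by decide +kernel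
theorem k_xp_806 : allR ckX 5 25792 = true := by decide +kernel
theorem k_xp_807 : allR ckX 5 25824 = true := by decide +kernel
theorem k_xp_808 : allR ckX 5 25856 = true := by decide +kernel
theorem k_xp_809 : allR ckX 5 25888 = true := by decide +kernel
theorem k_xp_810 : allR ckX 5 25920 = true := by decide +kernel
theorem k_xp_811 : allR ckX 5 25952 = true := by decide +kernel
theorem k_xp_812 : allR ckX 5 25984 = true := by decide +kernel
theorem k_xp_813 : allR ckX 5 26016 = true := by decide +kernel
theorem k_xp_814 : allR ckX 5 26048 = true := by decide +kernel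
theorem k_xp_815 : allR ckX 5 26080 = true := by decide +kernel
theorem k_xp_816 : allR ckX 5 26112 = true := by decide +kernel
theorem k_xp_817 : allR ckX 5 26144 = true := by decide +kernel
theorem k_xp_818 : allR ckX 5 26176 = true := by decide +kernel
theorem k_xp_819 : allR ckX 5 26208 = true := by decide +kernel
theorem k_xp_820 : allR ckX 5 26240 = true := by decide +kernel
theorem k_xp_821 : allR ckX 5 26272 = true := by decide +kernel
theorem k_xp_822 : allR ckX 5 26304 = true := by decide +kernel
theorem k_xp_823 : allR ckX 5 26336 = true := by decide +kernel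
theorem k_xp_824 : allR ckX 5 26368 = true := by decide +kernel
theorem k_xp_825 : allR ckX 5 26400 = true := by decide +kernel
theorem k_xp_826 : allR ckX 5 26432 = true := by decide +kernel
theorem k_xp_827 : allR ckX 5 26464 = true := by decide +kernel

end Cfsg.Agent.Lib.Helper25.TC.Fi23X
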