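import Cfsg.Agent.Lib.Helper25.TCFi23X

set_option autoImplicit false
set_option maxRecDepth 1000000
set_option linter.unusedVariables false
set_option Elab.async false

namespace Cfsg.Agent.Lib.Helper25.TC.Fi23X

open Cfsg.Agent.Lib.Helper25.TC Cfsg.Agent.Lib.Helper25.TC.Fi23_31671

theorem k_xp_828 : allR ckX 5 26496 = true := by decide +kernel
theorem k_xp_829 : allR ckX 5 26528 = true := by decide +kernel
theorem k_xp_830 : allR ckX 5 26560 = true := by decide +kernel
theorem k_xp_831 : allR ckX 5 26592 = true := by decide +kernel
theorem k_xp_832 : allR ckX 5 26624 = true := by decide +kernel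
theorem k_xp_833 : allR ckX 5 26656 = true := by decide +kernel
theorem k_xp_834 : allR ckX 5 26688 = true := by decide +kernel
theorem k_xp_835 : allR ckX 5 26720 = true := by decide +kernel
theorem k_xp_836 : allR ckX 5 26752 = true := by decide +kernel
theorem k_xp_837 : allR ckX 5 26784 = true := by decide +kernel
theorem k_xp_838 : allR ckX 5 26816 = true := by decide +kernel
theorem k_xp_839 : allR ckX 5 26848 = true := by decide +kernel
theorem k_xp_840 : allR ckX 5 26880 = true := by decide +kernel
theorem k_xp_841 : allR ckX 5 26912 = true := by decide +kernel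
theorem k_xp_842 : allR ckX 5 26944 = true := by decide +kernel
theorem k_xp_843 : allR ckX 5 26976 = true := by decide +kernel
theorem k_xp_844 : allR ckX 5 27008 = true := by decide +kernel
theorem k_xp_845 : allR ckX 5 27040 = true := by decide +kernel
theorem k_xp_846 : allR ckX 5 27072 = true := by decide +kernel
theorem k_xp_847 : allR ckX 5 27104 = true := by decide +kernel
theorem k_xp_848 : allR ckX 5 27136 = true := by decide +kernel
theorem k_xp_849 : allR ckX 5 27168 = true := by decide +kernel
theorem k_xp_850 : allR ckX 5 27200 = true := by decide +kernel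
theorem k_xp_851 : allR ckX 5 27232 = true := by decide +kernel
theorem k_xp_852 : allR ckX 5 27264 = true := by decide +kernel
theorem k_xp_853 : allR ckX 5 27296 = true := by decide +kernel
theorem k_xp_854 : allR ckX 5 27328 = true := by decide +kernel
theorem k_xp_855 : allR ckX 5 27360 = true := by decide +kernel
theorem k_xp_856 : allR ckX 5 27392 = true := by decide +kernel
theorem k_xp_857 : allR ckX 5 27424 = true := by decide +kernel
theorem k_xp_858 : allR ckX 5 27456 = true := by decide +kernel
theorem k_xp_859 : allR ckX 5 27488 = true := by decide +kernel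
theorem k_xp_860 : allR ckX 5 27520 = true := by decide +kernel
theorem k_xp_861 : allR ckX 5 27552 = true := by decide +kernel
theorem k_xp_862 : allR ckX 5 27584 = true := by decide +kernel
theorem k_xp_863 : allR ckX 5 27616 = true := by decide +kernel

end Cfsg.Agent.Lib.Helper25.TC.Fi23X
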