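import Cfsg.Agent.Lib.Helper25.TCFi23X

set_option autoImplicit false
set_option maxRecDepth 1000000
set_option linter.unusedVariables false
set_option Elab.async false

namespace Cfsg.Agent.Lib.Helper25.TC.Fi23X

open Cfsg.Agent.Lib.Helper25.TC Cfsg.Agent.Lib.Helper25.TC.Fi23_31671

theorem k_xp_864 : allR ckX 5 27648 = true := by decide +kernel
theorem k_xp_865 : allR ckX 5 27680 = true := by decide +kernel
theorem k_xp_866 : allR ckX 5 27712 = true := by decide +kernel
theorem k_xp_867 : allR ckX 5 27744 = true := by decide +kernel
theorem k_xp_868 : allR ckX 5 27776 = true := by decide +kernel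
theorem k_xp_869 : allR ckX 5 27808 = true := by decide +kernel
theorem k_xp_870 : allR ckX 5 27840 = true := by decide +kernel
theorem k_xp_871 : allR ckX 5 27872 = true := by decide +kernel
theorem k_xp_872 : allR ckX 5 27904 = true := by decide +kernel
theorem k_xp_873 : allR ckX 5 27936 = true := by decide +kernel
theorem k_xp_874 : allR ckX 5 27968 = true := by decide +kernel
theorem k_xp_875 : allR ckX 5 28000 = true := by decide +kernel
theorem k_xp_876 : allR ckX 5 28032 = true := by decide +kernel
theorem k_xp_877 : allR ckX 5 28064 = true := by decide +kernel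
theorem k_xp_878 : allR ckX 5 28096 = true := by decide +kernel
theorem k_xp_879 : allR ckX 5 28128 = true := by decide +kernel
theorem k_xp_880 : allR ckX 5 28160 = true := by decide +kernel
theorem k_xp_881 : allR ckX 5 28192 = true := by decide +kernel
theorem k_xp_882 : allR ckX 5 28224 = true := by decide +kernel
theorem k_xp_883 : allR ckX 5 28256 = true := by decide +kernel
theorem k_xp_884 : allR ckX 5 28288 = true := by decide +kernel
theorem k_xp_885 : allR ckX 5 28320 = true := by decide +kernel
theorem k_xp_886 : allR ckX 5 28352 = true := by decide +kernel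
theorem k_xp_887 : allR ckX 5 28384 = true := by decide +kernel
theorem k_xp_888 : allR ckX 5 28416 = true := by decide +kernel
theorem k_xp_889 : allR ckX 5 28448 = true := by decide +kernel
theorem k_xp_890 : allR ckX 5 28480 = true := by decide +kernel
theorem k_xp_891 : allR ckX 5 28512 = true := by decide +kernel
theorem k_xp_892 : allR ckX 5 28544 = true := by decide +kernel
theorem k_xp_893 : allR ckX 5 28576 = true := by decide +kernel
theorem k_xp_894 : allR ckX 5 28608 = true := by decide +kernel
theorem k_xp_895 : allR ckX 5 28640 = true := by decide +kernel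
theorem k_xp_896 : allR ckX 5 28672 = true := by decide +kernel
theorem k_xp_897 : allR ckX 5 28704 = true := by decide +kernel
theorem k_xp_898 : allR ckX 5 28736 = true := by decide +kernel
theorem k_xp_899 : allR ckX 5 28768 = true := by decide +kernel

end Cfsg.Agent.Lib.Helper25.TC.Fi23X
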