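import Cfsg.Agent.Lib.Helper25.TCFi23X

set_option autoImplicit false
set_option maxRecDepth 1000000
set_option linter.unusedVariables false
set_option Elab.async false

namespace Cfsg.Agent.Lib.Helper25.TC.Fi23X

open Cfsg.Agent.Lib.Helper25.TC Cfsg.Agent.Lib.Helper25.TC.Fi23_31671

theorem k_xp_900 : allR ckX 5 28800 = true := by decide +kernel
theorem k_xp_901 : allR ckX 5 28832 = true := by decide +kernel
theorem k_xp_902 : allR ckX 5 28864 = true := by decide +kernel
theorem k_xp_903 : allR ckX 5 28896 = true := by decide +kernel
theorem k_xp_904 : allR ckX 5 28928 = true := by decide +kernel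
theorem k_xp_905 : allR ckX 5 28960 = true := by decide +kernel
theorem k_xp_906 : allR ckX 5 28992 = true := by decide +kernel
theorem k_xp_907 : allR ckX 5 29024 = true := by decide +kernel
theorem k_xp_908 : allR ckX 5 29056 = true := by decide +kernel
theorem k_xp_909 : allR ckX 5 29088 = true := by decide +kernel
theorem k_xp_910 : allR ckX 5 29120 = true := by decide +kernel
theorem k_xp_911 : allR ckX 5 29152 = true := by decide +kernel
theorem k_xp_912 : allR ckX 5 29184 = true := by decide +kernel
theorem k_xp_913 : allR ckX 5 29216 = true := by decide +kernel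
theorem k_xp_914 : allR ckX 5 29248 = true := by decide +kernel
theorem k_xp_915 : allR ckX 5 29280 = true := by decide +kernel
theorem k_xp_916 : allR ckX 5 29312 = true := by decide +kernel
theorem k_xp_917 : allR ckX 5 29344 = true := by decide +kernel
theorem k_xp_918 : allR ckX 5 29376 = true := by decide +kernel
theorem k_xp_919 : allR ckX 5 29408 = true := by decide +kernel
theorem k_xp_920 : allR ckX 5 29440 = true := by decide +kernel
theorem k_xp_921 : allR ckX 5 29472 = true := by decide +kernel
theorem k_xp_922 : allR ckX 5 29504 = true := by decide +kernel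
theorem k_xp_923 : allR ckX 5 29536 = true := by decide +kernel
theorem k_xp_924 : allR ckX 5 29568 = true := by decide +kernel
theorem k_xp_925 : allR ckX 5 29600 = true := by decide +kernel
theorem k_xp_926 : allR ckX 5 29632 = true := by decide +kernel
theorem k_xp_927 : allR ckX 5 29664 = true := by decide +kernel
theorem k_xp_928 : allR ckX 5 29696 = true := by decide +kernel
theorem k_xp_929 : allR ckX 5 29728 = true := by decide +kernel
theorem k_xp_930 : allR ckX 5 29760 = true := by decide +kernel
theorem k_xp_931 : allR ckX 5 29792 = true := by decide +kernel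
theorem k_xp_932 : allR ckX 5 29824 = true := by decide +kernel
theorem k_xp_933 : allR ckX 5 29856 = true := by decide +kernel
theorem k_xp_934 : allR ckX 5 29888 = true := by decide +kernel
theorem k_xp_935 : allR ckX 5 29920 = true := by decide +kernel

end Cfsg.Agent.Lib.Helper25.TC.Fi23X
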