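import Cfsg.Agent.Lib.Helper25.TCFi23X

set_option autoImplicit false
set_option maxRecDepth 1000000
set_option linter.unusedVariables false
set_option Elab.async false

namespace Cfsg.Agent.Lib.Helper25.TC.Fi23X

open Cfsg.Agent.Lib.Helper25.TC Cfsg.Agent.Lib.Helper25.TC.Fi23_31671

theorem k_xp_936 : allR ckX 5 29952 = true := by decide +kernel
theorem k_xp_937 : allR ckX 5 29984 = true := by decide +kernel
theorem k_xp_938 : allR ckX 5 30016 = true := by decide +kernel
theorem k_xp_939 : allR ckX 5 30048 = true := by decide +kernel
theorem k_xp_940 : allR ckX 5 30080 = true := by decide +kernel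
theorem k_xp_941 : allR ckX 5 30112 = true := by decide +kernel
theorem k_xp_942 : allR ckX 5 30144 = true := by decide +kernel
theorem k_xp_943 : allR ckX 5 30176 = true := by decide +kernel
theorem k_xp_944 : allR ckX 5 30208 = true := by decide +kernel
theorem k_xp_945 : allR ckX 5 30240 = true := by decide +kernel
theorem k_xp_946 : allR ckX 5 30272 = true := by decide +kernel
theorem k_xp_947 : allR ckX 5 30304 = true := by decide +kernel
theorem k_xp_948 : allR ckX 5 30336 = true := by decide +kernel
theorem k_xp_949 : allR ckX 5 30368 = true := by decide +kernel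
theorem k_xp_950 : allR ckX 5 30400 = true := by decide +kernel
theorem k_xp_951 : allR ckX 5 30432 = true := by decide +kernel
theorem k_xp_952 : allR ckX 5 30464 = true := by decide +kernel
theorem k_xp_953 : allR ckX 5 30496 = true := by decide +kernel
theorem k_xp_954 : allR ckX 5 30528 = true := by decide +kernel
theorem k_xp_955 : allR ckX 5 30560 = true := by decide +kernel
theorem k_xp_956 : allR ckX 5 30592 = true := by decide +kernel
theorem k_xp_957 : allR ckX 5 30624 = true := by decide +kernel
theorem k_xp_958 : allR ckX 5 30656 = true := by decide +kernel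
theorem k_xp_959 : allR ckX 5 30688 = true := by decide +kernel
theorem k_xp_960 : allR ckX 5 30720 = true := by decide +kernel
theorem k_xp_961 : allR ckX 5 30752 = true := by decide +kernel
theorem k_xp_962 : allR ckX 5 30784 = true := by decide +kernel
theorem k_xp_963 : allR ckX 5 30816 = true := by decide +kernel
theorem k_xp_964 : allR ckX 5 30848 = true := by decide +kernel
theorem k_xp_965 : allR ckX 5 30880 = true := by decide +kernel
theorem k_xp_966 : allR ckX 5 30912 = true := by decide +kernel
theorem k_xp_967 : allR ckX 5 30944 = true := by decide +kernel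
theorem k_xp_968 : allR ckX 5 30976 = true := by decide +kernel
theorem k_xp_969 : allR ckX 5 31008 = true := by decide +kernel
theorem k_xp_970 : allR ckX 5 31040 = true := by decide +kernel
theorem k_xp_971 : allR ckX 5 31072 = true := by decide +kernel

end Cfsg.Agent.Lib.Helper25.TC.Fi23X
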