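import Cfsg.Agent.Lib.Helper25.TCFi23X

set_option autoImplicit false
set_option maxRecDepth 1000000
set_option linter.unusedVariables false
set_option Elab.async false

namespace Cfsg.Agent.Lib.Helper25.TC.Fi23X

open Cfsg.Agent.Lib.Helper25.TC Cfsg.Agent.Lib.Helper25.TC.Fi23_31671

theorem k_xp_972 : allR ckX 5 31104 = true := by decide +kernel
theorem k_xp_973 : allR ckX 5 31136 = true := by decide +kernel
theorem k_xp_974 : allR ckX 5 31168 = true := by decide +kernel
theorem k_xp_975 : allR ckX 5 31200 = true := by decide +kernel
theorem k_xp_976 : allR ckX 5 31232 = true := by decide +kernel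
theorem k_xp_977 : allR ckX 5 31264 = true := by decide +kernel
theorem k_xp_978 : allR ckX 5 31296 = true := by decide +kernel
theorem k_xp_979 : allR ckX 5 31328 = true := by decide +kernel
theorem k_xp_980 : allR ckX 5 31360 = true := by decide +kernel
theorem k_xp_981 : allR ckX 5 31392 = true := by decide +kernel
theorem k_xp_982 : allR ckX 5 31424 = true := by decide +kernel
theorem k_xp_983 : allR ckX 5 31456 = true := by decide +kernel
theorem k_xp_984 : allR ckX 5 31488 = true := by decide +kernel
theorem k_xp_985 : allR ckX 5 31520 = true := by decide +kernel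
theorem k_xp_986 : allR ckX 5 31552 = true := by decide +kernel
theorem k_xp_987 : allR ckX 5 31584 = true := by decide +kernel
theorem k_xp_988 : allR ckX 5 31616 = true := by decide +kernel
theorem k_xp_989 : allR ckX 5 31648 = true := by decide +kernel
theorem k_xp_990 : allR ckX 5 31680 = true := by decide +kernel
theorem k_xp_991 : allR ckX 5 31712 = true := by decide +kernel
theorem k_xp_992 : allR ckX 5 31744 = true := by decide +kernel
theorem k_xp_993 : allR ckX 5 31776 = true := by decide +kernel
theorem k_xp_994 : allR ckX 5 31808 = true := by decide +kernel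
theorem k_xp_995 : allR ckX 5 31840 = true := by decide +kernel
theorem k_xp_996 : allR ckX 5 31872 = true := by decide +kernel
theorem k_xp_997 : allR ckX 5 31904 = true := by decide +kernel
theorem k_xp_998 : allR ckX 5 31936 = true := by decide +kernel
theorem k_xp_999 : allR ckX 5 31968 = true := by decide +kernel
theorem k_xp_1000 : allR ckX 5 32000 = true := by decide +kernel
theorem k_xp_1001 : allR ckX 5 32032 = true := by decide +kernel
theorem k_xp_1002 : allR ckX 5 32064 = true := by decide +kernel
theorem k_xp_1003 : allR ckX 5 32096 = true := by decide +kernel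
theorem k_xp_1004 : allR ckX 5 32128 = true := by decide +kernel
theorem k_xp_1005 : allR ckX 5 32160 = true := by decide +kernel
theorem k_xp_1006 : allR ckX 5 32192 = true := by decide +kernel
theorem k_xp_1007 : allR ckX 5 32224 = true := by decide +kernel
theorem k_xp_1008 : allR ckX 5 32256 = true := by decide +kernel
theorem k_xp_1009 : allR ckX 5 32288 = true := by decide +kernel
theorem k_xp_1010 : allR ckX 5 32320 = true := by decide +kernel
theorem k_xp_1011 : allR ckX 5 32352 = true := by decide +kernel
theorem k_xp_1012 : allR ckX 5 32384 = true := by decide +kernel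
theorem k_xp_1013 : allR ckX 5 32416 = true := by decide +kernel
theorem k_xp_1014 : allR ckX 5 32448 = true := by decide +kernel
theorem k_xp_1015 : allR ckX 5 32480 = true := by decide +kernel
theorem k_xp_1016 : allR ckX 5 32512 = true := by decide +kernel
theorem k_xp_1017 : allR ckX 5 32544 = true := by decide +kernel
theorem k_xp_1018 : allR ckX 5 32576 = true := by decide +kernel
theorem k_xp_1019 : allR ckX 5 32608 = true := by decide +kernel
theorem k_xp_1020 : allR ckX 5 32640 = true := by decide +kernel
theorem k_xp_1021 : allR ckX 5 32672 = true := by decide +kernel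
theorem k_xp_1022 : allR ckX 5 32704 = true := by decide +kernel
theorem k_xp_1023 : allR ckX 5 32736 = true := by decide +kernel

end Cfsg.Agent.Lib.Helper25.TC.Fi23X
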