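import Cfsg.Agent.Lib.Helper25.TCFi23X

set_option autoImplicit false
set_option maxRecDepth 1000000
set_option linter.unusedVariables false
set_option Elab.async false

namespace Cfsg.Agent.Lib.Helper25.TC.Fi23X

open Cfsg.Agent.Lib.Helper25.TC Cfsg.Agent.Lib.Helper25.TC.Fi23_31671

theorem k_xp_108 : allR ckX 5 3456 = true := by decide +kernel
theorem k_xp_109 : allR ckX 5 3488 = true := by decide +kernel
theorem k_xp_110 : allR ckX 5 3520 = true := by decide +kernel
theorem k_xp_111 : allR ckX 5 3552 = true := by decide +kernel
theorem k_xp_112 : allR ckX 5 3584 = true := by decide +kernel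
theorem k_xp_113 : allR ckX 5 3616 = true := by decide +kernel
theorem k_xp_114 : allR ckX 5 3648 = true := by decide +kernel
theorem k_xp_115 : allR ckX 5 3680 = true := by decide +kernel
theorem k_xp_116 : allR ckX 5 3712 = true := by decide +kernel
theorem k_xp_117 : allR ckX 5 3744 = true := by decide +kernel
theorem k_xp_118 : allR ckX 5 3776 = true := by decide +kernel
theorem k_xp_119 : allR ckX 5 3808 = true := by decide +kernel
theorem k_xp_120 : allR ckX 5 3840 = true := by decide +kernel
theorem k_xp_121 : allR ckX 5 3872 = true := by decide +kernel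
theorem k_xp_122 : allR ckX 5 3904 = true := by decide +kernel
theorem k_xp_123 : allR ckX 5 3936 = true := by decide +kernel
theorem k_xp_124 : allR ckX 5 3968 = true := by decide +kernel
theorem k_xp_125 : allR ckX 5 4000 = true := by decide +kernel
theorem k_xp_126 : allR ckX 5 4032 = true := by decide +kernel
theorem k_xp_127 : allR ckX 5 4064 = true := by decide +kernel
theorem k_xp_128 : allR ckX 5 4096 = true := by decide +kernel
theorem k_xp_129 : allR ckX 5 4128 = true := by decide +kernel
theorem k_xp_130 : allR ckX 5 4160 = true := by decide +kernel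
theorem k_xp_131 : allR ckX 5 4192 = true := by decide +kernel
theorem k_xp_132 : allR ckX 5 4224 = true := by decide +kernel
theorem k_xp_133 : allR ckX 5 4256 = true := by decide +kernel
theorem k_xp_134 : allR ckX 5 4288 = true := by decide +kernel
theorem k_xp_135 : allR ckX 5 4320 = true := by decide +kernel
theorem k_xp_136 : allR ckX 5 4352 = true := by decide +kernel
theorem k_xp_137 : allR ckX 5 4384 = true := by decide +kernel
theorem k_xp_138 : allR ckX 5 4416 = true := by decide +kernel
theorem k_xp_139 : allR ckX 5 4448 = true := by decide +kernel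
theorem k_xp_140 : allR ckX 5 4480 = true := by decide +kernel
theorem k_xp_141 : allR ckX 5 4512 = true := by decide +kernel
theorem k_xp_142 : allR ckX 5 4544 = true := by decide +kernel
theorem k_xp_143 : allR ckX 5 4576 = true := by decide +kernel

end Cfsg.Agent.Lib.Helper25.TC.Fi23X
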