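import Cfsg.Agent.Lib.Helper25.TCFi23X

set_option autoImplicit false
set_option maxRecDepth 1000000
set_option linter.unusedVariables false
set_option Elab.async false

namespace Cfsg.Agent.Lib.Helper25.TC.Fi23X

open Cfsg.Agent.Lib.Helper25.TC Cfsg.Agent.Lib.Helper25.TC.Fi23_31671

theorem k_xp_144 : allR ckX 5 4608 = true := by decide +kernel
theorem k_xp_145 : allR ckX 5 4640 = true := by decide +kernel
theorem k_xp_146 : allR ckX 5 4672 = true := by decide +kernel
theorem k_xp_147 : allR ckX 5 4704 = true := by decide +kernel
theorem k_xp_148 : allR ckX 5 4736 = true := by decide +kernel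
theorem k_xp_149 : allR ckX 5 4768 = true := by decide +kernel
theorem k_xp_150 : allR ckX 5 4800 = true := by decide +kernel
theorem k_xp_151 : allR ckX 5 4832 = true := by decide +kernel
theorem k_xp_152 : allR ckX 5 4864 = true := by decide +kernel
theorem k_xp_153 : allR ckX 5 4896 = true := by decide +kernel
theorem k_xp_154 : allR ckX 5 4928 = true := by decide +kernel
theorem k_xp_155 : allR ckX 5 4960 = true := by decide +kernel
theorem k_xp_156 : allR ckX 5 4992 = true := by decide +kernel
theorem k_xp_157 : allR ckX 5 5024 = true := by decide +kernel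
theorem k_xp_158 : allR ckX 5 5056 = true := by decide +kernel
theorem k_xp_159 : allR ckX 5 5088 = true := by decide +kernel
theorem k_xp_160 : allR ckX 5 5120 = true := by decide +kernel
theorem k_xp_161 : allR ckX 5 5152 = true := by decide +kernel
theorem k_xp_162 : allR ckX 5 5184 = true := by decide +kernel
theorem k_xp_163 : allR ckX 5 5216 = true := by decide +kernel
theorem k_xp_164 : allR ckX 5 5248 = true := by decide +kernel
theorem k_xp_165 : allR ckX 5 5280 = true := by decide +kernel
theorem k_xp_166 : allR ckX 5 5312 = true := by decide +kernel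
theorem k_xp_167 : allR ckX 5 5344 = true := by decide +kernel
theorem k_xp_168 : allR ckX 5 5376 = true := by decide +kernel
theorem k_xp_169 : allR ckX 5 5408 = true := by decide +kernel
theorem k_xp_170 : allR ckX 5 5440 = true := by decide +kernel
theorem k_xp_171 : allR ckX 5 5472 = true := by decide +kernel
theorem k_xp_172 : allR ckX 5 5504 = true := by decide +kernel
theorem k_xp_173 : allR ckX 5 5536 = true := by decide +kernel
theorem k_xp_174 : allR ckX 5 5568 = true := by decide +kernel
theorem k_xp_175 : allR ckX 5 5600 = true := by decide +kernel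
theorem k_xp_176 : allR ckX 5 5632 = true := by decide +kernel
theorem k_xp_177 : allR ckX 5 5664 = true := by decide +kernel
theorem k_xp_178 : allR ckX 5 5696 = true := by decide +kernel
theorem k_xp_179 : allR ckX 5 5728 = true := by decide +kernel

end Cfsg.Agent.Lib.Helper25.TC.Fi23X
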