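import Cfsg.Agent.Lib.Helper25.TCFi23X

set_option autoImplicit false
set_option maxRecDepth 1000000
set_option linter.unusedVariables false
set_option Elab.async false

namespace Cfsg.Agent.Lib.Helper25.TC.Fi23X

open Cfsg.Agent.Lib.Helper25.TC Cfsg.Agent.Lib.Helper25.TC.Fi23_31671

theorem k_xp_180 : allR ckX 5 5760 = true := by decide +kernel
theorem k_xp_181 : allR ckX 5 5792 = true := by decide +kernel
theorem k_xp_182 : allR ckX 5 5824 = true := by decide +kernel
theorem k_xp_183 : allR ckX 5 5856 = true := by decide +kernel
theorem k_xp_184 : allR ckX 5 5888 = true := by decide +kernel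
theorem k_xp_185 : allR ckX 5 5920 = true := by decide +kernel
theorem k_xp_186 : allR ckX 5 5952 = true := by decide +kernel
theorem k_xp_187 : allR ckX 5 5984 = true := by decide +kernel
theorem k_xp_188 : allR ckX 5 6016 = true := by decide +kernel
theorem k_xp_189 : allR ckX 5 6048 = true := by decide +kernel
theorem k_xp_190 : allR ckX 5 6080 = true := by decide +kernel
theorem k_xp_191 : allR ckX 5 6112 = true := by decide +kernel
theorem k_xp_192 : allR ckX 5 6144 = true := by decide +kernel
theorem k_xp_193 : allR ckX 5 6176 = true := by decide +kernel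
theorem k_xp_194 : allR ckX 5 6208 = true := by decide +kernel
theorem k_xp_195 : allR ckX 5 6240 = true := by decide +kernel
theorem k_xp_196 : allR ckX 5 6272 = true := by decide +kernel
theorem k_xp_197 : allR ckX 5 6304 = true := by decide +kernel
theorem k_xp_198 : allR ckX 5 6336 = true := by decide +kernel
theorem k_xp_199 : allR ckX 5 6368 = true := by decide +kernel
theorem k_xp_200 : allR ckX 5 6400 = true := by decide +kernel
theorem k_xp_201 : allR ckX 5 6432 = true := by decide +kernel
theorem k_xp_202 : allR ckX 5 6464 = true := by decide +kernel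
theorem k_xp_203 : allR ckX 5 6496 = true := by decide +kernel
theorem k_xp_204 : allR ckX 5 6528 = true := by decide +kernel
theorem k_xp_205 : allR ckX 5 6560 = true := by decide +kernel
theorem k_xp_206 : allR ckX 5 6592 = true := by decide +kernel
theorem k_xp_207 : allR ckX 5 6624 = true := by decide +kernel
theorem k_xp_208 : allR ckX 5 6656 = true := by decide +kernel
theorem k_xp_209 : allR ckX 5 6688 = true := by decide +kernel
theorem k_xp_210 : allR ckX 5 6720 = true := by decide +kernel
theorem k_xp_211 : allR ckX 5 6752 = true := by decide +kernel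
theorem k_xp_212 : allR ckX 5 6784 = true := by decide +kernel
theorem k_xp_213 : allR ckX 5 6816 = true := by decide +kernel
theorem k_xp_214 : allR ckX 5 6848 = true := by decide +kernel
theorem k_xp_215 : allR ckX 5 6880 = true := by decide +kernel

end Cfsg.Agent.Lib.Helper25.TC.Fi23X
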