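import Cfsg.Agent.Lib.Helper25.TCFi23X

set_option autoImplicit false
set_option maxRecDepth 1000000
set_option linter.unusedVariables false
set_option Elab.async false

namespace Cfsg.Agent.Lib.Helper25.TC.Fi23X

open Cfsg.Agent.Lib.Helper25.TC Cfsg.Agent.Lib.Helper25.TC.Fi23_31671

theorem k_xp_252 : allR ckX 5 8064 = true := by decide +kernel
theorem k_xp_253 : allR ckX 5 8096 = true := by decide +kernel
theorem k_xp_254 : allR ckX 5 8128 = true := by decide +kernel
theorem k_xp_255 : allR ckX 5 8160 = true := by decide +kernel
theorem k_xp_256 : allR ckX 5 8192 = true := by decide +kernel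
theorem k_xp_257 : allR ckX 5 8224 = true := by decide +kernel
theorem k_xp_258 : allR ckX 5 8256 = true := by decide +kernel
theorem k_xp_259 : allR ckX 5 8288 = true := by decide +kernel
theorem k_xp_260 : allR ckX 5 8320 = true := by decide +kernel
theorem k_xp_261 : allR ckX 5 8352 = true := by decide +kernel
theorem k_xp_262 : allR ckX 5 8384 = true := by decide +kernel
theorem k_xp_263 : allR ckX 5 8416 = true := by decide +kernel
theorem k_xp_264 : allR ckX 5 8448 = true := by decide +kernel
theorem k_xp_265 : allR ckX 5 8480 = true := by decide +kernel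
theorem k_xp_266 : allR ckX 5 8512 = true := by decide +kernel
theorem k_xp_267 : allR ckX 5 8544 = true := by decide +kernel
theorem k_xp_268 : allR ckX 5 8576 = true := by decide +kernel
theorem k_xp_269 : allR ckX 5 8608 = true := by decide +kernel
theorem k_xp_270 : allR ckX 5 8640 = true := by decide +kernel
theorem k_xp_271 : allR ckX 5 8672 = true := by decide +kernel
theorem k_xp_272 : allR ckX 5 8704 = true := by decide +kernel
theorem k_xp_273 : allR ckX 5 8736 = true := by decide +kernel
theorem k_xp_274 : allR ckX 5 8768 = true := by decide +kernel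
theorem k_xp_275 : allR ckX 5 8800 = true := by decide +kernel
theorem k_xp_276 : allR ckX 5 8832 = true := by decide +kernel
theorem k_xp_277 : allR ckX 5 8864 = true := by decide +kernel
theorem k_xp_278 : allR ckX 5 8896 = true := by decide +kernel
theorem k_xp_279 : allR ckX 5 8928 = true := by decide +kernel
theorem k_xp_280 : allR ckX 5 8960 = true := by decide +kernel
theorem k_xp_281 : allR ckX 5 8992 = true := by decide +kernel
theorem k_xp_282 : allR ckX 5 9024 = true := by decide +kernel
theorem k_xp_283 : allR ckX 5 9056 = true := by decide +kernel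
theorem k_xp_284 : allR ckX 5 9088 = true := by decide +kernel
theorem k_xp_285 : allR ckX 5 9120 = true := by decide +kernel
theorem k_xp_286 : allR ckX 5 9152 = true := by decide +kernel
theorem k_xp_287 : allR ckX 5 9184 = true := by decide +kernel

end Cfsg.Agent.Lib.Helper25.TC.Fi23X
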