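import Cfsg.Agent.Lib.Helper25.TCFi23X

set_option autoImplicit false
set_option maxRecDepth 1000000
set_option linter.unusedVariables false
set_option Elab.async false

namespace Cfsg.Agent.Lib.Helper25.TC.Fi23X

open Cfsg.Agent.Lib.Helper25.TC Cfsg.Agent.Lib.Helper25.TC.Fi23_31671

theorem k_xp_288 : allR ckX 5 9216 = true := by decide +kernel
theorem k_xp_289 : allR ckX 5 9248 = true := by decide +kernel
theorem k_xp_290 : allR ckX 5 9280 = true := by decide +kernel
theorem k_xp_291 : allR ckX 5 9312 = true := by decide +kernel
theorem k_xp_292 : allR ckX 5 9344 = true := by decide +kernel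
theorem k_xp_293 : allR ckX 5 9376 = true := by decide +kernel
theorem k_xp_294 : allR ckX 5 9408 = true := by decide +kernel
theorem k_xp_295 : allR ckX 5 9440 = true := by decide +kernel
theorem k_xp_296 : allR ckX 5 9472 = true := by decide +kernel
theorem k_xp_297 : allR ckX 5 9504 = true := by decide +kernel
theorem k_xp_298 : allR ckX 5 9536 = true := by decide +kernel
theorem k_xp_299 : allR ckX 5 9568 = true := by decide +kernel
theorem k_xp_300 : allR ckX 5 9600 = true := by decide +kernel
theorem k_xp_301 : allR ckX 5 9632 = true := by decide +kernel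
theorem k_xp_302 : allR ckX 5 9664 = true := by decide +kernel
theorem k_xp_303 : allR ckX 5 9696 = true := by decide +kernel
theorem k_xp_304 : allR ckX 5 9728 = true := by decide +kernel
theorem k_xp_305 : allR ckX 5 9760 = true := by decide +kernel
theorem k_xp_306 : allR ckX 5 9792 = true := by decide +kernel
theorem k_xp_307 : allR ckX 5 9824 = true := by decide +kernel
theorem k_xp_308 : allR ckX 5 9856 = true := by decide +kernel
theorem k_xp_309 : allR ckX 5 9888 = true := by decide +kernel
theorem k_xp_310 : allR ckX 5 9920 = true := by decide +kernel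
theorem k_xp_311 : allR ckX 5 9952 = true := by decide +kernel
theorem k_xp_312 : allR ckX 5 9984 = true := by decide +kernel
theorem k_xp_313 : allR ckX 5 10016 = true := by decide +kernel
theorem k_xp_314 : allR ckX 5 10048 = true := by decide +kernel
theorem k_xp_315 : allR ckX 5 10080 = true := by decide +kernel
theorem k_xp_316 : allR ckX 5 10112 = true := by decide +kernel
theorem k_xp_317 : allR ckX 5 10144 = true := by decide +kernel
theorem k_xp_318 : allR ckX 5 10176 = true := by decide +kernel
theorem k_xp_319 : allR ckX 5 10208 = true := by decide +kernel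
theorem k_xp_320 : allR ckX 5 10240 = true := by decide +kernel
theorem k_xp_321 : allR ckX 5 10272 = true := by decide +kernel
theorem k_xp_322 : allR ckX 5 10304 = true := by decide +kernel
theorem k_xp_323 : allR ckX 5 10336 = true := by decide +kernel

end Cfsg.Agent.Lib.Helper25.TC.Fi23X
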