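import Cfsg.Agent.Lib.Helper25.TCFi23X

set_option autoImplicit false
set_option maxRecDepth 1000000
set_option linter.unusedVariables false
set_option Elab.async false

namespace Cfsg.Agent.Lib.Helper25.TC.Fi23X

open Cfsg.Agent.Lib.Helper25.TC Cfsg.Agent.Lib.Helper25.TC.Fi23_31671

theorem k_xp_324 : allR ckX 5 10368 = true := by decide +kernel
theorem k_xp_325 : allR ckX 5 10400 = true := by decide +kernel
theorem k_xp_326 : allR ckX 5 10432 = true := by decide +kernel
theorem k_xp_327 : allR ckX 5 10464 = true := by decide +kernel
theorem k_xp_328 : allR ckX 5 10496 = true := by decide +kernel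
theorem k_xp_329 : allR ckX 5 10528 = true := by decide +kernel
theorem k_xp_330 : allR ckX 5 10560 = true := by decide +kernel
theorem k_xp_331 : allR ckX 5 10592 = true := by decide +kernel
theorem k_xp_332 : allR ckX 5 10624 = true := by decide +kernel
theorem k_xp_333 : allR ckX 5 10656 = true := by decide +kernel
theorem k_xp_334 : allR ckX 5 10688 = true := by decide +kernel
theorem k_xp_335 : allR ckX 5 10720 = true := by decide +kernel
theorem k_xp_336 : allR ckX 5 10752 = true := by decide +kernel
theorem k_xp_337 : allR ckX 5 10784 = true := by decide +kernel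
theorem k_xp_338 : allR ckX 5 10816 = true := by decide +kernel
theorem k_xp_339 : allR ckX 5 10848 = true := by decide +kernel
theorem k_xp_340 : allR ckX 5 10880 = true := by decide +kernel
theorem k_xp_341 : allR ckX 5 10912 = true := by decide +kernel
theorem k_xp_342 : allR ckX 5 10944 = true := by decide +kernel
theorem k_xp_343 : allR ckX 5 10976 = true := by decide +kernel
theorem k_xp_344 : allR ckX 5 11008 = true := by decide +kernel
theorem k_xp_345 : allR ckX 5 11040 = true := by decide +kernel
theorem k_xp_346 : allR ckX 5 11072 = true := by decide +kernel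
theorem k_xp_347 : allR ckX 5 11104 = true := by decide +kernel
theorem k_xp_348 : allR ckX 5 11136 = true := by decide +kernel
theorem k_xp_349 : allR ckX 5 11168 = true := by decide +kernel
theorem k_xp_350 : allR ckX 5 11200 = true := by decide +kernel
theorem k_xp_351 : allR ckX 5 11232 = true := by decide +kernel
theorem k_xp_352 : allR ckX 5 11264 = true := by decide +kernel
theorem k_xp_353 : allR ckX 5 11296 = true := by decide +kernel
theorem k_xp_354 : allR ckX 5 11328 = true := by decide +kernel
theorem k_xp_355 : allR ckX 5 11360 = true := by decide +kernel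
theorem k_xp_356 : allR ckX 5 11392 = true := by decide +kernel
theorem k_xp_357 : allR ckX 5 11424 = true := by decide +kernel
theorem k_xp_358 : allR ckX 5 11456 = true := by decide +kernel
theorem k_xp_359 : allR ckX 5 11488 = true := by decide +kernel

end Cfsg.Agent.Lib.Helper25.TC.Fi23X
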