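import Cfsg.Agent.Lib.Helper25.TCFi23X
import Cfsg.Agent.Lib.Helper25.TCFi23XL
import Cfsg.Agent.Lib.Helper25.TCFi23XC0
import Cfsg.Agent.Lib.Helper25.TCFi23XC1
import Cfsg.Agent.Lib.Helper25.TCFi23XC2
import Cfsg.Agent.Lib.Helper25.TCFi23XC3
import Cfsg.Agent.Lib.Helper25.TCFi23XC4
import Cfsg.Agent.Lib.Helper25.TCFi23XC5
import Cfsg.Agent.Lib.Helper25.TCFi23XC6
import Cfsg.Agent.Lib.Helper25.TCFi23XC7
import Cfsg.Agent.Lib.Helper25.TCFi23XC8
import Cfsg.Agent.Lib.Helper25.TCFi23XC9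
import Cfsg.Agent.Lib.Helper25.TCFi23XC10
import Cfsg.Agent.Lib.Helper25.TCFi23XC11
import Cfsg.Agent.Lib.Helper25.TCFi23XC12
import Cfsg.Agent.Lib.Helper25.TCFi23XC13
import Cfsg.Agent.Lib.Helper25.TCFi23XC14
import Cfsg.Agent.Lib.Helper25.TCFi23XC15
import Cfsg.Agent.Lib.Helper25.TCFi23XC16
import Cfsg.Agent.Lib.Helper25.TCFi23XC17
import Cfsg.Agent.Lib.Helper25.TCFi23XC18
import Cfsg.Agent.Lib.Helper25.TCFi23XC19
import Cfsg.Agent.Lib.Helper25.TCFi23XC20
import Cfsg.Agent.Lib.Helper25.TCFi23XC21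
import Cfsg.Agent.Lib.Helper25.TCFi23XC22
import Cfsg.Agent.Lib.Helper25.TCFi23XC23
import Cfsg.Agent.Lib.Helper25.TCFi23XC24
import Cfsg.Agent.Lib.Helper25.TCFi23XC25
import Cfsg.Agent.Lib.Helper25.TCFi23XC26
import Cfsg.Agent.Lib.Helper25.TCFi23XC27
import Cfsg.Agent.Lib.Helper25.TCFi23XC28
import Cfsg.Agent.Lib.Helper25.TCFi23XC29
import Cfsg.Agent.Lib.Helper25.TCFi23XC30
import Cfsg.Agent.Lib.Helper25.TCFi23XC31
import Cfsg.Agent.Lib.Helper25.TCFi23XC32
import Cfsg.Agent.Lib.Helper25.TCFi23XC33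
import Cfsg.Agent.Lib.Helper25.TCFi23XC34
import Cfsg.Agent.Lib.Helper25.TCFi23XC35
import Cfsg.Agent.Lib.Helper25.TCFi23XC36
import Cfsg.Agent.Lib.Helper25.TCFi23XC37
import Cfsg.Agent.Lib.Helper25.TCFi23XC38
import Cfsg.Agent.Lib.Helper25.TCFi23XP0
import Cfsg.Agent.Lib.Helper25.TCFi23XP1
import Cfsg.Agent.Lib.Helper25.TCFi23XP2
import Cfsg.Agent.Lib.Helper25.TCFi23XP3
import Cfsg.Agent.Lib.Helper25.TCFi23XP4
import Cfsg.Agent.Lib.Helper25.TCFi23XP5
import Cfsg.Agent.Lib.Helper25.TCFi23XP6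
import Cfsg.Agent.Lib.Helper25.TCFi23XP7
import Cfsg.Agent.Lib.Helper25.TCFi23XP8
import Cfsg.Agent.Lib.Helper25.TCFi23XP9
import Cfsg.Agent.Lib.Helper25.TCFi23XP10
import Cfsg.Agent.Lib.Helper25.TCFi23XP11
import Cfsg.Agent.Lib.Helper25.TCFi23XP12
import Cfsg.Agent.Lib.Helper25.TCFi23XP13
import Cfsg.Agent.Lib.Helper25.TCFi23XP14
import Cfsg.Agent.Lib.Helper25.TCFi23XP15
import Cfsg.Agent.Lib.Helper25.TCFi23XP16
import Cfsg.Agent.Lib.Helper25.TCFi23XP17
import Cfsg.Agent.Lib.Helper25.TCFi23XP18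
import Cfsg.Agent.Lib.Helper25.TCFi23XP19
import Cfsg.Agent.Lib.Helper25.TCFi23XP20
import Cfsg.Agent.Lib.Helper25.TCFi23XP21
import Cfsg.Agent.Lib.Helper25.TCFi23XP22
import Cfsg.Agent.Lib.Helper25.TCFi23XP23
import Cfsg.Agent.Lib.Helper25.TCFi23XP24
import Cfsg.Agent.Lib.Helper25.TCFi23XP25
import Cfsg.Agent.Lib.Helper25.TCFi23XP26
import Cfsg.Agent.Lib.Helper25.TCFi23XP27
import Cfsg.Agent.Lib.Helper25.TCFi23ChainLe

set_option autoImplicit false
set_option maxRecDepth 1000000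
set_option linter.unusedVariables false
set_option linter.unusedSimpArgs false

namespace Cfsg.Agent.Lib.Helper25.TC.Fi23X

open Cfsg.Spor Cfsg.Agent.Lib.Helper25.TC Cfsg.Agent.Lib.Helper25.Pres

abbrev KG := CoxPresented Fi23.Gen Fi23.edges Fi23.extra

theorem k_x : allR ckX 15 0 = true := (allR_join _ _ _ _ (by decide) (allR_join _ _ _ _ (by decide) (allR_join _ _ _ _ (by decide) (allR_join _ _ _ _ (by decide) (allR_join _ _ _ _ (by decide) (allR_join _ _ _ _ (by decide) (allR_join _ _ _ _ (by decide) (allR_join _ _ _ _ (by decide) (allR_join _ _ _ _ (by decide) (allR_join _ _ _ _ (by decide) k_xp_0 k_xp_1) (allR_join _ _ _ _ (by decide) k_xp_2 k_xp_3)) (allR_join _ _ _ _ (by decide) (allR_join _ _ _ _ (by decide) k_xp_4 k_xp_5) (allR_join _ _ _ _ (by decide) k_xp_6 k_xp_7))) (allR_join _ _ _ _ (by decide) (allR_join _ _ _ _ (by decide) (allR_join _ _ _ _ (by decide) k_xp_8 k_xp_9) (allR_join _ _ _ _ (by decide) k_xp_10 k_xp_11)) (allR_join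 _ _ _ _ (by decide) (allR_join _ _ _ _ (by decide) k_xp_12 k_xp_13) (allR_join _ _ _ _ (by decide) k_xp_14 k_xp_15)))) (allR_join _ _ _ _ (by decide) (allR_join _ _ _ _ (by decide) (allR_join _ _ _ _ (by decide) (allR_join _ _ _ _ (by decide) k_xp_16 k_xp_17) (allR_join _ _ _ _ (by decide) k_xp_18 k_xp_19)) (allR_join _ _ _ _ (by decide) (allR_join _ _ _ _ (by decide) k_xp_20 k_xp_21) (allR_join _ _ _ _ (by decide) k_xp_22 k_xp_23))) (allR_join _ _ _ _ (by decide) (allR_join _ _ _ _ (by decide) (allR_join _ _ _ _ (by decide) k_xp_24 k_xp_25) (allR_join _ _ _ _ (by decide) k_xp_26 k_xp_27)) (allR_join _ _ _ _ (by decide) (allR_join _ _ _ _ (by decide) k_xp_28 k_xp_29) (allR_join _ _ _ _ (by decide) k_xp_30 k_xp_31))))) (allR_join _ _ _ _ (by decide) (allR_join _ _ _ _ (by decide) (allR_join _ _ _ _ (by decide) (allR_join _ _ _ _ (by decide) (allR_join _ _ _ _ (by decide) k_xp_32 k_xp_33) (allR_join _ _ _ _ (by decide) k_xp_34 k_xp_35)) (allR_join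 _ _ _ _ (by decide) (allR_join _ _ _ _ (by decide) k_xp_36 k_xp_37) (allR_join _ _ _ _ (by decide) k_xp_38 k_xp_39))) (allR_join _ _ _ _ (by decide) (allR_join _ _ _ _ (by decide) (allR_join _ _ _ _ (by decide) k_xp_40 k_xp_41) (allR_join _ _ _ _ (by decide) k_xp_42 k_xp_43)) (allR_join _ _ _ _ (by decide) (allR_join _ _ _ _ (by decide) k_xp_44 k_xp_45) (allR_join _ _ _ _ (by decide) k_xp_46 k_xp_47)))) (allR_join _ _ _ _ (by decide) (allR_join _ _ _ _ (by decide) (allR_join _ _ _ _ (by decide) (allR_join _ _ _ _ (by decide) k_xp_48 k_xp_49) (allR_join _ _ _ _ (by decide) k_xp_50 k_xp_51)) (allR_join _ _ _ _ (by decide) (allR_join _ _ _ _ (by decide) k_xp_52 k_xp_53) (allR_join _ _ _ _ (by decide) k_xp_54 k_xp_55))) (allR_join _ _ _ _ (by decide) (allR_join _ _ _ _ (by decide) (allR_join _ _ _ _ (by decide) k_xp_56 k_xp_57) (allR_join _ _ _ _ (by decide) k_xp_58 k_xp_59)) (allR_join _ _ _ _ (by decide) (allR_join _ _ _ _ (by decide) k_xp_60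 k_xp_61) (allR_join _ _ _ _ (by decide) k_xp_62 k_xp_63)))))) (allR_join _ _ _ _ (by decide) (allR_join _ _ _ _ (by decide) (allR_join _ _ _ _ (by decide) (allR_join _ _ _ _ (by decide) (allR_join _ _ _ _ (by decide) (allR_join _ _ _ _ (by decide) k_xp_64 k_xp_65) (allR_join _ _ _ _ (by decide) k_xp_66 k_xp_67)) (allR_join _ _ _ _ (by decide) (allR_join _ _ _ _ (by decide) k_xp_68 k_xp_69) (allR_join _ _ _ _ (by decide) k_xp_70 k_xp_71))) (allR_join _ _ _ _ (by decide) (allR_join _ _ _ _ (by decide) (allR_join _ _ _ _ (by decide) k_xp_72 k_xp_73) (allR_join _ _ _ _ (by decide) k_xp_74 k_xp_75)) (allR_join _ _ _ _ (by decide) (allR_join _ _ _ _ (by decide) k_xp_76 k_xp_77) (allR_join _ _ _ _ (by decide) k_xp_78 k_xp_79)))) (allR_join _ _ _ _ (by decide) (allR_join _ _ _ _ (by decide) (allR_join _ _ _ _ (by decide) (allR_join _ _ _ _ (by decide) k_xp_80 k_xp_81) (allR_join _ _ _ _ (by decide) k_xp_82 k_xp_83)) (allR_join _ _ _ _ (by decide) (allR_join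 _ _ _ _ (by decide) k_xp_84 k_xp_85) (allR_join _ _ _ _ (by decide) k_xp_86 k_xp_87))) (allR_join _ _ _ _ (by decide) (allR_join _ _ _ _ (by decide) (allR_join _ _ _ _ (by decide) k_xp_88 k_xp_89) (allR_join _ _ _ _ (by decide) k_xp_90 k_xp_91)) (allR_join _ _ _ _ (by decide) (allR_join _ _ _ _ (by decide) k_xp_92 k_xp_93) (allR_join _ _ _ _ (by decide) k_xp_94 k_xp_95))))) (allR_join _ _ _ _ (by decide) (allR_join _ _ _ _ (by decide) (allR_join _ _ _ _ (by decide) (allR_join _ _ _ _ (by decide) (allR_join _ _ _ _ (by decide) k_xp_96 k_xp_97) (allR_join _ _ _ _ (by decide) k_xp_98 k_xp_99)) (allR_join _ _ _ _ (by decide) (allR_join _ _ _ _ (by decide) k_xp_100 k_xp_101) (allR_join _ _ _ _ (by decide) k_xp_102 k_xp_103))) (allR_join _ _ _ _ (by decide) (allR_join _ _ _ _ (by decide) (allR_join _ _ _ _ (by decide) k_xp_104 k_xp_105) (allR_join _ _ _ _ (by decide) k_xp_106 k_xp_107)) (allR_join _ _ _ _ (by decide) (allR_join _ _ _ _ (by decide)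 k_xp_108 k_xp_109) (allR_join _ _ _ _ (by decide) k_xp_110 k_xp_111)))) (allR_join _ _ _ _ (by decide) (allR_join _ _ _ _ (by decide) (allR_join _ _ _ _ (by decide) (allR_join _ _ _ _ (by decide) k_xp_112 k_xp_113) (allR_join _ _ _ _ (by decide) k_xp_114 k_xp_115)) (allR_join _ _ _ _ (by decide) (allR_join _ _ _ _ (by decide) k_xp_116 k_xp_117) (allR_join _ _ _ _ (by decide) k_xp_118 k_xp_119))) (allR_join _ _ _ _ (by decide) (allR_join _ _ _ _ (by decide) (allR_join _ _ _ _ (by decide) k_xp_120 k_xp_121) (allR_join _ _ _ _ (by decide) k_xp_122 k_xp_123)) (allR_join _ _ _ _ (by decide) (allR_join _ _ _ _ (by decide) k_xp_124 k_xp_125) (allR_join _ _ _ _ (by decide) k_xp_126 k_xp_127))))))) (allR_join _ _ _ _ (by decide) (allR_join _ _ _ _ (by decide) (allR_join _ _ _ _ (by decide) (allR_join _ _ _ _ (by decide) (allR_join _ _ _ _ (by decide) (allR_join _ _ _ _ (by decide) (allR_join _ _ _ _ (by decide) k_xp_128 k_xp_129) (allR_join _ _ _ _ (by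 decide) k_xp_130 k_xp_131)) (allR_join _ _ _ _ (by decide) (allR_join _ _ _ _ (by decide) k_xp_132 k_xp_133) (allR_join _ _ _ _ (by decide) k_xp_134 k_xp_135))) (allR_join _ _ _ _ (by decide) (allR_join _ _ _ _ (by decide) (allR_join _ _ _ _ (by decide) k_xp_136 k_xp_137) (allR_join _ _ _ _ (by decide) k_xp_138 k_xp_139)) (allR_join _ _ _ _ (by decide) (allR_join _ _ _ _ (by decide) k_xp_140 k_xp_141) (allR_join _ _ _ _ (by decide) k_xp_142 k_xp_143)))) (allR_join _ _ _ _ (by decide) (allR_join _ _ _ _ (by decide) (allR_join _ _ _ _ (by decide) (allR_join _ _ _ _ (by decide) k_xp_144 k_xp_145) (allR_join _ _ _ _ (by decide) k_xp_146 k_xp_147)) (allR_join _ _ _ _ (by decide) (allR_join _ _ _ _ (by decide) k_xp_148 k_xp_149) (allR_join _ _ _ _ (by decide) k_xp_150 k_xp_151))) (allR_join _ _ _ _ (by decide) (allR_join _ _ _ _ (by decide) (allR_join _ _ _ _ (by decide) k_xp_152 k_xp_153) (allR_join _ _ _ _ (by decide) k_xp_154 k_xp_155)) (allR_join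 _ _ _ _ (by decide) (allR_join _ _ _ _ (by decide) k_xp_156 k_xp_157) (allR_join _ _ _ _ (by decide) k_xp_158 k_xp_159))))) (allR_join _ _ _ _ (by decide) (allR_join _ _ _ _ (by decide) (allR_join _ _ _ _ (by decide) (allR_join _ _ _ _ (by decide) (allR_join _ _ _ _ (by decide) k_xp_160 k_xp_161) (allR_join _ _ _ _ (by decide) k_xp_162 k_xp_163)) (allR_join _ _ _ _ (by decide) (allR_join _ _ _ _ (by decide) k_xp_164 k_xp_165) (allR_join _ _ _ _ (by decide) k_xp_166 k_xp_167))) (allR_join _ _ _ _ (by decide) (allR_join _ _ _ _ (by decide) (allR_join _ _ _ _ (by decide) k_xp_168 k_xp_169) (allR_join _ _ _ _ (by decide) k_xp_170 k_xp_171)) (allR_join _ _ _ _ (by decide) (allR_join _ _ _ _ (by decide) k_xp_172 k_xp_173) (allR_join _ _ _ _ (by decide) k_xp_174 k_xp_175)))) (allR_join _ _ _ _ (by decide) (allR_join _ _ _ _ (by decide) (allR_join _ _ _ _ (by decide) (allR_join _ _ _ _ (by decide) k_xp_176 k_xp_177) (allR_join _ _ _ _ (by decide) k_xp_178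 k_xp_179)) (allR_join _ _ _ _ (by decide) (allR_join _ _ _ _ (by decide) k_xp_180 k_xp_181) (allR_join _ _ _ _ (by decide) k_xp_182 k_xp_183))) (allR_join _ _ _ _ (by decide) (allR_join _ _ _ _ (by decide) (allR_join _ _ _ _ (by decide) k_xp_184 k_xp_185) (allR_join _ _ _ _ (by decide) k_xp_186 k_xp_187)) (allR_join _ _ _ _ (by decide) (allR_join _ _ _ _ (by decide) k_xp_188 k_xp_189) (allR_join _ _ _ _ (by decide) k_xp_190 k_xp_191)))))) (allR_join _ _ _ _ (by decide) (allR_join _ _ _ _ (by decide) (allR_join _ _ _ _ (by decide) (allR_join _ _ _ _ (by decide) (allR_join _ _ _ _ (by decide) (allR_join _ _ _ _ (by decide) k_xp_192 k_xp_193) (allR_join _ _ _ _ (by decide) k_xp_194 k_xp_195)) (allR_join _ _ _ _ (by decide) (allR_join _ _ _ _ (by decide) k_xp_196 k_xp_197) (allR_join _ _ _ _ (by decide) k_xp_198 k_xp_199))) (allR_join _ _ _ _ (by decide) (allR_join _ _ _ _ (by decide) (allR_join _ _ _ _ (by decide) k_xp_200 k_xp_201) (allR_join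 _ _ _ _ (by decide) k_xp_202 k_xp_203)) (allR_join _ _ _ _ (by decide) (allR_join _ _ _ _ (by decide) k_xp_204 k_xp_205) (allR_join _ _ _ _ (by decide) k_xp_206 k_xp_207)))) (allR_join _ _ _ _ (by decide) (allR_join _ _ _ _ (by decide) (allR_join _ _ _ _ (by decide) (allR_join _ _ _ _ (by decide) k_xp_208 k_xp_209) (allR_join _ _ _ _ (by decide) k_xp_210 k_xp_211)) (allR_join _ _ _ _ (by decide) (allR_join _ _ _ _ (by decide) k_xp_212 k_xp_213) (allR_join _ _ _ _ (by decide) k_xp_214 k_xp_215))) (allR_join _ _ _ _ (by decide) (allR_join _ _ _ _ (by decide) (allR_join _ _ _ _ (by decide) k_xp_216 k_xp_217) (allR_join _ _ _ _ (by decide) k_xp_218 k_xp_219)) (allR_join _ _ _ _ (by decide) (allR_join _ _ _ _ (by decide) k_xp_220 k_xp_221) (allR_join _ _ _ _ (by decide) k_xp_222 k_xp_223))))) (allR_join _ _ _ _ (by decide) (allR_join _ _ _ _ (by decide) (allR_join _ _ _ _ (by decide) (allR_join _ _ _ _ (by decide) (allR_join _ _ _ _ (by decide) k_xp_224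 k_xp_225) (allR_join _ _ _ _ (by decide) k_xp_226 k_xp_227)) (allR_join _ _ _ _ (by decide) (allR_join _ _ _ _ (by decide) k_xp_228 k_xp_229) (allR_join _ _ _ _ (by decide) k_xp_230 k_xp_231))) (allR_join _ _ _ _ (by decide) (allR_join _ _ _ _ (by decide) (allR_join _ _ _ _ (by decide) k_xp_232 k_xp_233) (allR_join _ _ _ _ (by decide) k_xp_234 k_xp_235)) (allR_join _ _ _ _ (by decide) (allR_join _ _ _ _ (by decide) k_xp_236 k_xp_237) (allR_join _ _ _ _ (by decide) k_xp_238 k_xp_239)))) (allR_join _ _ _ _ (by decide) (allR_join _ _ _ _ (by decide) (allR_join _ _ _ _ (by decide) (allR_join _ _ _ _ (by decide) k_xp_240 k_xp_241) (allR_join _ _ _ _ (by decide) k_xp_242 k_xp_243)) (allR_join _ _ _ _ (by decide) (allR_join _ _ _ _ (by decide) k_xp_244 k_xp_245) (allR_join _ _ _ _ (by decide) k_xp_246 k_xp_247))) (allR_join _ _ _ _ (by decide) (allR_join _ _ _ _ (by decide) (allR_join _ _ _ _ (by decide) k_xp_248 k_xp_249) (allR_join _ _ _ _ (by decide)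 k_xp_250 k_xp_251)) (allR_join _ _ _ _ (by decide) (allR_join _ _ _ _ (by decide) k_xp_252 k_xp_253) (allR_join _ _ _ _ (by decide) k_xp_254 k_xp_255)))))))) (allR_join _ _ _ _ (by decide) (allR_join _ _ _ _ (by decide) (allR_join _ _ _ _ (by decide) (allR_join _ _ _ _ (by decide) (allR_join _ _ _ _ (by decide) (allR_join _ _ _ _ (by decide) (allR_join _ _ _ _ (by decide) (allR_join _ _ _ _ (by decide) k_xp_256 k_xp_257) (allR_join _ _ _ _ (by decide) k_xp_258 k_xp_259)) (allR_join _ _ _ _ (by decide) (allR_join _ _ _ _ (by decide) k_xp_260 k_xp_261) (allR_join _ _ _ _ (by decide) k_xp_262 k_xp_263))) (allR_join _ _ _ _ (by decide) (allR_join _ _ _ _ (by decide) (allR_join _ _ _ _ (by decide) k_xp_264 k_xp_265) (allR_join _ _ _ _ (by decide) k_xp_266 k_xp_267)) (allR_join _ _ _ _ (by decide) (allR_join _ _ _ _ (by decide) k_xp_268 k_xp_269) (allR_join _ _ _ _ (by decide) k_xp_270 k_xp_271)))) (allR_join _ _ _ _ (by decide) (allR_join _ _ _ _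 (by decide) (allR_join _ _ _ _ (by decide) (allR_join _ _ _ _ (by decide) k_xp_272 k_xp_273) (allR_join _ _ _ _ (by decide) k_xp_274 k_xp_275)) (allR_join _ _ _ _ (by decide) (allR_join _ _ _ _ (by decide) k_xp_276 k_xp_277) (allR_join _ _ _ _ (by decide) k_xp_278 k_xp_279))) (allR_join _ _ _ _ (by decide) (allR_join _ _ _ _ (by decide) (allR_join _ _ _ _ (by decide) k_xp_280 k_xp_281) (allR_join _ _ _ _ (by decide) k_xp_282 k_xp_283)) (allR_join _ _ _ _ (by decide) (allR_join _ _ _ _ (by decide) k_xp_284 k_xp_285) (allR_join _ _ _ _ (by decide) k_xp_286 k_xp_287))))) (allR_join _ _ _ _ (by decide) (allR_join _ _ _ _ (by decide) (allR_join _ _ _ _ (by decide) (allR_join _ _ _ _ (by decide) (allR_join _ _ _ _ (by decide) k_xp_288 k_xp_289) (allR_join _ _ _ _ (by decide) k_xp_290 k_xp_291)) (allR_join _ _ _ _ (by decide) (allR_join _ _ _ _ (by decide) k_xp_292 k_xp_293) (allR_join _ _ _ _ (by decide) k_xp_294 k_xp_295))) (allR_join _ _ _ _ (by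 decide) (allR_join _ _ _ _ (by decide) (allR_join _ _ _ _ (by decide) k_xp_296 k_xp_297) (allR_join _ _ _ _ (by decide) k_xp_298 k_xp_299)) (allR_join _ _ _ _ (by decide) (allR_join _ _ _ _ (by decide) k_xp_300 k_xp_301) (allR_join _ _ _ _ (by decide) k_xp_302 k_xp_303)))) (allR_join _ _ _ _ (by decide) (allR_join _ _ _ _ (by decide) (allR_join _ _ _ _ (by decide) (allR_join _ _ _ _ (by decide) k_xp_304 k_xp_305) (allR_join _ _ _ _ (by decide) k_xp_306 k_xp_307)) (allR_join _ _ _ _ (by decide) (allR_join _ _ _ _ (by decide) k_xp_308 k_xp_309) (allR_join _ _ _ _ (by decide) k_xp_310 k_xp_311))) (allR_join _ _ _ _ (by decide) (allR_join _ _ _ _ (by decide) (allR_join _ _ _ _ (by decide) k_xp_312 k_xp_313) (allR_join _ _ _ _ (by decide) k_xp_314 k_xp_315)) (allR_join _ _ _ _ (by decide) (allR_join _ _ _ _ (by decide) k_xp_316 k_xp_317) (allR_join _ _ _ _ (by decide) k_xp_318 k_xp_319)))))) (allR_join _ _ _ _ (by decide) (allR_join _ _ _ _ (by decide)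 (allR_join _ _ _ _ (by decide) (allR_join _ _ _ _ (by decide) (allR_join _ _ _ _ (by decide) (allR_join _ _ _ _ (by decide) k_xp_320 k_xp_321) (allR_join _ _ _ _ (by decide) k_xp_322 k_xp_323)) (allR_join _ _ _ _ (by decide) (allR_join _ _ _ _ (by decide) k_xp_324 k_xp_325) (allR_join _ _ _ _ (by decide) k_xp_326 k_xp_327))) (allR_join _ _ _ _ (by decide) (allR_join _ _ _ _ (by decide) (allR_join _ _ _ _ (by decide) k_xp_328 k_xp_329) (allR_join _ _ _ _ (by decide) k_xp_330 k_xp_331)) (allR_join _ _ _ _ (by decide) (allR_join _ _ _ _ (by decide) k_xp_332 k_xp_333) (allR_join _ _ _ _ (by decide) k_xp_334 k_xp_335)))) (allR_join _ _ _ _ (by decide) (allR_join _ _ _ _ (by decide) (allR_join _ _ _ _ (by decide) (allR_join _ _ _ _ (by decide) k_xp_336 k_xp_337) (allR_join _ _ _ _ (by decide) k_xp_338 k_xp_339)) (allR_join _ _ _ _ (by decide) (allR_join _ _ _ _ (by decide) k_xp_340 k_xp_341) (allR_join _ _ _ _ (by decide) k_xp_342 k_xp_343))) (allR_join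 _ _ _ _ (by decide) (allR_join _ _ _ _ (by decide) (allR_join _ _ _ _ (by decide) k_xp_344 k_xp_345) (allR_join _ _ _ _ (by decide) k_xp_346 k_xp_347)) (allR_join _ _ _ _ (by decide) (allR_join _ _ _ _ (by decide) k_xp_348 k_xp_349) (allR_join _ _ _ _ (by decide) k_xp_350 k_xp_351))))) (allR_join _ _ _ _ (by decide) (allR_join _ _ _ _ (by decide) (allR_join _ _ _ _ (by decide) (allR_join _ _ _ _ (by decide) (allR_join _ _ _ _ (by decide) k_xp_352 k_xp_353) (allR_join _ _ _ _ (by decide) k_xp_354 k_xp_355)) (allR_join _ _ _ _ (by decide) (allR_join _ _ _ _ (by decide) k_xp_356 k_xp_357) (allR_join _ _ _ _ (by decide) k_xp_358 k_xp_359))) (allR_join _ _ _ _ (by decide) (allR_join _ _ _ _ (by decide) (allR_join _ _ _ _ (by decide) k_xp_360 k_xp_361) (allR_join _ _ _ _ (by decide) k_xp_362 k_xp_363)) (allR_join _ _ _ _ (by decide) (allR_join _ _ _ _ (by decide) k_xp_364 k_xp_365) (allR_join _ _ _ _ (by decide) k_xp_366 k_xp_367)))) (allR_join _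 _ _ _ (by decide) (allR_join _ _ _ _ (by decide) (allR_join _ _ _ _ (by decide) (allR_join _ _ _ _ (by decide) k_xp_368 k_xp_369) (allR_join _ _ _ _ (by decide) k_xp_370 k_xp_371)) (allR_join _ _ _ _ (by decide) (allR_join _ _ _ _ (by decide) k_xp_372 k_xp_373) (allR_join _ _ _ _ (by decide) k_xp_374 k_xp_375))) (allR_join _ _ _ _ (by decide) (allR_join _ _ _ _ (by decide) (allR_join _ _ _ _ (by decide) k_xp_376 k_xp_377) (allR_join _ _ _ _ (by decide) k_xp_378 k_xp_379)) (allR_join _ _ _ _ (by decide) (allR_join _ _ _ _ (by decide) k_xp_380 k_xp_381) (allR_join _ _ _ _ (by decide) k_xp_382 k_xp_383))))))) (allR_join _ _ _ _ (by decide) (allR_join _ _ _ _ (by decide) (allR_join _ _ _ _ (by decide) (allR_join _ _ _ _ (by decide) (allR_join _ _ _ _ (by decide) (allR_join _ _ _ _ (by decide) (allR_join _ _ _ _ (by decide) k_xp_384 k_xp_385) (allR_join _ _ _ _ (by decide) k_xp_386 k_xp_387)) (allR_join _ _ _ _ (by decide) (allR_join _ _ _ _ (by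 decide) k_xp_388 k_xp_389) (allR_join _ _ _ _ (by decide) k_xp_390 k_xp_391))) (allR_join _ _ _ _ (by decide) (allR_join _ _ _ _ (by decide) (allR_join _ _ _ _ (by decide) k_xp_392 k_xp_393) (allR_join _ _ _ _ (by decide) k_xp_394 k_xp_395)) (allR_join _ _ _ _ (by decide) (allR_join _ _ _ _ (by decide) k_xp_396 k_xp_397) (allR_join _ _ _ _ (by decide) k_xp_398 k_xp_399)))) (allR_join _ _ _ _ (by decide) (allR_join _ _ _ _ (by decide) (allR_join _ _ _ _ (by decide) (allR_join _ _ _ _ (by decide) k_xp_400 k_xp_401) (allR_join _ _ _ _ (by decide) k_xp_402 k_xp_403)) (allR_join _ _ _ _ (by decide) (allR_join _ _ _ _ (by decide) k_xp_404 k_xp_405) (allR_join _ _ _ _ (by decide) k_xp_406 k_xp_407))) (allR_join _ _ _ _ (by decide) (allR_join _ _ _ _ (by decide) (allR_join _ _ _ _ (by decide) k_xp_408 k_xp_409) (allR_join _ _ _ _ (by decide) k_xp_410 k_xp_411)) (allR_join _ _ _ _ (by decide) (allR_join _ _ _ _ (by decide) k_xp_412 k_xp_413) (allR_join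 _ _ _ _ (by decide) k_xp_414 k_xp_415))))) (allR_join _ _ _ _ (by decide) (allR_join _ _ _ _ (by decide) (allR_join _ _ _ _ (by decide) (allR_join _ _ _ _ (by decide) (allR_join _ _ _ _ (by decide) k_xp_416 k_xp_417) (allR_join _ _ _ _ (by decide) k_xp_418 k_xp_419)) (allR_join _ _ _ _ (by decide) (allR_join _ _ _ _ (by decide) k_xp_420 k_xp_421) (allR_join _ _ _ _ (by decide) k_xp_422 k_xp_423))) (allR_join _ _ _ _ (by decide) (allR_join _ _ _ _ (by decide) (allR_join _ _ _ _ (by decide) k_xp_424 k_xp_425) (allR_join _ _ _ _ (by decide) k_xp_426 k_xp_427)) (allR_join _ _ _ _ (by decide) (allR_join _ _ _ _ (by decide) k_xp_428 k_xp_429) (allR_join _ _ _ _ (by decide) k_xp_430 k_xp_431)))) (allR_join _ _ _ _ (by decide) (allR_join _ _ _ _ (by decide) (allR_join _ _ _ _ (by decide) (allR_join _ _ _ _ (by decide) k_xp_432 k_xp_433) (allR_join _ _ _ _ (by decide) k_xp_434 k_xp_435)) (allR_join _ _ _ _ (by decide) (allR_join _ _ _ _ (by decide) k_xp_436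 k_xp_437) (allR_join _ _ _ _ (by decide) k_xp_438 k_xp_439))) (allR_join _ _ _ _ (by decide) (allR_join _ _ _ _ (by decide) (allR_join _ _ _ _ (by decide) k_xp_440 k_xp_441) (allR_join _ _ _ _ (by decide) k_xp_442 k_xp_443)) (allR_join _ _ _ _ (by decide) (allR_join _ _ _ _ (by decide) k_xp_444 k_xp_445) (allR_join _ _ _ _ (by decide) k_xp_446 k_xp_447)))))) (allR_join _ _ _ _ (by decide) (allR_join _ _ _ _ (by decide) (allR_join _ _ _ _ (by decide) (allR_join _ _ _ _ (by decide) (allR_join _ _ _ _ (by decide) (allR_join _ _ _ _ (by decide) k_xp_448 k_xp_449) (allR_join _ _ _ _ (by decide) k_xp_450 k_xp_451)) (allR_join _ _ _ _ (by decide) (allR_join _ _ _ _ (by decide) k_xp_452 k_xp_453) (allR_join _ _ _ _ (by decide) k_xp_454 k_xp_455))) (allR_join _ _ _ _ (by decide) (allR_join _ _ _ _ (by decide) (allR_join _ _ _ _ (by decide) k_xp_456 k_xp_457) (allR_join _ _ _ _ (by decide) k_xp_458 k_xp_459)) (allR_join _ _ _ _ (by decide) (allR_join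 _ _ _ _ (by decide) k_xp_460 k_xp_461) (allR_join _ _ _ _ (by decide) k_xp_462 k_xp_463)))) (allR_join _ _ _ _ (by decide) (allR_join _ _ _ _ (by decide) (allR_join _ _ _ _ (by decide) (allR_join _ _ _ _ (by decide) k_xp_464 k_xp_465) (allR_join _ _ _ _ (by decide) k_xp_466 k_xp_467)) (allR_join _ _ _ _ (by decide) (allR_join _ _ _ _ (by decide) k_xp_468 k_xp_469) (allR_join _ _ _ _ (by decide) k_xp_470 k_xp_471))) (allR_join _ _ _ _ (by decide) (allR_join _ _ _ _ (by decide) (allR_join _ _ _ _ (by decide) k_xp_472 k_xp_473) (allR_join _ _ _ _ (by decide) k_xp_474 k_xp_475)) (allR_join _ _ _ _ (by decide) (allR_join _ _ _ _ (by decide) k_xp_476 k_xp_477) (allR_join _ _ _ _ (by decide) k_xp_478 k_xp_479))))) (allR_join _ _ _ _ (by decide) (allR_join _ _ _ _ (by decide) (allR_join _ _ _ _ (by decide) (allR_join _ _ _ _ (by decide) (allR_join _ _ _ _ (by decide) k_xp_480 k_xp_481) (allR_join _ _ _ _ (by decide) k_xp_482 k_xp_483)) (allR_join _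 _ _ _ (by decide) (allR_join _ _ _ _ (by decide) k_xp_484 k_xp_485) (allR_join _ _ _ _ (by decide) k_xp_486 k_xp_487))) (allR_join _ _ _ _ (by decide) (allR_join _ _ _ _ (by decide) (allR_join _ _ _ _ (by decide) k_xp_488 k_xp_489) (allR_join _ _ _ _ (by decide) k_xp_490 k_xp_491)) (allR_join _ _ _ _ (by decide) (allR_join _ _ _ _ (by decide) k_xp_492 k_xp_493) (allR_join _ _ _ _ (by decide) k_xp_494 k_xp_495)))) (allR_join _ _ _ _ (by decide) (allR_join _ _ _ _ (by decide) (allR_join _ _ _ _ (by decide) (allR_join _ _ _ _ (by decide) k_xp_496 k_xp_497) (allR_join _ _ _ _ (by decide) k_xp_498 k_xp_499)) (allR_join _ _ _ _ (by decide) (allR_join _ _ _ _ (by decide) k_xp_500 k_xp_501) (allR_join _ _ _ _ (by decide) k_xp_502 k_xp_503))) (allR_join _ _ _ _ (by decide) (allR_join _ _ _ _ (by decide) (allR_join _ _ _ _ (by decide) k_xp_504 k_xp_505) (allR_join _ _ _ _ (by decide) k_xp_506 k_xp_507)) (allR_join _ _ _ _ (by decide) (allR_join _ _ _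 _ (by decide) k_xp_508 k_xp_509) (allR_join _ _ _ _ (by decide) k_xp_510 k_xp_511))))))))) (allR_join _ _ _ _ (by decide) (allR_join _ _ _ _ (by decide) (allR_join _ _ _ _ (by decide) (allR_join _ _ _ _ (by decide) (allR_join _ _ _ _ (by decide) (allR_join _ _ _ _ (by decide) (allR_join _ _ _ _ (by decide) (allR_join _ _ _ _ (by decide) (allR_join _ _ _ _ (by decide) k_xp_512 k_xp_513) (allR_join _ _ _ _ (by decide) k_xp_514 k_xp_515)) (allR_join _ _ _ _ (by decide) (allR_join _ _ _ _ (by decide) k_xp_516 k_xp_517) (allR_join _ _ _ _ (by decide) k_xp_518 k_xp_519))) (allR_join _ _ _ _ (by decide) (allR_join _ _ _ _ (by decide) (allR_join _ _ _ _ (by decide) k_xp_520 k_xp_521) (allR_join _ _ _ _ (by decide) k_xp_522 k_xp_523)) (allR_join _ _ _ _ (by decide) (allR_join _ _ _ _ (by decide) k_xp_524 k_xp_525) (allR_join _ _ _ _ (by decide) k_xp_526 k_xp_527)))) (allR_join _ _ _ _ (by decide) (allR_join _ _ _ _ (by decide) (allR_join _ _ _ _ (by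 decide) (allR_join _ _ _ _ (by decide) k_xp_528 k_xp_529) (allR_join _ _ _ _ (by decide) k_xp_530 k_xp_531)) (allR_join _ _ _ _ (by decide) (allR_join _ _ _ _ (by decide) k_xp_532 k_xp_533) (allR_join _ _ _ _ (by decide) k_xp_534 k_xp_535))) (allR_join _ _ _ _ (by decide) (allR_join _ _ _ _ (by decide) (allR_join _ _ _ _ (by decide) k_xp_536 k_xp_537) (allR_join _ _ _ _ (by decide) k_xp_538 k_xp_539)) (allR_join _ _ _ _ (by decide) (allR_join _ _ _ _ (by decide) k_xp_540 k_xp_541) (allR_join _ _ _ _ (by decide) k_xp_542 k_xp_543))))) (allR_join _ _ _ _ (by decide) (allR_join _ _ _ _ (by decide) (allR_join _ _ _ _ (by decide) (allR_join _ _ _ _ (by decide) (allR_join _ _ _ _ (by decide) k_xp_544 k_xp_545) (allR_join _ _ _ _ (by decide) k_xp_546 k_xp_547)) (allR_join _ _ _ _ (by decide) (allR_join _ _ _ _ (by decide) k_xp_548 k_xp_549) (allR_join _ _ _ _ (by decide) k_xp_550 k_xp_551))) (allR_join _ _ _ _ (by decide) (allR_join _ _ _ _ (by decide)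 (allR_join _ _ _ _ (by decide) k_xp_552 k_xp_553) (allR_join _ _ _ _ (by decide) k_xp_554 k_xp_555)) (allR_join _ _ _ _ (by decide) (allR_join _ _ _ _ (by decide) k_xp_556 k_xp_557) (allR_join _ _ _ _ (by decide) k_xp_558 k_xp_559)))) (allR_join _ _ _ _ (by decide) (allR_join _ _ _ _ (by decide) (allR_join _ _ _ _ (by decide) (allR_join _ _ _ _ (by decide) k_xp_560 k_xp_561) (allR_join _ _ _ _ (by decide) k_xp_562 k_xp_563)) (allR_join _ _ _ _ (by decide) (allR_join _ _ _ _ (by decide) k_xp_564 k_xp_565) (allR_join _ _ _ _ (by decide) k_xp_566 k_xp_567))) (allR_join _ _ _ _ (by decide) (allR_join _ _ _ _ (by decide) (allR_join _ _ _ _ (by decide) k_xp_568 k_xp_569) (allR_join _ _ _ _ (by decide) k_xp_570 k_xp_571)) (allR_join _ _ _ _ (by decide) (allR_join _ _ _ _ (by decide) k_xp_572 k_xp_573) (allR_join _ _ _ _ (by decide) k_xp_574 k_xp_575)))))) (allR_join _ _ _ _ (by decide) (allR_join _ _ _ _ (by decide) (allR_join _ _ _ _ (by decide) (allR_join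 _ _ _ _ (by decide) (allR_join _ _ _ _ (by decide) (allR_join _ _ _ _ (by decide) k_xp_576 k_xp_577) (allR_join _ _ _ _ (by decide) k_xp_578 k_xp_579)) (allR_join _ _ _ _ (by decide) (allR_join _ _ _ _ (by decide) k_xp_580 k_xp_581) (allR_join _ _ _ _ (by decide) k_xp_582 k_xp_583))) (allR_join _ _ _ _ (by decide) (allR_join _ _ _ _ (by decide) (allR_join _ _ _ _ (by decide) k_xp_584 k_xp_585) (allR_join _ _ _ _ (by decide) k_xp_586 k_xp_587)) (allR_join _ _ _ _ (by decide) (allR_join _ _ _ _ (by decide) k_xp_588 k_xp_589) (allR_join _ _ _ _ (by decide) k_xp_590 k_xp_591)))) (allR_join _ _ _ _ (by decide) (allR_join _ _ _ _ (by decide) (allR_join _ _ _ _ (by decide) (allR_join _ _ _ _ (by decide) k_xp_592 k_xp_593) (allR_join _ _ _ _ (by decide) k_xp_594 k_xp_595)) (allR_join _ _ _ _ (by decide) (allR_join _ _ _ _ (by decide) k_xp_596 k_xp_597) (allR_join _ _ _ _ (by decide) k_xp_598 k_xp_599))) (allR_join _ _ _ _ (by decide) (allR_join _ _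 _ _ (by decide) (allR_join _ _ _ _ (by decide) k_xp_600 k_xp_601) (allR_join _ _ _ _ (by decide) k_xp_602 k_xp_603)) (allR_join _ _ _ _ (by decide) (allR_join _ _ _ _ (by decide) k_xp_604 k_xp_605) (allR_join _ _ _ _ (by decide) k_xp_606 k_xp_607))))) (allR_join _ _ _ _ (by decide) (allR_join _ _ _ _ (by decide) (allR_join _ _ _ _ (by decide) (allR_join _ _ _ _ (by decide) (allR_join _ _ _ _ (by decide) k_xp_608 k_xp_609) (allR_join _ _ _ _ (by decide) k_xp_610 k_xp_611)) (allR_join _ _ _ _ (by decide) (allR_join _ _ _ _ (by decide) k_xp_612 k_xp_613) (allR_join _ _ _ _ (by decide) k_xp_614 k_xp_615))) (allR_join _ _ _ _ (by decide) (allR_join _ _ _ _ (by decide) (allR_join _ _ _ _ (by decide) k_xp_616 k_xp_617) (allR_join _ _ _ _ (by decide) k_xp_618 k_xp_619)) (allR_join _ _ _ _ (by decide) (allR_join _ _ _ _ (by decide) k_xp_620 k_xp_621) (allR_join _ _ _ _ (by decide) k_xp_622 k_xp_623)))) (allR_join _ _ _ _ (by decide) (allR_join _ _ _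 _ (by decide) (allR_join _ _ _ _ (by decide) (allR_join _ _ _ _ (by decide) k_xp_624 k_xp_625) (allR_join _ _ _ _ (by decide) k_xp_626 k_xp_627)) (allR_join _ _ _ _ (by decide) (allR_join _ _ _ _ (by decide) k_xp_628 k_xp_629) (allR_join _ _ _ _ (by decide) k_xp_630 k_xp_631))) (allR_join _ _ _ _ (by decide) (allR_join _ _ _ _ (by decide) (allR_join _ _ _ _ (by decide) k_xp_632 k_xp_633) (allR_join _ _ _ _ (by decide) k_xp_634 k_xp_635)) (allR_join _ _ _ _ (by decide) (allR_join _ _ _ _ (by decide) k_xp_636 k_xp_637) (allR_join _ _ _ _ (by decide) k_xp_638 k_xp_639))))))) (allR_join _ _ _ _ (by decide) (allR_join _ _ _ _ (by decide) (allR_join _ _ _ _ (by decide) (allR_join _ _ _ _ (by decide) (allR_join _ _ _ _ (by decide) (allR_join _ _ _ _ (by decide) (allR_join _ _ _ _ (by decide) k_xp_640 k_xp_641) (allR_join _ _ _ _ (by decide) k_xp_642 k_xp_643)) (allR_join _ _ _ _ (by decide) (allR_join _ _ _ _ (by decide) k_xp_644 k_xp_645) (allR_join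 _ _ _ _ (by decide) k_xp_646 k_xp_647))) (allR_join _ _ _ _ (by decide) (allR_join _ _ _ _ (by decide) (allR_join _ _ _ _ (by decide) k_xp_648 k_xp_649) (allR_join _ _ _ _ (by decide) k_xp_650 k_xp_651)) (allR_join _ _ _ _ (by decide) (allR_join _ _ _ _ (by decide) k_xp_652 k_xp_653) (allR_join _ _ _ _ (by decide) k_xp_654 k_xp_655)))) (allR_join _ _ _ _ (by decide) (allR_join _ _ _ _ (by decide) (allR_join _ _ _ _ (by decide) (allR_join _ _ _ _ (by decide) k_xp_656 k_xp_657) (allR_join _ _ _ _ (by decide) k_xp_658 k_xp_659)) (allR_join _ _ _ _ (by decide) (allR_join _ _ _ _ (by decide) k_xp_660 k_xp_661) (allR_join _ _ _ _ (by decide) k_xp_662 k_xp_663))) (allR_join _ _ _ _ (by decide) (allR_join _ _ _ _ (by decide) (allR_join _ _ _ _ (by decide) k_xp_664 k_xp_665) (allR_join _ _ _ _ (by decide) k_xp_666 k_xp_667)) (allR_join _ _ _ _ (by decide) (allR_join _ _ _ _ (by decide) k_xp_668 k_xp_669) (allR_join _ _ _ _ (by decide) k_xp_670 k_xp_671)))))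 (allR_join _ _ _ _ (by decide) (allR_join _ _ _ _ (by decide) (allR_join _ _ _ _ (by decide) (allR_join _ _ _ _ (by decide) (allR_join _ _ _ _ (by decide) k_xp_672 k_xp_673) (allR_join _ _ _ _ (by decide) k_xp_674 k_xp_675)) (allR_join _ _ _ _ (by decide) (allR_join _ _ _ _ (by decide) k_xp_676 k_xp_677) (allR_join _ _ _ _ (by decide) k_xp_678 k_xp_679))) (allR_join _ _ _ _ (by decide) (allR_join _ _ _ _ (by decide) (allR_join _ _ _ _ (by decide) k_xp_680 k_xp_681) (allR_join _ _ _ _ (by decide) k_xp_682 k_xp_683)) (allR_join _ _ _ _ (by decide) (allR_join _ _ _ _ (by decide) k_xp_684 k_xp_685) (allR_join _ _ _ _ (by decide) k_xp_686 k_xp_687)))) (allR_join _ _ _ _ (by decide) (allR_join _ _ _ _ (by decide) (allR_join _ _ _ _ (by decide) (allR_join _ _ _ _ (by decide) k_xp_688 k_xp_689) (allR_join _ _ _ _ (by decide) k_xp_690 k_xp_691)) (allR_join _ _ _ _ (by decide) (allR_join _ _ _ _ (by decide) k_xp_692 k_xp_693) (allR_join _ _ _ _ (by decide)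 k_xp_694 k_xp_695))) (allR_join _ _ _ _ (by decide) (allR_join _ _ _ _ (by decide) (allR_join _ _ _ _ (by decide) k_xp_696 k_xp_697) (allR_join _ _ _ _ (by decide) k_xp_698 k_xp_699)) (allR_join _ _ _ _ (by decide) (allR_join _ _ _ _ (by decide) k_xp_700 k_xp_701) (allR_join _ _ _ _ (by decide) k_xp_702 k_xp_703)))))) (allR_join _ _ _ _ (by decide) (allR_join _ _ _ _ (by decide) (allR_join _ _ _ _ (by decide) (allR_join _ _ _ _ (by decide) (allR_join _ _ _ _ (by decide) (allR_join _ _ _ _ (by decide) k_xp_704 k_xp_705) (allR_join _ _ _ _ (by decide) k_xp_706 k_xp_707)) (allR_join _ _ _ _ (by decide) (allR_join _ _ _ _ (by decide) k_xp_708 k_xp_709) (allR_join _ _ _ _ (by decide) k_xp_710 k_xp_711))) (allR_join _ _ _ _ (by decide) (allR_join _ _ _ _ (by decide) (allR_join _ _ _ _ (by decide) k_xp_712 k_xp_713) (allR_join _ _ _ _ (by decide) k_xp_714 k_xp_715)) (allR_join _ _ _ _ (by decide) (allR_join _ _ _ _ (by decide) k_xp_716 k_xp_717) (allR_join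 _ _ _ _ (by decide) k_xp_718 k_xp_719)))) (allR_join _ _ _ _ (by decide) (allR_join _ _ _ _ (by decide) (allR_join _ _ _ _ (by decide) (allR_join _ _ _ _ (by decide) k_xp_720 k_xp_721) (allR_join _ _ _ _ (by decide) k_xp_722 k_xp_723)) (allR_join _ _ _ _ (by decide) (allR_join _ _ _ _ (by decide) k_xp_724 k_xp_725) (allR_join _ _ _ _ (by decide) k_xp_726 k_xp_727))) (allR_join _ _ _ _ (by decide) (allR_join _ _ _ _ (by decide) (allR_join _ _ _ _ (by decide) k_xp_728 k_xp_729) (allR_join _ _ _ _ (by decide) k_xp_730 k_xp_731)) (allR_join _ _ _ _ (by decide) (allR_join _ _ _ _ (by decide) k_xp_732 k_xp_733) (allR_join _ _ _ _ (by decide) k_xp_734 k_xp_735))))) (allR_join _ _ _ _ (by decide) (allR_join _ _ _ _ (by decide) (allR_join _ _ _ _ (by decide) (allR_join _ _ _ _ (by decide) (allR_join _ _ _ _ (by decide) k_xp_736 k_xp_737) (allR_join _ _ _ _ (by decide) k_xp_738 k_xp_739)) (allR_join _ _ _ _ (by decide) (allR_join _ _ _ _ (by decide) k_xp_740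 k_xp_741) (allR_join _ _ _ _ (by decide) k_xp_742 k_xp_743))) (allR_join _ _ _ _ (by decide) (allR_join _ _ _ _ (by decide) (allR_join _ _ _ _ (by decide) k_xp_744 k_xp_745) (allR_join _ _ _ _ (by decide) k_xp_746 k_xp_747)) (allR_join _ _ _ _ (by decide) (allR_join _ _ _ _ (by decide) k_xp_748 k_xp_749) (allR_join _ _ _ _ (by decide) k_xp_750 k_xp_751)))) (allR_join _ _ _ _ (by decide) (allR_join _ _ _ _ (by decide) (allR_join _ _ _ _ (by decide) (allR_join _ _ _ _ (by decide) k_xp_752 k_xp_753) (allR_join _ _ _ _ (by decide) k_xp_754 k_xp_755)) (allR_join _ _ _ _ (by decide) (allR_join _ _ _ _ (by decide) k_xp_756 k_xp_757) (allR_join _ _ _ _ (by decide) k_xp_758 k_xp_759))) (allR_join _ _ _ _ (by decide) (allR_join _ _ _ _ (by decide) (allR_join _ _ _ _ (by decide) k_xp_760 k_xp_761) (allR_join _ _ _ _ (by decide) k_xp_762 k_xp_763)) (allR_join _ _ _ _ (by decide) (allR_join _ _ _ _ (by decide) k_xp_764 k_xp_765) (allR_join _ _ _ _ (by decide)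 k_xp_766 k_xp_767)))))))) (allR_join _ _ _ _ (by decide) (allR_join _ _ _ _ (by decide) (allR_join _ _ _ _ (by decide) (allR_join _ _ _ _ (by decide) (allR_join _ _ _ _ (by decide) (allR_join _ _ _ _ (by decide) (allR_join _ _ _ _ (by decide) (allR_join _ _ _ _ (by decide) k_xp_768 k_xp_769) (allR_join _ _ _ _ (by decide) k_xp_770 k_xp_771)) (allR_join _ _ _ _ (by decide) (allR_join _ _ _ _ (by decide) k_xp_772 k_xp_773) (allR_join _ _ _ _ (by decide) k_xp_774 k_xp_775))) (allR_join _ _ _ _ (by decide) (allR_join _ _ _ _ (by decide) (allR_join _ _ _ _ (by decide) k_xp_776 k_xp_777) (allR_join _ _ _ _ (by decide) k_xp_778 k_xp_779)) (allR_join _ _ _ _ (by decide) (allR_join _ _ _ _ (by decide) k_xp_780 k_xp_781) (allR_join _ _ _ _ (by decide) k_xp_782 k_xp_783)))) (allR_join _ _ _ _ (by decide) (allR_join _ _ _ _ (by decide) (allR_join _ _ _ _ (by decide) (allR_join _ _ _ _ (by decide) k_xp_784 k_xp_785) (allR_join _ _ _ _ (by decide) k_xp_786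 k_xp_787)) (allR_join _ _ _ _ (by decide) (allR_join _ _ _ _ (by decide) k_xp_788 k_xp_789) (allR_join _ _ _ _ (by decide) k_xp_790 k_xp_791))) (allR_join _ _ _ _ (by decide) (allR_join _ _ _ _ (by decide) (allR_join _ _ _ _ (by decide) k_xp_792 k_xp_793) (allR_join _ _ _ _ (by decide) k_xp_794 k_xp_795)) (allR_join _ _ _ _ (by decide) (allR_join _ _ _ _ (by decide) k_xp_796 k_xp_797) (allR_join _ _ _ _ (by decide) k_xp_798 k_xp_799))))) (allR_join _ _ _ _ (by decide) (allR_join _ _ _ _ (by decide) (allR_join _ _ _ _ (by decide) (allR_join _ _ _ _ (by decide) (allR_join _ _ _ _ (by decide) k_xp_800 k_xp_801) (allR_join _ _ _ _ (by decide) k_xp_802 k_xp_803)) (allR_join _ _ _ _ (by decide) (allR_join _ _ _ _ (by decide) k_xp_804 k_xp_805) (allR_join _ _ _ _ (by decide) k_xp_806 k_xp_807))) (allR_join _ _ _ _ (by decide) (allR_join _ _ _ _ (by decide) (allR_join _ _ _ _ (by decide) k_xp_808 k_xp_809) (allR_join _ _ _ _ (by decide) k_xp_810 k_xp_811))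 (allR_join _ _ _ _ (by decide) (allR_join _ _ _ _ (by decide) k_xp_812 k_xp_813) (allR_join _ _ _ _ (by decide) k_xp_814 k_xp_815)))) (allR_join _ _ _ _ (by decide) (allR_join _ _ _ _ (by decide) (allR_join _ _ _ _ (by decide) (allR_join _ _ _ _ (by decide) k_xp_816 k_xp_817) (allR_join _ _ _ _ (by decide) k_xp_818 k_xp_819)) (allR_join _ _ _ _ (by decide) (allR_join _ _ _ _ (by decide) k_xp_820 k_xp_821) (allR_join _ _ _ _ (by decide) k_xp_822 k_xp_823))) (allR_join _ _ _ _ (by decide) (allR_join _ _ _ _ (by decide) (allR_join _ _ _ _ (by decide) k_xp_824 k_xp_825) (allR_join _ _ _ _ (by decide) k_xp_826 k_xp_827)) (allR_join _ _ _ _ (by decide) (allR_join _ _ _ _ (by decide) k_xp_828 k_xp_829) (allR_join _ _ _ _ (by decide) k_xp_830 k_xp_831)))))) (allR_join _ _ _ _ (by decide) (allR_join _ _ _ _ (by decide) (allR_join _ _ _ _ (by decide) (allR_join _ _ _ _ (by decide) (allR_join _ _ _ _ (by decide) (allR_join _ _ _ _ (by decide) k_xp_832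 k_xp_833) (allR_join _ _ _ _ (by decide) k_xp_834 k_xp_835)) (allR_join _ _ _ _ (by decide) (allR_join _ _ _ _ (by decide) k_xp_836 k_xp_837) (allR_join _ _ _ _ (by decide) k_xp_838 k_xp_839))) (allR_join _ _ _ _ (by decide) (allR_join _ _ _ _ (by decide) (allR_join _ _ _ _ (by decide) k_xp_840 k_xp_841) (allR_join _ _ _ _ (by decide) k_xp_842 k_xp_843)) (allR_join _ _ _ _ (by decide) (allR_join _ _ _ _ (by decide) k_xp_844 k_xp_845) (allR_join _ _ _ _ (by decide) k_xp_846 k_xp_847)))) (allR_join _ _ _ _ (by decide) (allR_join _ _ _ _ (by decide) (allR_join _ _ _ _ (by decide) (allR_join _ _ _ _ (by decide) k_xp_848 k_xp_849) (allR_join _ _ _ _ (by decide) k_xp_850 k_xp_851)) (allR_join _ _ _ _ (by decide) (allR_join _ _ _ _ (by decide) k_xp_852 k_xp_853) (allR_join _ _ _ _ (by decide) k_xp_854 k_xp_855))) (allR_join _ _ _ _ (by decide) (allR_join _ _ _ _ (by decide) (allR_join _ _ _ _ (by decide) k_xp_856 k_xp_857) (allR_join _ _ _ _ (by decide)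 k_xp_858 k_xp_859)) (allR_join _ _ _ _ (by decide) (allR_join _ _ _ _ (by decide) k_xp_860 k_xp_861) (allR_join _ _ _ _ (by decide) k_xp_862 k_xp_863))))) (allR_join _ _ _ _ (by decide) (allR_join _ _ _ _ (by decide) (allR_join _ _ _ _ (by decide) (allR_join _ _ _ _ (by decide) (allR_join _ _ _ _ (by decide) k_xp_864 k_xp_865) (allR_join _ _ _ _ (by decide) k_xp_866 k_xp_867)) (allR_join _ _ _ _ (by decide) (allR_join _ _ _ _ (by decide) k_xp_868 k_xp_869) (allR_join _ _ _ _ (by decide) k_xp_870 k_xp_871))) (allR_join _ _ _ _ (by decide) (allR_join _ _ _ _ (by decide) (allR_join _ _ _ _ (by decide) k_xp_872 k_xp_873) (allR_join _ _ _ _ (by decide) k_xp_874 k_xp_875)) (allR_join _ _ _ _ (by decide) (allR_join _ _ _ _ (by decide) k_xp_876 k_xp_877) (allR_join _ _ _ _ (by decide) k_xp_878 k_xp_879)))) (allR_join _ _ _ _ (by decide) (allR_join _ _ _ _ (by decide) (allR_join _ _ _ _ (by decide) (allR_join _ _ _ _ (by decide) k_xp_880 k_xp_881) (allR_join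 _ _ _ _ (by decide) k_xp_882 k_xp_883)) (allR_join _ _ _ _ (by decide) (allR_join _ _ _ _ (by decide) k_xp_884 k_xp_885) (allR_join _ _ _ _ (by decide) k_xp_886 k_xp_887))) (allR_join _ _ _ _ (by decide) (allR_join _ _ _ _ (by decide) (allR_join _ _ _ _ (by decide) k_xp_888 k_xp_889) (allR_join _ _ _ _ (by decide) k_xp_890 k_xp_891)) (allR_join _ _ _ _ (by decide) (allR_join _ _ _ _ (by decide) k_xp_892 k_xp_893) (allR_join _ _ _ _ (by decide) k_xp_894 k_xp_895))))))) (allR_join _ _ _ _ (by decide) (allR_join _ _ _ _ (by decide) (allR_join _ _ _ _ (by decide) (allR_join _ _ _ _ (by decide) (allR_join _ _ _ _ (by decide) (allR_join _ _ _ _ (by decide) (allR_join _ _ _ _ (by decide) k_xp_896 k_xp_897) (allR_join _ _ _ _ (by decide) k_xp_898 k_xp_899)) (allR_join _ _ _ _ (by decide) (allR_join _ _ _ _ (by decide) k_xp_900 k_xp_901) (allR_join _ _ _ _ (by decide) k_xp_902 k_xp_903))) (allR_join _ _ _ _ (by decide) (allR_join _ _ _ _ (by decide)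 (allR_join _ _ _ _ (by decide) k_xp_904 k_xp_905) (allR_join _ _ _ _ (by decide) k_xp_906 k_xp_907)) (allR_join _ _ _ _ (by decide) (allR_join _ _ _ _ (by decide) k_xp_908 k_xp_909) (allR_join _ _ _ _ (by decide) k_xp_910 k_xp_911)))) (allR_join _ _ _ _ (by decide) (allR_join _ _ _ _ (by decide) (allR_join _ _ _ _ (by decide) (allR_join _ _ _ _ (by decide) k_xp_912 k_xp_913) (allR_join _ _ _ _ (by decide) k_xp_914 k_xp_915)) (allR_join _ _ _ _ (by decide) (allR_join _ _ _ _ (by decide) k_xp_916 k_xp_917) (allR_join _ _ _ _ (by decide) k_xp_918 k_xp_919))) (allR_join _ _ _ _ (by decide) (allR_join _ _ _ _ (by decide) (allR_join _ _ _ _ (by decide) k_xp_920 k_xp_921) (allR_join _ _ _ _ (by decide) k_xp_922 k_xp_923)) (allR_join _ _ _ _ (by decide) (allR_join _ _ _ _ (by decide) k_xp_924 k_xp_925) (allR_join _ _ _ _ (by decide) k_xp_926 k_xp_927))))) (allR_join _ _ _ _ (by decide) (allR_join _ _ _ _ (by decide) (allR_join _ _ _ _ (by decide) (allR_join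 _ _ _ _ (by decide) (allR_join _ _ _ _ (by decide) k_xp_928 k_xp_929) (allR_join _ _ _ _ (by decide) k_xp_930 k_xp_931)) (allR_join _ _ _ _ (by decide) (allR_join _ _ _ _ (by decide) k_xp_932 k_xp_933) (allR_join _ _ _ _ (by decide) k_xp_934 k_xp_935))) (allR_join _ _ _ _ (by decide) (allR_join _ _ _ _ (by decide) (allR_join _ _ _ _ (by decide) k_xp_936 k_xp_937) (allR_join _ _ _ _ (by decide) k_xp_938 k_xp_939)) (allR_join _ _ _ _ (by decide) (allR_join _ _ _ _ (by decide) k_xp_940 k_xp_941) (allR_join _ _ _ _ (by decide) k_xp_942 k_xp_943)))) (allR_join _ _ _ _ (by decide) (allR_join _ _ _ _ (by decide) (allR_join _ _ _ _ (by decide) (allR_join _ _ _ _ (by decide) k_xp_944 k_xp_945) (allR_join _ _ _ _ (by decide) k_xp_946 k_xp_947)) (allR_join _ _ _ _ (by decide) (allR_join _ _ _ _ (by decide) k_xp_948 k_xp_949) (allR_join _ _ _ _ (by decide) k_xp_950 k_xp_951))) (allR_join _ _ _ _ (by decide) (allR_join _ _ _ _ (by decide) (allR_join _ _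 _ _ (by decide) k_xp_952 k_xp_953) (allR_join _ _ _ _ (by decide) k_xp_954 k_xp_955)) (allR_join _ _ _ _ (by decide) (allR_join _ _ _ _ (by decide) k_xp_956 k_xp_957) (allR_join _ _ _ _ (by decide) k_xp_958 k_xp_959)))))) (allR_join _ _ _ _ (by decide) (allR_join _ _ _ _ (by decide) (allR_join _ _ _ _ (by decide) (allR_join _ _ _ _ (by decide) (allR_join _ _ _ _ (by decide) (allR_join _ _ _ _ (by decide) k_xp_960 k_xp_961) (allR_join _ _ _ _ (by decide) k_xp_962 k_xp_963)) (allR_join _ _ _ _ (by decide) (allR_join _ _ _ _ (by decide) k_xp_964 k_xp_965) (allR_join _ _ _ _ (by decide) k_xp_966 k_xp_967))) (allR_join _ _ _ _ (by decide) (allR_join _ _ _ _ (by decide) (allR_join _ _ _ _ (by decide) k_xp_968 k_xp_969) (allR_join _ _ _ _ (by decide) k_xp_970 k_xp_971)) (allR_join _ _ _ _ (by decide) (allR_join _ _ _ _ (by decide) k_xp_972 k_xp_973) (allR_join _ _ _ _ (by decide) k_xp_974 k_xp_975)))) (allR_join _ _ _ _ (by decide) (allR_join _ _ _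 _ (by decide) (allR_join _ _ _ _ (by decide) (allR_join _ _ _ _ (by decide) k_xp_976 k_xp_977) (allR_join _ _ _ _ (by decide) k_xp_978 k_xp_979)) (allR_join _ _ _ _ (by decide) (allR_join _ _ _ _ (by decide) k_xp_980 k_xp_981) (allR_join _ _ _ _ (by decide) k_xp_982 k_xp_983))) (allR_join _ _ _ _ (by decide) (allR_join _ _ _ _ (by decide) (allR_join _ _ _ _ (by decide) k_xp_984 k_xp_985) (allR_join _ _ _ _ (by decide) k_xp_986 k_xp_987)) (allR_join _ _ _ _ (by decide) (allR_join _ _ _ _ (by decide) k_xp_988 k_xp_989) (allR_join _ _ _ _ (by decide) k_xp_990 k_xp_991))))) (allR_join _ _ _ _ (by decide) (allR_join _ _ _ _ (by decide) (allR_join _ _ _ _ (by decide) (allR_join _ _ _ _ (by decide) (allR_join _ _ _ _ (by decide) k_xp_992 k_xp_993) (allR_join _ _ _ _ (by decide) k_xp_994 k_xp_995)) (allR_join _ _ _ _ (by decide) (allR_join _ _ _ _ (by decide) k_xp_996 k_xp_997) (allR_join _ _ _ _ (by decide) k_xp_998 k_xp_999))) (allR_join _ _ _ _ (by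 decide) (allR_join _ _ _ _ (by decide) (allR_join _ _ _ _ (by decide) k_xp_1000 k_xp_1001) (allR_join _ _ _ _ (by decide) k_xp_1002 k_xp_1003)) (allR_join _ _ _ _ (by decide) (allR_join _ _ _ _ (by decide) k_xp_1004 k_xp_1005) (allR_join _ _ _ _ (by decide) k_xp_1006 k_xp_1007)))) (allR_join _ _ _ _ (by decide) (allR_join _ _ _ _ (by decide) (allR_join _ _ _ _ (by decide) (allR_join _ _ _ _ (by decide) k_xp_1008 k_xp_1009) (allR_join _ _ _ _ (by decide) k_xp_1010 k_xp_1011)) (allR_join _ _ _ _ (by decide) (allR_join _ _ _ _ (by decide) k_xp_1012 k_xp_1013) (allR_join _ _ _ _ (by decide) k_xp_1014 k_xp_1015))) (allR_join _ _ _ _ (by decide) (allR_join _ _ _ _ (by decide) (allR_join _ _ _ _ (by decide) k_xp_1016 k_xp_1017) (allR_join _ _ _ _ (by decide) k_xp_1018 k_xp_1019)) (allR_join _ _ _ _ (by decide) (allR_join _ _ _ _ (by decide) k_xp_1020 k_xp_1021) (allR_join _ _ _ _ (by decide) k_xp_1022 k_xp_1023))))))))))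

theorem k_ol : allR ckOl 15 0 = true := by decide +kernel

theorem ckX_spec : ∀ i < Fi23_31671.nn, ckX i = true := all_lt_pow _ Fi23_31671.nn 15 (by decide) k_x

theorem ckOl_spec : ∀ i < Fi23_31671.nn, ckOl i = true := all_lt_pow _ Fi23_31671.nn 15 (by decide) k_ol

theorem full_eq : fullW = fullL := by decide +kernel
theorem fw_eq (i : Nat) : tr Fi23_31671.T fullL i = fw i := rfl
theorem gpow_eq : gpow = gpowL := by decide +kernel
theorem fg_eq (i : Nat) : tr Fi23_31671.T gpowL i = fg i := rfl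

theorem tr_full : ∀ i < Fi23_31671.nn, tr Fi23_31671.T [0] i = tr Fi23_31671.T fullW i := by
  intro i hi
  have h := ckX_spec i hi
  simp only [ckX, Bool.or_eq_true, Bool.and_eq_true] at h
  rcases h with h | h
  · have := Nat.le_of_ble_eq_true h; omega
  · rw [full_eq, fw_eq]; exact (Nat.eq_of_beq_eq_true h.1).symm

theorem tr_gpow : ∀ i < Fi23_31671.nn, tr Fi23_31671.T gpow i = tr Fi23_31671.T [] i := by
  intro i hi
  have h := ckX_spec i hi
  simp only [ckX, Bool.or_eq_true, Bool.and_eq_true] at h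
  rcases h with h | h
  · have := Nat.le_of_ble_eq_true h; omega
  · rw [gpow_eq, fg_eq]; exact Nat.eq_of_beq_eq_true h.2

theorem letters_lt : (∀ x ∈ wg, x < 10) ∧ (∀ x ∈ gpow, x < 10) ∧ (∀ x ∈ fullW, x < 10) := by
  decide +kernel

/-- upper bound for the order of the presented group -/
theorem card_le : Finite KG ∧ Nat.card KG ≤ 4089470473293004800 := by
  have h := card_le_step (edges₁ := F2Fi22.edges) (extra₁ := F2Fi22.extra) (edges := Fi23.edges) (extra := Fi23.extra)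
    Fi23_31671.setup Fi23_31671.checks F2Fi22.embFi23
    (by intro a _ b _; cases a <;> cases b <;> decide)
    (by
      intro r hr
      simp only [F2Fi22.extra, List.mem_cons, List.not_mem_nil, or_false] at hr
      rcases hr with rfl | rfl <;>
        simp [Fi23.extra, F2Fi22.embFi23, map_mul, map_inv, map_pow, FreeGroup.map.of])
    (by
      intro w hw
      simp only [Fi23_31671.sw, List.mem_cons, List.not_mem_nil, or_false] at hw
      rcases hw with rfl | rfl | rfl | rfl | rfl | rfl | rfl | rfl | rfl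
      · exact ⟨.a, rfl⟩
      · exact ⟨.b, rfl⟩
      · exact ⟨.c, rfl⟩
      · exact ⟨.d, rfl⟩
      · exact ⟨.e, rfl⟩
      · exact ⟨.f, rfl⟩
      · exact ⟨.g, rfl⟩
      · exact ⟨.h, rfl⟩
      · exact ⟨.i, rfl⟩)
    129123503308800 FiChain.card_le_2Fi22
  exact ⟨h.1, h.2.trans (by decide)⟩

instance fact_p : Fact (Nat.Prime 17) := ⟨by norm_num⟩

theorem sizes_eq : ∀ j < 3, (fun j => if j = Fi23_31671.ol 0 then 0 else cnt (fun i => Nat.beq (Fi23_31671.ol i) j) Fi23_31671.nn) j =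
    (fun j => if j = 0 then 0 else szl.getD j 0) j := by
  intro j hj
  interval_cases j <;> decide +kernel

theorem hol_all : (∀ i < Fi23_31671.nn, Fi23_31671.ol i < 3) ∧ (∀ i < Fi23_31671.nn, Fi23_31671.ol i = Fi23_31671.ol 0 → i = 0) := by
  constructor
  · intro i hi
    have h := ckOl_spec i hi
    simp only [ckOl, Bool.or_eq_true, Bool.and_eq_true] at h
    rcases h with h | h
    · have := Nat.le_of_ble_eq_true h; omega
    · exact Nat.le_of_ble_eq_true h.1
  · intro i hi h0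
    have h := ckOl_spec i hi
    simp only [ckOl, Bool.or_eq_true, Bool.and_eq_true] at h
    rcases h with h | h
    · have := Nat.le_of_ble_eq_true h; omega
    · rcases h.2 with h2 | h2
      · exact Nat.eq_of_beq_eq_true h2
      · rw [h0, Nat.beq_refl] at h2; simp at h2

theorem normalClosure_top (hinj : Function.Injective (Fi23_31671.checks.phi Fi23_31671.setup)) :
    Subgroup.normalClosure {evr (cgen Fi23.edges Fi23.extra 10 Fi23_31671.ofIdx) wg} = (⊤ : Subgroup KG) := by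
  set gen := cgen Fi23.edges Fi23.extra 10 Fi23_31671.ofIdx with hgen
  set N : Subgroup KG := Subgroup.normalClosure {evr gen wg} with hN
  have hinv := cgen_mul_self Fi23_31671.setup
  have h0 : evr gen wg ∈ N := Subgroup.subset_normalClosure (Set.mem_singleton _)
  have hm0 : gen 0 ∈ N := by
    have e1 : evr gen [0] = evr gen fullW :=
      Fi23_31671.checks.evr_eq_of_tr Fi23_31671.setup hinj [0] fullW (by decide) letters_lt.2.2 tr_full
    rw [← evr_singleton gen 0, e1]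
    exact ncFull_mem gen hinv N wg wu _ _ wy _ 0 h0
  have hm1 : gen 1 ∈ N := mem_of_relator gen hinv N [0]
    (by intro x hx; simp only [List.mem_cons, List.not_mem_nil, or_false] at hx; rcases hx with rfl <;> assumption)
    [1, 0, 1, 0, 1, 0] (evr_cgen_rel Fi23_31671.setup _ (by rw [Fi23_31671.relWords_eq]; decide +kernel)) 1 (by decide +kernel)
  have hm2 : gen 2 ∈ N := mem_of_relator gen hinv N [0, 1]
    (by intro x hx; simp only [List.mem_cons, List.not_mem_nil, or_false] at hx; rcases hx with rfl | rfl <;> assumption)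
    [2, 1, 2, 1, 2, 1] (evr_cgen_rel Fi23_31671.setup _ (by rw [Fi23_31671.relWords_eq]; decide +kernel)) 2 (by decide +kernel)
  have hm3 : gen 3 ∈ N := mem_of_relator gen hinv N [0, 1, 2]
    (by intro x hx; simp only [List.mem_cons, List.not_mem_nil, or_false] at hx; rcases hx with rfl | rfl | rfl <;> assumption)
    [3, 2, 3, 2, 3, 2] (evr_cgen_rel Fi23_31671.setup _ (by rw [Fi23_31671.relWords_eq]; decide +kernel)) 3 (by decide +kernel)
  have hm4 : gen 4 ∈ N := mem_of_relator gen hinv N [0, 1, 2, 3]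
    (by intro x hx; simp only [List.mem_cons, List.not_mem_nil, or_false] at hx; rcases hx with rfl | rfl | rfl | rfl <;> assumption)
    [4, 3, 4, 3, 4, 3] (evr_cgen_rel Fi23_31671.setup _ (by rw [Fi23_31671.relWords_eq]; decide +kernel)) 4 (by decide +kernel)
  have hm8 : gen 8 ∈ N := mem_of_relator gen hinv N [0, 1, 2, 3, 4]
    (by intro x hx; simp only [List.mem_cons, List.not_mem_nil, or_false] at hx; rcases hx with rfl | rfl | rfl | rfl | rfl <;> assumption)
    [8, 3, 8, 3, 8, 3] (evr_cgen_rel Fi23_31671.setup _ (by rw [Fi23_31671.relWords_eq]; decide +kernel)) 8 (by decide +kernel)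
  have hm5 : gen 5 ∈ N := mem_of_relator gen hinv N [0, 1, 2, 3, 4, 8]
    (by intro x hx; simp only [List.mem_cons, List.not_mem_nil, or_false] at hx; rcases hx with rfl | rfl | rfl | rfl | rfl | rfl <;> assumption)
    [5, 4, 5, 4, 5, 4] (evr_cgen_rel Fi23_31671.setup _ (by rw [Fi23_31671.relWords_eq]; decide +kernel)) 5 (by decide +kernel)
  have hm6 : gen 6 ∈ N := mem_of_relator gen hinv N [0, 1, 2, 3, 4, 8, 5]
    (by intro x hx; simp only [List.mem_cons, List.not_mem_nil, or_false] at hx; rcases hx with rfl | rfl | rfl | rfl | rfl | rfl | rfl <;> assumption)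
    [6, 5, 6, 5, 6, 5] (evr_cgen_rel Fi23_31671.setup _ (by rw [Fi23_31671.relWords_eq]; decide +kernel)) 6 (by decide +kernel)
  have hm7 : gen 7 ∈ N := mem_of_relator gen hinv N [0, 1, 2, 3, 4, 8, 5, 6]
    (by intro x hx; simp only [List.mem_cons, List.not_mem_nil, or_false] at hx; rcases hx with rfl | rfl | rfl | rfl | rfl | rfl | rfl | rfl <;> assumption)
    [7, 6, 7, 6, 7, 6] (evr_cgen_rel Fi23_31671.setup _ (by rw [Fi23_31671.relWords_eq]; decide +kernel)) 7 (by decide +kernel)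
  have hm9 : gen 9 ∈ N := mem_of_relator gen hinv N [0, 1, 2, 3, 4, 8, 5, 6, 7]
    (by intro x hx; simp only [List.mem_cons, List.not_mem_nil, or_false] at hx; rcases hx with rfl | rfl | rfl | rfl | rfl | rfl | rfl | rfl | rfl <;> assumption)
    [9, 8, 9, 8, 9, 8] (evr_cgen_rel Fi23_31671.setup _ (by rw [Fi23_31671.relWords_eq]; decide +kernel)) 9 (by decide +kernel)
  rw [eq_top_iff, ← cgen_closure Fi23_31671.setup, Subgroup.closure_le]
  rintro g ⟨x, hx, rfl⟩
  interval_cases x <;> assumption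

theorem pow_eq_one (hinj : Function.Injective (Fi23_31671.checks.phi Fi23_31671.setup)) :
    (evr (cgen Fi23.edges Fi23.extra 10 Fi23_31671.ofIdx) wg) ^ (17 ^ 1) = (1 : KG) := by
  have h1 : (evr (cgen Fi23.edges Fi23.extra 10 Fi23_31671.ofIdx) wg) ^ 17 = (1 : KG) := by
    rw [← evr_flatten_replicate]
    have := Fi23_31671.checks.evr_eq_of_tr Fi23_31671.setup hinj gpow [] letters_lt.2.1 (by simp) tr_gpow
    simpa [gpow, evr] using this
  rw [show (17 : ℕ) ^ 1 = 17 * 1 from by norm_num, pow_mul, h1, one_pow]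

theorem harith : ∀ s ∈ sumsBelow (fun j => if j = Fi23_31671.ol 0 then 0 else cnt (fun i => Nat.beq (Fi23_31671.ol i) j) Fi23_31671.nn) 3,
    (1 + s) ∣ Fi23_31671.nn → s = 0 ∨ 1 + s = Fi23_31671.nn := by
  rw [sumsBelow_congr _ _ 3 sizes_eq]
  decide +kernel

theorem lv_0 : ckChunk Fi23_31671.T 10 [52, 0] 9592 0 23466 ((lvE_0_0 ++ lvE_0_1 ++ lvE_0_2 ++ lvE_0_3 ++ lvE_0_4 ++ lvE_0_5 ++ lvE_0_6 ++ lvE_0_7 ++ lvE_0_8 ++ lvE_0_9 ++ lvE_0_10 ++ lvE_0_11 ++ lvE_0_12 ++ lvE_0_13 ++ lvE_0_14 ++ lvE_0_15 ++ lvE_0_16).map (decW 295)) = true := by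
  simp only [List.map_append]
  exact (ckChunk_append _ _ _ _ _ _ _ 21351 _ (ckChunk_append _ _ _ _ _ _ _ 18576 _ (ckChunk_append _ _ _ _ _ _ _ 17511 _ (ckChunk_append _ _ _ _ _ _ _ 15818 _ (ckChunk_append _ _ _ _ _ _ _ 14223 _ (ckChunk_append _ _ _ _ _ _ _ 12151 _ (ckChunk_append _ _ _ _ _ _ _ 10914 _ (ckChunk_append _ _ _ _ _ _ _ 9420 _ (ckChunk_append _ _ _ _ _ _ _ 8106 _ (ckChunk_append _ _ _ _ _ _ _ 7108 _ (ckChunk_append _ _ _ _ _ _ _ 6145 _ (ckChunk_append _ _ _ _ _ _ _ 5263 _ (ckChunk_append _ _ _ _ _ _ _ 4282 _ (ckChunk_append _ _ _ _ _ _ _ 3370 _ (ckChunk_append _ _ _ _ _ _ _ 2524 _ (ckChunk_append _ _ _ _ _ _ _ 1520 _ k_lvE_0_0 k_lvE_0_1) k_lvE_0_2) k_lvE_0_3) k_lvE_0_4) k_lvE_0_5) k_lvE_0_6) k_lvE_0_7) k_lvE_0_8) k_lvE_0_9) k_lvE_0_10) k_lvE_0_11) k_lvE_0_12) k_lvE_0_13) k_lvE_0_14) k_lvE_0_15) k_lvE_0_16)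

theorem lv_1 : ckChunk Fi23_31671.T 10 [9592, 52, 0] 6573 0 23466 ((lvE_1_0 ++ lvE_1_1 ++ lvE_1_2 ++ lvE_1_3 ++ lvE_1_4 ++ lvE_1_5 ++ lvE_1_6 ++ lvE_1_7 ++ lvE_1_8 ++ lvE_1_9 ++ lvE_1_10 ++ lvE_1_11 ++ lvE_1_12 ++ lvE_1_13 ++ lvE_1_14).map (decW 295)) = true := by
  simp only [List.map_append]
  exact (ckChunk_append _ _ _ _ _ _ _ 22071 _ (ckChunk_append _ _ _ _ _ _ _ 20386 _ (ckChunk_append _ _ _ _ _ _ _ 18545 _ (ckChunk_append _ _ _ _ _ _ _ 17204 _ (ckChunk_append _ _ _ _ _ _ _ 15818 _ (ckChunk_append _ _ _ _ _ _ _ 14255 _ (ckChunk_append _ _ _ _ _ _ _ 12146 _ (ckChunk_append _ _ _ _ _ _ _ 10629 _ (ckChunk_append _ _ _ _ _ _ _ 8711 _ (ckChunk_append _ _ _ _ _ _ _ 7107 _ (ckChunk_append _ _ _ _ _ _ _ 5708 _ (ckChunk_append _ _ _ _ _ _ _ 4517 _ (ckChunk_append _ _ _ _ _ _ _ 3196 _ (ckChunk_append _ _ _ _ _ _ _ 1976 _ k_lvE_1_0 k_lvE_1_1) k_lvE_1_2) k_lvE_1_3) k_lvE_1_4) k_lvE_1_5) k_lvE_1_6) k_lvE_1_7) k_lvE_1_8) k_lvE_1_9) k_lvE_1_10) k_lvE_1_11)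 k_lvE_1_12) k_lvE_1_13) k_lvE_1_14)

theorem lv_2 : ckChunk Fi23_31671.T 10 [6573, 9592, 52, 0] 7663 0 23452 ((lvE_2_0 ++ lvE_2_1 ++ lvE_2_2 ++ lvE_2_3 ++ lvE_2_4).map (decW 295)) = true := by
  simp only [List.map_append]
  exact (ckChunk_append _ _ _ _ _ _ _ 20017 _ (ckChunk_append _ _ _ _ _ _ _ 16487 _ (ckChunk_append _ _ _ _ _ _ _ 10097 _ (ckChunk_append _ _ _ _ _ _ _ 6572 _ k_lvE_2_0 k_lvE_2_1) k_lvE_2_2) k_lvE_2_3) k_lvE_2_4)

theorem lv_3 : ckChunk Fi23_31671.T 10 [7663, 6573, 9592, 52, 0] 887 0 16399 ((lvE_3_0).map (decW 295)) = true := by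
  exact k_lvE_3_0

theorem lv_4 : ckChunk Fi23_31671.T 10 [887, 7663, 6573, 9592, 52, 0] 1 0 8007 ((lvE_4_0).map (decW 295)) = true := by
  exact k_lvE_4_0

theorem levels_eq : levels = [(9592, (lvE_0_0 ++ lvE_0_1 ++ lvE_0_2 ++ lvE_0_3 ++ lvE_0_4 ++ lvE_0_5 ++ lvE_0_6 ++ lvE_0_7 ++ lvE_0_8 ++ lvE_0_9 ++ lvE_0_10 ++ lvE_0_11 ++ lvE_0_12 ++ lvE_0_13 ++ lvE_0_14 ++ lvE_0_15 ++ lvE_0_16).map (decW 295)), (6573, (lvE_1_0 ++ lvE_1_1 ++ lvE_1_2 ++ lvE_1_3 ++ lvE_1_4 ++ lvE_1_5 ++ lvE_1_6 ++ lvE_1_7 ++ lvE_1_8 ++ lvE_1_9 ++ lvE_1_10 ++ lvE_1_11 ++ lvE_1_12 ++ lvE_1_13 ++ lvE_1_14).map (decW 295)), (7663, (lvE_2_0 ++ lvE_2_1 ++ lvE_2_2 ++ lvE_2_3 ++ lvE_2_4).map (decW 295)), (887, (lvE_3_0).map (decW 295)), (1, (lvE_4_0).map (decW 295))] := by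
  unfold levels decLevels
  rw [levelsE_eq]
  rfl

theorem chain_ok : ckChainS Fi23_31671.T 10 Fi23_31671.nn [52, 0] levels = true := by
  rw [levels_eq]
  exact (ckChainS_cons _ _ _ _ _ _ _ 23466 (by decide) lv_0 (ckChainS_cons _ _ _ _ _ _ _ 23466 (by decide) lv_1 (ckChainS_cons _ _ _ _ _ _ _ 23452 (by decide) lv_2 (ckChainS_cons _ _ _ _ _ _ _ 16399 (by decide) lv_3 (ckChainS_cons _ _ _ _ _ _ _ 8007 (by decide) lv_4 (ckChainS_nil _ _ _ _))))))

/-- the presented group is simple of order 4089470473293004800, and acts faithfully on the 31671 cosets -/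
theorem simple_card : Function.Injective (Fi23_31671.checks.phi Fi23_31671.setup) ∧ IsSimpleGroup KG ∧
    Nat.card KG = 4089470473293004800 ∧ Nat.card (Fi23_31671.checks.phi Fi23_31671.setup).range = 4089470473293004800 := by
  obtain ⟨hfin, hle⟩ := card_le
  exact simple_card_of_table Fi23_31671.setup Fi23_31671.checks Fi23_31671.orbChecks 4089470473293004800 hfin hle
    52 (by decide) (by decide +kernel) levels (ckChain_of_ckChainS _ _ _ _ _ chain_ok) (by decide +kernel)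
    3 hol_all.1 hol_all.2 harith 17 1 240557086664294400 (by norm_num) (by norm_num) (by decide)
    (evr (cgen Fi23.edges Fi23.extra 10 Fi23_31671.ofIdx) wg) pow_eq_one normalClosure_top (by decide)

end Cfsg.Agent.Lib.Helper25.TC.Fi23X
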