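import Cfsg.Agent.Lib.Helper25.TCFi23X

set_option autoImplicit false
set_option maxRecDepth 1000000
set_option linter.unusedVariables false
set_option Elab.async false

namespace Cfsg.Agent.Lib.Helper25.TC.Fi23X

open Cfsg.Agent.Lib.Helper25.TC Cfsg.Agent.Lib.Helper25.TC.Fi23_31671

theorem k_xp_648 : allR ckX 5 20736 = true := by decide +kernel
theorem k_xp_649 : allR ckX 5 20768 = true := by decide +kernel
theorem k_xp_650 : allR ckX 5 20800 = true := by decide +kernel
theorem k_xp_651 : allR ckX 5 20832 = true := by decide +kernel
theorem k_xp_652 : allR ckX 5 20864 = true := by decide +kernel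
theorem k_xp_653 : allR ckX 5 20896 = true := by decide +kernel
theorem k_xp_654 : allR ckX 5 20928 = true := by decide +kernel
theorem k_xp_655 : allR ckX 5 20960 = true := by decide +kernel
theorem k_xp_656 : allR ckX 5 20992 = true := by decide +kernel
theorem k_xp_657 : allR ckX 5 21024 = true := by decide +kernel
theorem k_xp_658 : allR ckX 5 21056 = true := by decide +kernel
theorem k_xp_659 : allR ckX 5 21088 = true := by decide +kernel
theorem k_xp_660 : allR ckX 5 21120 = true := by decide +kernel
theorem k_xp_661 : allR ckX 5 21152 = true := by decide +kernel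
theorem k_xp_662 : allR ckX 5 21184 = true := by decide +kernel
theorem k_xp_663 : allR ckX 5 21216 = true := by decide +kernel
theorem k_xp_664 : allR ckX 5 21248 = true := by decide +kernel
theorem k_xp_665 : allR ckX 5 21280 = true := by decide +kernel
theorem k_xp_666 : allR ckX 5 21312 = true := by decide +kernel
theorem k_xp_667 : allR ckX 5 21344 = true := by decide +kernel
theorem k_xp_668 : allR ckX 5 21376 = true := by decide +kernel
theorem k_xp_669 : allR ckX 5 21408 = true := by decide +kernel
theorem k_xp_670 : allR ckX 5 21440 = true := by decide +kernel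
theorem k_xp_671 : allR ckX 5 21472 = true := by decide +kernel
theorem k_xp_672 : allR ckX 5 21504 = true := by decide +kernel
theorem k_xp_673 : allR ckX 5 21536 = true := by decide +kernel
theorem k_xp_674 : allR ckX 5 21568 = true := by decide +kernel
theorem k_xp_675 : allR ckX 5 21600 = true := by decide +kernel
theorem k_xp_676 : allR ckX 5 21632 = true := by decide +kernel
theorem k_xp_677 : allR ckX 5 21664 = true := by decide +kernel
theorem k_xp_678 : allR ckX 5 21696 = true := by decide +kernel
theorem k_xp_679 : allR ckX 5 21728 = true := by decide +kernel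
theorem k_xp_680 : allR ckX 5 21760 = true := by decide +kernel
theorem k_xp_681 : allR ckX 5 21792 = true := by decide +kernel
theorem k_xp_682 : allR ckX 5 21824 = true := by decide +kernel
theorem k_xp_683 : allR ckX 5 21856 = true := by decide +kernel

end Cfsg.Agent.Lib.Helper25.TC.Fi23X
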