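import Cfsg.Agent.Lib.Helper25.TCFi23X

set_option autoImplicit false
set_option maxRecDepth 1000000
set_option linter.unusedVariables false
set_option Elab.async false

namespace Cfsg.Agent.Lib.Helper25.TC.Fi23X

open Cfsg.Agent.Lib.Helper25.TC Cfsg.Agent.Lib.Helper25.TC.Fi23_31671

theorem k_xp_216 : allR ckX 5 6912 = true := by decide +kernel
theorem k_xp_217 : allR ckX 5 6944 = true := by decide +kernel
theorem k_xp_218 : allR ckX 5 6976 = true := by decide +kernel
theorem k_xp_219 : allR ckX 5 7008 = true := by decide +kernel
theorem k_xp_220 : allR ckX 5 7040 = true := by decide +kernel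
theorem k_xp_221 : allR ckX 5 7072 = true := by decide +kernel
theorem k_xp_222 : allR ckX 5 7104 = true := by decide +kernel
theorem k_xp_223 : allR ckX 5 7136 = true := by decide +kernel
theorem k_xp_224 : allR ckX 5 7168 = true := by decide +kernel
theorem k_xp_225 : allR ckX 5 7200 = true := by decide +kernel
theorem k_xp_226 : allR ckX 5 7232 = true := by decide +kernel
theorem k_xp_227 : allR ckX 5 7264 = true := by decide +kernel
theorem k_xp_228 : allR ckX 5 7296 = true := by decide +kernel
theorem k_xp_229 : allR ckX 5 7328 = true := by decide +kernel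
theorem k_xp_230 : allR ckX 5 7360 = true := by decide +kernel
theorem k_xp_231 : allR ckX 5 7392 = true := by decide +kernel
theorem k_xp_232 : allR ckX 5 7424 = true := by decide +kernel
theorem k_xp_233 : allR ckX 5 7456 = true := by decide +kernel
theorem k_xp_234 : allR ckX 5 7488 = true := by decide +kernel
theorem k_xp_235 : allR ckX 5 7520 = true := by decide +kernel
theorem k_xp_236 : allR ckX 5 7552 = true := by decide +kernel
theorem k_xp_237 : allR ckX 5 7584 = true := by decide +kernel
theorem k_xp_238 : allR ckX 5 7616 = true := by decide +kernel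
theorem k_xp_239 : allR ckX 5 7648 = true := by decide +kernel
theorem k_xp_240 : allR ckX 5 7680 = true := by decide +kernel
theorem k_xp_241 : allR ckX 5 7712 = true := by decide +kernel
theorem k_xp_242 : allR ckX 5 7744 = true := by decide +kernel
theorem k_xp_243 : allR ckX 5 7776 = true := by decide +kernel
theorem k_xp_244 : allR ckX 5 7808 = true := by decide +kernel
theorem k_xp_245 : allR ckX 5 7840 = true := by decide +kernel
theorem k_xp_246 : allR ckX 5 7872 = true := by decide +kernel
theorem k_xp_247 : allR ckX 5 7904 = true := by decide +kernel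
theorem k_xp_248 : allR ckX 5 7936 = true := by decide +kernel
theorem k_xp_249 : allR ckX 5 7968 = true := by decide +kernel
theorem k_xp_250 : allR ckX 5 8000 = true := by decide +kernel
theorem k_xp_251 : allR ckX 5 8032 = true := by decide +kernel

end Cfsg.Agent.Lib.Helper25.TC.Fi23X
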