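import Cfsg.Agent.Lib.Helper25.TCFi23_31671I

set_option autoImplicit false
set_option maxRecDepth 1000000
set_option linter.unusedVariables false

namespace Cfsg.Agent.Lib.Helper25.TC.Fi23Y

open Cfsg.Spor Cfsg.Agent.Lib.Helper25.TC Cfsg.Agent.Lib.Helper25.TC.Fi23_31671

/-- a word conjugating the generator `b` to the transposition `t₀` centralized by `a, …, i` -/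
def vv : List Nat := [7, 6, 5, 4, 3, 2, 1, 8, 3, 2, 4, 3, 5, 4, 6, 5, 7, 6, 8, 3, 2, 4, 3, 5, 4, 8, 3, 2]
/-- the transposition `t₀` as a word -/
def tw : List Nat := vv ++ [1] ++ vv.reverse
def u1 : List Nat := [7]
def u52 : List Nat := [7, 6, 5, 4, 3, 2, 8, 3, 4, 5, 6, 7]
def W1 : List Nat := u1.reverse ++ tw ++ u1 ++ tw
def W52 : List Nat := u52.reverse ++ tw ++ u52 ++ tw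
def idL : Nat → List Nat
  | 0 => [7, 6, 5, 4, 3, 2, 1, 8, 3, 2, 4, 3, 5, 4, 6, 5, 7, 6, 8, 3, 2, 4, 3, 5, 4, 8, 3, 2, 1, 2, 3, 8, 4, 5, 3, 4, 2, 3, 8, 6, 7, 5, 6, 4, 5, 3, 4, 2, 3, 8, 1, 2, 3, 4, 5, 6, 7, 0]
  | 1 => [7, 6, 5, 4, 3, 2, 1, 8, 3, 2, 4, 3, 5, 4, 6, 5, 7, 6, 8, 3, 2, 4, 3, 5, 4, 8, 3, 2, 1, 2, 3, 8, 4, 5, 3, 4, 2, 3, 8, 6, 7, 5, 6, 4, 5, 3, 4, 2, 3, 8, 1, 2, 3, 4, 5, 6, 7, 1]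
  | 2 => [7, 6, 5, 4, 3, 2, 1, 8, 3, 2, 4, 3, 5, 4, 6, 5, 7, 6, 8, 3, 2, 4, 3, 5, 4, 8, 3, 2, 1, 2, 3, 8, 4, 5, 3, 4, 2, 3, 8, 6, 7, 5, 6, 4, 5, 3, 4, 2, 3, 8, 1, 2, 3, 4, 5, 6, 7, 2]
  | 3 => [7, 6, 5, 4, 3, 2, 1, 8, 3, 2, 4, 3, 5, 4, 6, 5, 7, 6, 8, 3, 2, 4, 3, 5, 4, 8, 3, 2, 1, 2, 3, 8, 4, 5, 3, 4, 2, 3, 8, 6, 7, 5, 6, 4, 5, 3, 4, 2, 3, 8, 1, 2, 3, 4, 5, 6, 7, 3]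
  | 4 => [7, 6, 5, 4, 3, 2, 1, 8, 3, 2, 4, 3, 5, 4, 6, 5, 7, 6, 8, 3, 2, 4, 3, 5, 4, 8, 3, 2, 1, 2, 3, 8, 4, 5, 3, 4, 2, 3, 8, 6, 7, 5, 6, 4, 5, 3, 4, 2, 3, 8, 1, 2, 3, 4, 5, 6, 7, 4]
  | 5 => [7, 6, 5, 4, 3, 2, 1, 8, 3, 2, 4, 3, 5, 4, 6, 5, 7, 6, 8, 3, 2, 4, 3, 5, 4, 8, 3, 2, 1, 2, 3, 8, 4, 5, 3, 4, 2, 3, 8, 6, 7, 5, 6, 4, 5, 3, 4, 2, 3, 8, 1, 2, 3, 4, 5, 6, 7, 5]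
  | 6 => [7, 6, 5, 4, 3, 2, 1, 8, 3, 2, 4, 3, 5, 4, 6, 5, 7, 6, 8, 3, 2, 4, 3, 5, 4, 8, 3, 2, 1, 2, 3, 8, 4, 5, 3, 4, 2, 3, 8, 6, 7, 5, 6, 4, 5, 3, 4, 2, 3, 8, 1, 2, 3, 4, 5, 6, 7, 6]
  | 7 => [7, 6, 5, 4, 3, 2, 1, 8, 3, 2, 4, 3, 5, 4, 6, 5, 7, 6, 8, 3, 2, 4, 3, 5, 4, 8, 3, 2, 1, 2, 3, 8, 4, 5, 3, 4, 2, 3, 8, 6, 7, 5, 6, 4, 5, 3, 4, 2, 3, 8, 1, 2, 3, 4, 5, 6, 7, 8]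
  | 8 => [7, 6, 5, 4, 3, 2, 1, 8, 3, 2, 4, 3, 5, 4, 6, 5, 7, 6, 8, 3, 2, 4, 3, 5, 4, 8, 3, 2, 1, 2, 3, 8, 4, 5, 3, 4, 2, 3, 8, 6, 7, 5, 6, 4, 5, 3, 4, 2, 3, 8, 1, 2, 3, 4, 5, 6, 7, 9]
  | 9 => [7, 7, 6, 5, 4, 3, 2, 1, 8, 3, 2, 4, 3, 5, 4, 6, 5, 7, 6, 8, 3, 2, 4, 3, 5, 4, 8, 3, 2, 1, 2, 3, 8, 4, 5, 3, 4, 2, 3, 8, 6, 7, 5, 6, 4, 5, 3, 4, 2, 3, 8, 1, 2, 3, 4, 5, 6, 7, 7, 7, 6, 5, 4, 3, 2, 1, 8, 3, 2, 4, 3, 5, 4, 6, 5, 7, 6, 8, 3, 2, 4, 3, 5, 4, 8, 3, 2, 1, 2, 3, 8, 4, 5, 3, 4, 2, 3, 8, 6, 7, 5, 6, 4, 5, 3, 4, 2, 3, 8, 1, 2, 3, 4, 5, 6, 7, 7, 7, 6, 5, 4, 3, 2, 1, 8, 3, 2, 4, 3, 5, 4, 6, 5, 7, 6, 8, 3, 2, 4, 3, 5, 4, 8, 3, 2, 1, 2, 3, 8, 4, 5, 3, 4, 2, 3, 8, 6, 7,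 5, 6, 4, 5, 3, 4, 2, 3, 8, 1, 2, 3, 4, 5, 6, 7, 7, 7, 6, 5, 4, 3, 2, 1, 8, 3, 2, 4, 3, 5, 4, 6, 5, 7, 6, 8, 3, 2, 4, 3, 5, 4, 8, 3, 2, 1, 2, 3, 8, 4, 5, 3, 4, 2, 3, 8, 6, 7, 5, 6, 4, 5, 3, 4, 2, 3, 8, 1, 2, 3, 4, 5, 6, 7, 7, 7, 6, 5, 4, 3, 2, 1, 8, 3, 2, 4, 3, 5, 4, 6, 5, 7, 6, 8, 3, 2, 4, 3, 5, 4, 8, 3, 2, 1, 2, 3, 8, 4, 5, 3, 4, 2, 3, 8, 6, 7, 5, 6, 4, 5, 3, 4, 2, 3, 8, 1, 2, 3, 4, 5, 6, 7, 7, 7, 6, 5, 4, 3, 2, 1, 8, 3, 2, 4, 3, 5, 4, 6, 5, 7, 6, 8, 3, 2, 4, 3, 5, 4, 8, 3, 2, 1, 2, 3, 8, 4, 5, 3, 4, 2, 3, 8, 6, 7, 5, 6, 4, 5, 3, 4, 2, 3, 8, 1, 2, 3, 4, 5, 6, 7]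
  | 10 => [7, 6, 5, 4, 3, 8, 2, 3, 4, 5, 6, 7, 7, 6, 5, 4, 3, 2, 1, 8, 3, 2, 4, 3, 5, 4, 6, 5, 7, 6, 8, 3, 2, 4, 3, 5, 4, 8, 3, 2, 1, 2, 3, 8, 4, 5, 3, 4, 2, 3, 8, 6, 7, 5, 6, 4, 5, 3, 4, 2, 3, 8, 1, 2, 3, 4, 5, 6, 7, 7, 6, 5, 4, 3, 2, 8, 3, 4, 5, 6, 7, 7, 6, 5, 4, 3, 2, 1, 8, 3, 2, 4, 3, 5, 4, 6, 5, 7, 6, 8, 3, 2, 4, 3, 5, 4, 8, 3, 2, 1, 2, 3, 8, 4, 5, 3, 4, 2, 3, 8, 6, 7, 5, 6, 4, 5, 3, 4, 2, 3, 8, 1, 2, 3, 4, 5, 6, 7, 7, 6, 5, 4, 3, 8, 2, 3, 4, 5, 6, 7, 7, 6, 5, 4, 3, 2, 1, 8, 3, 2, 4, 3, 5, 4, 6, 5, 7, 6, 8, 3, 2, 4, 3, 5, 4, 8, 3, 2, 1, 2, 3, 8, 4, 5, 3, 4, 2, 3, 8, 6, 7, 5, 6, 4, 5, 3, 4, 2, 3, 8, 1, 2, 3, 4, 5, 6, 7, 7, 6, 5, 4, 3, 2, 8, 3, 4, 5, 6, 7,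 7, 6, 5, 4, 3, 2, 1, 8, 3, 2, 4, 3, 5, 4, 6, 5, 7, 6, 8, 3, 2, 4, 3, 5, 4, 8, 3, 2, 1, 2, 3, 8, 4, 5, 3, 4, 2, 3, 8, 6, 7, 5, 6, 4, 5, 3, 4, 2, 3, 8, 1, 2, 3, 4, 5, 6, 7]
  | _ => []
def idR : Nat → List Nat
  | 0 => [0, 7, 6, 5, 4, 3, 2, 1, 8, 3, 2, 4, 3, 5, 4, 6, 5, 7, 6, 8, 3, 2, 4, 3, 5, 4, 8, 3, 2, 1, 2, 3, 8, 4, 5, 3, 4, 2, 3, 8, 6, 7, 5, 6, 4, 5, 3, 4, 2, 3, 8, 1, 2, 3, 4, 5, 6, 7]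
  | 1 => [1, 7, 6, 5, 4, 3, 2, 1, 8, 3, 2, 4, 3, 5, 4, 6, 5, 7, 6, 8, 3, 2, 4, 3, 5, 4, 8, 3, 2, 1, 2, 3, 8, 4, 5, 3, 4, 2, 3, 8, 6, 7, 5, 6, 4, 5, 3, 4, 2, 3, 8, 1, 2, 3, 4, 5, 6, 7]
  | 2 => [2, 7, 6, 5, 4, 3, 2, 1, 8, 3, 2, 4, 3, 5, 4, 6, 5, 7, 6, 8, 3, 2, 4, 3, 5, 4, 8, 3, 2, 1, 2, 3, 8, 4, 5, 3, 4, 2, 3, 8, 6, 7, 5, 6, 4, 5, 3, 4, 2, 3, 8, 1, 2, 3, 4, 5, 6, 7]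
  | 3 => [3, 7, 6, 5, 4, 3, 2, 1, 8, 3, 2, 4, 3, 5, 4, 6, 5, 7, 6, 8, 3, 2, 4, 3, 5, 4, 8, 3, 2, 1, 2, 3, 8, 4, 5, 3, 4, 2, 3, 8, 6, 7, 5, 6, 4, 5, 3, 4, 2, 3, 8, 1, 2, 3, 4, 5, 6, 7]
  | 4 => [4, 7, 6, 5, 4, 3, 2, 1, 8, 3, 2, 4, 3, 5, 4, 6, 5, 7, 6, 8, 3, 2, 4, 3, 5, 4, 8, 3, 2, 1, 2, 3, 8, 4, 5, 3, 4, 2, 3, 8, 6, 7, 5, 6, 4, 5, 3, 4, 2, 3, 8, 1, 2, 3, 4, 5, 6, 7]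
  | 5 => [5, 7, 6, 5, 4, 3, 2, 1, 8, 3, 2, 4, 3, 5, 4, 6, 5, 7, 6, 8, 3, 2, 4, 3, 5, 4, 8, 3, 2, 1, 2, 3, 8, 4, 5, 3, 4, 2, 3, 8, 6, 7, 5, 6, 4, 5, 3, 4, 2, 3, 8, 1, 2, 3, 4, 5, 6, 7]
  | 6 => [6, 7, 6, 5, 4, 3, 2, 1, 8, 3, 2, 4, 3, 5, 4, 6, 5, 7, 6, 8, 3, 2, 4, 3, 5, 4, 8, 3, 2, 1, 2, 3, 8, 4, 5, 3, 4, 2, 3, 8, 6, 7, 5, 6, 4, 5, 3, 4, 2, 3, 8, 1, 2, 3, 4, 5, 6, 7]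
  | 7 => [8, 7, 6, 5, 4, 3, 2, 1, 8, 3, 2, 4, 3, 5, 4, 6, 5, 7, 6, 8, 3, 2, 4, 3, 5, 4, 8, 3, 2, 1, 2, 3, 8, 4, 5, 3, 4, 2, 3, 8, 6, 7, 5, 6, 4, 5, 3, 4, 2, 3, 8, 1, 2, 3, 4, 5, 6, 7]
  | 8 => [9, 7, 6, 5, 4, 3, 2, 1, 8, 3, 2, 4, 3, 5, 4, 6, 5, 7, 6, 8, 3, 2, 4, 3, 5, 4, 8, 3, 2, 1, 2, 3, 8, 4, 5, 3, 4, 2, 3, 8, 6, 7, 5, 6, 4, 5, 3, 4, 2, 3, 8, 1, 2, 3, 4, 5, 6, 7]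
  | 9 => []
  | 10 => []
  | _ => []
def fl0 (i : Nat) : Nat := T0 (T7 (T6 (T5 (T4 (T3 (T2 (T1 (T8 (T3 (T2 (T4 (T3 (T5 (T4 (T6 (T5 (T7 (T6 (T8 (T3 (T2 (T4 (T3 (T5 (T4 (T8 (T3 (T2 (T1 (T2 (T3 (T8 (T4 (T5 (T3 (T4 (T2 (T3 (T8 (T6 (T7 (T5 (T6 (T4 (T5 (T3 (T4 (T2 (T3 (T8 (T1 (T2 (T3 (T4 (T5 (T6 (T7 i)))))))))))))))))))))))))))))))))))))))))))))))))))))))))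
def fr0 (i : Nat) : Nat := T7 (T6 (T5 (T4 (T3 (T2 (T1 (T8 (T3 (T2 (T4 (T3 (T5 (T4 (T6 (T5 (T7 (T6 (T8 (T3 (T2 (T4 (T3 (T5 (T4 (T8 (T3 (T2 (T1 (T2 (T3 (T8 (T4 (T5 (T3 (T4 (T2 (T3 (T8 (T6 (T7 (T5 (T6 (T4 (T5 (T3 (T4 (T2 (T3 (T8 (T1 (T2 (T3 (T4 (T5 (T6 (T7 (T0 i)))))))))))))))))))))))))))))))))))))))))))))))))))))))))
def fl1 (i : Nat) : Nat := T1 (T7 (T6 (T5 (T4 (T3 (T2 (T1 (T8 (T3 (T2 (T4 (T3 (T5 (T4 (T6 (T5 (T7 (T6 (T8 (T3 (T2 (T4 (T3 (T5 (T4 (T8 (T3 (T2 (T1 (T2 (T3 (T8 (T4 (T5 (T3 (T4 (T2 (T3 (T8 (T6 (T7 (T5 (T6 (T4 (T5 (T3 (T4 (T2 (T3 (T8 (T1 (T2 (T3 (T4 (T5 (T6 (T7 i)))))))))))))))))))))))))))))))))))))))))))))))))))))))))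
def fr1 (i : Nat) : Nat := T7 (T6 (T5 (T4 (T3 (T2 (T1 (T8 (T3 (T2 (T4 (T3 (T5 (T4 (T6 (T5 (T7 (T6 (T8 (T3 (T2 (T4 (T3 (T5 (T4 (T8 (T3 (T2 (T1 (T2 (T3 (T8 (T4 (T5 (T3 (T4 (T2 (T3 (T8 (T6 (T7 (T5 (T6 (T4 (T5 (T3 (T4 (T2 (T3 (T8 (T1 (T2 (T3 (T4 (T5 (T6 (T7 (T1 i)))))))))))))))))))))))))))))))))))))))))))))))))))))))))
def fl2 (i : Nat) : Nat := T2 (T7 (T6 (T5 (T4 (T3 (T2 (T1 (T8 (T3 (T2 (T4 (T3 (T5 (T4 (T6 (T5 (T7 (T6 (T8 (T3 (T2 (T4 (T3 (T5 (T4 (T8 (T3 (T2 (T1 (T2 (T3 (T8 (T4 (T5 (T3 (T4 (T2 (T3 (T8 (T6 (T7 (T5 (T6 (T4 (T5 (T3 (T4 (T2 (T3 (T8 (T1 (T2 (T3 (T4 (T5 (T6 (T7 i)))))))))))))))))))))))))))))))))))))))))))))))))))))))))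
def fr2 (i : Nat) : Nat := T7 (T6 (T5 (T4 (T3 (T2 (T1 (T8 (T3 (T2 (T4 (T3 (T5 (T4 (T6 (T5 (T7 (T6 (T8 (T3 (T2 (T4 (T3 (T5 (T4 (T8 (T3 (T2 (T1 (T2 (T3 (T8 (T4 (T5 (T3 (T4 (T2 (T3 (T8 (T6 (T7 (T5 (T6 (T4 (T5 (T3 (T4 (T2 (T3 (T8 (T1 (T2 (T3 (T4 (T5 (T6 (T7 (T2 i)))))))))))))))))))))))))))))))))))))))))))))))))))))))))
def fl3 (i : Nat) : Nat := T3 (T7 (T6 (T5 (T4 (T3 (T2 (T1 (T8 (T3 (T2 (T4 (T3 (T5 (T4 (T6 (T5 (T7 (T6 (T8 (T3 (T2 (T4 (T3 (T5 (T4 (T8 (T3 (T2 (T1 (T2 (T3 (T8 (T4 (T5 (T3 (T4 (T2 (T3 (T8 (T6 (T7 (T5 (T6 (T4 (T5 (T3 (T4 (T2 (T3 (T8 (T1 (T2 (T3 (T4 (T5 (T6 (T7 i)))))))))))))))))))))))))))))))))))))))))))))))))))))))))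
def fr3 (i : Nat) : Nat := T7 (T6 (T5 (T4 (T3 (T2 (T1 (T8 (T3 (T2 (T4 (T3 (T5 (T4 (T6 (T5 (T7 (T6 (T8 (T3 (T2 (T4 (T3 (T5 (T4 (T8 (T3 (T2 (T1 (T2 (T3 (T8 (T4 (T5 (T3 (T4 (T2 (T3 (T8 (T6 (T7 (T5 (T6 (T4 (T5 (T3 (T4 (T2 (T3 (T8 (T1 (T2 (T3 (T4 (T5 (T6 (T7 (T3 i)))))))))))))))))))))))))))))))))))))))))))))))))))))))))
def fl4 (i : Nat) : Nat := T4 (T7 (T6 (T5 (T4 (T3 (T2 (T1 (T8 (T3 (T2 (T4 (T3 (T5 (T4 (T6 (T5 (T7 (T6 (T8 (T3 (T2 (T4 (T3 (T5 (T4 (T8 (T3 (T2 (T1 (T2 (T3 (T8 (T4 (T5 (T3 (T4 (T2 (T3 (T8 (T6 (T7 (T5 (T6 (T4 (T5 (T3 (T4 (T2 (T3 (T8 (T1 (T2 (T3 (T4 (T5 (T6 (T7 i)))))))))))))))))))))))))))))))))))))))))))))))))))))))))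
def fr4 (i : Nat) : Nat := T7 (T6 (T5 (T4 (T3 (T2 (T1 (T8 (T3 (T2 (T4 (T3 (T5 (T4 (T6 (T5 (T7 (T6 (T8 (T3 (T2 (T4 (T3 (T5 (T4 (T8 (T3 (T2 (T1 (T2 (T3 (T8 (T4 (T5 (T3 (T4 (T2 (T3 (T8 (T6 (T7 (T5 (T6 (T4 (T5 (T3 (T4 (T2 (T3 (T8 (T1 (T2 (T3 (T4 (T5 (T6 (T7 (T4 i)))))))))))))))))))))))))))))))))))))))))))))))))))))))))
def fl5 (i : Nat) : Nat := T5 (T7 (T6 (T5 (T4 (T3 (T2 (T1 (T8 (T3 (T2 (T4 (T3 (T5 (T4 (T6 (T5 (T7 (T6 (T8 (T3 (T2 (T4 (T3 (T5 (T4 (T8 (T3 (T2 (T1 (T2 (T3 (T8 (T4 (T5 (T3 (T4 (T2 (T3 (T8 (T6 (T7 (T5 (T6 (T4 (T5 (T3 (T4 (T2 (T3 (T8 (T1 (T2 (T3 (T4 (T5 (T6 (T7 i)))))))))))))))))))))))))))))))))))))))))))))))))))))))))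
def fr5 (i : Nat) : Nat := T7 (T6 (T5 (T4 (T3 (T2 (T1 (T8 (T3 (T2 (T4 (T3 (T5 (T4 (T6 (T5 (T7 (T6 (T8 (T3 (T2 (T4 (T3 (T5 (T4 (T8 (T3 (T2 (T1 (T2 (T3 (T8 (T4 (T5 (T3 (T4 (T2 (T3 (T8 (T6 (T7 (T5 (T6 (T4 (T5 (T3 (T4 (T2 (T3 (T8 (T1 (T2 (T3 (T4 (T5 (T6 (T7 (T5 i)))))))))))))))))))))))))))))))))))))))))))))))))))))))))
def fl6 (i : Nat) : Nat := T6 (T7 (T6 (T5 (T4 (T3 (T2 (T1 (T8 (T3 (T2 (T4 (T3 (T5 (T4 (T6 (T5 (T7 (T6 (T8 (T3 (T2 (T4 (T3 (T5 (T4 (T8 (T3 (T2 (T1 (T2 (T3 (T8 (T4 (T5 (T3 (T4 (T2 (T3 (T8 (T6 (T7 (T5 (T6 (T4 (T5 (T3 (T4 (T2 (T3 (T8 (T1 (T2 (T3 (T4 (T5 (T6 (T7 i)))))))))))))))))))))))))))))))))))))))))))))))))))))))))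
def fr6 (i : Nat) : Nat := T7 (T6 (T5 (T4 (T3 (T2 (T1 (T8 (T3 (T2 (T4 (T3 (T5 (T4 (T6 (T5 (T7 (T6 (T8 (T3 (T2 (T4 (T3 (T5 (T4 (T8 (T3 (T2 (T1 (T2 (T3 (T8 (T4 (T5 (T3 (T4 (T2 (T3 (T8 (T6 (T7 (T5 (T6 (T4 (T5 (T3 (T4 (T2 (T3 (T8 (T1 (T2 (T3 (T4 (T5 (T6 (T7 (T6 i)))))))))))))))))))))))))))))))))))))))))))))))))))))))))
def fl7 (i : Nat) : Nat := T8 (T7 (T6 (T5 (T4 (T3 (T2 (T1 (T8 (T3 (T2 (T4 (T3 (T5 (T4 (T6 (T5 (T7 (T6 (T8 (T3 (T2 (T4 (T3 (T5 (T4 (T8 (T3 (T2 (T1 (T2 (T3 (T8 (T4 (T5 (T3 (T4 (T2 (T3 (T8 (T6 (T7 (T5 (T6 (T4 (T5 (T3 (T4 (T2 (T3 (T8 (T1 (T2 (T3 (T4 (T5 (T6 (T7 i)))))))))))))))))))))))))))))))))))))))))))))))))))))))))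
def fr7 (i : Nat) : Nat := T7 (T6 (T5 (T4 (T3 (T2 (T1 (T8 (T3 (T2 (T4 (T3 (T5 (T4 (T6 (T5 (T7 (T6 (T8 (T3 (T2 (T4 (T3 (T5 (T4 (T8 (T3 (T2 (T1 (T2 (T3 (T8 (T4 (T5 (T3 (T4 (T2 (T3 (T8 (T6 (T7 (T5 (T6 (T4 (T5 (T3 (T4 (T2 (T3 (T8 (T1 (T2 (T3 (T4 (T5 (T6 (T7 (T8 i)))))))))))))))))))))))))))))))))))))))))))))))))))))))))
def fl8 (i : Nat) : Nat := T9 (T7 (T6 (T5 (T4 (T3 (T2 (T1 (T8 (T3 (T2 (T4 (T3 (T5 (T4 (T6 (T5 (T7 (T6 (T8 (T3 (T2 (T4 (T3 (T5 (T4 (T8 (T3 (T2 (T1 (T2 (T3 (T8 (T4 (T5 (T3 (T4 (T2 (T3 (T8 (T6 (T7 (T5 (T6 (T4 (T5 (T3 (T4 (T2 (T3 (T8 (T1 (T2 (T3 (T4 (T5 (T6 (T7 i)))))))))))))))))))))))))))))))))))))))))))))))))))))))))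
def fr8 (i : Nat) : Nat := T7 (T6 (T5 (T4 (T3 (T2 (T1 (T8 (T3 (T2 (T4 (T3 (T5 (T4 (T6 (T5 (T7 (T6 (T8 (T3 (T2 (T4 (T3 (T5 (T4 (T8 (T3 (T2 (T1 (T2 (T3 (T8 (T4 (T5 (T3 (T4 (T2 (T3 (T8 (T6 (T7 (T5 (T6 (T4 (T5 (T3 (T4 (T2 (T3 (T8 (T1 (T2 (T3 (T4 (T5 (T6 (T7 (T9 i)))))))))))))))))))))))))))))))))))))))))))))))))))))))))
def fl9 (i : Nat) : Nat := T7 (T6 (T5 (T4 (T3 (T2 (T1 (T8 (T3 (T2 (T4 (T3 (T5 (T4 (T6 (T5 (T7 (T6 (T8 (T3 (T2 (T4 (T3 (T5 (T4 (T8 (T3 (T2 (T1 (T2 (T3 (T8 (T4 (T5 (T3 (T4 (T2 (T3 (T8 (T6 (T7 (T5 (T6 (T4 (T5 (T3 (T4 (T2 (T3 (T8 (T1 (T2 (T3 (T4 (T5 (T6 (T7 (T7 (T7 (T6 (T5 (T4 (T3 (T2 (T1 (T8 (T3 (T2 (T4 (T3 (T5 (T4 (T6 (T5 (T7 (T6 (T8 (T3 (T2 (T4 (T3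 (T5 (T4 (T8 (T3 (T2 (T1 (T2 (T3 (T8 (T4 (T5 (T3 (T4 (T2 (T3 (T8 (T6 (T7 (T5 (T6 (T4 (T5 (T3 (T4 (T2 (T3 (T8 (T1 (T2 (T3 (T4 (T5 (T6 (T7 (T7 (T7 (T6 (T5 (T4 (T3 (T2 (T1 (T8 (T3 (T2 (T4 (T3 (T5 (T4 (T6 (T5 (T7 (T6 (T8 (T3 (T2 (T4 (T3 (T5 (T4 (T8 (T3 (T2 (T1 (T2 (T3 (T8 (T4 (T5 (T3 (T4 (T2 (T3 (T8 (T6 (T7 (T5 (T6 (T4 (T5 (T3 (T4 (T2 (T3 (T8 (T1 (T2 (T3 (T4 (T5 (T6 (T7 (T7 (T7 (T6 (T5 (T4 (T3 (T2 (T1 (T8 (T3 (T2 (T4 (T3 (T5 (T4 (T6 (T5 (T7 (T6 (T8 (T3 (T2 (T4 (T3 (T5 (T4 (T8 (T3 (T2 (T1 (T2 (T3 (T8 (T4 (T5 (T3 (T4 (T2 (T3 (T8 (T6 (T7 (T5 (T6 (T4 (T5 (T3 (T4 (T2 (T3 (T8 (T1 (T2 (T3 (T4 (T5 (T6 (T7 (T7 (T7 (T6 (T5 (T4 (T3 (T2 (T1 (T8 (T3 (T2 (T4 (T3 (T5 (T4 (T6 (T5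 (T7 (T6 (T8 (T3 (T2 (T4 (T3 (T5 (T4 (T8 (T3 (T2 (T1 (T2 (T3 (T8 (T4 (T5 (T3 (T4 (T2 (T3 (T8 (T6 (T7 (T5 (T6 (T4 (T5 (T3 (T4 (T2 (T3 (T8 (T1 (T2 (T3 (T4 (T5 (T6 (T7 (T7 (T7 (T6 (T5 (T4 (T3 (T2 (T1 (T8 (T3 (T2 (T4 (T3 (T5 (T4 (T6 (T5 (T7 (T6 (T8 (T3 (T2 (T4 (T3 (T5 (T4 (T8 (T3 (T2 (T1 (T2 (T3 (T8 (T4 (T5 (T3 (T4 (T2 (T3 (T8 (T6 (T7 (T5 (T6 (T4 (T5 (T3 (T4 (T2 (T3 (T8 (T1 (T2 (T3 (T4 (T5 (T6 (T7 (T7 i)))))))))))))))))))))))))))))))))))))))))))))))))))))))))))))))))))))))))))))))))))))))))))))))))))))))))))))))))))))))))))))))))))))))))))))))))))))))))))))))))))))))))))))))))))))))))))))))))))))))))))))))))))))))))))))))))))))))))))))))))))))))))))))))))))))))))))))))))))))))))))))))))))))))))))))))))))))))))))))))))))))))))))))))))))))))))))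
def fr9 (i : Nat) : Nat := i
def fl10 (i : Nat) : Nat := T7 (T6 (T5 (T4 (T3 (T2 (T1 (T8 (T3 (T2 (T4 (T3 (T5 (T4 (T6 (T5 (T7 (T6 (T8 (T3 (T2 (T4 (T3 (T5 (T4 (T8 (T3 (T2 (T1 (T2 (T3 (T8 (T4 (T5 (T3 (T4 (T2 (T3 (T8 (T6 (T7 (T5 (T6 (T4 (T5 (T3 (T4 (T2 (T3 (T8 (T1 (T2 (T3 (T4 (T5 (T6 (T7 (T7 (T6 (T5 (T4 (T3 (T8 (T2 (T3 (T4 (T5 (T6 (T7 (T7 (T6 (T5 (T4 (T3 (T2 (T1 (T8 (T3 (T2 (T4 (T3 (T5 (T4 (T6 (T5 (T7 (T6 (T8 (T3 (T2 (T4 (T3 (T5 (T4 (T8 (T3 (T2 (T1 (T2 (T3 (T8 (T4 (T5 (T3 (T4 (T2 (T3 (T8 (T6 (T7 (T5 (T6 (T4 (T5 (T3 (T4 (T2 (T3 (T8 (T1 (T2 (T3 (T4 (T5 (T6 (T7 (T7 (T6 (T5 (T4 (T3 (T2 (T8 (T3 (T4 (T5 (T6 (T7 (T7 (T6 (T5 (T4 (T3 (T2 (T1 (T8 (T3 (T2 (T4 (T3 (T5 (T4 (T6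 (T5 (T7 (T6 (T8 (T3 (T2 (T4 (T3 (T5 (T4 (T8 (T3 (T2 (T1 (T2 (T3 (T8 (T4 (T5 (T3 (T4 (T2 (T3 (T8 (T6 (T7 (T5 (T6 (T4 (T5 (T3 (T4 (T2 (T3 (T8 (T1 (T2 (T3 (T4 (T5 (T6 (T7 (T7 (T6 (T5 (T4 (T3 (T8 (T2 (T3 (T4 (T5 (T6 (T7 (T7 (T6 (T5 (T4 (T3 (T2 (T1 (T8 (T3 (T2 (T4 (T3 (T5 (T4 (T6 (T5 (T7 (T6 (T8 (T3 (T2 (T4 (T3 (T5 (T4 (T8 (T3 (T2 (T1 (T2 (T3 (T8 (T4 (T5 (T3 (T4 (T2 (T3 (T8 (T6 (T7 (T5 (T6 (T4 (T5 (T3 (T4 (T2 (T3 (T8 (T1 (T2 (T3 (T4 (T5 (T6 (T7 (T7 (T6 (T5 (T4 (T3 (T2 (T8 (T3 (T4 (T5 (T6 (T7 i)))))))))))))))))))))))))))))))))))))))))))))))))))))))))))))))))))))))))))))))))))))))))))))))))))))))))))))))))))))))))))))))))))))))))))))))))))))))))))))))))))))))))))))))))))))))))))))))))))))))))))))))))))))))))))))))))))))))))))))))))))))))))))))))))))))))))))))))))))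
def fr10 (i : Nat) : Nat := i
def ckY (i : Nat) : Bool := Nat.ble nn i || (Nat.beq (fl0 i) (fr0 i) && (Nat.beq (fl1 i) (fr1 i) && (Nat.beq (fl2 i) (fr2 i) && (Nat.beq (fl3 i) (fr3 i) && (Nat.beq (fl4 i) (fr4 i) && (Nat.beq (fl5 i) (fr5 i) && (Nat.beq (fl6 i) (fr6 i) && (Nat.beq (fl7 i) (fr7 i) && (Nat.beq (fl8 i) (fr8 i) && (Nat.beq (fl9 i) (fr9 i) && (Nat.beq (fl10 i) (fr10 i) && true)))))))))))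

end Cfsg.Agent.Lib.Helper25.TC.Fi23Y
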