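import Cfsg.Agent.Lib.Helper25.TCFi23Y

set_option autoImplicit false
set_option maxRecDepth 1000000
set_option linter.unusedVariables false
set_option Elab.async false

namespace Cfsg.Agent.Lib.Helper25.TC.Fi23Y

open Cfsg.Agent.Lib.Helper25.TC Cfsg.Agent.Lib.Helper25.TC.Fi23_31671

theorem k_yp_240 : allR ckY 5 7680 = true := by decide +kernel
theorem k_yp_241 : allR ckY 5 7712 = true := by decide +kernel
theorem k_yp_242 : allR ckY 5 7744 = true := by decide +kernel
theorem k_yp_243 : allR ckY 5 7776 = true := by decide +kernel
theorem k_yp_244 : allR ckY 5 7808 = true := by decide +kernel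
theorem k_yp_245 : allR ckY 5 7840 = true := by decide +kernel
theorem k_yp_246 : allR ckY 5 7872 = true := by decide +kernel
theorem k_yp_247 : allR ckY 5 7904 = true := by decide +kernel
theorem k_yp_248 : allR ckY 5 7936 = true := by decide +kernel
theorem k_yp_249 : allR ckY 5 7968 = true := by decide +kernel
theorem k_yp_250 : allR ckY 5 8000 = true := by decide +kernel
theorem k_yp_251 : allR ckY 5 8032 = true := by decide +kernel
theorem k_yp_252 : allR ckY 5 8064 = true := by decide +kernel
theorem k_yp_253 : allR ckY 5 8096 = true := by decide +kernel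
theorem k_yp_254 : allR ckY 5 8128 = true := by decide +kernel
theorem k_yp_255 : allR ckY 5 8160 = true := by decide +kernel
theorem k_yp_256 : allR ckY 5 8192 = true := by decide +kernel
theorem k_yp_257 : allR ckY 5 8224 = true := by decide +kernel
theorem k_yp_258 : allR ckY 5 8256 = true := by decide +kernel
theorem k_yp_259 : allR ckY 5 8288 = true := by decide +kernel
theorem k_yp_260 : allR ckY 5 8320 = true := by decide +kernel
theorem k_yp_261 : allR ckY 5 8352 = true := by decide +kernel
theorem k_yp_262 : allR ckY 5 8384 = true := by decide +kernel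
theorem k_yp_263 : allR ckY 5 8416 = true := by decide +kernel

end Cfsg.Agent.Lib.Helper25.TC.Fi23Y
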