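import Cfsg.Agent.Lib.Helper25.TCFi23Y

set_option autoImplicit false
set_option maxRecDepth 1000000
set_option linter.unusedVariables false
set_option Elab.async false

namespace Cfsg.Agent.Lib.Helper25.TC.Fi23Y

open Cfsg.Agent.Lib.Helper25.TC Cfsg.Agent.Lib.Helper25.TC.Fi23_31671

theorem k_yp_528 : allR ckY 5 16896 = true := by decide +kernel
theorem k_yp_529 : allR ckY 5 16928 = true := by decide +kernel
theorem k_yp_530 : allR ckY 5 16960 = true := by decide +kernel
theorem k_yp_531 : allR ckY 5 16992 = true := by decide +kernel
theorem k_yp_532 : allR ckY 5 17024 = true := by decide +kernel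
theorem k_yp_533 : allR ckY 5 17056 = true := by decide +kernel
theorem k_yp_534 : allR ckY 5 17088 = true := by decide +kernel
theorem k_yp_535 : allR ckY 5 17120 = true := by decide +kernel
theorem k_yp_536 : allR ckY 5 17152 = true := by decide +kernel
theorem k_yp_537 : allR ckY 5 17184 = true := by decide +kernel
theorem k_yp_538 : allR ckY 5 17216 = true := by decide +kernel
theorem k_yp_539 : allR ckY 5 17248 = true := by decide +kernel
theorem k_yp_540 : allR ckY 5 17280 = true := by decide +kernel
theorem k_yp_541 : allR ckY 5 17312 = true := by decide +kernel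
theorem k_yp_542 : allR ckY 5 17344 = true := by decide +kernel
theorem k_yp_543 : allR ckY 5 17376 = true := by decide +kernel
theorem k_yp_544 : allR ckY 5 17408 = true := by decide +kernel
theorem k_yp_545 : allR ckY 5 17440 = true := by decide +kernel
theorem k_yp_546 : allR ckY 5 17472 = true := by decide +kernel
theorem k_yp_547 : allR ckY 5 17504 = true := by decide +kernel
theorem k_yp_548 : allR ckY 5 17536 = true := by decide +kernel
theorem k_yp_549 : allR ckY 5 17568 = true := by decide +kernel
theorem k_yp_550 : allR ckY 5 17600 = true := by decide +kernel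
theorem k_yp_551 : allR ckY 5 17632 = true := by decide +kernel

end Cfsg.Agent.Lib.Helper25.TC.Fi23Y
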