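import Cfsg.Agent.Lib.Helper25.TCFi23Y

set_option autoImplicit false
set_option maxRecDepth 1000000
set_option linter.unusedVariables false
set_option Elab.async false

namespace Cfsg.Agent.Lib.Helper25.TC.Fi23Y

open Cfsg.Agent.Lib.Helper25.TC Cfsg.Agent.Lib.Helper25.TC.Fi23_31671

theorem k_yp_816 : allR ckY 5 26112 = true := by decide +kernel
theorem k_yp_817 : allR ckY 5 26144 = true := by decide +kernel
theorem k_yp_818 : allR ckY 5 26176 = true := by decide +kernel
theorem k_yp_819 : allR ckY 5 26208 = true := by decide +kernel
theorem k_yp_820 : allR ckY 5 26240 = true := by decide +kernel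
theorem k_yp_821 : allR ckY 5 26272 = true := by decide +kernel
theorem k_yp_822 : allR ckY 5 26304 = true := by decide +kernel
theorem k_yp_823 : allR ckY 5 26336 = true := by decide +kernel
theorem k_yp_824 : allR ckY 5 26368 = true := by decide +kernel
theorem k_yp_825 : allR ckY 5 26400 = true := by decide +kernel
theorem k_yp_826 : allR ckY 5 26432 = true := by decide +kernel
theorem k_yp_827 : allR ckY 5 26464 = true := by decide +kernel
theorem k_yp_828 : allR ckY 5 26496 = true := by decide +kernel
theorem k_yp_829 : allR ckY 5 26528 = true := by decide +kernel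
theorem k_yp_830 : allR ckY 5 26560 = true := by decide +kernel
theorem k_yp_831 : allR ckY 5 26592 = true := by decide +kernel
theorem k_yp_832 : allR ckY 5 26624 = true := by decide +kernel
theorem k_yp_833 : allR ckY 5 26656 = true := by decide +kernel
theorem k_yp_834 : allR ckY 5 26688 = true := by decide +kernel
theorem k_yp_835 : allR ckY 5 26720 = true := by decide +kernel
theorem k_yp_836 : allR ckY 5 26752 = true := by decide +kernel
theorem k_yp_837 : allR ckY 5 26784 = true := by decide +kernel
theorem k_yp_838 : allR ckY 5 26816 = true := by decide +kernel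
theorem k_yp_839 : allR ckY 5 26848 = true := by decide +kernel

end Cfsg.Agent.Lib.Helper25.TC.Fi23Y
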