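import Cfsg.Agent.Lib.Helper25.TCFi23_31671T

set_option autoImplicit false
set_option maxRecDepth 1000000
set_option linter.unusedVariables false
set_option Elab.async false

namespace Cfsg.Agent.Lib.Helper25.TC.Fi23_31671

open Cfsg.Agent.Lib.Helper25.TC

theorem k_relp_0 : allR fastRel 7 0 = true := by decide +kernel
theorem k_relp_1 : allR fastRel 7 128 = true := by decide +kernel
theorem k_relp_2 : allR fastRel 7 256 = true := by decide +kernel
theorem k_relp_3 : allR fastRel 7 384 = true := by decide +kernel
theorem k_relp_4 : allR fastRel 7 512 = true := by decide +kernel
theorem k_relp_5 : allR fastRel 7 640 = true := by decide +kernel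
theorem k_relp_6 : allR fastRel 7 768 = true := by decide +kernel
theorem k_relp_7 : allR fastRel 7 896 = true := by decide +kernel
theorem k_relp_8 : allR fastRel 7 1024 = true := by decide +kernel
theorem k_relp_9 : allR fastRel 7 1152 = true := by decide +kernel
theorem k_relp_10 : allR fastRel 7 1280 = true := by decide +kernel
theorem k_relp_11 : allR fastRel 7 1408 = true := by decide +kernel
theorem k_relp_12 : allR fastRel 7 1536 = true := by decide +kernel
theorem k_relp_13 : allR fastRel 7 1664 = true := by decide +kernel
theorem k_relp_14 : allR fastRel 7 1792 = true := by decide +kernel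
theorem k_relp_15 : allR fastRel 7 1920 = true := by decide +kernel
theorem k_relp_16 : allR fastRel 7 2048 = true := by decide +kernel
theorem k_relp_17 : allR fastRel 7 2176 = true := by decide +kernel
theorem k_relp_18 : allR fastRel 7 2304 = true := by decide +kernel
theorem k_relp_19 : allR fastRel 7 2432 = true := by decide +kernel
theorem k_relp_20 : allR fastRel 7 2560 = true := by decide +kernel
theorem k_relp_21 : allR fastRel 7 2688 = true := by decide +kernel
theorem k_relp_22 : allR fastRel 7 2816 = true := by decide +kernel
theorem k_relp_23 : allR fastRel 7 2944 = true := by decide +kernel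
theorem k_relp_24 : allR fastRel 7 3072 = true := by decide +kernel
theorem k_relp_25 : allR fastRel 7 3200 = true := by decide +kernel
theorem k_relp_26 : allR fastRel 7 3328 = true := by decide +kernel
theorem k_relp_27 : allR fastRel 7 3456 = true := by decide +kernel

end Cfsg.Agent.Lib.Helper25.TC.Fi23_31671
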