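import Cfsg.Agent.Lib.Helper25.TCFi23_31671T

set_option autoImplicit false
set_option maxRecDepth 1000000
set_option linter.unusedVariables false
set_option Elab.async false

namespace Cfsg.Agent.Lib.Helper25.TC.Fi23_31671

open Cfsg.Agent.Lib.Helper25.TC

theorem k_certp_66 : allR (ckCert C nF) 9 33792 = true := by decide +kernel
theorem k_certp_67 : allR (ckCert C nF) 9 34304 = true := by decide +kernel
theorem k_certp_68 : allR (ckCert C nF) 9 34816 = true := by decide +kernel
theorem k_certp_69 : allR (ckCert C nF) 9 35328 = true := by decide +kernel
theorem k_certp_70 : allR (ckCert C nF) 9 35840 = true := by decide +kernel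
theorem k_certp_71 : allR (ckCert C nF) 9 36352 = true := by decide +kernel
theorem k_certp_72 : allR (ckCert C nF) 9 36864 = true := by decide +kernel
theorem k_certp_73 : allR (ckCert C nF) 9 37376 = true := by decide +kernel
theorem k_certp_74 : allR (ckCert C nF) 9 37888 = true := by decide +kernel
theorem k_certp_75 : allR (ckCert C nF) 9 38400 = true := by decide +kernel
theorem k_certp_76 : allR (ckCert C nF) 9 38912 = true := by decide +kernel
theorem k_certp_77 : allR (ckCert C nF) 9 39424 = true := by decide +kernel
theorem k_certp_78 : allR (ckCert C nF) 9 39936 = true := by decide +kernel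
theorem k_certp_79 : allR (ckCert C nF) 9 40448 = true := by decide +kernel
theorem k_certp_80 : allR (ckCert C nF) 9 40960 = true := by decide +kernel
theorem k_certp_81 : allR (ckCert C nF) 9 41472 = true := by decide +kernel
theorem k_certp_82 : allR (ckCert C nF) 9 41984 = true := by decide +kernel
theorem k_certp_83 : allR (ckCert C nF) 9 42496 = true := by decide +kernel
theorem k_certp_84 : allR (ckCert C nF) 9 43008 = true := by decide +kernel
theorem k_certp_85 : allR (ckCert C nF) 9 43520 = true := by decide +kernel
theorem k_certp_86 : allR (ckCert C nF) 9 44032 = true := by decide +kernel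
theorem k_certp_87 : allR (ckCert C nF) 9 44544 = true := by decide +kernel
theorem k_certp_88 : allR (ckCert C nF) 9 45056 = true := by decide +kernel
theorem k_certp_89 : allR (ckCert C nF) 9 45568 = true := by decide +kernel
theorem k_certp_90 : allR (ckCert C nF) 9 46080 = true := by decide +kernel
theorem k_certp_91 : allR (ckCert C nF) 9 46592 = true := by decide +kernel
theorem k_certp_92 : allR (ckCert C nF) 9 47104 = true := by decide +kernel
theorem k_certp_93 : allR (ckCert C nF) 9 47616 = true := by decide +kernel
theorem k_certp_94 : allR (ckCert C nF) 9 48128 = true := by decide +kernel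
theorem k_certp_95 : allR (ckCert C nF) 9 48640 = true := by decide +kernel
theorem k_certp_96 : allR (ckCert C nF) 9 49152 = true := by decide +kernel

end Cfsg.Agent.Lib.Helper25.TC.Fi23_31671
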