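import Cfsg.Agent.Lib.Helper25.TCFi23_31671T

set_option autoImplicit false
set_option maxRecDepth 1000000
set_option linter.unusedVariables false
set_option Elab.async false

namespace Cfsg.Agent.Lib.Helper25.TC.Fi23_31671

open Cfsg.Agent.Lib.Helper25.TC

theorem k_certp_97 : allR (ckCert C nF) 9 49664 = true := by decide +kernel
theorem k_certp_98 : allR (ckCert C nF) 9 50176 = true := by decide +kernel
theorem k_certp_99 : allR (ckCert C nF) 9 50688 = true := by decide +kernel
theorem k_certp_100 : allR (ckCert C nF) 9 51200 = true := by decide +kernel
theorem k_certp_101 : allR (ckCert C nF) 9 51712 = true := by decide +kernel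
theorem k_certp_102 : allR (ckCert C nF) 9 52224 = true := by decide +kernel
theorem k_certp_103 : allR (ckCert C nF) 9 52736 = true := by decide +kernel
theorem k_certp_104 : allR (ckCert C nF) 9 53248 = true := by decide +kernel
theorem k_certp_105 : allR (ckCert C nF) 9 53760 = true := by decide +kernel
theorem k_certp_106 : allR (ckCert C nF) 9 54272 = true := by decide +kernel
theorem k_certp_107 : allR (ckCert C nF) 9 54784 = true := by decide +kernel
theorem k_certp_108 : allR (ckCert C nF) 9 55296 = true := by decide +kernel
theorem k_certp_109 : allR (ckCert C nF) 9 55808 = true := by decide +kernel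
theorem k_certp_110 : allR (ckCert C nF) 9 56320 = true := by decide +kernel
theorem k_certp_111 : allR (ckCert C nF) 9 56832 = true := by decide +kernel
theorem k_certp_112 : allR (ckCert C nF) 9 57344 = true := by decide +kernel
theorem k_certp_113 : allR (ckCert C nF) 9 57856 = true := by decide +kernel
theorem k_certp_114 : allR (ckCert C nF) 9 58368 = true := by decide +kernel
theorem k_certp_115 : allR (ckCert C nF) 9 58880 = true := by decide +kernel
theorem k_certp_116 : allR (ckCert C nF) 9 59392 = true := by decide +kernel
theorem k_certp_117 : allR (ckCert C nF) 9 59904 = true := by decide +kernel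
theorem k_certp_118 : allR (ckCert C nF) 9 60416 = true := by decide +kernel
theorem k_certp_119 : allR (ckCert C nF) 9 60928 = true := by decide +kernel
theorem k_certp_120 : allR (ckCert C nF) 9 61440 = true := by decide +kernel
theorem k_certp_121 : allR (ckCert C nF) 9 61952 = true := by decide +kernel
theorem k_certp_122 : allR (ckCert C nF) 9 62464 = true := by decide +kernel
theorem k_certp_123 : allR (ckCert C nF) 9 62976 = true := by decide +kernel
theorem k_certp_124 : allR (ckCert C nF) 9 63488 = true := by decide +kernel
theorem k_certp_125 : allR (ckCert C nF) 9 64000 = true := by decide +kernel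
theorem k_certp_126 : allR (ckCert C nF) 9 64512 = true := by decide +kernel
theorem k_certp_127 : allR (ckCert C nF) 9 65024 = true := by decide +kernel

end Cfsg.Agent.Lib.Helper25.TC.Fi23_31671
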