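import Cfsg.Agent.Lib.Helper25.TCFi23_31671T

set_option autoImplicit false
set_option maxRecDepth 1000000
set_option linter.unusedVariables false
set_option Elab.async false

namespace Cfsg.Agent.Lib.Helper25.TC.Fi23_31671

open Cfsg.Agent.Lib.Helper25.TC

theorem k_certp_128 : allR (ckCert C nF) 9 65536 = true := by decide +kernel
theorem k_certp_129 : allR (ckCert C nF) 9 66048 = true := by decide +kernel
theorem k_certp_130 : allR (ckCert C nF) 9 66560 = true := by decide +kernel
theorem k_certp_131 : allR (ckCert C nF) 9 67072 = true := by decide +kernel
theorem k_certp_132 : allR (ckCert C nF) 9 67584 = true := by decide +kernel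
theorem k_certp_133 : allR (ckCert C nF) 9 68096 = true := by decide +kernel
theorem k_certp_134 : allR (ckCert C nF) 9 68608 = true := by decide +kernel
theorem k_certp_135 : allR (ckCert C nF) 9 69120 = true := by decide +kernel
theorem k_certp_136 : allR (ckCert C nF) 9 69632 = true := by decide +kernel
theorem k_certp_137 : allR (ckCert C nF) 9 70144 = true := by decide +kernel
theorem k_certp_138 : allR (ckCert C nF) 9 70656 = true := by decide +kernel
theorem k_certp_139 : allR (ckCert C nF) 9 71168 = true := by decide +kernel
theorem k_certp_140 : allR (ckCert C nF) 9 71680 = true := by decide +kernel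
theorem k_certp_141 : allR (ckCert C nF) 9 72192 = true := by decide +kernel
theorem k_certp_142 : allR (ckCert C nF) 9 72704 = true := by decide +kernel
theorem k_certp_143 : allR (ckCert C nF) 9 73216 = true := by decide +kernel
theorem k_certp_144 : allR (ckCert C nF) 9 73728 = true := by decide +kernel
theorem k_certp_145 : allR (ckCert C nF) 9 74240 = true := by decide +kernel
theorem k_certp_146 : allR (ckCert C nF) 9 74752 = true := by decide +kernel
theorem k_certp_147 : allR (ckCert C nF) 9 75264 = true := by decide +kernel
theorem k_certp_148 : allR (ckCert C nF) 9 75776 = true := by decide +kernel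
theorem k_certp_149 : allR (ckCert C nF) 9 76288 = true := by decide +kernel
theorem k_certp_150 : allR (ckCert C nF) 9 76800 = true := by decide +kernel
theorem k_certp_151 : allR (ckCert C nF) 9 77312 = true := by decide +kernel
theorem k_certp_152 : allR (ckCert C nF) 9 77824 = true := by decide +kernel
theorem k_certp_153 : allR (ckCert C nF) 9 78336 = true := by decide +kernel
theorem k_certp_154 : allR (ckCert C nF) 9 78848 = true := by decide +kernel
theorem k_certp_155 : allR (ckCert C nF) 9 79360 = true := by decide +kernel
theorem k_certp_156 : allR (ckCert C nF) 9 79872 = true := by decide +kernel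
theorem k_certp_157 : allR (ckCert C nF) 9 80384 = true := by decide +kernel
theorem k_certp_158 : allR (ckCert C nF) 9 80896 = true := by decide +kernel

end Cfsg.Agent.Lib.Helper25.TC.Fi23_31671
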