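import Cfsg.Agent.Lib.Helper25.TCFi23_31671T

set_option autoImplicit false
set_option maxRecDepth 1000000
set_option linter.unusedVariables false
set_option Elab.async false

namespace Cfsg.Agent.Lib.Helper25.TC.Fi23_31671

open Cfsg.Agent.Lib.Helper25.TC

theorem k_certp_159 : allR (ckCert C nF) 9 81408 = true := by decide +kernel
theorem k_certp_160 : allR (ckCert C nF) 9 81920 = true := by decide +kernel
theorem k_certp_161 : allR (ckCert C nF) 9 82432 = true := by decide +kernel
theorem k_certp_162 : allR (ckCert C nF) 9 82944 = true := by decide +kernel
theorem k_certp_163 : allR (ckCert C nF) 9 83456 = true := by decide +kernel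
theorem k_certp_164 : allR (ckCert C nF) 9 83968 = true := by decide +kernel
theorem k_certp_165 : allR (ckCert C nF) 9 84480 = true := by decide +kernel
theorem k_certp_166 : allR (ckCert C nF) 9 84992 = true := by decide +kernel
theorem k_certp_167 : allR (ckCert C nF) 9 85504 = true := by decide +kernel
theorem k_certp_168 : allR (ckCert C nF) 9 86016 = true := by decide +kernel
theorem k_certp_169 : allR (ckCert C nF) 9 86528 = true := by decide +kernel
theorem k_certp_170 : allR (ckCert C nF) 9 87040 = true := by decide +kernel
theorem k_certp_171 : allR (ckCert C nF) 9 87552 = true := by decide +kernel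
theorem k_certp_172 : allR (ckCert C nF) 9 88064 = true := by decide +kernel
theorem k_certp_173 : allR (ckCert C nF) 9 88576 = true := by decide +kernel
theorem k_certp_174 : allR (ckCert C nF) 9 89088 = true := by decide +kernel
theorem k_certp_175 : allR (ckCert C nF) 9 89600 = true := by decide +kernel
theorem k_certp_176 : allR (ckCert C nF) 9 90112 = true := by decide +kernel
theorem k_certp_177 : allR (ckCert C nF) 9 90624 = true := by decide +kernel
theorem k_certp_178 : allR (ckCert C nF) 9 91136 = true := by decide +kernel
theorem k_certp_179 : allR (ckCert C nF) 9 91648 = true := by decide +kernel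
theorem k_certp_180 : allR (ckCert C nF) 9 92160 = true := by decide +kernel
theorem k_certp_181 : allR (ckCert C nF) 9 92672 = true := by decide +kernel
theorem k_certp_182 : allR (ckCert C nF) 9 93184 = true := by decide +kernel
theorem k_certp_183 : allR (ckCert C nF) 9 93696 = true := by decide +kernel
theorem k_certp_184 : allR (ckCert C nF) 9 94208 = true := by decide +kernel
theorem k_certp_185 : allR (ckCert C nF) 9 94720 = true := by decide +kernel
theorem k_certp_186 : allR (ckCert C nF) 9 95232 = true := by decide +kernel
theorem k_certp_187 : allR (ckCert C nF) 9 95744 = true := by decide +kernel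
theorem k_certp_188 : allR (ckCert C nF) 9 96256 = true := by decide +kernel
theorem k_certp_189 : allR (ckCert C nF) 9 96768 = true := by decide +kernel

end Cfsg.Agent.Lib.Helper25.TC.Fi23_31671
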