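import Cfsg.Agent.Lib.Helper25.TCFi23_31671T

set_option autoImplicit false
set_option maxRecDepth 1000000
set_option linter.unusedVariables false
set_option Elab.async false

namespace Cfsg.Agent.Lib.Helper25.TC.Fi23_31671

open Cfsg.Agent.Lib.Helper25.TC

theorem k_certp_221 : allR (ckCert C nF) 9 113152 = true := by decide +kernel
theorem k_certp_222 : allR (ckCert C nF) 9 113664 = true := by decide +kernel
theorem k_certp_223 : allR (ckCert C nF) 9 114176 = true := by decide +kernel
theorem k_certp_224 : allR (ckCert C nF) 9 114688 = true := by decide +kernel
theorem k_certp_225 : allR (ckCert C nF) 9 115200 = true := by decide +kernel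
theorem k_certp_226 : allR (ckCert C nF) 9 115712 = true := by decide +kernel
theorem k_certp_227 : allR (ckCert C nF) 9 116224 = true := by decide +kernel
theorem k_certp_228 : allR (ckCert C nF) 9 116736 = true := by decide +kernel
theorem k_certp_229 : allR (ckCert C nF) 9 117248 = true := by decide +kernel
theorem k_certp_230 : allR (ckCert C nF) 9 117760 = true := by decide +kernel
theorem k_certp_231 : allR (ckCert C nF) 9 118272 = true := by decide +kernel
theorem k_certp_232 : allR (ckCert C nF) 9 118784 = true := by decide +kernel
theorem k_certp_233 : allR (ckCert C nF) 9 119296 = true := by decide +kernel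
theorem k_certp_234 : allR (ckCert C nF) 9 119808 = true := by decide +kernel
theorem k_certp_235 : allR (ckCert C nF) 9 120320 = true := by decide +kernel
theorem k_certp_236 : allR (ckCert C nF) 9 120832 = true := by decide +kernel
theorem k_certp_237 : allR (ckCert C nF) 9 121344 = true := by decide +kernel
theorem k_certp_238 : allR (ckCert C nF) 9 121856 = true := by decide +kernel
theorem k_certp_239 : allR (ckCert C nF) 9 122368 = true := by decide +kernel
theorem k_certp_240 : allR (ckCert C nF) 9 122880 = true := by decide +kernel
theorem k_certp_241 : allR (ckCert C nF) 9 123392 = true := by decide +kernel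
theorem k_certp_242 : allR (ckCert C nF) 9 123904 = true := by decide +kernel
theorem k_certp_243 : allR (ckCert C nF) 9 124416 = true := by decide +kernel
theorem k_certp_244 : allR (ckCert C nF) 9 124928 = true := by decide +kernel
theorem k_certp_245 : allR (ckCert C nF) 9 125440 = true := by decide +kernel
theorem k_certp_246 : allR (ckCert C nF) 9 125952 = true := by decide +kernel
theorem k_certp_247 : allR (ckCert C nF) 9 126464 = true := by decide +kernel
theorem k_certp_248 : allR (ckCert C nF) 9 126976 = true := by decide +kernel
theorem k_certp_249 : allR (ckCert C nF) 9 127488 = true := by decide +kernel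
theorem k_certp_250 : allR (ckCert C nF) 9 128000 = true := by decide +kernel
theorem k_certp_251 : allR (ckCert C nF) 9 128512 = true := by decide +kernel

end Cfsg.Agent.Lib.Helper25.TC.Fi23_31671
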