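import Cfsg.Agent.Lib.Helper25.TCFi23_31671T

set_option autoImplicit false
set_option maxRecDepth 1000000
set_option linter.unusedVariables false
set_option Elab.async false

namespace Cfsg.Agent.Lib.Helper25.TC.Fi23_31671

open Cfsg.Agent.Lib.Helper25.TC

theorem k_certp_252 : allR (ckCert C nF) 9 129024 = true := by decide +kernel
theorem k_certp_253 : allR (ckCert C nF) 9 129536 = true := by decide +kernel
theorem k_certp_254 : allR (ckCert C nF) 9 130048 = true := by decide +kernel
theorem k_certp_255 : allR (ckCert C nF) 9 130560 = true := by decide +kernel
theorem k_certp_256 : allR (ckCert C nF) 9 131072 = true := by decide +kernel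
theorem k_certp_257 : allR (ckCert C nF) 9 131584 = true := by decide +kernel
theorem k_certp_258 : allR (ckCert C nF) 9 132096 = true := by decide +kernel
theorem k_certp_259 : allR (ckCert C nF) 9 132608 = true := by decide +kernel
theorem k_certp_260 : allR (ckCert C nF) 9 133120 = true := by decide +kernel
theorem k_certp_261 : allR (ckCert C nF) 9 133632 = true := by decide +kernel
theorem k_certp_262 : allR (ckCert C nF) 9 134144 = true := by decide +kernel
theorem k_certp_263 : allR (ckCert C nF) 9 134656 = true := by decide +kernel
theorem k_certp_264 : allR (ckCert C nF) 9 135168 = true := by decide +kernel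
theorem k_certp_265 : allR (ckCert C nF) 9 135680 = true := by decide +kernel
theorem k_certp_266 : allR (ckCert C nF) 9 136192 = true := by decide +kernel
theorem k_certp_267 : allR (ckCert C nF) 9 136704 = true := by decide +kernel
theorem k_certp_268 : allR (ckCert C nF) 9 137216 = true := by decide +kernel
theorem k_certp_269 : allR (ckCert C nF) 9 137728 = true := by decide +kernel
theorem k_certp_270 : allR (ckCert C nF) 9 138240 = true := by decide +kernel
theorem k_certp_271 : allR (ckCert C nF) 9 138752 = true := by decide +kernel
theorem k_certp_272 : allR (ckCert C nF) 9 139264 = true := by decide +kernel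
theorem k_certp_273 : allR (ckCert C nF) 9 139776 = true := by decide +kernel
theorem k_certp_274 : allR (ckCert C nF) 9 140288 = true := by decide +kernel
theorem k_certp_275 : allR (ckCert C nF) 9 140800 = true := by decide +kernel
theorem k_certp_276 : allR (ckCert C nF) 9 141312 = true := by decide +kernel
theorem k_certp_277 : allR (ckCert C nF) 9 141824 = true := by decide +kernel
theorem k_certp_278 : allR (ckCert C nF) 9 142336 = true := by decide +kernel
theorem k_certp_279 : allR (ckCert C nF) 9 142848 = true := by decide +kernel
theorem k_certp_280 : allR (ckCert C nF) 9 143360 = true := by decide +kernel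
theorem k_certp_281 : allR (ckCert C nF) 9 143872 = true := by decide +kernel
theorem k_certp_282 : allR (ckCert C nF) 9 144384 = true := by decide +kernel

end Cfsg.Agent.Lib.Helper25.TC.Fi23_31671
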