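import Cfsg.Agent.Lib.Helper25.TCFi23_31671T

set_option autoImplicit false
set_option maxRecDepth 1000000
set_option linter.unusedVariables false
set_option Elab.async false

namespace Cfsg.Agent.Lib.Helper25.TC.Fi23_31671

open Cfsg.Agent.Lib.Helper25.TC

theorem k_certp_376 : allR (ckCert C nF) 9 192512 = true := by decide +kernel
theorem k_certp_377 : allR (ckCert C nF) 9 193024 = true := by decide +kernel
theorem k_certp_378 : allR (ckCert C nF) 9 193536 = true := by decide +kernel
theorem k_certp_379 : allR (ckCert C nF) 9 194048 = true := by decide +kernel
theorem k_certp_380 : allR (ckCert C nF) 9 194560 = true := by decide +kernel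
theorem k_certp_381 : allR (ckCert C nF) 9 195072 = true := by decide +kernel
theorem k_certp_382 : allR (ckCert C nF) 9 195584 = true := by decide +kernel
theorem k_certp_383 : allR (ckCert C nF) 9 196096 = true := by decide +kernel
theorem k_certp_384 : allR (ckCert C nF) 9 196608 = true := by decide +kernel
theorem k_certp_385 : allR (ckCert C nF) 9 197120 = true := by decide +kernel
theorem k_certp_386 : allR (ckCert C nF) 9 197632 = true := by decide +kernel
theorem k_certp_387 : allR (ckCert C nF) 9 198144 = true := by decide +kernel
theorem k_certp_388 : allR (ckCert C nF) 9 198656 = true := by decide +kernel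
theorem k_certp_389 : allR (ckCert C nF) 9 199168 = true := by decide +kernel
theorem k_certp_390 : allR (ckCert C nF) 9 199680 = true := by decide +kernel
theorem k_certp_391 : allR (ckCert C nF) 9 200192 = true := by decide +kernel
theorem k_certp_392 : allR (ckCert C nF) 9 200704 = true := by decide +kernel
theorem k_certp_393 : allR (ckCert C nF) 9 201216 = true := by decide +kernel
theorem k_certp_394 : allR (ckCert C nF) 9 201728 = true := by decide +kernel
theorem k_certp_395 : allR (ckCert C nF) 9 202240 = true := by decide +kernel
theorem k_certp_396 : allR (ckCert C nF) 9 202752 = true := by decide +kernel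
theorem k_certp_397 : allR (ckCert C nF) 9 203264 = true := by decide +kernel
theorem k_certp_398 : allR (ckCert C nF) 9 203776 = true := by decide +kernel
theorem k_certp_399 : allR (ckCert C nF) 9 204288 = true := by decide +kernel
theorem k_certp_400 : allR (ckCert C nF) 9 204800 = true := by decide +kernel
theorem k_certp_401 : allR (ckCert C nF) 9 205312 = true := by decide +kernel
theorem k_certp_402 : allR (ckCert C nF) 9 205824 = true := by decide +kernel
theorem k_certp_403 : allR (ckCert C nF) 9 206336 = true := by decide +kernel
theorem k_certp_404 : allR (ckCert C nF) 9 206848 = true := by decide +kernel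
theorem k_certp_405 : allR (ckCert C nF) 9 207360 = true := by decide +kernel
theorem k_certp_406 : allR (ckCert C nF) 9 207872 = true := by decide +kernel

end Cfsg.Agent.Lib.Helper25.TC.Fi23_31671
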