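import Cfsg.Agent.Lib.Helper25.TCFi23_31671T

set_option autoImplicit false
set_option maxRecDepth 1000000
set_option linter.unusedVariables false
set_option Elab.async false

namespace Cfsg.Agent.Lib.Helper25.TC.Fi23_31671

open Cfsg.Agent.Lib.Helper25.TC

theorem k_certp_407 : allR (ckCert C nF) 9 208384 = true := by decide +kernel
theorem k_certp_408 : allR (ckCert C nF) 9 208896 = true := by decide +kernel
theorem k_certp_409 : allR (ckCert C nF) 9 209408 = true := by decide +kernel
theorem k_certp_410 : allR (ckCert C nF) 9 209920 = true := by decide +kernel
theorem k_certp_411 : allR (ckCert C nF) 9 210432 = true := by decide +kernel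
theorem k_certp_412 : allR (ckCert C nF) 9 210944 = true := by decide +kernel
theorem k_certp_413 : allR (ckCert C nF) 9 211456 = true := by decide +kernel
theorem k_certp_414 : allR (ckCert C nF) 9 211968 = true := by decide +kernel
theorem k_certp_415 : allR (ckCert C nF) 9 212480 = true := by decide +kernel
theorem k_certp_416 : allR (ckCert C nF) 9 212992 = true := by decide +kernel
theorem k_certp_417 : allR (ckCert C nF) 9 213504 = true := by decide +kernel
theorem k_certp_418 : allR (ckCert C nF) 9 214016 = true := by decide +kernel
theorem k_certp_419 : allR (ckCert C nF) 9 214528 = true := by decide +kernel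
theorem k_certp_420 : allR (ckCert C nF) 9 215040 = true := by decide +kernel
theorem k_certp_421 : allR (ckCert C nF) 9 215552 = true := by decide +kernel
theorem k_certp_422 : allR (ckCert C nF) 9 216064 = true := by decide +kernel
theorem k_certp_423 : allR (ckCert C nF) 9 216576 = true := by decide +kernel
theorem k_certp_424 : allR (ckCert C nF) 9 217088 = true := by decide +kernel
theorem k_certp_425 : allR (ckCert C nF) 9 217600 = true := by decide +kernel
theorem k_certp_426 : allR (ckCert C nF) 9 218112 = true := by decide +kernel
theorem k_certp_427 : allR (ckCert C nF) 9 218624 = true := by decide +kernel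
theorem k_certp_428 : allR (ckCert C nF) 9 219136 = true := by decide +kernel
theorem k_certp_429 : allR (ckCert C nF) 9 219648 = true := by decide +kernel
theorem k_certp_430 : allR (ckCert C nF) 9 220160 = true := by decide +kernel
theorem k_certp_431 : allR (ckCert C nF) 9 220672 = true := by decide +kernel
theorem k_certp_432 : allR (ckCert C nF) 9 221184 = true := by decide +kernel
theorem k_certp_433 : allR (ckCert C nF) 9 221696 = true := by decide +kernel
theorem k_certp_434 : allR (ckCert C nF) 9 222208 = true := by decide +kernel
theorem k_certp_435 : allR (ckCert C nF) 9 222720 = true := by decide +kernel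
theorem k_certp_436 : allR (ckCert C nF) 9 223232 = true := by decide +kernel
theorem k_certp_437 : allR (ckCert C nF) 9 223744 = true := by decide +kernel
theorem k_certp_438 : allR (ckCert C nF) 9 224256 = true := by decide +kernel
theorem k_certp_439 : allR (ckCert C nF) 9 224768 = true := by decide +kernel
theorem k_certp_440 : allR (ckCert C nF) 9 225280 = true := by decide +kernel
theorem k_certp_441 : allR (ckCert C nF) 9 225792 = true := by decide +kernel
theorem k_certp_442 : allR (ckCert C nF) 9 226304 = true := by decide +kernel
theorem k_certp_443 : allR (ckCert C nF) 9 226816 = true := by decide +kernel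
theorem k_certp_444 : allR (ckCert C nF) 9 227328 = true := by decide +kernel
theorem k_certp_445 : allR (ckCert C nF) 9 227840 = true := by decide +kernel
theorem k_certp_446 : allR (ckCert C nF) 9 228352 = true := by decide +kernel
theorem k_certp_447 : allR (ckCert C nF) 9 228864 = true := by decide +kernel
theorem k_certp_448 : allR (ckCert C nF) 9 229376 = true := by decide +kernel
theorem k_certp_449 : allR (ckCert C nF) 9 229888 = true := by decide +kernel
theorem k_certp_450 : allR (ckCert C nF) 9 230400 = true := by decide +kernel
theorem k_certp_451 : allR (ckCert C nF) 9 230912 = true := by decide +kernel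
theorem k_certp_452 : allR (ckCert C nF) 9 231424 = true := by decide +kernel
theorem k_certp_453 : allR (ckCert C nF) 9 231936 = true := by decide +kernel
theorem k_certp_454 : allR (ckCert C nF) 9 232448 = true := by decide +kernel
theorem k_certp_455 : allR (ckCert C nF) 9 232960 = true := by decide +kernel
theorem k_certp_456 : allR (ckCert C nF) 9 233472 = true := by decide +kernel
theorem k_certp_457 : allR (ckCert C nF) 9 233984 = true := by decide +kernel
theorem k_certp_458 : allR (ckCert C nF) 9 234496 = true := by decide +kernel
theorem k_certp_459 : allR (ckCert C nF) 9 235008 = true := by decide +kernel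
theorem k_certp_460 : allR (ckCert C nF) 9 235520 = true := by decide +kernel
theorem k_certp_461 : allR (ckCert C nF) 9 236032 = true := by decide +kernel
theorem k_certp_462 : allR (ckCert C nF) 9 236544 = true := by decide +kernel
theorem k_certp_463 : allR (ckCert C nF) 9 237056 = true := by decide +kernel
theorem k_certp_464 : allR (ckCert C nF) 9 237568 = true := by decide +kernel
theorem k_certp_465 : allR (ckCert C nF) 9 238080 = true := by decide +kernel
theorem k_certp_466 : allR (ckCert C nF) 9 238592 = true := by decide +kernel
theorem k_certp_467 : allR (ckCert C nF) 9 239104 = true := by decide +kernel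
theorem k_certp_468 : allR (ckCert C nF) 9 239616 = true := by decide +kernel
theorem k_certp_469 : allR (ckCert C nF) 9 240128 = true := by decide +kernel
theorem k_certp_470 : allR (ckCert C nF) 9 240640 = true := by decide +kernel
theorem k_certp_471 : allR (ckCert C nF) 9 241152 = true := by decide +kernel
theorem k_certp_472 : allR (ckCert C nF) 9 241664 = true := by decide +kernel
theorem k_certp_473 : allR (ckCert C nF) 9 242176 = true := by decide +kernel
theorem k_certp_474 : allR (ckCert C nF) 9 242688 = true := by decide +kernel
theorem k_certp_475 : allR (ckCert C nF) 9 243200 = true := by decide +kernel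
theorem k_certp_476 : allR (ckCert C nF) 9 243712 = true := by decide +kernel
theorem k_certp_477 : allR (ckCert C nF) 9 244224 = true := by decide +kernel
theorem k_certp_478 : allR (ckCert C nF) 9 244736 = true := by decide +kernel
theorem k_certp_479 : allR (ckCert C nF) 9 245248 = true := by decide +kernel
theorem k_certp_480 : allR (ckCert C nF) 9 245760 = true := by decide +kernel
theorem k_certp_481 : allR (ckCert C nF) 9 246272 = true := by decide +kernel
theorem k_certp_482 : allR (ckCert C nF) 9 246784 = true := by decide +kernel
theorem k_certp_483 : allR (ckCert C nF) 9 247296 = true := by decide +kernel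
theorem k_certp_484 : allR (ckCert C nF) 9 247808 = true := by decide +kernel
theorem k_certp_485 : allR (ckCert C nF) 9 248320 = true := by decide +kernel
theorem k_certp_486 : allR (ckCert C nF) 9 248832 = true := by decide +kernel
theorem k_certp_487 : allR (ckCert C nF) 9 249344 = true := by decide +kernel
theorem k_certp_488 : allR (ckCert C nF) 9 249856 = true := by decide +kernel
theorem k_certp_489 : allR (ckCert C nF) 9 250368 = true := by decide +kernel
theorem k_certp_490 : allR (ckCert C nF) 9 250880 = true := by decide +kernel
theorem k_certp_491 : allR (ckCert C nF) 9 251392 = true := by decide +kernel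
theorem k_certp_492 : allR (ckCert C nF) 9 251904 = true := by decide +kernel
theorem k_certp_493 : allR (ckCert C nF) 9 252416 = true := by decide +kernel
theorem k_certp_494 : allR (ckCert C nF) 9 252928 = true := by decide +kernel
theorem k_certp_495 : allR (ckCert C nF) 9 253440 = true := by decide +kernel
theorem k_certp_496 : allR (ckCert C nF) 9 253952 = true := by decide +kernel
theorem k_certp_497 : allR (ckCert C nF) 9 254464 = true := by decide +kernel
theorem k_certp_498 : allR (ckCert C nF) 9 254976 = true := by decide +kernel
theorem k_certp_499 : allR (ckCert C nF) 9 255488 = true := by decide +kernel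
theorem k_certp_500 : allR (ckCert C nF) 9 256000 = true := by decide +kernel
theorem k_certp_501 : allR (ckCert C nF) 9 256512 = true := by decide +kernel
theorem k_certp_502 : allR (ckCert C nF) 9 257024 = true := by decide +kernel
theorem k_certp_503 : allR (ckCert C nF) 9 257536 = true := by decide +kernel
theorem k_certp_504 : allR (ckCert C nF) 9 258048 = true := by decide +kernel
theorem k_certp_505 : allR (ckCert C nF) 9 258560 = true := by decide +kernel
theorem k_certp_506 : allR (ckCert C nF) 9 259072 = true := by decide +kernel
theorem k_certp_507 : allR (ckCert C nF) 9 259584 = true := by decide +kernel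
theorem k_certp_508 : allR (ckCert C nF) 9 260096 = true := by decide +kernel
theorem k_certp_509 : allR (ckCert C nF) 9 260608 = true := by decide +kernel
theorem k_certp_510 : allR (ckCert C nF) 9 261120 = true := by decide +kernel
theorem k_certp_511 : allR (ckCert C nF) 9 261632 = true := by decide +kernel
theorem k_finp_0 : allR (ckFin C 10 nn nF can fin T) 8 0 = true := by decide +kernel
theorem k_finp_1 : allR (ckFin C 10 nn nF can fin T) 8 256 = true := by decide +kernel
theorem k_finp_2 : allR (ckFin C 10 nn nF can fin T) 8 512 = true := by decide +kernel
theorem k_finp_3 : allR (ckFin C 10 nn nF can fin T) 8 768 = true := by decide +kernel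
theorem k_finp_4 : allR (ckFin C 10 nn nF can fin T) 8 1024 = true := by decide +kernel

end Cfsg.Agent.Lib.Helper25.TC.Fi23_31671
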