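import Cfsg.Agent.Lib.Helper25.TCFi23_31671T

set_option autoImplicit false
set_option maxRecDepth 1000000
set_option linter.unusedVariables false
set_option Elab.async false

namespace Cfsg.Agent.Lib.Helper25.TC.Fi23_31671

open Cfsg.Agent.Lib.Helper25.TC

theorem k_finp_38 : allR (ckFin C 10 nn nF can fin T) 8 9728 = true := by decide +kernel
theorem k_finp_39 : allR (ckFin C 10 nn nF can fin T) 8 9984 = true := by decide +kernel
theorem k_finp_40 : allR (ckFin C 10 nn nF can fin T) 8 10240 = true := by decide +kernel
theorem k_finp_41 : allR (ckFin C 10 nn nF can fin T) 8 10496 = true := by decide +kernel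
theorem k_finp_42 : allR (ckFin C 10 nn nF can fin T) 8 10752 = true := by decide +kernel
theorem k_finp_43 : allR (ckFin C 10 nn nF can fin T) 8 11008 = true := by decide +kernel
theorem k_finp_44 : allR (ckFin C 10 nn nF can fin T) 8 11264 = true := by decide +kernel
theorem k_finp_45 : allR (ckFin C 10 nn nF can fin T) 8 11520 = true := by decide +kernel
theorem k_finp_46 : allR (ckFin C 10 nn nF can fin T) 8 11776 = true := by decide +kernel
theorem k_finp_47 : allR (ckFin C 10 nn nF can fin T) 8 12032 = true := by decide +kernel
theorem k_finp_48 : allR (ckFin C 10 nn nF can fin T) 8 12288 = true := by decide +kernel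
theorem k_finp_49 : allR (ckFin C 10 nn nF can fin T) 8 12544 = true := by decide +kernel
theorem k_finp_50 : allR (ckFin C 10 nn nF can fin T) 8 12800 = true := by decide +kernel
theorem k_finp_51 : allR (ckFin C 10 nn nF can fin T) 8 13056 = true := by decide +kernel
theorem k_finp_52 : allR (ckFin C 10 nn nF can fin T) 8 13312 = true := by decide +kernel
theorem k_finp_53 : allR (ckFin C 10 nn nF can fin T) 8 13568 = true := by decide +kernel
theorem k_finp_54 : allR (ckFin C 10 nn nF can fin T) 8 13824 = true := by decide +kernel
theorem k_finp_55 : allR (ckFin C 10 nn nF can fin T) 8 14080 = true := by decide +kernel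
theorem k_finp_56 : allR (ckFin C 10 nn nF can fin T) 8 14336 = true := by decide +kernel
theorem k_finp_57 : allR (ckFin C 10 nn nF can fin T) 8 14592 = true := by decide +kernel
theorem k_finp_58 : allR (ckFin C 10 nn nF can fin T) 8 14848 = true := by decide +kernel
theorem k_finp_59 : allR (ckFin C 10 nn nF can fin T) 8 15104 = true := by decide +kernel
theorem k_finp_60 : allR (ckFin C 10 nn nF can fin T) 8 15360 = true := by decide +kernel
theorem k_finp_61 : allR (ckFin C 10 nn nF can fin T) 8 15616 = true := by decide +kernel
theorem k_finp_62 : allR (ckFin C 10 nn nF can fin T) 8 15872 = true := by decide +kernel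
theorem k_finp_63 : allR (ckFin C 10 nn nF can fin T) 8 16128 = true := by decide +kernel
theorem k_finp_64 : allR (ckFin C 10 nn nF can fin T) 8 16384 = true := by decide +kernel
theorem k_finp_65 : allR (ckFin C 10 nn nF can fin T) 8 16640 = true := by decide +kernel
theorem k_finp_66 : allR (ckFin C 10 nn nF can fin T) 8 16896 = true := by decide +kernel
theorem k_finp_67 : allR (ckFin C 10 nn nF can fin T) 8 17152 = true := by decide +kernel
theorem k_finp_68 : allR (ckFin C 10 nn nF can fin T) 8 17408 = true := by decide +kernel
theorem k_finp_69 : allR (ckFin C 10 nn nF can fin T) 8 17664 = true := by decide +kernel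
theorem k_finp_70 : allR (ckFin C 10 nn nF can fin T) 8 17920 = true := by decide +kernel

end Cfsg.Agent.Lib.Helper25.TC.Fi23_31671
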