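import Cfsg.Agent.Lib.Helper25.TCFi23_31671T

set_option autoImplicit false
set_option maxRecDepth 1000000
set_option linter.unusedVariables false
set_option Elab.async false

namespace Cfsg.Agent.Lib.Helper25.TC.Fi23_31671

open Cfsg.Agent.Lib.Helper25.TC

theorem k_finp_71 : allR (ckFin C 10 nn nF can fin T) 8 18176 = true := by decide +kernel
theorem k_finp_72 : allR (ckFin C 10 nn nF can fin T) 8 18432 = true := by decide +kernel
theorem k_finp_73 : allR (ckFin C 10 nn nF can fin T) 8 18688 = true := by decide +kernel
theorem k_finp_74 : allR (ckFin C 10 nn nF can fin T) 8 18944 = true := by decide +kernel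
theorem k_finp_75 : allR (ckFin C 10 nn nF can fin T) 8 19200 = true := by decide +kernel
theorem k_finp_76 : allR (ckFin C 10 nn nF can fin T) 8 19456 = true := by decide +kernel
theorem k_finp_77 : allR (ckFin C 10 nn nF can fin T) 8 19712 = true := by decide +kernel
theorem k_finp_78 : allR (ckFin C 10 nn nF can fin T) 8 19968 = true := by decide +kernel
theorem k_finp_79 : allR (ckFin C 10 nn nF can fin T) 8 20224 = true := by decide +kernel
theorem k_finp_80 : allR (ckFin C 10 nn nF can fin T) 8 20480 = true := by decide +kernel
theorem k_finp_81 : allR (ckFin C 10 nn nF can fin T) 8 20736 = true := by decide +kernel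
theorem k_finp_82 : allR (ckFin C 10 nn nF can fin T) 8 20992 = true := by decide +kernel
theorem k_finp_83 : allR (ckFin C 10 nn nF can fin T) 8 21248 = true := by decide +kernel
theorem k_finp_84 : allR (ckFin C 10 nn nF can fin T) 8 21504 = true := by decide +kernel
theorem k_finp_85 : allR (ckFin C 10 nn nF can fin T) 8 21760 = true := by decide +kernel
theorem k_finp_86 : allR (ckFin C 10 nn nF can fin T) 8 22016 = true := by decide +kernel
theorem k_finp_87 : allR (ckFin C 10 nn nF can fin T) 8 22272 = true := by decide +kernel
theorem k_finp_88 : allR (ckFin C 10 nn nF can fin T) 8 22528 = true := by decide +kernel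
theorem k_finp_89 : allR (ckFin C 10 nn nF can fin T) 8 22784 = true := by decide +kernel
theorem k_finp_90 : allR (ckFin C 10 nn nF can fin T) 8 23040 = true := by decide +kernel
theorem k_finp_91 : allR (ckFin C 10 nn nF can fin T) 8 23296 = true := by decide +kernel
theorem k_finp_92 : allR (ckFin C 10 nn nF can fin T) 8 23552 = true := by decide +kernel
theorem k_finp_93 : allR (ckFin C 10 nn nF can fin T) 8 23808 = true := by decide +kernel
theorem k_finp_94 : allR (ckFin C 10 nn nF can fin T) 8 24064 = true := by decide +kernel
theorem k_finp_95 : allR (ckFin C 10 nn nF can fin T) 8 24320 = true := by decide +kernel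
theorem k_finp_96 : allR (ckFin C 10 nn nF can fin T) 8 24576 = true := by decide +kernel
theorem k_finp_97 : allR (ckFin C 10 nn nF can fin T) 8 24832 = true := by decide +kernel
theorem k_finp_98 : allR (ckFin C 10 nn nF can fin T) 8 25088 = true := by decide +kernel
theorem k_finp_99 : allR (ckFin C 10 nn nF can fin T) 8 25344 = true := by decide +kernel
theorem k_finp_100 : allR (ckFin C 10 nn nF can fin T) 8 25600 = true := by decide +kernel
theorem k_finp_101 : allR (ckFin C 10 nn nF can fin T) 8 25856 = true := by decide +kernel
theorem k_finp_102 : allR (ckFin C 10 nn nF can fin T) 8 26112 = true := by decide +kernel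
theorem k_finp_103 : allR (ckFin C 10 nn nF can fin T) 8 26368 = true := by decide +kernel

end Cfsg.Agent.Lib.Helper25.TC.Fi23_31671
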