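import Cfsg.Agent.Lib.Helper25.TCFi23_31671T

set_option autoImplicit false
set_option maxRecDepth 1000000
set_option linter.unusedVariables false
set_option Elab.async false

namespace Cfsg.Agent.Lib.Helper25.TC.Fi23_31671

open Cfsg.Agent.Lib.Helper25.TC

theorem k_finp_104 : allR (ckFin C 10 nn nF can fin T) 8 26624 = true := by decide +kernel
theorem k_finp_105 : allR (ckFin C 10 nn nF can fin T) 8 26880 = true := by decide +kernel
theorem k_finp_106 : allR (ckFin C 10 nn nF can fin T) 8 27136 = true := by decide +kernel
theorem k_finp_107 : allR (ckFin C 10 nn nF can fin T) 8 27392 = true := by decide +kernel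
theorem k_finp_108 : allR (ckFin C 10 nn nF can fin T) 8 27648 = true := by decide +kernel
theorem k_finp_109 : allR (ckFin C 10 nn nF can fin T) 8 27904 = true := by decide +kernel
theorem k_finp_110 : allR (ckFin C 10 nn nF can fin T) 8 28160 = true := by decide +kernel
theorem k_finp_111 : allR (ckFin C 10 nn nF can fin T) 8 28416 = true := by decide +kernel
theorem k_finp_112 : allR (ckFin C 10 nn nF can fin T) 8 28672 = true := by decide +kernel
theorem k_finp_113 : allR (ckFin C 10 nn nF can fin T) 8 28928 = true := by decide +kernel
theorem k_finp_114 : allR (ckFin C 10 nn nF can fin T) 8 29184 = true := by decide +kernel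
theorem k_finp_115 : allR (ckFin C 10 nn nF can fin T) 8 29440 = true := by decide +kernel
theorem k_finp_116 : allR (ckFin C 10 nn nF can fin T) 8 29696 = true := by decide +kernel
theorem k_finp_117 : allR (ckFin C 10 nn nF can fin T) 8 29952 = true := by decide +kernel
theorem k_finp_118 : allR (ckFin C 10 nn nF can fin T) 8 30208 = true := by decide +kernel
theorem k_finp_119 : allR (ckFin C 10 nn nF can fin T) 8 30464 = true := by decide +kernel
theorem k_finp_120 : allR (ckFin C 10 nn nF can fin T) 8 30720 = true := by decide +kernel
theorem k_finp_121 : allR (ckFin C 10 nn nF can fin T) 8 30976 = true := by decide +kernel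
theorem k_finp_122 : allR (ckFin C 10 nn nF can fin T) 8 31232 = true := by decide +kernel
theorem k_finp_123 : allR (ckFin C 10 nn nF can fin T) 8 31488 = true := by decide +kernel
theorem k_finp_124 : allR (ckFin C 10 nn nF can fin T) 8 31744 = true := by decide +kernel
theorem k_finp_125 : allR (ckFin C 10 nn nF can fin T) 8 32000 = true := by decide +kernel
theorem k_finp_126 : allR (ckFin C 10 nn nF can fin T) 8 32256 = true := by decide +kernel
theorem k_finp_127 : allR (ckFin C 10 nn nF can fin T) 8 32512 = true := by decide +kernel
theorem k_tblp_0 : allR (ckTbl 10 nn T) 9 0 = true := by decide +kernel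
theorem k_tblp_1 : allR (ckTbl 10 nn T) 9 512 = true := by decide +kernel
theorem k_tblp_2 : allR (ckTbl 10 nn T) 9 1024 = true := by decide +kernel
theorem k_tblp_3 : allR (ckTbl 10 nn T) 9 1536 = true := by decide +kernel
theorem k_tblp_4 : allR (ckTbl 10 nn T) 9 2048 = true := by decide +kernel
theorem k_tblp_5 : allR (ckTbl 10 nn T) 9 2560 = true := by decide +kernel
theorem k_tblp_6 : allR (ckTbl 10 nn T) 9 3072 = true := by decide +kernel
theorem k_tblp_7 : allR (ckTbl 10 nn T) 9 3584 = true := by decide +kernel
theorem k_tblp_8 : allR (ckTbl 10 nn T) 9 4096 = true := by decide +kernel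
theorem k_tblp_9 : allR (ckTbl 10 nn T) 9 4608 = true := by decide +kernel
theorem k_tblp_10 : allR (ckTbl 10 nn T) 9 5120 = true := by decide +kernel

end Cfsg.Agent.Lib.Helper25.TC.Fi23_31671
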