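import Cfsg.Agent.Lib.Helper25.TCFi23_31671T

set_option autoImplicit false
set_option maxRecDepth 1000000
set_option linter.unusedVariables false
set_option Elab.async false

namespace Cfsg.Agent.Lib.Helper25.TC.Fi23_31671

open Cfsg.Agent.Lib.Helper25.TC

theorem k_tblp_40 : allR (ckTbl 10 nn T) 9 20480 = true := by decide +kernel
theorem k_tblp_41 : allR (ckTbl 10 nn T) 9 20992 = true := by decide +kernel
theorem k_tblp_42 : allR (ckTbl 10 nn T) 9 21504 = true := by decide +kernel
theorem k_tblp_43 : allR (ckTbl 10 nn T) 9 22016 = true := by decide +kernel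
theorem k_tblp_44 : allR (ckTbl 10 nn T) 9 22528 = true := by decide +kernel
theorem k_tblp_45 : allR (ckTbl 10 nn T) 9 23040 = true := by decide +kernel
theorem k_tblp_46 : allR (ckTbl 10 nn T) 9 23552 = true := by decide +kernel
theorem k_tblp_47 : allR (ckTbl 10 nn T) 9 24064 = true := by decide +kernel
theorem k_tblp_48 : allR (ckTbl 10 nn T) 9 24576 = true := by decide +kernel
theorem k_tblp_49 : allR (ckTbl 10 nn T) 9 25088 = true := by decide +kernel
theorem k_tblp_50 : allR (ckTbl 10 nn T) 9 25600 = true := by decide +kernel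
theorem k_tblp_51 : allR (ckTbl 10 nn T) 9 26112 = true := by decide +kernel
theorem k_tblp_52 : allR (ckTbl 10 nn T) 9 26624 = true := by decide +kernel
theorem k_tblp_53 : allR (ckTbl 10 nn T) 9 27136 = true := by decide +kernel
theorem k_tblp_54 : allR (ckTbl 10 nn T) 9 27648 = true := by decide +kernel
theorem k_tblp_55 : allR (ckTbl 10 nn T) 9 28160 = true := by decide +kernel
theorem k_tblp_56 : allR (ckTbl 10 nn T) 9 28672 = true := by decide +kernel
theorem k_tblp_57 : allR (ckTbl 10 nn T) 9 29184 = true := by decide +kernel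
theorem k_tblp_58 : allR (ckTbl 10 nn T) 9 29696 = true := by decide +kernel
theorem k_tblp_59 : allR (ckTbl 10 nn T) 9 30208 = true := by decide +kernel
theorem k_tblp_60 : allR (ckTbl 10 nn T) 9 30720 = true := by decide +kernel
theorem k_tblp_61 : allR (ckTbl 10 nn T) 9 31232 = true := by decide +kernel
theorem k_tblp_62 : allR (ckTbl 10 nn T) 9 31744 = true := by decide +kernel
theorem k_tblp_63 : allR (ckTbl 10 nn T) 9 32256 = true := by decide +kernel
theorem k_treep_0 : allR (ckTree 10 nn T bp bg) 12 0 = true := by decide +kernel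
theorem k_treep_1 : allR (ckTree 10 nn T bp bg) 12 4096 = true := by decide +kernel
theorem k_treep_2 : allR (ckTree 10 nn T bp bg) 12 8192 = true := by decide +kernel
theorem k_treep_3 : allR (ckTree 10 nn T bp bg) 12 12288 = true := by decide +kernel
theorem k_treep_4 : allR (ckTree 10 nn T bp bg) 12 16384 = true := by decide +kernel
theorem k_treep_5 : allR (ckTree 10 nn T bp bg) 12 20480 = true := by decide +kernel
theorem k_treep_6 : allR (ckTree 10 nn T bp bg) 12 24576 = true := by decide +kernel

end Cfsg.Agent.Lib.Helper25.TC.Fi23_31671
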