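import Cfsg.Agent.Lib.Helper25.TCFi23_31671T

set_option autoImplicit false
set_option maxRecDepth 1000000
set_option linter.unusedVariables false
set_option Elab.async false

namespace Cfsg.Agent.Lib.Helper25.TC.Fi23_31671

open Cfsg.Agent.Lib.Helper25.TC

theorem k_relp_112 : allR fastRel 7 14336 = true := by decide +kernel
theorem k_relp_113 : allR fastRel 7 14464 = true := by decide +kernel
theorem k_relp_114 : allR fastRel 7 14592 = true := by decide +kernel
theorem k_relp_115 : allR fastRel 7 14720 = true := by decide +kernel
theorem k_relp_116 : allR fastRel 7 14848 = true := by decide +kernel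
theorem k_relp_117 : allR fastRel 7 14976 = true := by decide +kernel
theorem k_relp_118 : allR fastRel 7 15104 = true := by decide +kernel
theorem k_relp_119 : allR fastRel 7 15232 = true := by decide +kernel
theorem k_relp_120 : allR fastRel 7 15360 = true := by decide +kernel
theorem k_relp_121 : allR fastRel 7 15488 = true := by decide +kernel
theorem k_relp_122 : allR fastRel 7 15616 = true := by decide +kernel
theorem k_relp_123 : allR fastRel 7 15744 = true := by decide +kernel
theorem k_relp_124 : allR fastRel 7 15872 = true := by decide +kernel
theorem k_relp_125 : allR fastRel 7 16000 = true := by decide +kernel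
theorem k_relp_126 : allR fastRel 7 16128 = true := by decide +kernel
theorem k_relp_127 : allR fastRel 7 16256 = true := by decide +kernel
theorem k_relp_128 : allR fastRel 7 16384 = true := by decide +kernel
theorem k_relp_129 : allR fastRel 7 16512 = true := by decide +kernel
theorem k_relp_130 : allR fastRel 7 16640 = true := by decide +kernel
theorem k_relp_131 : allR fastRel 7 16768 = true := by decide +kernel
theorem k_relp_132 : allR fastRel 7 16896 = true := by decide +kernel
theorem k_relp_133 : allR fastRel 7 17024 = true := by decide +kernel
theorem k_relp_134 : allR fastRel 7 17152 = true := by decide +kernel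
theorem k_relp_135 : allR fastRel 7 17280 = true := by decide +kernel
theorem k_relp_136 : allR fastRel 7 17408 = true := by decide +kernel
theorem k_relp_137 : allR fastRel 7 17536 = true := by decide +kernel
theorem k_relp_138 : allR fastRel 7 17664 = true := by decide +kernel
theorem k_relp_139 : allR fastRel 7 17792 = true := by decide +kernel

end Cfsg.Agent.Lib.Helper25.TC.Fi23_31671
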