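import Cfsg.Agent.Lib.Helper25.TCFi23_31671T

set_option autoImplicit false
set_option maxRecDepth 1000000
set_option linter.unusedVariables false
set_option Elab.async false

namespace Cfsg.Agent.Lib.Helper25.TC.Fi23_31671

open Cfsg.Agent.Lib.Helper25.TC

theorem k_relp_140 : allR fastRel 7 17920 = true := by decide +kernel
theorem k_relp_141 : allR fastRel 7 18048 = true := by decide +kernel
theorem k_relp_142 : allR fastRel 7 18176 = true := by decide +kernel
theorem k_relp_143 : allR fastRel 7 18304 = true := by decide +kernel
theorem k_relp_144 : allR fastRel 7 18432 = true := by decide +kernel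
theorem k_relp_145 : allR fastRel 7 18560 = true := by decide +kernel
theorem k_relp_146 : allR fastRel 7 18688 = true := by decide +kernel
theorem k_relp_147 : allR fastRel 7 18816 = true := by decide +kernel
theorem k_relp_148 : allR fastRel 7 18944 = true := by decide +kernel
theorem k_relp_149 : allR fastRel 7 19072 = true := by decide +kernel
theorem k_relp_150 : allR fastRel 7 19200 = true := by decide +kernel
theorem k_relp_151 : allR fastRel 7 19328 = true := by decide +kernel
theorem k_relp_152 : allR fastRel 7 19456 = true := by decide +kernel
theorem k_relp_153 : allR fastRel 7 19584 = true := by decide +kernel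
theorem k_relp_154 : allR fastRel 7 19712 = true := by decide +kernel
theorem k_relp_155 : allR fastRel 7 19840 = true := by decide +kernel
theorem k_relp_156 : allR fastRel 7 19968 = true := by decide +kernel
theorem k_relp_157 : allR fastRel 7 20096 = true := by decide +kernel
theorem k_relp_158 : allR fastRel 7 20224 = true := by decide +kernel
theorem k_relp_159 : allR fastRel 7 20352 = true := by decide +kernel
theorem k_relp_160 : allR fastRel 7 20480 = true := by decide +kernel
theorem k_relp_161 : allR fastRel 7 20608 = true := by decide +kernel
theorem k_relp_162 : allR fastRel 7 20736 = true := by decide +kernel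
theorem k_relp_163 : allR fastRel 7 20864 = true := by decide +kernel
theorem k_relp_164 : allR fastRel 7 20992 = true := by decide +kernel
theorem k_relp_165 : allR fastRel 7 21120 = true := by decide +kernel
theorem k_relp_166 : allR fastRel 7 21248 = true := by decide +kernel
theorem k_relp_167 : allR fastRel 7 21376 = true := by decide +kernel

end Cfsg.Agent.Lib.Helper25.TC.Fi23_31671
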