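import Cfsg.Agent.Lib.Helper25.TCFi23_31671T

set_option autoImplicit false
set_option maxRecDepth 1000000
set_option linter.unusedVariables false
set_option Elab.async false

namespace Cfsg.Agent.Lib.Helper25.TC.Fi23_31671

open Cfsg.Agent.Lib.Helper25.TC

theorem k_relp_168 : allR fastRel 7 21504 = true := by decide +kernel
theorem k_relp_169 : allR fastRel 7 21632 = true := by decide +kernel
theorem k_relp_170 : allR fastRel 7 21760 = true := by decide +kernel
theorem k_relp_171 : allR fastRel 7 21888 = true := by decide +kernel
theorem k_relp_172 : allR fastRel 7 22016 = true := by decide +kernel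
theorem k_relp_173 : allR fastRel 7 22144 = true := by decide +kernel
theorem k_relp_174 : allR fastRel 7 22272 = true := by decide +kernel
theorem k_relp_175 : allR fastRel 7 22400 = true := by decide +kernel
theorem k_relp_176 : allR fastRel 7 22528 = true := by decide +kernel
theorem k_relp_177 : allR fastRel 7 22656 = true := by decide +kernel
theorem k_relp_178 : allR fastRel 7 22784 = true := by decide +kernel
theorem k_relp_179 : allR fastRel 7 22912 = true := by decide +kernel
theorem k_relp_180 : allR fastRel 7 23040 = true := by decide +kernel
theorem k_relp_181 : allR fastRel 7 23168 = true := by decide +kernel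
theorem k_relp_182 : allR fastRel 7 23296 = true := by decide +kernel
theorem k_relp_183 : allR fastRel 7 23424 = true := by decide +kernel
theorem k_relp_184 : allR fastRel 7 23552 = true := by decide +kernel
theorem k_relp_185 : allR fastRel 7 23680 = true := by decide +kernel
theorem k_relp_186 : allR fastRel 7 23808 = true := by decide +kernel
theorem k_relp_187 : allR fastRel 7 23936 = true := by decide +kernel
theorem k_relp_188 : allR fastRel 7 24064 = true := by decide +kernel
theorem k_relp_189 : allR fastRel 7 24192 = true := by decide +kernel
theorem k_relp_190 : allR fastRel 7 24320 = true := by decide +kernel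
theorem k_relp_191 : allR fastRel 7 24448 = true := by decide +kernel
theorem k_relp_192 : allR fastRel 7 24576 = true := by decide +kernel
theorem k_relp_193 : allR fastRel 7 24704 = true := by decide +kernel
theorem k_relp_194 : allR fastRel 7 24832 = true := by decide +kernel
theorem k_relp_195 : allR fastRel 7 24960 = true := by decide +kernel

end Cfsg.Agent.Lib.Helper25.TC.Fi23_31671
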