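import Cfsg.Agent.Lib.Helper25.TCFi23_31671T

set_option autoImplicit false
set_option maxRecDepth 1000000
set_option linter.unusedVariables false
set_option Elab.async false

namespace Cfsg.Agent.Lib.Helper25.TC.Fi23_31671

open Cfsg.Agent.Lib.Helper25.TC

theorem k_relp_196 : allR fastRel 7 25088 = true := by decide +kernel
theorem k_relp_197 : allR fastRel 7 25216 = true := by decide +kernel
theorem k_relp_198 : allR fastRel 7 25344 = true := by decide +kernel
theorem k_relp_199 : allR fastRel 7 25472 = true := by decide +kernel
theorem k_relp_200 : allR fastRel 7 25600 = true := by decide +kernel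
theorem k_relp_201 : allR fastRel 7 25728 = true := by decide +kernel
theorem k_relp_202 : allR fastRel 7 25856 = true := by decide +kernel
theorem k_relp_203 : allR fastRel 7 25984 = true := by decide +kernel
theorem k_relp_204 : allR fastRel 7 26112 = true := by decide +kernel
theorem k_relp_205 : allR fastRel 7 26240 = true := by decide +kernel
theorem k_relp_206 : allR fastRel 7 26368 = true := by decide +kernel
theorem k_relp_207 : allR fastRel 7 26496 = true := by decide +kernel
theorem k_relp_208 : allR fastRel 7 26624 = true := by decide +kernel
theorem k_relp_209 : allR fastRel 7 26752 = true := by decide +kernel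
theorem k_relp_210 : allR fastRel 7 26880 = true := by decide +kernel
theorem k_relp_211 : allR fastRel 7 27008 = true := by decide +kernel
theorem k_relp_212 : allR fastRel 7 27136 = true := by decide +kernel
theorem k_relp_213 : allR fastRel 7 27264 = true := by decide +kernel
theorem k_relp_214 : allR fastRel 7 27392 = true := by decide +kernel
theorem k_relp_215 : allR fastRel 7 27520 = true := by decide +kernel
theorem k_relp_216 : allR fastRel 7 27648 = true := by decide +kernel
theorem k_relp_217 : allR fastRel 7 27776 = true := by decide +kernel
theorem k_relp_218 : allR fastRel 7 27904 = true := by decide +kernel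
theorem k_relp_219 : allR fastRel 7 28032 = true := by decide +kernel
theorem k_relp_220 : allR fastRel 7 28160 = true := by decide +kernel
theorem k_relp_221 : allR fastRel 7 28288 = true := by decide +kernel
theorem k_relp_222 : allR fastRel 7 28416 = true := by decide +kernel
theorem k_relp_223 : allR fastRel 7 28544 = true := by decide +kernel

end Cfsg.Agent.Lib.Helper25.TC.Fi23_31671
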