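import Cfsg.Agent.Lib.Helper25.TCFi23_31671T

set_option autoImplicit false
set_option maxRecDepth 1000000
set_option linter.unusedVariables false
set_option Elab.async false

namespace Cfsg.Agent.Lib.Helper25.TC.Fi23_31671

open Cfsg.Agent.Lib.Helper25.TC

theorem k_relp_224 : allR fastRel 7 28672 = true := by decide +kernel
theorem k_relp_225 : allR fastRel 7 28800 = true := by decide +kernel
theorem k_relp_226 : allR fastRel 7 28928 = true := by decide +kernel
theorem k_relp_227 : allR fastRel 7 29056 = true := by decide +kernel
theorem k_relp_228 : allR fastRel 7 29184 = true := by decide +kernel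
theorem k_relp_229 : allR fastRel 7 29312 = true := by decide +kernel
theorem k_relp_230 : allR fastRel 7 29440 = true := by decide +kernel
theorem k_relp_231 : allR fastRel 7 29568 = true := by decide +kernel
theorem k_relp_232 : allR fastRel 7 29696 = true := by decide +kernel
theorem k_relp_233 : allR fastRel 7 29824 = true := by decide +kernel
theorem k_relp_234 : allR fastRel 7 29952 = true := by decide +kernel
theorem k_relp_235 : allR fastRel 7 30080 = true := by decide +kernel
theorem k_relp_236 : allR fastRel 7 30208 = true := by decide +kernel
theorem k_relp_237 : allR fastRel 7 30336 = true := by decide +kernel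
theorem k_relp_238 : allR fastRel 7 30464 = true := by decide +kernel
theorem k_relp_239 : allR fastRel 7 30592 = true := by decide +kernel
theorem k_relp_240 : allR fastRel 7 30720 = true := by decide +kernel
theorem k_relp_241 : allR fastRel 7 30848 = true := by decide +kernel
theorem k_relp_242 : allR fastRel 7 30976 = true := by decide +kernel
theorem k_relp_243 : allR fastRel 7 31104 = true := by decide +kernel
theorem k_relp_244 : allR fastRel 7 31232 = true := by decide +kernel
theorem k_relp_245 : allR fastRel 7 31360 = true := by decide +kernel
theorem k_relp_246 : allR fastRel 7 31488 = true := by decide +kernel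
theorem k_relp_247 : allR fastRel 7 31616 = true := by decide +kernel
theorem k_relp_248 : allR fastRel 7 31744 = true := by decide +kernel
theorem k_relp_249 : allR fastRel 7 31872 = true := by decide +kernel
theorem k_relp_250 : allR fastRel 7 32000 = true := by decide +kernel
theorem k_relp_251 : allR fastRel 7 32128 = true := by decide +kernel
theorem k_relp_252 : allR fastRel 7 32256 = true := by decide +kernel
theorem k_relp_253 : allR fastRel 7 32384 = true := by decide +kernel
theorem k_relp_254 : allR fastRel 7 32512 = true := by decide +kernel
theorem k_relp_255 : allR fastRel 7 32640 = true := by decide +kernel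
theorem k_certp_0 : allR (ckCert C nF) 9 0 = true := by decide +kernel
theorem k_certp_1 : allR (ckCert C nF) 9 512 = true := by decide +kernel
theorem k_certp_2 : allR (ckCert C nF) 9 1024 = true := by decide +kernel
theorem k_certp_3 : allR (ckCert C nF) 9 1536 = true := by decide +kernel

end Cfsg.Agent.Lib.Helper25.TC.Fi23_31671
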