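import Cfsg.Prelude.Def_Spor_Fi23
import Cfsg.Agent.Lib.Helper25.TCMain
import Cfsg.Agent.Lib.Helper25.TCFi23_31671P0
import Cfsg.Agent.Lib.Helper25.TCFi23_31671P1
import Cfsg.Agent.Lib.Helper25.TCFi23_31671P2
import Cfsg.Agent.Lib.Helper25.TCFi23_31671P3
import Cfsg.Agent.Lib.Helper25.TCFi23_31671P4
import Cfsg.Agent.Lib.Helper25.TCFi23_31671P5
import Cfsg.Agent.Lib.Helper25.TCFi23_31671P6
import Cfsg.Agent.Lib.Helper25.TCFi23_31671P7
import Cfsg.Agent.Lib.Helper25.TCFi23_31671P8
import Cfsg.Agent.Lib.Helper25.TCFi23_31671P9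
import Cfsg.Agent.Lib.Helper25.TCFi23_31671P10
import Cfsg.Agent.Lib.Helper25.TCFi23_31671P11
import Cfsg.Agent.Lib.Helper25.TCFi23_31671P12
import Cfsg.Agent.Lib.Helper25.TCFi23_31671P13
import Cfsg.Agent.Lib.Helper25.TCFi23_31671P14
import Cfsg.Agent.Lib.Helper25.TCFi23_31671P15
import Cfsg.Agent.Lib.Helper25.TCFi23_31671P16
import Cfsg.Agent.Lib.Helper25.TCFi23_31671P17
import Cfsg.Agent.Lib.Helper25.TCFi23_31671P18
import Cfsg.Agent.Lib.Helper25.TCFi23_31671P19
import Cfsg.Agent.Lib.Helper25.TCFi23_31671P20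
import Cfsg.Agent.Lib.Helper25.TCFi23_31671P21
import Cfsg.Agent.Lib.Helper25.TCFi23_31671P22
import Cfsg.Agent.Lib.Helper25.TCFi23_31671P23
import Cfsg.Agent.Lib.Helper25.TCFi23_31671P24
import Cfsg.Agent.Lib.Helper25.TCFi23_31671P25
import Cfsg.Agent.Lib.Helper25.TCFi23_31671P26
import Cfsg.Agent.Lib.Helper25.TCFi23_31671P27
import Cfsg.Agent.Lib.Helper25.TCFi23_31671P28
import Cfsg.Agent.Lib.Helper25.TCFi23_31671P29
import Cfsg.Agent.Lib.Helper25.TCFi23_31671P30
import Cfsg.Agent.Lib.Helper25.TCFi23_31671P31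

set_option autoImplicit false
set_option maxRecDepth 1000000
set_option linter.unusedVariables false
set_option linter.constructorNameAsVariable false
set_option linter.unusedSimpArgs false

namespace Cfsg.Agent.Lib.Helper25.TC.Fi23_31671

open Cfsg.Spor Cfsg.Agent.Lib.Helper25.TC

def idx : Cfsg.Spor.Fi23.Gen → Nat
  | .a => 0
  | .b => 1
  | .c => 2
  | .d => 3
  | .e => 4
  | .f => 5
  | .g => 6
  | .j => 7
  | .h => 8
  | .i => 9

def ofIdx : Nat → Cfsg.Spor.Fi23.Gen
  | 0 => .a
  | 1 => .b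
  | 2 => .c
  | 3 => .d
  | 4 => .e
  | 5 => .f
  | 6 => .g
  | 7 => .j
  | 8 => .h
  | 9 => .i
  | _ => .a

theorem setup : CoxSetup Cfsg.Spor.Fi23.edges Cfsg.Spor.Fi23.extra 10 idx ofIdx L extraW where
  ofIdx_idx := by intro a; cases a <;> rfl
  idx_ofIdx := by intro x hx; interval_cases x <;> rfl
  idx_lt := by intro a; cases a <;> decide
  allNodes := by intro a; cases a <;> decide
  hL := by intro a b; cases a <;> cases b <;> decide
  hLsymm := by decide
  hextra := by
    unfold Cfsg.Spor.Fi23.extra extraW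
    refine List.Forall₂.cons ?_ (List.Forall₂.cons ?_ (List.Forall₂.nil))
    all_goals
      intro K _ f hf
      have hfi : ∀ x, (f x)⁻¹ = f x := fun x => inv_eq_of_mul_eq_one_left (hf x)
      simp only [map_mul, map_inv, map_pow, FreeGroup.lift_apply_of, idx, evr, pow_succ, pow_zero, one_mul,
        mul_inv_rev, hfi, mul_assoc]

theorem relWords_eq : coxWords 10 L ++ extraW = relWords := by decide +kernel

theorem fr_0_eq (i : Nat) : tr T [0, 0] i = fr_0 i := rfl
theorem fr_1_eq (i : Nat) : tr T [1, 0, 1, 0, 1, 0] i = fr_1 i := rfl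
theorem fr_2_eq (i : Nat) : tr T [2, 0, 2, 0] i = fr_2 i := rfl
theorem fr_3_eq (i : Nat) : tr T [3, 0, 3, 0] i = fr_3 i := rfl
theorem fr_4_eq (i : Nat) : tr T [4, 0, 4, 0] i = fr_4 i := rfl
theorem fr_5_eq (i : Nat) : tr T [5, 0, 5, 0] i = fr_5 i := rfl
theorem fr_6_eq (i : Nat) : tr T [6, 0, 6, 0] i = fr_6 i := rfl
theorem fr_7_eq (i : Nat) : tr T [7, 0, 7, 0] i = fr_7 i := rfl
theorem fr_8_eq (i : Nat) : tr T [8, 0, 8, 0] i = fr_8 i := rfl
theorem fr_9_eq (i : Nat) : tr T [9, 0, 9, 0] i = fr_9 i := rfl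
theorem fr_10_eq (i : Nat) : tr T [1, 1] i = fr_10 i := rfl
theorem fr_11_eq (i : Nat) : tr T [2, 1, 2, 1, 2, 1] i = fr_11 i := rfl
theorem fr_12_eq (i : Nat) : tr T [3, 1, 3, 1] i = fr_12 i := rfl
theorem fr_13_eq (i : Nat) : tr T [4, 1, 4, 1] i = fr_13 i := rfl
theorem fr_14_eq (i : Nat) : tr T [5, 1, 5, 1] i = fr_14 i := rfl
theorem fr_15_eq (i : Nat) : tr T [6, 1, 6, 1] i = fr_15 i := rfl
theorem fr_16_eq (i : Nat) : tr T [7, 1, 7, 1] i = fr_16 i := rfl
theorem fr_17_eq (i : Nat) : tr T [8, 1, 8, 1] i = fr_17 i := rfl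
theorem fr_18_eq (i : Nat) : tr T [9, 1, 9, 1] i = fr_18 i := rfl
theorem fr_19_eq (i : Nat) : tr T [2, 2] i = fr_19 i := rfl
theorem fr_20_eq (i : Nat) : tr T [3, 2, 3, 2, 3, 2] i = fr_20 i := rfl
theorem fr_21_eq (i : Nat) : tr T [4, 2, 4, 2] i = fr_21 i := rfl
theorem fr_22_eq (i : Nat) : tr T [5, 2, 5, 2] i = fr_22 i := rfl
theorem fr_23_eq (i : Nat) : tr T [6, 2, 6, 2] i = fr_23 i := rfl
theorem fr_24_eq (i : Nat) : tr T [7, 2, 7, 2] i = fr_24 i := rfl
theorem fr_25_eq (i : Nat) : tr T [8, 2, 8, 2] i = fr_25 i := rfl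
theorem fr_26_eq (i : Nat) : tr T [9, 2, 9, 2] i = fr_26 i := rfl
theorem fr_27_eq (i : Nat) : tr T [3, 3] i = fr_27 i := rfl
theorem fr_28_eq (i : Nat) : tr T [4, 3, 4, 3, 4, 3] i = fr_28 i := rfl
theorem fr_29_eq (i : Nat) : tr T [5, 3, 5, 3] i = fr_29 i := rfl
theorem fr_30_eq (i : Nat) : tr T [6, 3, 6, 3] i = fr_30 i := rfl
theorem fr_31_eq (i : Nat) : tr T [7, 3, 7, 3] i = fr_31 i := rfl
theorem fr_32_eq (i : Nat) : tr T [8, 3, 8, 3, 8, 3] i = fr_32 i := rfl
theorem fr_33_eq (i : Nat) : tr T [9, 3, 9, 3] i = fr_33 i := rfl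
theorem fr_34_eq (i : Nat) : tr T [4, 4] i = fr_34 i := rfl
theorem fr_35_eq (i : Nat) : tr T [5, 4, 5, 4, 5, 4] i = fr_35 i := rfl
theorem fr_36_eq (i : Nat) : tr T [6, 4, 6, 4] i = fr_36 i := rfl
theorem fr_37_eq (i : Nat) : tr T [7, 4, 7, 4] i = fr_37 i := rfl
theorem fr_38_eq (i : Nat) : tr T [8, 4, 8, 4] i = fr_38 i := rfl
theorem fr_39_eq (i : Nat) : tr T [9, 4, 9, 4] i = fr_39 i := rfl
theorem fr_40_eq (i : Nat) : tr T [5, 5] i = fr_40 i := rfl
theorem fr_41_eq (i : Nat) : tr T [6, 5, 6, 5, 6, 5] i = fr_41 i := rfl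
theorem fr_42_eq (i : Nat) : tr T [7, 5, 7, 5] i = fr_42 i := rfl
theorem fr_43_eq (i : Nat) : tr T [8, 5, 8, 5] i = fr_43 i := rfl
theorem fr_44_eq (i : Nat) : tr T [9, 5, 9, 5] i = fr_44 i := rfl
theorem fr_45_eq (i : Nat) : tr T [6, 6] i = fr_45 i := rfl
theorem fr_46_eq (i : Nat) : tr T [7, 6, 7, 6, 7, 6] i = fr_46 i := rfl
theorem fr_47_eq (i : Nat) : tr T [8, 6, 8, 6] i = fr_47 i := rfl
theorem fr_48_eq (i : Nat) : tr T [9, 6, 9, 6] i = fr_48 i := rfl
theorem fr_49_eq (i : Nat) : tr T [7, 7] i = fr_49 i := rfl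
theorem fr_50_eq (i : Nat) : tr T [8, 7, 8, 7] i = fr_50 i := rfl
theorem fr_51_eq (i : Nat) : tr T [9, 7, 9, 7] i = fr_51 i := rfl
theorem fr_52_eq (i : Nat) : tr T [8, 8] i = fr_52 i := rfl
theorem fr_53_eq (i : Nat) : tr T [9, 8, 9, 8, 9, 8] i = fr_53 i := rfl
theorem fr_54_eq (i : Nat) : tr T [9, 9] i = fr_54 i := rfl
theorem fr_55_eq (i : Nat) : tr T [9, 8, 3, 5, 4, 3, 1, 2, 3, 9, 8, 3, 5, 4, 3, 1, 2, 3, 9, 8, 3, 5, 4, 3, 1, 2, 3, 9, 8, 3, 5, 4, 3, 1, 2, 3, 9, 8, 3, 5, 4, 3, 1, 2, 3, 9, 8, 3, 5, 4, 3, 1, 2, 3, 9, 8, 3, 5, 4, 3, 1, 2, 3, 9, 8, 3, 5, 4, 3, 1, 2, 3, 9, 8, 3, 5, 4, 3, 1, 2, 3, 9, 8, 3, 5, 4, 3, 1, 2, 3] i = fr_55 i := rfl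
theorem fr_56_eq (i : Nat) : tr T [8, 5, 4, 3, 2, 1, 0, 8, 5, 4, 3, 2, 1, 0, 8, 5, 4, 3, 2, 1, 0, 8, 5, 4, 3, 2, 1, 0, 8, 5, 4, 3, 2, 1, 0, 8, 5, 4, 3, 2, 1, 0, 8, 5, 4, 3, 2, 1, 0, 8, 5, 4, 3, 2, 1, 0, 8, 5, 4, 3, 2, 1, 0] i = fr_56 i := rfl

theorem fastRel_eq (i : Nat) : ckRel nn T relWords i = fastRel i := by
  simp only [ckRel, relWords, List.all_cons, List.all_nil, fr_0_eq, fr_1_eq, fr_2_eq, fr_3_eq, fr_4_eq, fr_5_eq, fr_6_eq, fr_7_eq, fr_8_eq, fr_9_eq, fr_10_eq, fr_11_eq, fr_12_eq, fr_13_eq, fr_14_eq, fr_15_eq, fr_16_eq, fr_17_eq, fr_18_eq, fr_19_eq, fr_20_eq, fr_21_eq, fr_22_eq, fr_23_eq, fr_24_eq, fr_25_eq, fr_26_eq, fr_27_eq, fr_28_eq, fr_29_eq, fr_30_eq, fr_31_eq, fr_32_eq, fr_33_eq, fr_34_eq, fr_35_eq, fr_36_eq, fr_37_eq, fr_38_eq, fr_39_eq, fr_40_eq, fr_41_eq, fr_42_eq, fr_43_eq, fr_44_eq, fr_45_eq, fr_46_eq, fr_47_eq, fr_48_eq, fr_49_eq, fr_50_eq, fr_51_eq, fr_52_eq, fr_53_eq, fr_54_eq, fr_55_eq, fr_56_eq]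
  rfl

theorem k_rel_fast : allR fastRel 15 0 = true := (allR_join _ _ _ _ (by decide) (allR_join _ _ _ _ (by decide) (allR_join _ _ _ _ (by decide) (allR_join _ _ _ _ (by decide) (allR_join _ _ _ _ (by decide) (allR_join _ _ _ _ (by decide) (allR_join _ _ _ _ (by decide) (allR_join _ _ _ _ (by decide) k_relp_0 k_relp_1) (allR_join _ _ _ _ (by decide) k_relp_2 k_relp_3)) (allR_join _ _ _ _ (by decide) (allR_join _ _ _ _ (by decide) k_relp_4 k_relp_5) (allR_join _ _ _ _ (by decide) k_relp_6 k_relp_7))) (allR_join _ _ _ _ (by decide) (allR_join _ _ _ _ (by decide) (allR_join _ _ _ _ (by decide) k_relp_8 k_relp_9) (allR_join _ _ _ _ (by decide) k_relp_10 k_relp_11)) (allR_join _ _ _ _ (by decide) (allR_join _ _ _ _ (by decide) k_relp_12 k_relp_13) (allR_join _ _ _ _ (by decide) k_relp_14 k_relp_15)))) (allR_join _ _ _ _ (by decide) (allR_join _ _ _ _ (by decide) (allR_join _ _ _ _ (by decide) (allR_join _ _ _ _ (by decide) k_relp_16 k_relp_17) (allR_join _ _ _ _ (by decide) k_relp_18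 k_relp_19)) (allR_join _ _ _ _ (by decide) (allR_join _ _ _ _ (by decide) k_relp_20 k_relp_21) (allR_join _ _ _ _ (by decide) k_relp_22 k_relp_23))) (allR_join _ _ _ _ (by decide) (allR_join _ _ _ _ (by decide) (allR_join _ _ _ _ (by decide) k_relp_24 k_relp_25) (allR_join _ _ _ _ (by decide) k_relp_26 k_relp_27)) (allR_join _ _ _ _ (by decide) (allR_join _ _ _ _ (by decide) k_relp_28 k_relp_29) (allR_join _ _ _ _ (by decide) k_relp_30 k_relp_31))))) (allR_join _ _ _ _ (by decide) (allR_join _ _ _ _ (by decide) (allR_join _ _ _ _ (by decide) (allR_join _ _ _ _ (by decide) (allR_join _ _ _ _ (by decide) k_relp_32 k_relp_33) (allR_join _ _ _ _ (by decide) k_relp_34 k_relp_35)) (allR_join _ _ _ _ (by decide) (allR_join _ _ _ _ (by decide) k_relp_36 k_relp_37) (allR_join _ _ _ _ (by decide) k_relp_38 k_relp_39))) (allR_join _ _ _ _ (by decide) (allR_join _ _ _ _ (by decide) (allR_join _ _ _ _ (by decide) k_relp_40 k_relp_41) (allR_join _ _ _ _ (by decide) k_relp_42 k_relp_43)) (allR_join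 _ _ _ _ (by decide) (allR_join _ _ _ _ (by decide) k_relp_44 k_relp_45) (allR_join _ _ _ _ (by decide) k_relp_46 k_relp_47)))) (allR_join _ _ _ _ (by decide) (allR_join _ _ _ _ (by decide) (allR_join _ _ _ _ (by decide) (allR_join _ _ _ _ (by decide) k_relp_48 k_relp_49) (allR_join _ _ _ _ (by decide) k_relp_50 k_relp_51)) (allR_join _ _ _ _ (by decide) (allR_join _ _ _ _ (by decide) k_relp_52 k_relp_53) (allR_join _ _ _ _ (by decide) k_relp_54 k_relp_55))) (allR_join _ _ _ _ (by decide) (allR_join _ _ _ _ (by decide) (allR_join _ _ _ _ (by decide) k_relp_56 k_relp_57) (allR_join _ _ _ _ (by decide) k_relp_58 k_relp_59)) (allR_join _ _ _ _ (by decide) (allR_join _ _ _ _ (by decide) k_relp_60 k_relp_61) (allR_join _ _ _ _ (by decide) k_relp_62 k_relp_63)))))) (allR_join _ _ _ _ (by decide) (allR_join _ _ _ _ (by decide) (allR_join _ _ _ _ (by decide) (allR_join _ _ _ _ (by decide) (allR_join _ _ _ _ (by decide) (allR_join _ _ _ _ (by decide) k_relp_64 k_relp_65) (allR_join _ _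 _ _ (by decide) k_relp_66 k_relp_67)) (allR_join _ _ _ _ (by decide) (allR_join _ _ _ _ (by decide) k_relp_68 k_relp_69) (allR_join _ _ _ _ (by decide) k_relp_70 k_relp_71))) (allR_join _ _ _ _ (by decide) (allR_join _ _ _ _ (by decide) (allR_join _ _ _ _ (by decide) k_relp_72 k_relp_73) (allR_join _ _ _ _ (by decide) k_relp_74 k_relp_75)) (allR_join _ _ _ _ (by decide) (allR_join _ _ _ _ (by decide) k_relp_76 k_relp_77) (allR_join _ _ _ _ (by decide) k_relp_78 k_relp_79)))) (allR_join _ _ _ _ (by decide) (allR_join _ _ _ _ (by decide) (allR_join _ _ _ _ (by decide) (allR_join _ _ _ _ (by decide) k_relp_80 k_relp_81) (allR_join _ _ _ _ (by decide) k_relp_82 k_relp_83)) (allR_join _ _ _ _ (by decide) (allR_join _ _ _ _ (by decide) k_relp_84 k_relp_85) (allR_join _ _ _ _ (by decide) k_relp_86 k_relp_87))) (allR_join _ _ _ _ (by decide) (allR_join _ _ _ _ (by decide) (allR_join _ _ _ _ (by decide) k_relp_88 k_relp_89) (allR_join _ _ _ _ (by decide) k_relp_90 k_relp_91)) (allR_join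 _ _ _ _ (by decide) (allR_join _ _ _ _ (by decide) k_relp_92 k_relp_93) (allR_join _ _ _ _ (by decide) k_relp_94 k_relp_95))))) (allR_join _ _ _ _ (by decide) (allR_join _ _ _ _ (by decide) (allR_join _ _ _ _ (by decide) (allR_join _ _ _ _ (by decide) (allR_join _ _ _ _ (by decide) k_relp_96 k_relp_97) (allR_join _ _ _ _ (by decide) k_relp_98 k_relp_99)) (allR_join _ _ _ _ (by decide) (allR_join _ _ _ _ (by decide) k_relp_100 k_relp_101) (allR_join _ _ _ _ (by decide) k_relp_102 k_relp_103))) (allR_join _ _ _ _ (by decide) (allR_join _ _ _ _ (by decide) (allR_join _ _ _ _ (by decide) k_relp_104 k_relp_105) (allR_join _ _ _ _ (by decide) k_relp_106 k_relp_107)) (allR_join _ _ _ _ (by decide) (allR_join _ _ _ _ (by decide) k_relp_108 k_relp_109) (allR_join _ _ _ _ (by decide) k_relp_110 k_relp_111)))) (allR_join _ _ _ _ (by decide) (allR_join _ _ _ _ (by decide) (allR_join _ _ _ _ (by decide) (allR_join _ _ _ _ (by decide) k_relp_112 k_relp_113) (allR_join _ _ _ _ (by decide) k_relp_114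 k_relp_115)) (allR_join _ _ _ _ (by decide) (allR_join _ _ _ _ (by decide) k_relp_116 k_relp_117) (allR_join _ _ _ _ (by decide) k_relp_118 k_relp_119))) (allR_join _ _ _ _ (by decide) (allR_join _ _ _ _ (by decide) (allR_join _ _ _ _ (by decide) k_relp_120 k_relp_121) (allR_join _ _ _ _ (by decide) k_relp_122 k_relp_123)) (allR_join _ _ _ _ (by decide) (allR_join _ _ _ _ (by decide) k_relp_124 k_relp_125) (allR_join _ _ _ _ (by decide) k_relp_126 k_relp_127))))))) (allR_join _ _ _ _ (by decide) (allR_join _ _ _ _ (by decide) (allR_join _ _ _ _ (by decide) (allR_join _ _ _ _ (by decide) (allR_join _ _ _ _ (by decide) (allR_join _ _ _ _ (by decide) (allR_join _ _ _ _ (by decide) k_relp_128 k_relp_129) (allR_join _ _ _ _ (by decide) k_relp_130 k_relp_131)) (allR_join _ _ _ _ (by decide) (allR_join _ _ _ _ (by decide) k_relp_132 k_relp_133) (allR_join _ _ _ _ (by decide) k_relp_134 k_relp_135))) (allR_join _ _ _ _ (by decide) (allR_join _ _ _ _ (by decide) (allR_join _ _ _ _ (by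 decide) k_relp_136 k_relp_137) (allR_join _ _ _ _ (by decide) k_relp_138 k_relp_139)) (allR_join _ _ _ _ (by decide) (allR_join _ _ _ _ (by decide) k_relp_140 k_relp_141) (allR_join _ _ _ _ (by decide) k_relp_142 k_relp_143)))) (allR_join _ _ _ _ (by decide) (allR_join _ _ _ _ (by decide) (allR_join _ _ _ _ (by decide) (allR_join _ _ _ _ (by decide) k_relp_144 k_relp_145) (allR_join _ _ _ _ (by decide) k_relp_146 k_relp_147)) (allR_join _ _ _ _ (by decide) (allR_join _ _ _ _ (by decide) k_relp_148 k_relp_149) (allR_join _ _ _ _ (by decide) k_relp_150 k_relp_151))) (allR_join _ _ _ _ (by decide) (allR_join _ _ _ _ (by decide) (allR_join _ _ _ _ (by decide) k_relp_152 k_relp_153) (allR_join _ _ _ _ (by decide) k_relp_154 k_relp_155)) (allR_join _ _ _ _ (by decide) (allR_join _ _ _ _ (by decide) k_relp_156 k_relp_157) (allR_join _ _ _ _ (by decide) k_relp_158 k_relp_159))))) (allR_join _ _ _ _ (by decide) (allR_join _ _ _ _ (by decide) (allR_join _ _ _ _ (by decide) (allR_join _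 _ _ _ (by decide) (allR_join _ _ _ _ (by decide) k_relp_160 k_relp_161) (allR_join _ _ _ _ (by decide) k_relp_162 k_relp_163)) (allR_join _ _ _ _ (by decide) (allR_join _ _ _ _ (by decide) k_relp_164 k_relp_165) (allR_join _ _ _ _ (by decide) k_relp_166 k_relp_167))) (allR_join _ _ _ _ (by decide) (allR_join _ _ _ _ (by decide) (allR_join _ _ _ _ (by decide) k_relp_168 k_relp_169) (allR_join _ _ _ _ (by decide) k_relp_170 k_relp_171)) (allR_join _ _ _ _ (by decide) (allR_join _ _ _ _ (by decide) k_relp_172 k_relp_173) (allR_join _ _ _ _ (by decide) k_relp_174 k_relp_175)))) (allR_join _ _ _ _ (by decide) (allR_join _ _ _ _ (by decide) (allR_join _ _ _ _ (by decide) (allR_join _ _ _ _ (by decide) k_relp_176 k_relp_177) (allR_join _ _ _ _ (by decide) k_relp_178 k_relp_179)) (allR_join _ _ _ _ (by decide) (allR_join _ _ _ _ (by decide) k_relp_180 k_relp_181) (allR_join _ _ _ _ (by decide) k_relp_182 k_relp_183))) (allR_join _ _ _ _ (by decide) (allR_join _ _ _ _ (by decide) (allR_join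 _ _ _ _ (by decide) k_relp_184 k_relp_185) (allR_join _ _ _ _ (by decide) k_relp_186 k_relp_187)) (allR_join _ _ _ _ (by decide) (allR_join _ _ _ _ (by decide) k_relp_188 k_relp_189) (allR_join _ _ _ _ (by decide) k_relp_190 k_relp_191)))))) (allR_join _ _ _ _ (by decide) (allR_join _ _ _ _ (by decide) (allR_join _ _ _ _ (by decide) (allR_join _ _ _ _ (by decide) (allR_join _ _ _ _ (by decide) (allR_join _ _ _ _ (by decide) k_relp_192 k_relp_193) (allR_join _ _ _ _ (by decide) k_relp_194 k_relp_195)) (allR_join _ _ _ _ (by decide) (allR_join _ _ _ _ (by decide) k_relp_196 k_relp_197) (allR_join _ _ _ _ (by decide) k_relp_198 k_relp_199))) (allR_join _ _ _ _ (by decide) (allR_join _ _ _ _ (by decide) (allR_join _ _ _ _ (by decide) k_relp_200 k_relp_201) (allR_join _ _ _ _ (by decide) k_relp_202 k_relp_203)) (allR_join _ _ _ _ (by decide) (allR_join _ _ _ _ (by decide) k_relp_204 k_relp_205) (allR_join _ _ _ _ (by decide) k_relp_206 k_relp_207)))) (allR_join _ _ _ _ (by decide)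 (allR_join _ _ _ _ (by decide) (allR_join _ _ _ _ (by decide) (allR_join _ _ _ _ (by decide) k_relp_208 k_relp_209) (allR_join _ _ _ _ (by decide) k_relp_210 k_relp_211)) (allR_join _ _ _ _ (by decide) (allR_join _ _ _ _ (by decide) k_relp_212 k_relp_213) (allR_join _ _ _ _ (by decide) k_relp_214 k_relp_215))) (allR_join _ _ _ _ (by decide) (allR_join _ _ _ _ (by decide) (allR_join _ _ _ _ (by decide) k_relp_216 k_relp_217) (allR_join _ _ _ _ (by decide) k_relp_218 k_relp_219)) (allR_join _ _ _ _ (by decide) (allR_join _ _ _ _ (by decide) k_relp_220 k_relp_221) (allR_join _ _ _ _ (by decide) k_relp_222 k_relp_223))))) (allR_join _ _ _ _ (by decide) (allR_join _ _ _ _ (by decide) (allR_join _ _ _ _ (by decide) (allR_join _ _ _ _ (by decide) (allR_join _ _ _ _ (by decide) k_relp_224 k_relp_225) (allR_join _ _ _ _ (by decide) k_relp_226 k_relp_227)) (allR_join _ _ _ _ (by decide) (allR_join _ _ _ _ (by decide) k_relp_228 k_relp_229) (allR_join _ _ _ _ (by decide) k_relp_230 k_relp_231)))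 (allR_join _ _ _ _ (by decide) (allR_join _ _ _ _ (by decide) (allR_join _ _ _ _ (by decide) k_relp_232 k_relp_233) (allR_join _ _ _ _ (by decide) k_relp_234 k_relp_235)) (allR_join _ _ _ _ (by decide) (allR_join _ _ _ _ (by decide) k_relp_236 k_relp_237) (allR_join _ _ _ _ (by decide) k_relp_238 k_relp_239)))) (allR_join _ _ _ _ (by decide) (allR_join _ _ _ _ (by decide) (allR_join _ _ _ _ (by decide) (allR_join _ _ _ _ (by decide) k_relp_240 k_relp_241) (allR_join _ _ _ _ (by decide) k_relp_242 k_relp_243)) (allR_join _ _ _ _ (by decide) (allR_join _ _ _ _ (by decide) k_relp_244 k_relp_245) (allR_join _ _ _ _ (by decide) k_relp_246 k_relp_247))) (allR_join _ _ _ _ (by decide) (allR_join _ _ _ _ (by decide) (allR_join _ _ _ _ (by decide) k_relp_248 k_relp_249) (allR_join _ _ _ _ (by decide) k_relp_250 k_relp_251)) (allR_join _ _ _ _ (by decide) (allR_join _ _ _ _ (by decide) k_relp_252 k_relp_253) (allR_join _ _ _ _ (by decide) k_relp_254 k_relp_255))))))))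

theorem k_cert : allR (ckCert C nF) 18 0 = true := (allR_join _ _ _ _ (by decide) (allR_join _ _ _ _ (by decide) (allR_join _ _ _ _ (by decide) (allR_join _ _ _ _ (by decide) (allR_join _ _ _ _ (by decide) (allR_join _ _ _ _ (by decide) (allR_join _ _ _ _ (by decide) (allR_join _ _ _ _ (by decide) (allR_join _ _ _ _ (by decide) k_certp_0 k_certp_1) (allR_join _ _ _ _ (by decide) k_certp_2 k_certp_3)) (allR_join _ _ _ _ (by decide) (allR_join _ _ _ _ (by decide) k_certp_4 k_certp_5) (allR_join _ _ _ _ (by decide) k_certp_6 k_certp_7))) (allR_join _ _ _ _ (by decide) (allR_join _ _ _ _ (by decide) (allR_join _ _ _ _ (by decide) k_certp_8 k_certp_9) (allR_join _ _ _ _ (by decide) k_certp_10 k_certp_11)) (allR_join _ _ _ _ (by decide) (allR_join _ _ _ _ (by decide) k_certp_12 k_certp_13) (allR_join _ _ _ _ (by decide) k_certp_14 k_certp_15)))) (allR_join _ _ _ _ (by decide) (allR_join _ _ _ _ (by decide) (allR_join _ _ _ _ (by decide) (allR_join _ _ _ _ (by decide) k_certp_16 k_certp_17)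 (allR_join _ _ _ _ (by decide) k_certp_18 k_certp_19)) (allR_join _ _ _ _ (by decide) (allR_join _ _ _ _ (by decide) k_certp_20 k_certp_21) (allR_join _ _ _ _ (by decide) k_certp_22 k_certp_23))) (allR_join _ _ _ _ (by decide) (allR_join _ _ _ _ (by decide) (allR_join _ _ _ _ (by decide) k_certp_24 k_certp_25) (allR_join _ _ _ _ (by decide) k_certp_26 k_certp_27)) (allR_join _ _ _ _ (by decide) (allR_join _ _ _ _ (by decide) k_certp_28 k_certp_29) (allR_join _ _ _ _ (by decide) k_certp_30 k_certp_31))))) (allR_join _ _ _ _ (by decide) (allR_join _ _ _ _ (by decide) (allR_join _ _ _ _ (by decide) (allR_join _ _ _ _ (by decide) (allR_join _ _ _ _ (by decide) k_certp_32 k_certp_33) (allR_join _ _ _ _ (by decide) k_certp_34 k_certp_35)) (allR_join _ _ _ _ (by decide) (allR_join _ _ _ _ (by decide) k_certp_36 k_certp_37) (allR_join _ _ _ _ (by decide) k_certp_38 k_certp_39))) (allR_join _ _ _ _ (by decide) (allR_join _ _ _ _ (by decide) (allR_join _ _ _ _ (by decide) k_certp_40 k_certp_41)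 (allR_join _ _ _ _ (by decide) k_certp_42 k_certp_43)) (allR_join _ _ _ _ (by decide) (allR_join _ _ _ _ (by decide) k_certp_44 k_certp_45) (allR_join _ _ _ _ (by decide) k_certp_46 k_certp_47)))) (allR_join _ _ _ _ (by decide) (allR_join _ _ _ _ (by decide) (allR_join _ _ _ _ (by decide) (allR_join _ _ _ _ (by decide) k_certp_48 k_certp_49) (allR_join _ _ _ _ (by decide) k_certp_50 k_certp_51)) (allR_join _ _ _ _ (by decide) (allR_join _ _ _ _ (by decide) k_certp_52 k_certp_53) (allR_join _ _ _ _ (by decide) k_certp_54 k_certp_55))) (allR_join _ _ _ _ (by decide) (allR_join _ _ _ _ (by decide) (allR_join _ _ _ _ (by decide) k_certp_56 k_certp_57) (allR_join _ _ _ _ (by decide) k_certp_58 k_certp_59)) (allR_join _ _ _ _ (by decide) (allR_join _ _ _ _ (by decide) k_certp_60 k_certp_61) (allR_join _ _ _ _ (by decide) k_certp_62 k_certp_63)))))) (allR_join _ _ _ _ (by decide) (allR_join _ _ _ _ (by decide) (allR_join _ _ _ _ (by decide) (allR_join _ _ _ _ (by decide) (allR_join _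 _ _ _ (by decide) (allR_join _ _ _ _ (by decide) k_certp_64 k_certp_65) (allR_join _ _ _ _ (by decide) k_certp_66 k_certp_67)) (allR_join _ _ _ _ (by decide) (allR_join _ _ _ _ (by decide) k_certp_68 k_certp_69) (allR_join _ _ _ _ (by decide) k_certp_70 k_certp_71))) (allR_join _ _ _ _ (by decide) (allR_join _ _ _ _ (by decide) (allR_join _ _ _ _ (by decide) k_certp_72 k_certp_73) (allR_join _ _ _ _ (by decide) k_certp_74 k_certp_75)) (allR_join _ _ _ _ (by decide) (allR_join _ _ _ _ (by decide) k_certp_76 k_certp_77) (allR_join _ _ _ _ (by decide) k_certp_78 k_certp_79)))) (allR_join _ _ _ _ (by decide) (allR_join _ _ _ _ (by decide) (allR_join _ _ _ _ (by decide) (allR_join _ _ _ _ (by decide) k_certp_80 k_certp_81) (allR_join _ _ _ _ (by decide) k_certp_82 k_certp_83)) (allR_join _ _ _ _ (by decide) (allR_join _ _ _ _ (by decide) k_certp_84 k_certp_85) (allR_join _ _ _ _ (by decide) k_certp_86 k_certp_87))) (allR_join _ _ _ _ (by decide) (allR_join _ _ _ _ (by decide) (allR_join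 _ _ _ _ (by decide) k_certp_88 k_certp_89) (allR_join _ _ _ _ (by decide) k_certp_90 k_certp_91)) (allR_join _ _ _ _ (by decide) (allR_join _ _ _ _ (by decide) k_certp_92 k_certp_93) (allR_join _ _ _ _ (by decide) k_certp_94 k_certp_95))))) (allR_join _ _ _ _ (by decide) (allR_join _ _ _ _ (by decide) (allR_join _ _ _ _ (by decide) (allR_join _ _ _ _ (by decide) (allR_join _ _ _ _ (by decide) k_certp_96 k_certp_97) (allR_join _ _ _ _ (by decide) k_certp_98 k_certp_99)) (allR_join _ _ _ _ (by decide) (allR_join _ _ _ _ (by decide) k_certp_100 k_certp_101) (allR_join _ _ _ _ (by decide) k_certp_102 k_certp_103))) (allR_join _ _ _ _ (by decide) (allR_join _ _ _ _ (by decide) (allR_join _ _ _ _ (by decide) k_certp_104 k_certp_105) (allR_join _ _ _ _ (by decide) k_certp_106 k_certp_107)) (allR_join _ _ _ _ (by decide) (allR_join _ _ _ _ (by decide) k_certp_108 k_certp_109) (allR_join _ _ _ _ (by decide) k_certp_110 k_certp_111)))) (allR_join _ _ _ _ (by decide) (allR_join _ _ _ _ (by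 decide) (allR_join _ _ _ _ (by decide) (allR_join _ _ _ _ (by decide) k_certp_112 k_certp_113) (allR_join _ _ _ _ (by decide) k_certp_114 k_certp_115)) (allR_join _ _ _ _ (by decide) (allR_join _ _ _ _ (by decide) k_certp_116 k_certp_117) (allR_join _ _ _ _ (by decide) k_certp_118 k_certp_119))) (allR_join _ _ _ _ (by decide) (allR_join _ _ _ _ (by decide) (allR_join _ _ _ _ (by decide) k_certp_120 k_certp_121) (allR_join _ _ _ _ (by decide) k_certp_122 k_certp_123)) (allR_join _ _ _ _ (by decide) (allR_join _ _ _ _ (by decide) k_certp_124 k_certp_125) (allR_join _ _ _ _ (by decide) k_certp_126 k_certp_127))))))) (allR_join _ _ _ _ (by decide) (allR_join _ _ _ _ (by decide) (allR_join _ _ _ _ (by decide) (allR_join _ _ _ _ (by decide) (allR_join _ _ _ _ (by decide) (allR_join _ _ _ _ (by decide) (allR_join _ _ _ _ (by decide) k_certp_128 k_certp_129) (allR_join _ _ _ _ (by decide) k_certp_130 k_certp_131)) (allR_join _ _ _ _ (by decide) (allR_join _ _ _ _ (by decide) k_certp_132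 k_certp_133) (allR_join _ _ _ _ (by decide) k_certp_134 k_certp_135))) (allR_join _ _ _ _ (by decide) (allR_join _ _ _ _ (by decide) (allR_join _ _ _ _ (by decide) k_certp_136 k_certp_137) (allR_join _ _ _ _ (by decide) k_certp_138 k_certp_139)) (allR_join _ _ _ _ (by decide) (allR_join _ _ _ _ (by decide) k_certp_140 k_certp_141) (allR_join _ _ _ _ (by decide) k_certp_142 k_certp_143)))) (allR_join _ _ _ _ (by decide) (allR_join _ _ _ _ (by decide) (allR_join _ _ _ _ (by decide) (allR_join _ _ _ _ (by decide) k_certp_144 k_certp_145) (allR_join _ _ _ _ (by decide) k_certp_146 k_certp_147)) (allR_join _ _ _ _ (by decide) (allR_join _ _ _ _ (by decide) k_certp_148 k_certp_149) (allR_join _ _ _ _ (by decide) k_certp_150 k_certp_151))) (allR_join _ _ _ _ (by decide) (allR_join _ _ _ _ (by decide) (allR_join _ _ _ _ (by decide) k_certp_152 k_certp_153) (allR_join _ _ _ _ (by decide) k_certp_154 k_certp_155)) (allR_join _ _ _ _ (by decide) (allR_join _ _ _ _ (by decide) k_certp_156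 k_certp_157) (allR_join _ _ _ _ (by decide) k_certp_158 k_certp_159))))) (allR_join _ _ _ _ (by decide) (allR_join _ _ _ _ (by decide) (allR_join _ _ _ _ (by decide) (allR_join _ _ _ _ (by decide) (allR_join _ _ _ _ (by decide) k_certp_160 k_certp_161) (allR_join _ _ _ _ (by decide) k_certp_162 k_certp_163)) (allR_join _ _ _ _ (by decide) (allR_join _ _ _ _ (by decide) k_certp_164 k_certp_165) (allR_join _ _ _ _ (by decide) k_certp_166 k_certp_167))) (allR_join _ _ _ _ (by decide) (allR_join _ _ _ _ (by decide) (allR_join _ _ _ _ (by decide) k_certp_168 k_certp_169) (allR_join _ _ _ _ (by decide) k_certp_170 k_certp_171)) (allR_join _ _ _ _ (by decide) (allR_join _ _ _ _ (by decide) k_certp_172 k_certp_173) (allR_join _ _ _ _ (by decide) k_certp_174 k_certp_175)))) (allR_join _ _ _ _ (by decide) (allR_join _ _ _ _ (by decide) (allR_join _ _ _ _ (by decide) (allR_join _ _ _ _ (by decide) k_certp_176 k_certp_177) (allR_join _ _ _ _ (by decide) k_certp_178 k_certp_179)) (allR_join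 _ _ _ _ (by decide) (allR_join _ _ _ _ (by decide) k_certp_180 k_certp_181) (allR_join _ _ _ _ (by decide) k_certp_182 k_certp_183))) (allR_join _ _ _ _ (by decide) (allR_join _ _ _ _ (by decide) (allR_join _ _ _ _ (by decide) k_certp_184 k_certp_185) (allR_join _ _ _ _ (by decide) k_certp_186 k_certp_187)) (allR_join _ _ _ _ (by decide) (allR_join _ _ _ _ (by decide) k_certp_188 k_certp_189) (allR_join _ _ _ _ (by decide) k_certp_190 k_certp_191)))))) (allR_join _ _ _ _ (by decide) (allR_join _ _ _ _ (by decide) (allR_join _ _ _ _ (by decide) (allR_join _ _ _ _ (by decide) (allR_join _ _ _ _ (by decide) (allR_join _ _ _ _ (by decide) k_certp_192 k_certp_193) (allR_join _ _ _ _ (by decide) k_certp_194 k_certp_195)) (allR_join _ _ _ _ (by decide) (allR_join _ _ _ _ (by decide) k_certp_196 k_certp_197) (allR_join _ _ _ _ (by decide) k_certp_198 k_certp_199))) (allR_join _ _ _ _ (by decide) (allR_join _ _ _ _ (by decide) (allR_join _ _ _ _ (by decide) k_certp_200 k_certp_201) (allR_join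 _ _ _ _ (by decide) k_certp_202 k_certp_203)) (allR_join _ _ _ _ (by decide) (allR_join _ _ _ _ (by decide) k_certp_204 k_certp_205) (allR_join _ _ _ _ (by decide) k_certp_206 k_certp_207)))) (allR_join _ _ _ _ (by decide) (allR_join _ _ _ _ (by decide) (allR_join _ _ _ _ (by decide) (allR_join _ _ _ _ (by decide) k_certp_208 k_certp_209) (allR_join _ _ _ _ (by decide) k_certp_210 k_certp_211)) (allR_join _ _ _ _ (by decide) (allR_join _ _ _ _ (by decide) k_certp_212 k_certp_213) (allR_join _ _ _ _ (by decide) k_certp_214 k_certp_215))) (allR_join _ _ _ _ (by decide) (allR_join _ _ _ _ (by decide) (allR_join _ _ _ _ (by decide) k_certp_216 k_certp_217) (allR_join _ _ _ _ (by decide) k_certp_218 k_certp_219)) (allR_join _ _ _ _ (by decide) (allR_join _ _ _ _ (by decide) k_certp_220 k_certp_221) (allR_join _ _ _ _ (by decide) k_certp_222 k_certp_223))))) (allR_join _ _ _ _ (by decide) (allR_join _ _ _ _ (by decide) (allR_join _ _ _ _ (by decide) (allR_join _ _ _ _ (by decide) (allR_join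 _ _ _ _ (by decide) k_certp_224 k_certp_225) (allR_join _ _ _ _ (by decide) k_certp_226 k_certp_227)) (allR_join _ _ _ _ (by decide) (allR_join _ _ _ _ (by decide) k_certp_228 k_certp_229) (allR_join _ _ _ _ (by decide) k_certp_230 k_certp_231))) (allR_join _ _ _ _ (by decide) (allR_join _ _ _ _ (by decide) (allR_join _ _ _ _ (by decide) k_certp_232 k_certp_233) (allR_join _ _ _ _ (by decide) k_certp_234 k_certp_235)) (allR_join _ _ _ _ (by decide) (allR_join _ _ _ _ (by decide) k_certp_236 k_certp_237) (allR_join _ _ _ _ (by decide) k_certp_238 k_certp_239)))) (allR_join _ _ _ _ (by decide) (allR_join _ _ _ _ (by decide) (allR_join _ _ _ _ (by decide) (allR_join _ _ _ _ (by decide) k_certp_240 k_certp_241) (allR_join _ _ _ _ (by decide) k_certp_242 k_certp_243)) (allR_join _ _ _ _ (by decide) (allR_join _ _ _ _ (by decide) k_certp_244 k_certp_245) (allR_join _ _ _ _ (by decide) k_certp_246 k_certp_247))) (allR_join _ _ _ _ (by decide) (allR_join _ _ _ _ (by decide) (allR_join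 _ _ _ _ (by decide) k_certp_248 k_certp_249) (allR_join _ _ _ _ (by decide) k_certp_250 k_certp_251)) (allR_join _ _ _ _ (by decide) (allR_join _ _ _ _ (by decide) k_certp_252 k_certp_253) (allR_join _ _ _ _ (by decide) k_certp_254 k_certp_255)))))))) (allR_join _ _ _ _ (by decide) (allR_join _ _ _ _ (by decide) (allR_join _ _ _ _ (by decide) (allR_join _ _ _ _ (by decide) (allR_join _ _ _ _ (by decide) (allR_join _ _ _ _ (by decide) (allR_join _ _ _ _ (by decide) (allR_join _ _ _ _ (by decide) k_certp_256 k_certp_257) (allR_join _ _ _ _ (by decide) k_certp_258 k_certp_259)) (allR_join _ _ _ _ (by decide) (allR_join _ _ _ _ (by decide) k_certp_260 k_certp_261) (allR_join _ _ _ _ (by decide) k_certp_262 k_certp_263))) (allR_join _ _ _ _ (by decide) (allR_join _ _ _ _ (by decide) (allR_join _ _ _ _ (by decide) k_certp_264 k_certp_265) (allR_join _ _ _ _ (by decide) k_certp_266 k_certp_267)) (allR_join _ _ _ _ (by decide) (allR_join _ _ _ _ (by decide) k_certp_268 k_certp_269) (allR_join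 _ _ _ _ (by decide) k_certp_270 k_certp_271)))) (allR_join _ _ _ _ (by decide) (allR_join _ _ _ _ (by decide) (allR_join _ _ _ _ (by decide) (allR_join _ _ _ _ (by decide) k_certp_272 k_certp_273) (allR_join _ _ _ _ (by decide) k_certp_274 k_certp_275)) (allR_join _ _ _ _ (by decide) (allR_join _ _ _ _ (by decide) k_certp_276 k_certp_277) (allR_join _ _ _ _ (by decide) k_certp_278 k_certp_279))) (allR_join _ _ _ _ (by decide) (allR_join _ _ _ _ (by decide) (allR_join _ _ _ _ (by decide) k_certp_280 k_certp_281) (allR_join _ _ _ _ (by decide) k_certp_282 k_certp_283)) (allR_join _ _ _ _ (by decide) (allR_join _ _ _ _ (by decide) k_certp_284 k_certp_285) (allR_join _ _ _ _ (by decide) k_certp_286 k_certp_287))))) (allR_join _ _ _ _ (by decide) (allR_join _ _ _ _ (by decide) (allR_join _ _ _ _ (by decide) (allR_join _ _ _ _ (by decide) (allR_join _ _ _ _ (by decide) k_certp_288 k_certp_289) (allR_join _ _ _ _ (by decide) k_certp_290 k_certp_291)) (allR_join _ _ _ _ (by decide) (allR_join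 _ _ _ _ (by decide) k_certp_292 k_certp_293) (allR_join _ _ _ _ (by decide) k_certp_294 k_certp_295))) (allR_join _ _ _ _ (by decide) (allR_join _ _ _ _ (by decide) (allR_join _ _ _ _ (by decide) k_certp_296 k_certp_297) (allR_join _ _ _ _ (by decide) k_certp_298 k_certp_299)) (allR_join _ _ _ _ (by decide) (allR_join _ _ _ _ (by decide) k_certp_300 k_certp_301) (allR_join _ _ _ _ (by decide) k_certp_302 k_certp_303)))) (allR_join _ _ _ _ (by decide) (allR_join _ _ _ _ (by decide) (allR_join _ _ _ _ (by decide) (allR_join _ _ _ _ (by decide) k_certp_304 k_certp_305) (allR_join _ _ _ _ (by decide) k_certp_306 k_certp_307)) (allR_join _ _ _ _ (by decide) (allR_join _ _ _ _ (by decide) k_certp_308 k_certp_309) (allR_join _ _ _ _ (by decide) k_certp_310 k_certp_311))) (allR_join _ _ _ _ (by decide) (allR_join _ _ _ _ (by decide) (allR_join _ _ _ _ (by decide) k_certp_312 k_certp_313) (allR_join _ _ _ _ (by decide) k_certp_314 k_certp_315)) (allR_join _ _ _ _ (by decide) (allR_join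 _ _ _ _ (by decide) k_certp_316 k_certp_317) (allR_join _ _ _ _ (by decide) k_certp_318 k_certp_319)))))) (allR_join _ _ _ _ (by decide) (allR_join _ _ _ _ (by decide) (allR_join _ _ _ _ (by decide) (allR_join _ _ _ _ (by decide) (allR_join _ _ _ _ (by decide) (allR_join _ _ _ _ (by decide) k_certp_320 k_certp_321) (allR_join _ _ _ _ (by decide) k_certp_322 k_certp_323)) (allR_join _ _ _ _ (by decide) (allR_join _ _ _ _ (by decide) k_certp_324 k_certp_325) (allR_join _ _ _ _ (by decide) k_certp_326 k_certp_327))) (allR_join _ _ _ _ (by decide) (allR_join _ _ _ _ (by decide) (allR_join _ _ _ _ (by decide) k_certp_328 k_certp_329) (allR_join _ _ _ _ (by decide) k_certp_330 k_certp_331)) (allR_join _ _ _ _ (by decide) (allR_join _ _ _ _ (by decide) k_certp_332 k_certp_333) (allR_join _ _ _ _ (by decide) k_certp_334 k_certp_335)))) (allR_join _ _ _ _ (by decide) (allR_join _ _ _ _ (by decide) (allR_join _ _ _ _ (by decide) (allR_join _ _ _ _ (by decide) k_certp_336 k_certp_337) (allR_join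 _ _ _ _ (by decide) k_certp_338 k_certp_339)) (allR_join _ _ _ _ (by decide) (allR_join _ _ _ _ (by decide) k_certp_340 k_certp_341) (allR_join _ _ _ _ (by decide) k_certp_342 k_certp_343))) (allR_join _ _ _ _ (by decide) (allR_join _ _ _ _ (by decide) (allR_join _ _ _ _ (by decide) k_certp_344 k_certp_345) (allR_join _ _ _ _ (by decide) k_certp_346 k_certp_347)) (allR_join _ _ _ _ (by decide) (allR_join _ _ _ _ (by decide) k_certp_348 k_certp_349) (allR_join _ _ _ _ (by decide) k_certp_350 k_certp_351))))) (allR_join _ _ _ _ (by decide) (allR_join _ _ _ _ (by decide) (allR_join _ _ _ _ (by decide) (allR_join _ _ _ _ (by decide) (allR_join _ _ _ _ (by decide) k_certp_352 k_certp_353) (allR_join _ _ _ _ (by decide) k_certp_354 k_certp_355)) (allR_join _ _ _ _ (by decide) (allR_join _ _ _ _ (by decide) k_certp_356 k_certp_357) (allR_join _ _ _ _ (by decide) k_certp_358 k_certp_359))) (allR_join _ _ _ _ (by decide) (allR_join _ _ _ _ (by decide) (allR_join _ _ _ _ (by decide) k_certp_360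 k_certp_361) (allR_join _ _ _ _ (by decide) k_certp_362 k_certp_363)) (allR_join _ _ _ _ (by decide) (allR_join _ _ _ _ (by decide) k_certp_364 k_certp_365) (allR_join _ _ _ _ (by decide) k_certp_366 k_certp_367)))) (allR_join _ _ _ _ (by decide) (allR_join _ _ _ _ (by decide) (allR_join _ _ _ _ (by decide) (allR_join _ _ _ _ (by decide) k_certp_368 k_certp_369) (allR_join _ _ _ _ (by decide) k_certp_370 k_certp_371)) (allR_join _ _ _ _ (by decide) (allR_join _ _ _ _ (by decide) k_certp_372 k_certp_373) (allR_join _ _ _ _ (by decide) k_certp_374 k_certp_375))) (allR_join _ _ _ _ (by decide) (allR_join _ _ _ _ (by decide) (allR_join _ _ _ _ (by decide) k_certp_376 k_certp_377) (allR_join _ _ _ _ (by decide) k_certp_378 k_certp_379)) (allR_join _ _ _ _ (by decide) (allR_join _ _ _ _ (by decide) k_certp_380 k_certp_381) (allR_join _ _ _ _ (by decide) k_certp_382 k_certp_383))))))) (allR_join _ _ _ _ (by decide) (allR_join _ _ _ _ (by decide) (allR_join _ _ _ _ (by decide) (allR_join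 _ _ _ _ (by decide) (allR_join _ _ _ _ (by decide) (allR_join _ _ _ _ (by decide) (allR_join _ _ _ _ (by decide) k_certp_384 k_certp_385) (allR_join _ _ _ _ (by decide) k_certp_386 k_certp_387)) (allR_join _ _ _ _ (by decide) (allR_join _ _ _ _ (by decide) k_certp_388 k_certp_389) (allR_join _ _ _ _ (by decide) k_certp_390 k_certp_391))) (allR_join _ _ _ _ (by decide) (allR_join _ _ _ _ (by decide) (allR_join _ _ _ _ (by decide) k_certp_392 k_certp_393) (allR_join _ _ _ _ (by decide) k_certp_394 k_certp_395)) (allR_join _ _ _ _ (by decide) (allR_join _ _ _ _ (by decide) k_certp_396 k_certp_397) (allR_join _ _ _ _ (by decide) k_certp_398 k_certp_399)))) (allR_join _ _ _ _ (by decide) (allR_join _ _ _ _ (by decide) (allR_join _ _ _ _ (by decide) (allR_join _ _ _ _ (by decide) k_certp_400 k_certp_401) (allR_join _ _ _ _ (by decide) k_certp_402 k_certp_403)) (allR_join _ _ _ _ (by decide) (allR_join _ _ _ _ (by decide) k_certp_404 k_certp_405) (allR_join _ _ _ _ (by decide) k_certp_406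 k_certp_407))) (allR_join _ _ _ _ (by decide) (allR_join _ _ _ _ (by decide) (allR_join _ _ _ _ (by decide) k_certp_408 k_certp_409) (allR_join _ _ _ _ (by decide) k_certp_410 k_certp_411)) (allR_join _ _ _ _ (by decide) (allR_join _ _ _ _ (by decide) k_certp_412 k_certp_413) (allR_join _ _ _ _ (by decide) k_certp_414 k_certp_415))))) (allR_join _ _ _ _ (by decide) (allR_join _ _ _ _ (by decide) (allR_join _ _ _ _ (by decide) (allR_join _ _ _ _ (by decide) (allR_join _ _ _ _ (by decide) k_certp_416 k_certp_417) (allR_join _ _ _ _ (by decide) k_certp_418 k_certp_419)) (allR_join _ _ _ _ (by decide) (allR_join _ _ _ _ (by decide) k_certp_420 k_certp_421) (allR_join _ _ _ _ (by decide) k_certp_422 k_certp_423))) (allR_join _ _ _ _ (by decide) (allR_join _ _ _ _ (by decide) (allR_join _ _ _ _ (by decide) k_certp_424 k_certp_425) (allR_join _ _ _ _ (by decide) k_certp_426 k_certp_427)) (allR_join _ _ _ _ (by decide) (allR_join _ _ _ _ (by decide) k_certp_428 k_certp_429) (allR_join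 _ _ _ _ (by decide) k_certp_430 k_certp_431)))) (allR_join _ _ _ _ (by decide) (allR_join _ _ _ _ (by decide) (allR_join _ _ _ _ (by decide) (allR_join _ _ _ _ (by decide) k_certp_432 k_certp_433) (allR_join _ _ _ _ (by decide) k_certp_434 k_certp_435)) (allR_join _ _ _ _ (by decide) (allR_join _ _ _ _ (by decide) k_certp_436 k_certp_437) (allR_join _ _ _ _ (by decide) k_certp_438 k_certp_439))) (allR_join _ _ _ _ (by decide) (allR_join _ _ _ _ (by decide) (allR_join _ _ _ _ (by decide) k_certp_440 k_certp_441) (allR_join _ _ _ _ (by decide) k_certp_442 k_certp_443)) (allR_join _ _ _ _ (by decide) (allR_join _ _ _ _ (by decide) k_certp_444 k_certp_445) (allR_join _ _ _ _ (by decide) k_certp_446 k_certp_447)))))) (allR_join _ _ _ _ (by decide) (allR_join _ _ _ _ (by decide) (allR_join _ _ _ _ (by decide) (allR_join _ _ _ _ (by decide) (allR_join _ _ _ _ (by decide) (allR_join _ _ _ _ (by decide) k_certp_448 k_certp_449) (allR_join _ _ _ _ (by decide) k_certp_450 k_certp_451)) (allR_join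 _ _ _ _ (by decide) (allR_join _ _ _ _ (by decide) k_certp_452 k_certp_453) (allR_join _ _ _ _ (by decide) k_certp_454 k_certp_455))) (allR_join _ _ _ _ (by decide) (allR_join _ _ _ _ (by decide) (allR_join _ _ _ _ (by decide) k_certp_456 k_certp_457) (allR_join _ _ _ _ (by decide) k_certp_458 k_certp_459)) (allR_join _ _ _ _ (by decide) (allR_join _ _ _ _ (by decide) k_certp_460 k_certp_461) (allR_join _ _ _ _ (by decide) k_certp_462 k_certp_463)))) (allR_join _ _ _ _ (by decide) (allR_join _ _ _ _ (by decide) (allR_join _ _ _ _ (by decide) (allR_join _ _ _ _ (by decide) k_certp_464 k_certp_465) (allR_join _ _ _ _ (by decide) k_certp_466 k_certp_467)) (allR_join _ _ _ _ (by decide) (allR_join _ _ _ _ (by decide) k_certp_468 k_certp_469) (allR_join _ _ _ _ (by decide) k_certp_470 k_certp_471))) (allR_join _ _ _ _ (by decide) (allR_join _ _ _ _ (by decide) (allR_join _ _ _ _ (by decide) k_certp_472 k_certp_473) (allR_join _ _ _ _ (by decide) k_certp_474 k_certp_475)) (allR_join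 _ _ _ _ (by decide) (allR_join _ _ _ _ (by decide) k_certp_476 k_certp_477) (allR_join _ _ _ _ (by decide) k_certp_478 k_certp_479))))) (allR_join _ _ _ _ (by decide) (allR_join _ _ _ _ (by decide) (allR_join _ _ _ _ (by decide) (allR_join _ _ _ _ (by decide) (allR_join _ _ _ _ (by decide) k_certp_480 k_certp_481) (allR_join _ _ _ _ (by decide) k_certp_482 k_certp_483)) (allR_join _ _ _ _ (by decide) (allR_join _ _ _ _ (by decide) k_certp_484 k_certp_485) (allR_join _ _ _ _ (by decide) k_certp_486 k_certp_487))) (allR_join _ _ _ _ (by decide) (allR_join _ _ _ _ (by decide) (allR_join _ _ _ _ (by decide) k_certp_488 k_certp_489) (allR_join _ _ _ _ (by decide) k_certp_490 k_certp_491)) (allR_join _ _ _ _ (by decide) (allR_join _ _ _ _ (by decide) k_certp_492 k_certp_493) (allR_join _ _ _ _ (by decide) k_certp_494 k_certp_495)))) (allR_join _ _ _ _ (by decide) (allR_join _ _ _ _ (by decide) (allR_join _ _ _ _ (by decide) (allR_join _ _ _ _ (by decide) k_certp_496 k_certp_497) (allR_join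 _ _ _ _ (by decide) k_certp_498 k_certp_499)) (allR_join _ _ _ _ (by decide) (allR_join _ _ _ _ (by decide) k_certp_500 k_certp_501) (allR_join _ _ _ _ (by decide) k_certp_502 k_certp_503))) (allR_join _ _ _ _ (by decide) (allR_join _ _ _ _ (by decide) (allR_join _ _ _ _ (by decide) k_certp_504 k_certp_505) (allR_join _ _ _ _ (by decide) k_certp_506 k_certp_507)) (allR_join _ _ _ _ (by decide) (allR_join _ _ _ _ (by decide) k_certp_508 k_certp_509) (allR_join _ _ _ _ (by decide) k_certp_510 k_certp_511)))))))))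

theorem k_fin : allR (ckFin C 10 nn nF can fin T) 15 0 = true := (allR_join _ _ _ _ (by decide) (allR_join _ _ _ _ (by decide) (allR_join _ _ _ _ (by decide) (allR_join _ _ _ _ (by decide) (allR_join _ _ _ _ (by decide) (allR_join _ _ _ _ (by decide) (allR_join _ _ _ _ (by decide) k_finp_0 k_finp_1) (allR_join _ _ _ _ (by decide) k_finp_2 k_finp_3)) (allR_join _ _ _ _ (by decide) (allR_join _ _ _ _ (by decide) k_finp_4 k_finp_5) (allR_join _ _ _ _ (by decide) k_finp_6 k_finp_7))) (allR_join _ _ _ _ (by decide) (allR_join _ _ _ _ (by decide) (allR_join _ _ _ _ (by decide) k_finp_8 k_finp_9) (allR_join _ _ _ _ (by decide) k_finp_10 k_finp_11)) (allR_join _ _ _ _ (by decide) (allR_join _ _ _ _ (by decide) k_finp_12 k_finp_13) (allR_join _ _ _ _ (by decide) k_finp_14 k_finp_15)))) (allR_join _ _ _ _ (by decide) (allR_join _ _ _ _ (by decide) (allR_join _ _ _ _ (by decide) (allR_join _ _ _ _ (by decide) k_finp_16 k_finp_17) (allR_join _ _ _ _ (by decide) k_finp_18 k_finp_19)) (allR_join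 _ _ _ _ (by decide) (allR_join _ _ _ _ (by decide) k_finp_20 k_finp_21) (allR_join _ _ _ _ (by decide) k_finp_22 k_finp_23))) (allR_join _ _ _ _ (by decide) (allR_join _ _ _ _ (by decide) (allR_join _ _ _ _ (by decide) k_finp_24 k_finp_25) (allR_join _ _ _ _ (by decide) k_finp_26 k_finp_27)) (allR_join _ _ _ _ (by decide) (allR_join _ _ _ _ (by decide) k_finp_28 k_finp_29) (allR_join _ _ _ _ (by decide) k_finp_30 k_finp_31))))) (allR_join _ _ _ _ (by decide) (allR_join _ _ _ _ (by decide) (allR_join _ _ _ _ (by decide) (allR_join _ _ _ _ (by decide) (allR_join _ _ _ _ (by decide) k_finp_32 k_finp_33) (allR_join _ _ _ _ (by decide) k_finp_34 k_finp_35)) (allR_join _ _ _ _ (by decide) (allR_join _ _ _ _ (by decide) k_finp_36 k_finp_37) (allR_join _ _ _ _ (by decide) k_finp_38 k_finp_39))) (allR_join _ _ _ _ (by decide) (allR_join _ _ _ _ (by decide) (allR_join _ _ _ _ (by decide) k_finp_40 k_finp_41) (allR_join _ _ _ _ (by decide) k_finp_42 k_finp_43)) (allR_join _ _ _ _ (by decide)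 (allR_join _ _ _ _ (by decide) k_finp_44 k_finp_45) (allR_join _ _ _ _ (by decide) k_finp_46 k_finp_47)))) (allR_join _ _ _ _ (by decide) (allR_join _ _ _ _ (by decide) (allR_join _ _ _ _ (by decide) (allR_join _ _ _ _ (by decide) k_finp_48 k_finp_49) (allR_join _ _ _ _ (by decide) k_finp_50 k_finp_51)) (allR_join _ _ _ _ (by decide) (allR_join _ _ _ _ (by decide) k_finp_52 k_finp_53) (allR_join _ _ _ _ (by decide) k_finp_54 k_finp_55))) (allR_join _ _ _ _ (by decide) (allR_join _ _ _ _ (by decide) (allR_join _ _ _ _ (by decide) k_finp_56 k_finp_57) (allR_join _ _ _ _ (by decide) k_finp_58 k_finp_59)) (allR_join _ _ _ _ (by decide) (allR_join _ _ _ _ (by decide) k_finp_60 k_finp_61) (allR_join _ _ _ _ (by decide) k_finp_62 k_finp_63)))))) (allR_join _ _ _ _ (by decide) (allR_join _ _ _ _ (by decide) (allR_join _ _ _ _ (by decide) (allR_join _ _ _ _ (by decide) (allR_join _ _ _ _ (by decide) (allR_join _ _ _ _ (by decide) k_finp_64 k_finp_65) (allR_join _ _ _ _ (by decide) k_finp_66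 k_finp_67)) (allR_join _ _ _ _ (by decide) (allR_join _ _ _ _ (by decide) k_finp_68 k_finp_69) (allR_join _ _ _ _ (by decide) k_finp_70 k_finp_71))) (allR_join _ _ _ _ (by decide) (allR_join _ _ _ _ (by decide) (allR_join _ _ _ _ (by decide) k_finp_72 k_finp_73) (allR_join _ _ _ _ (by decide) k_finp_74 k_finp_75)) (allR_join _ _ _ _ (by decide) (allR_join _ _ _ _ (by decide) k_finp_76 k_finp_77) (allR_join _ _ _ _ (by decide) k_finp_78 k_finp_79)))) (allR_join _ _ _ _ (by decide) (allR_join _ _ _ _ (by decide) (allR_join _ _ _ _ (by decide) (allR_join _ _ _ _ (by decide) k_finp_80 k_finp_81) (allR_join _ _ _ _ (by decide) k_finp_82 k_finp_83)) (allR_join _ _ _ _ (by decide) (allR_join _ _ _ _ (by decide) k_finp_84 k_finp_85) (allR_join _ _ _ _ (by decide) k_finp_86 k_finp_87))) (allR_join _ _ _ _ (by decide) (allR_join _ _ _ _ (by decide) (allR_join _ _ _ _ (by decide) k_finp_88 k_finp_89) (allR_join _ _ _ _ (by decide) k_finp_90 k_finp_91)) (allR_join _ _ _ _ (by decide) (allR_join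 _ _ _ _ (by decide) k_finp_92 k_finp_93) (allR_join _ _ _ _ (by decide) k_finp_94 k_finp_95))))) (allR_join _ _ _ _ (by decide) (allR_join _ _ _ _ (by decide) (allR_join _ _ _ _ (by decide) (allR_join _ _ _ _ (by decide) (allR_join _ _ _ _ (by decide) k_finp_96 k_finp_97) (allR_join _ _ _ _ (by decide) k_finp_98 k_finp_99)) (allR_join _ _ _ _ (by decide) (allR_join _ _ _ _ (by decide) k_finp_100 k_finp_101) (allR_join _ _ _ _ (by decide) k_finp_102 k_finp_103))) (allR_join _ _ _ _ (by decide) (allR_join _ _ _ _ (by decide) (allR_join _ _ _ _ (by decide) k_finp_104 k_finp_105) (allR_join _ _ _ _ (by decide) k_finp_106 k_finp_107)) (allR_join _ _ _ _ (by decide) (allR_join _ _ _ _ (by decide) k_finp_108 k_finp_109) (allR_join _ _ _ _ (by decide) k_finp_110 k_finp_111)))) (allR_join _ _ _ _ (by decide) (allR_join _ _ _ _ (by decide) (allR_join _ _ _ _ (by decide) (allR_join _ _ _ _ (by decide) k_finp_112 k_finp_113) (allR_join _ _ _ _ (by decide) k_finp_114 k_finp_115)) (allR_join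 _ _ _ _ (by decide) (allR_join _ _ _ _ (by decide) k_finp_116 k_finp_117) (allR_join _ _ _ _ (by decide) k_finp_118 k_finp_119))) (allR_join _ _ _ _ (by decide) (allR_join _ _ _ _ (by decide) (allR_join _ _ _ _ (by decide) k_finp_120 k_finp_121) (allR_join _ _ _ _ (by decide) k_finp_122 k_finp_123)) (allR_join _ _ _ _ (by decide) (allR_join _ _ _ _ (by decide) k_finp_124 k_finp_125) (allR_join _ _ _ _ (by decide) k_finp_126 k_finp_127)))))))

theorem k_tbl : allR (ckTbl 10 nn T) 15 0 = true := (allR_join _ _ _ _ (by decide) (allR_join _ _ _ _ (by decide) (allR_join _ _ _ _ (by decide) (allR_join _ _ _ _ (by decide) (allR_join _ _ _ _ (by decide) (allR_join _ _ _ _ (by decide) k_tblp_0 k_tblp_1) (allR_join _ _ _ _ (by decide) k_tblp_2 k_tblp_3)) (allR_join _ _ _ _ (by decide) (allR_join _ _ _ _ (by decide) k_tblp_4 k_tblp_5) (allR_join _ _ _ _ (by decide) k_tblp_6 k_tblp_7))) (allR_join _ _ _ _ (by decide) (allR_join _ _ _ _ (by decide) (allR_join _ _ _ _ (by decide) k_tblp_8 k_tblp_9)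 (allR_join _ _ _ _ (by decide) k_tblp_10 k_tblp_11)) (allR_join _ _ _ _ (by decide) (allR_join _ _ _ _ (by decide) k_tblp_12 k_tblp_13) (allR_join _ _ _ _ (by decide) k_tblp_14 k_tblp_15)))) (allR_join _ _ _ _ (by decide) (allR_join _ _ _ _ (by decide) (allR_join _ _ _ _ (by decide) (allR_join _ _ _ _ (by decide) k_tblp_16 k_tblp_17) (allR_join _ _ _ _ (by decide) k_tblp_18 k_tblp_19)) (allR_join _ _ _ _ (by decide) (allR_join _ _ _ _ (by decide) k_tblp_20 k_tblp_21) (allR_join _ _ _ _ (by decide) k_tblp_22 k_tblp_23))) (allR_join _ _ _ _ (by decide) (allR_join _ _ _ _ (by decide) (allR_join _ _ _ _ (by decide) k_tblp_24 k_tblp_25) (allR_join _ _ _ _ (by decide) k_tblp_26 k_tblp_27)) (allR_join _ _ _ _ (by decide) (allR_join _ _ _ _ (by decide) k_tblp_28 k_tblp_29) (allR_join _ _ _ _ (by decide) k_tblp_30 k_tblp_31))))) (allR_join _ _ _ _ (by decide) (allR_join _ _ _ _ (by decide) (allR_join _ _ _ _ (by decide) (allR_join _ _ _ _ (by decide) (allR_join _ _ _ _ (by decide) k_tblp_32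 k_tblp_33) (allR_join _ _ _ _ (by decide) k_tblp_34 k_tblp_35)) (allR_join _ _ _ _ (by decide) (allR_join _ _ _ _ (by decide) k_tblp_36 k_tblp_37) (allR_join _ _ _ _ (by decide) k_tblp_38 k_tblp_39))) (allR_join _ _ _ _ (by decide) (allR_join _ _ _ _ (by decide) (allR_join _ _ _ _ (by decide) k_tblp_40 k_tblp_41) (allR_join _ _ _ _ (by decide) k_tblp_42 k_tblp_43)) (allR_join _ _ _ _ (by decide) (allR_join _ _ _ _ (by decide) k_tblp_44 k_tblp_45) (allR_join _ _ _ _ (by decide) k_tblp_46 k_tblp_47)))) (allR_join _ _ _ _ (by decide) (allR_join _ _ _ _ (by decide) (allR_join _ _ _ _ (by decide) (allR_join _ _ _ _ (by decide) k_tblp_48 k_tblp_49) (allR_join _ _ _ _ (by decide) k_tblp_50 k_tblp_51)) (allR_join _ _ _ _ (by decide) (allR_join _ _ _ _ (by decide) k_tblp_52 k_tblp_53) (allR_join _ _ _ _ (by decide) k_tblp_54 k_tblp_55))) (allR_join _ _ _ _ (by decide) (allR_join _ _ _ _ (by decide) (allR_join _ _ _ _ (by decide) k_tblp_56 k_tblp_57) (allR_join _ _ _ _ (by decide) k_tblp_58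 k_tblp_59)) (allR_join _ _ _ _ (by decide) (allR_join _ _ _ _ (by decide) k_tblp_60 k_tblp_61) (allR_join _ _ _ _ (by decide) k_tblp_62 k_tblp_63))))))

theorem k_tree : allR (ckTree 10 nn T bp bg) 15 0 = true := (allR_join _ _ _ _ (by decide) (allR_join _ _ _ _ (by decide) (allR_join _ _ _ _ (by decide) k_treep_0 k_treep_1) (allR_join _ _ _ _ (by decide) k_treep_2 k_treep_3)) (allR_join _ _ _ _ (by decide) (allR_join _ _ _ _ (by decide) k_treep_4 k_treep_5) (allR_join _ _ _ _ (by decide) k_treep_6 k_treep_7)))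

theorem k_oinv : allR (ckOrbInv nn T sw ol) 15 0 = true := (allR_join _ _ _ _ (by decide) (allR_join _ _ _ _ (by decide) (allR_join _ _ _ _ (by decide) (allR_join _ _ _ _ (by decide) (allR_join _ _ _ _ (by decide) (allR_join _ _ _ _ (by decide) k_oinvp_0 k_oinvp_1) (allR_join _ _ _ _ (by decide) k_oinvp_2 k_oinvp_3)) (allR_join _ _ _ _ (by decide) (allR_join _ _ _ _ (by decide) k_oinvp_4 k_oinvp_5) (allR_join _ _ _ _ (by decide) k_oinvp_6 k_oinvp_7))) (allR_join _ _ _ _ (by decide) (allR_join _ _ _ _ (by decide) (allR_join _ _ _ _ (by decide) k_oinvp_8 k_oinvp_9) (allR_join _ _ _ _ (by decide) k_oinvp_10 k_oinvp_11)) (allR_join _ _ _ _ (by decide) (allR_join _ _ _ _ (by decide) k_oinvp_12 k_oinvp_13) (allR_join _ _ _ _ (by decide) k_oinvp_14 k_oinvp_15)))) (allR_join _ _ _ _ (by decide) (allR_join _ _ _ _ (by decide) (allR_join _ _ _ _ (by decide) (allR_join _ _ _ _ (by decide) k_oinvp_16 k_oinvp_17) (allR_join _ _ _ _ (by decide) k_oinvp_18 k_oinvp_19)) (allR_join _ _ _ _ (by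 decide) (allR_join _ _ _ _ (by decide) k_oinvp_20 k_oinvp_21) (allR_join _ _ _ _ (by decide) k_oinvp_22 k_oinvp_23))) (allR_join _ _ _ _ (by decide) (allR_join _ _ _ _ (by decide) (allR_join _ _ _ _ (by decide) k_oinvp_24 k_oinvp_25) (allR_join _ _ _ _ (by decide) k_oinvp_26 k_oinvp_27)) (allR_join _ _ _ _ (by decide) (allR_join _ _ _ _ (by decide) k_oinvp_28 k_oinvp_29) (allR_join _ _ _ _ (by decide) k_oinvp_30 k_oinvp_31))))) (allR_join _ _ _ _ (by decide) (allR_join _ _ _ _ (by decide) (allR_join _ _ _ _ (by decide) (allR_join _ _ _ _ (by decide) (allR_join _ _ _ _ (by decide) k_oinvp_32 k_oinvp_33) (allR_join _ _ _ _ (by decide) k_oinvp_34 k_oinvp_35)) (allR_join _ _ _ _ (by decide) (allR_join _ _ _ _ (by decide) k_oinvp_36 k_oinvp_37) (allR_join _ _ _ _ (by decide) k_oinvp_38 k_oinvp_39))) (allR_join _ _ _ _ (by decide) (allR_join _ _ _ _ (by decide) (allR_join _ _ _ _ (by decide) k_oinvp_40 k_oinvp_41) (allR_join _ _ _ _ (by decide) k_oinvp_42 k_oinvp_43)) (allR_join _ _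 _ _ (by decide) (allR_join _ _ _ _ (by decide) k_oinvp_44 k_oinvp_45) (allR_join _ _ _ _ (by decide) k_oinvp_46 k_oinvp_47)))) (allR_join _ _ _ _ (by decide) (allR_join _ _ _ _ (by decide) (allR_join _ _ _ _ (by decide) (allR_join _ _ _ _ (by decide) k_oinvp_48 k_oinvp_49) (allR_join _ _ _ _ (by decide) k_oinvp_50 k_oinvp_51)) (allR_join _ _ _ _ (by decide) (allR_join _ _ _ _ (by decide) k_oinvp_52 k_oinvp_53) (allR_join _ _ _ _ (by decide) k_oinvp_54 k_oinvp_55))) (allR_join _ _ _ _ (by decide) (allR_join _ _ _ _ (by decide) (allR_join _ _ _ _ (by decide) k_oinvp_56 k_oinvp_57) (allR_join _ _ _ _ (by decide) k_oinvp_58 k_oinvp_59)) (allR_join _ _ _ _ (by decide) (allR_join _ _ _ _ (by decide) k_oinvp_60 k_oinvp_61) (allR_join _ _ _ _ (by decide) k_oinvp_62 k_oinvp_63))))))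

theorem k_otree : allR (ckOrbTree nn T sw roots ol op ow od) 15 0 = true := (allR_join _ _ _ _ (by decide) (allR_join _ _ _ _ (by decide) (allR_join _ _ _ _ (by decide) (allR_join _ _ _ _ (by decide) k_otreep_0 k_otreep_1) (allR_join _ _ _ _ (by decide) k_otreep_2 k_otreep_3)) (allR_join _ _ _ _ (by decide) (allR_join _ _ _ _ (by decide) k_otreep_4 k_otreep_5) (allR_join _ _ _ _ (by decide) k_otreep_6 k_otreep_7))) (allR_join _ _ _ _ (by decide) (allR_join _ _ _ _ (by decide) (allR_join _ _ _ _ (by decide) k_otreep_8 k_otreep_9) (allR_join _ _ _ _ (by decide) k_otreep_10 k_otreep_11)) (allR_join _ _ _ _ (by decide) (allR_join _ _ _ _ (by decide) k_otreep_12 k_otreep_13) (allR_join _ _ _ _ (by decide) k_otreep_14 k_otreep_15))))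

theorem checks : Checks 10 L extraW C nn nF T fin can bp bg sw where
  hn := by decide
  hns := by decide
  hsw := by decide +kernel
  hcyc := by decide +kernel
  hlet := by decide +kernel
  hletsw := by decide +kernel
  hsw0 := by decide +kernel
  hcan := by decide +kernel
  cCert := by
    intro f hf
    have := all_lt_pow (ckCert C nF) nF 18 (by decide) k_cert f hf
    simp only [ckCert, Bool.or_eq_true] at this
    rcases this with h | h
    · have := Nat.le_of_ble_eq_true h; omega
    · exact h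
  cFin := all_lt_pow _ nn 15 (by decide) k_fin
  cTbl := all_lt_pow _ nn 15 (by decide) k_tbl
  cRel := by
    intro i hi
    rw [relWords_eq, fastRel_eq]
    exact all_lt_pow fastRel nn 15 (by decide) k_rel_fast i hi
  cTree := all_lt_pow _ nn 15 (by decide) k_tree

theorem orbChecks : OrbChecks nn T sw roots ol op ow od where
  cInv := all_lt_pow _ nn 15 (by decide) k_oinv
  cTree := all_lt_pow _ nn 15 (by decide) k_otree

end Cfsg.Agent.Lib.Helper25.TC.Fi23_31671
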