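import Cfsg.Agent.Lib.Helper25.TCFi23_31671T

set_option autoImplicit false
set_option maxRecDepth 1000000
set_option linter.unusedVariables false
set_option Elab.async false

namespace Cfsg.Agent.Lib.Helper25.TC.Fi23_31671

open Cfsg.Agent.Lib.Helper25.TC

theorem k_certp_345 : allR (ckCert C nF) 9 176640 = true := by decide +kernel
theorem k_certp_346 : allR (ckCert C nF) 9 177152 = true := by decide +kernel
theorem k_certp_347 : allR (ckCert C nF) 9 177664 = true := by decide +kernel
theorem k_certp_348 : allR (ckCert C nF) 9 178176 = true := by decide +kernel
theorem k_certp_349 : allR (ckCert C nF) 9 178688 = true := by decide +kernel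
theorem k_certp_350 : allR (ckCert C nF) 9 179200 = true := by decide +kernel
theorem k_certp_351 : allR (ckCert C nF) 9 179712 = true := by decide +kernel
theorem k_certp_352 : allR (ckCert C nF) 9 180224 = true := by decide +kernel
theorem k_certp_353 : allR (ckCert C nF) 9 180736 = true := by decide +kernel
theorem k_certp_354 : allR (ckCert C nF) 9 181248 = true := by decide +kernel
theorem k_certp_355 : allR (ckCert C nF) 9 181760 = true := by decide +kernel
theorem k_certp_356 : allR (ckCert C nF) 9 182272 = true := by decide +kernel
theorem k_certp_357 : allR (ckCert C nF) 9 182784 = true := by decide +kernel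
theorem k_certp_358 : allR (ckCert C nF) 9 183296 = true := by decide +kernel
theorem k_certp_359 : allR (ckCert C nF) 9 183808 = true := by decide +kernel
theorem k_certp_360 : allR (ckCert C nF) 9 184320 = true := by decide +kernel
theorem k_certp_361 : allR (ckCert C nF) 9 184832 = true := by decide +kernel
theorem k_certp_362 : allR (ckCert C nF) 9 185344 = true := by decide +kernel
theorem k_certp_363 : allR (ckCert C nF) 9 185856 = true := by decide +kernel
theorem k_certp_364 : allR (ckCert C nF) 9 186368 = true := by decide +kernel
theorem k_certp_365 : allR (ckCert C nF) 9 186880 = true := by decide +kernel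
theorem k_certp_366 : allR (ckCert C nF) 9 187392 = true := by decide +kernel
theorem k_certp_367 : allR (ckCert C nF) 9 187904 = true := by decide +kernel
theorem k_certp_368 : allR (ckCert C nF) 9 188416 = true := by decide +kernel
theorem k_certp_369 : allR (ckCert C nF) 9 188928 = true := by decide +kernel
theorem k_certp_370 : allR (ckCert C nF) 9 189440 = true := by decide +kernel
theorem k_certp_371 : allR (ckCert C nF) 9 189952 = true := by decide +kernel
theorem k_certp_372 : allR (ckCert C nF) 9 190464 = true := by decide +kernel
theorem k_certp_373 : allR (ckCert C nF) 9 190976 = true := by decide +kernel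
theorem k_certp_374 : allR (ckCert C nF) 9 191488 = true := by decide +kernel
theorem k_certp_375 : allR (ckCert C nF) 9 192000 = true := by decide +kernel

end Cfsg.Agent.Lib.Helper25.TC.Fi23_31671
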