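import Cfsg.Agent.Lib.Helper25.TCFi23_31671T

set_option autoImplicit false
set_option maxRecDepth 1000000
set_option linter.unusedVariables false
set_option Elab.async false

namespace Cfsg.Agent.Lib.Helper25.TC.Fi23_31671

open Cfsg.Agent.Lib.Helper25.TC

theorem k_otreep_3 : allR (ckOrbTree nn T sw roots ol op ow od) 11 6144 = true := by decide +kernel
theorem k_otreep_4 : allR (ckOrbTree nn T sw roots ol op ow od) 11 8192 = true := by decide +kernel
theorem k_otreep_5 : allR (ckOrbTree nn T sw roots ol op ow od) 11 10240 = true := by decide +kernel
theorem k_otreep_6 : allR (ckOrbTree nn T sw roots ol op ow od) 11 12288 = true := by decide +kernel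
theorem k_otreep_7 : allR (ckOrbTree nn T sw roots ol op ow od) 11 14336 = true := by decide +kernel
theorem k_otreep_8 : allR (ckOrbTree nn T sw roots ol op ow od) 11 16384 = true := by decide +kernel
theorem k_otreep_9 : allR (ckOrbTree nn T sw roots ol op ow od) 11 18432 = true := by decide +kernel
theorem k_otreep_10 : allR (ckOrbTree nn T sw roots ol op ow od) 11 20480 = true := by decide +kernel
theorem k_otreep_11 : allR (ckOrbTree nn T sw roots ol op ow od) 11 22528 = true := by decide +kernel
theorem k_otreep_12 : allR (ckOrbTree nn T sw roots ol op ow od) 11 24576 = true := by decide +kernel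
theorem k_otreep_13 : allR (ckOrbTree nn T sw roots ol op ow od) 11 26624 = true := by decide +kernel
theorem k_otreep_14 : allR (ckOrbTree nn T sw roots ol op ow od) 11 28672 = true := by decide +kernel
theorem k_otreep_15 : allR (ckOrbTree nn T sw roots ol op ow od) 11 30720 = true := by decide +kernel

end Cfsg.Agent.Lib.Helper25.TC.Fi23_31671
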