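import Cfsg.Agent.Lib.Helper25.TCFi23_31671D0
import Cfsg.Agent.Lib.Helper25.TCFi23_31671D1
import Cfsg.Agent.Lib.Helper25.TCFi23_31671D2
import Cfsg.Agent.Lib.Helper25.TCFi23_31671D3
import Cfsg.Agent.Lib.Helper25.TCFi23_31671D4
import Cfsg.Agent.Lib.Helper25.TCFi23_31671D5
import Cfsg.Agent.Lib.Helper25.TCFi23_31671D6
import Cfsg.Agent.Lib.Helper25.TCFi23_31671D7
import Cfsg.Agent.Lib.Helper25.TCFi23_31671D8
import Cfsg.Agent.Lib.Helper25.TCFi23_31671D9
import Cfsg.Agent.Lib.Helper25.TCFi23_31671D10
import Cfsg.Agent.Lib.Helper25.TCMain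

set_option autoImplicit false
set_option maxRecDepth 1000000
set_option linter.unusedVariables false

namespace Cfsg.Agent.Lib.Helper25.TC.Fi23_31671

def sFP_0_0 (c : Nat) : Nat := (bif Nat.ble 8 c then (bif Nat.ble 12 c then (bif Nat.ble 14 c then (bif Nat.ble 15 c then cFP_15 else cFP_14) else (bif Nat.ble 13 c then cFP_13 else cFP_12)) else (bif Nat.ble 10 c then (bif Nat.ble 11 c then cFP_11 else cFP_10) else (bif Nat.ble 9 c then cFP_9 else cFP_8))) else (bif Nat.ble 4 c then (bif Nat.ble 6 c then (bif Nat.ble 7 c then cFP_7 else cFP_6) else (bif Nat.ble 5 c then cFP_5 else cFP_4)) else (bif Nat.ble 2 c then (bif Nat.ble 3 c then cFP_3 else cFP_2) else (bif Nat.ble 1 c then cFP_1 else cFP_0))))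
def sFP_0_1 (c : Nat) : Nat := (bif Nat.ble 24 c then (bif Nat.ble 28 c then (bif Nat.ble 30 c then (bif Nat.ble 31 c then cFP_31 else cFP_30) else (bif Nat.ble 29 c then cFP_29 else cFP_28)) else (bif Nat.ble 26 c then (bif Nat.ble 27 c then cFP_27 else cFP_26) else (bif Nat.ble 25 c then cFP_25 else cFP_24))) else (bif Nat.ble 20 c then (bif Nat.ble 22 c then (bif Nat.ble 23 c then cFP_23 else cFP_22) else (bif Nat.ble 21 c then cFP_21 else cFP_20)) else (bif Nat.ble 18 c then (bif Nat.ble 19 c then cFP_19 else cFP_18) else (bif Nat.ble 17 c then cFP_17 else cFP_16))))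
def sFP_0_2 (c : Nat) : Nat := (bif Nat.ble 40 c then (bif Nat.ble 44 c then (bif Nat.ble 46 c then (bif Nat.ble 47 c then cFP_47 else cFP_46) else (bif Nat.ble 45 c then cFP_45 else cFP_44)) else (bif Nat.ble 42 c then (bif Nat.ble 43 c then cFP_43 else cFP_42) else (bif Nat.ble 41 c then cFP_41 else cFP_40))) else (bif Nat.ble 36 c then (bif Nat.ble 38 c then (bif Nat.ble 39 c then cFP_39 else cFP_38) else (bif Nat.ble 37 c then cFP_37 else cFP_36)) else (bif Nat.ble 34 c then (bif Nat.ble 35 c then cFP_35 else cFP_34) else (bif Nat.ble 33 c then cFP_33 else cFP_32))))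
def sFP_0_3 (c : Nat) : Nat := (bif Nat.ble 56 c then (bif Nat.ble 60 c then (bif Nat.ble 62 c then (bif Nat.ble 63 c then cFP_63 else cFP_62) else (bif Nat.ble 61 c then cFP_61 else cFP_60)) else (bif Nat.ble 58 c then (bif Nat.ble 59 c then cFP_59 else cFP_58) else (bif Nat.ble 57 c then cFP_57 else cFP_56))) else (bif Nat.ble 52 c then (bif Nat.ble 54 c then (bif Nat.ble 55 c then cFP_55 else cFP_54) else (bif Nat.ble 53 c then cFP_53 else cFP_52)) else (bif Nat.ble 50 c then (bif Nat.ble 51 c then cFP_51 else cFP_50) else (bif Nat.ble 49 c then cFP_49 else cFP_48))))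
def sFP_0_4 (c : Nat) : Nat := (bif Nat.ble 72 c then (bif Nat.ble 76 c then (bif Nat.ble 78 c then (bif Nat.ble 79 c then cFP_79 else cFP_78) else (bif Nat.ble 77 c then cFP_77 else cFP_76)) else (bif Nat.ble 74 c then (bif Nat.ble 75 c then cFP_75 else cFP_74) else (bif Nat.ble 73 c then cFP_73 else cFP_72))) else (bif Nat.ble 68 c then (bif Nat.ble 70 c then (bif Nat.ble 71 c then cFP_71 else cFP_70) else (bif Nat.ble 69 c then cFP_69 else cFP_68)) else (bif Nat.ble 66 c then (bif Nat.ble 67 c then cFP_67 else cFP_66) else (bif Nat.ble 65 c then cFP_65 else cFP_64))))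
def sFP_0_5 (c : Nat) : Nat := (bif Nat.ble 88 c then (bif Nat.ble 92 c then (bif Nat.ble 94 c then (bif Nat.ble 95 c then cFP_95 else cFP_94) else (bif Nat.ble 93 c then cFP_93 else cFP_92)) else (bif Nat.ble 90 c then (bif Nat.ble 91 c then cFP_91 else cFP_90) else (bif Nat.ble 89 c then cFP_89 else cFP_88))) else (bif Nat.ble 84 c then (bif Nat.ble 86 c then (bif Nat.ble 87 c then cFP_87 else cFP_86) else (bif Nat.ble 85 c then cFP_85 else cFP_84)) else (bif Nat.ble 82 c then (bif Nat.ble 83 c then cFP_83 else cFP_82) else (bif Nat.ble 81 c then cFP_81 else cFP_80))))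
def sFP_0_6 (c : Nat) : Nat := (bif Nat.ble 104 c then (bif Nat.ble 108 c then (bif Nat.ble 110 c then (bif Nat.ble 111 c then cFP_111 else cFP_110) else (bif Nat.ble 109 c then cFP_109 else cFP_108)) else (bif Nat.ble 106 c then (bif Nat.ble 107 c then cFP_107 else cFP_106) else (bif Nat.ble 105 c then cFP_105 else cFP_104))) else (bif Nat.ble 100 c then (bif Nat.ble 102 c then (bif Nat.ble 103 c then cFP_103 else cFP_102) else (bif Nat.ble 101 c then cFP_101 else cFP_100)) else (bif Nat.ble 98 c then (bif Nat.ble 99 c then cFP_99 else cFP_98) else (bif Nat.ble 97 c then cFP_97 else cFP_96))))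
def sFP_0_7 (c : Nat) : Nat := (bif Nat.ble 120 c then (bif Nat.ble 124 c then (bif Nat.ble 126 c then (bif Nat.ble 127 c then cFP_127 else cFP_126) else (bif Nat.ble 125 c then cFP_125 else cFP_124)) else (bif Nat.ble 122 c then (bif Nat.ble 123 c then cFP_123 else cFP_122) else (bif Nat.ble 121 c then cFP_121 else cFP_120))) else (bif Nat.ble 116 c then (bif Nat.ble 118 c then (bif Nat.ble 119 c then cFP_119 else cFP_118) else (bif Nat.ble 117 c then cFP_117 else cFP_116)) else (bif Nat.ble 114 c then (bif Nat.ble 115 c then cFP_115 else cFP_114) else (bif Nat.ble 113 c then cFP_113 else cFP_112))))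
def sFP_0_8 (c : Nat) : Nat := (bif Nat.ble 136 c then (bif Nat.ble 140 c then (bif Nat.ble 142 c then (bif Nat.ble 143 c then cFP_143 else cFP_142) else (bif Nat.ble 141 c then cFP_141 else cFP_140)) else (bif Nat.ble 138 c then (bif Nat.ble 139 c then cFP_139 else cFP_138) else (bif Nat.ble 137 c then cFP_137 else cFP_136))) else (bif Nat.ble 132 c then (bif Nat.ble 134 c then (bif Nat.ble 135 c then cFP_135 else cFP_134) else (bif Nat.ble 133 c then cFP_133 else cFP_132)) else (bif Nat.ble 130 c then (bif Nat.ble 131 c then cFP_131 else cFP_130) else (bif Nat.ble 129 c then cFP_129 else cFP_128))))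
def sFP_0_9 (c : Nat) : Nat := (bif Nat.ble 152 c then (bif Nat.ble 156 c then (bif Nat.ble 158 c then (bif Nat.ble 159 c then cFP_159 else cFP_158) else (bif Nat.ble 157 c then cFP_157 else cFP_156)) else (bif Nat.ble 154 c then (bif Nat.ble 155 c then cFP_155 else cFP_154) else (bif Nat.ble 153 c then cFP_153 else cFP_152))) else (bif Nat.ble 148 c then (bif Nat.ble 150 c then (bif Nat.ble 151 c then cFP_151 else cFP_150) else (bif Nat.ble 149 c then cFP_149 else cFP_148)) else (bif Nat.ble 146 c then (bif Nat.ble 147 c then cFP_147 else cFP_146) else (bif Nat.ble 145 c then cFP_145 else cFP_144))))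
def sFP_0_10 (c : Nat) : Nat := (bif Nat.ble 168 c then (bif Nat.ble 172 c then (bif Nat.ble 174 c then (bif Nat.ble 175 c then cFP_175 else cFP_174) else (bif Nat.ble 173 c then cFP_173 else cFP_172)) else (bif Nat.ble 170 c then (bif Nat.ble 171 c then cFP_171 else cFP_170) else (bif Nat.ble 169 c then cFP_169 else cFP_168))) else (bif Nat.ble 164 c then (bif Nat.ble 166 c then (bif Nat.ble 167 c then cFP_167 else cFP_166) else (bif Nat.ble 165 c then cFP_165 else cFP_164)) else (bif Nat.ble 162 c then (bif Nat.ble 163 c then cFP_163 else cFP_162) else (bif Nat.ble 161 c then cFP_161 else cFP_160))))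
def sFP_0_11 (c : Nat) : Nat := (bif Nat.ble 184 c then (bif Nat.ble 188 c then (bif Nat.ble 190 c then (bif Nat.ble 191 c then cFP_191 else cFP_190) else (bif Nat.ble 189 c then cFP_189 else cFP_188)) else (bif Nat.ble 186 c then (bif Nat.ble 187 c then cFP_187 else cFP_186) else (bif Nat.ble 185 c then cFP_185 else cFP_184))) else (bif Nat.ble 180 c then (bif Nat.ble 182 c then (bif Nat.ble 183 c then cFP_183 else cFP_182) else (bif Nat.ble 181 c then cFP_181 else cFP_180)) else (bif Nat.ble 178 c then (bif Nat.ble 179 c then cFP_179 else cFP_178) else (bif Nat.ble 177 c then cFP_177 else cFP_176))))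
def sFP_0_12 (c : Nat) : Nat := (bif Nat.ble 200 c then (bif Nat.ble 204 c then (bif Nat.ble 206 c then (bif Nat.ble 207 c then cFP_207 else cFP_206) else (bif Nat.ble 205 c then cFP_205 else cFP_204)) else (bif Nat.ble 202 c then (bif Nat.ble 203 c then cFP_203 else cFP_202) else (bif Nat.ble 201 c then cFP_201 else cFP_200))) else (bif Nat.ble 196 c then (bif Nat.ble 198 c then (bif Nat.ble 199 c then cFP_199 else cFP_198) else (bif Nat.ble 197 c then cFP_197 else cFP_196)) else (bif Nat.ble 194 c then (bif Nat.ble 195 c then cFP_195 else cFP_194) else (bif Nat.ble 193 c then cFP_193 else cFP_192))))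
def sFP_0_13 (c : Nat) : Nat := (bif Nat.ble 216 c then (bif Nat.ble 220 c then (bif Nat.ble 222 c then (bif Nat.ble 223 c then cFP_223 else cFP_222) else (bif Nat.ble 221 c then cFP_221 else cFP_220)) else (bif Nat.ble 218 c then (bif Nat.ble 219 c then cFP_219 else cFP_218) else (bif Nat.ble 217 c then cFP_217 else cFP_216))) else (bif Nat.ble 212 c then (bif Nat.ble 214 c then (bif Nat.ble 215 c then cFP_215 else cFP_214) else (bif Nat.ble 213 c then cFP_213 else cFP_212)) else (bif Nat.ble 210 c then (bif Nat.ble 211 c then cFP_211 else cFP_210) else (bif Nat.ble 209 c then cFP_209 else cFP_208))))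
def sFP_0_14 (c : Nat) : Nat := (bif Nat.ble 232 c then (bif Nat.ble 236 c then (bif Nat.ble 238 c then (bif Nat.ble 239 c then cFP_239 else cFP_238) else (bif Nat.ble 237 c then cFP_237 else cFP_236)) else (bif Nat.ble 234 c then (bif Nat.ble 235 c then cFP_235 else cFP_234) else (bif Nat.ble 233 c then cFP_233 else cFP_232))) else (bif Nat.ble 228 c then (bif Nat.ble 230 c then (bif Nat.ble 231 c then cFP_231 else cFP_230) else (bif Nat.ble 229 c then cFP_229 else cFP_228)) else (bif Nat.ble 226 c then (bif Nat.ble 227 c then cFP_227 else cFP_226) else (bif Nat.ble 225 c then cFP_225 else cFP_224))))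
def sFP_0_15 (c : Nat) : Nat := (bif Nat.ble 248 c then (bif Nat.ble 252 c then (bif Nat.ble 254 c then (bif Nat.ble 255 c then cFP_255 else cFP_254) else (bif Nat.ble 253 c then cFP_253 else cFP_252)) else (bif Nat.ble 250 c then (bif Nat.ble 251 c then cFP_251 else cFP_250) else (bif Nat.ble 249 c then cFP_249 else cFP_248))) else (bif Nat.ble 244 c then (bif Nat.ble 246 c then (bif Nat.ble 247 c then cFP_247 else cFP_246) else (bif Nat.ble 245 c then cFP_245 else cFP_244)) else (bif Nat.ble 242 c then (bif Nat.ble 243 c then cFP_243 else cFP_242) else (bif Nat.ble 241 c then cFP_241 else cFP_240))))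
def sFP_0_16 (c : Nat) : Nat := (bif Nat.ble 264 c then (bif Nat.ble 268 c then (bif Nat.ble 270 c then (bif Nat.ble 271 c then cFP_271 else cFP_270) else (bif Nat.ble 269 c then cFP_269 else cFP_268)) else (bif Nat.ble 266 c then (bif Nat.ble 267 c then cFP_267 else cFP_266) else (bif Nat.ble 265 c then cFP_265 else cFP_264))) else (bif Nat.ble 260 c then (bif Nat.ble 262 c then (bif Nat.ble 263 c then cFP_263 else cFP_262) else (bif Nat.ble 261 c then cFP_261 else cFP_260)) else (bif Nat.ble 258 c then (bif Nat.ble 259 c then cFP_259 else cFP_258) else (bif Nat.ble 257 c then cFP_257 else cFP_256))))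
def sFP_0_17 (c : Nat) : Nat := (bif Nat.ble 280 c then (bif Nat.ble 284 c then (bif Nat.ble 286 c then (bif Nat.ble 287 c then cFP_287 else cFP_286) else (bif Nat.ble 285 c then cFP_285 else cFP_284)) else (bif Nat.ble 282 c then (bif Nat.ble 283 c then cFP_283 else cFP_282) else (bif Nat.ble 281 c then cFP_281 else cFP_280))) else (bif Nat.ble 276 c then (bif Nat.ble 278 c then (bif Nat.ble 279 c then cFP_279 else cFP_278) else (bif Nat.ble 277 c then cFP_277 else cFP_276)) else (bif Nat.ble 274 c then (bif Nat.ble 275 c then cFP_275 else cFP_274) else (bif Nat.ble 273 c then cFP_273 else cFP_272))))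
def sFP_0_18 (c : Nat) : Nat := (bif Nat.ble 296 c then (bif Nat.ble 300 c then (bif Nat.ble 302 c then (bif Nat.ble 303 c then cFP_303 else cFP_302) else (bif Nat.ble 301 c then cFP_301 else cFP_300)) else (bif Nat.ble 298 c then (bif Nat.ble 299 c then cFP_299 else cFP_298) else (bif Nat.ble 297 c then cFP_297 else cFP_296))) else (bif Nat.ble 292 c then (bif Nat.ble 294 c then (bif Nat.ble 295 c then cFP_295 else cFP_294) else (bif Nat.ble 293 c then cFP_293 else cFP_292)) else (bif Nat.ble 290 c then (bif Nat.ble 291 c then cFP_291 else cFP_290) else (bif Nat.ble 289 c then cFP_289 else cFP_288))))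
def sFP_0_19 (c : Nat) : Nat := (bif Nat.ble 312 c then (bif Nat.ble 316 c then (bif Nat.ble 318 c then (bif Nat.ble 319 c then cFP_319 else cFP_318) else (bif Nat.ble 317 c then cFP_317 else cFP_316)) else (bif Nat.ble 314 c then (bif Nat.ble 315 c then cFP_315 else cFP_314) else (bif Nat.ble 313 c then cFP_313 else cFP_312))) else (bif Nat.ble 308 c then (bif Nat.ble 310 c then (bif Nat.ble 311 c then cFP_311 else cFP_310) else (bif Nat.ble 309 c then cFP_309 else cFP_308)) else (bif Nat.ble 306 c then (bif Nat.ble 307 c then cFP_307 else cFP_306) else (bif Nat.ble 305 c then cFP_305 else cFP_304))))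
def sFP_0_20 (c : Nat) : Nat := (bif Nat.ble 328 c then (bif Nat.ble 332 c then (bif Nat.ble 334 c then (bif Nat.ble 335 c then cFP_335 else cFP_334) else (bif Nat.ble 333 c then cFP_333 else cFP_332)) else (bif Nat.ble 330 c then (bif Nat.ble 331 c then cFP_331 else cFP_330) else (bif Nat.ble 329 c then cFP_329 else cFP_328))) else (bif Nat.ble 324 c then (bif Nat.ble 326 c then (bif Nat.ble 327 c then cFP_327 else cFP_326) else (bif Nat.ble 325 c then cFP_325 else cFP_324)) else (bif Nat.ble 322 c then (bif Nat.ble 323 c then cFP_323 else cFP_322) else (bif Nat.ble 321 c then cFP_321 else cFP_320))))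
def sFP_0_21 (c : Nat) : Nat := (bif Nat.ble 344 c then (bif Nat.ble 348 c then (bif Nat.ble 350 c then (bif Nat.ble 351 c then cFP_351 else cFP_350) else (bif Nat.ble 349 c then cFP_349 else cFP_348)) else (bif Nat.ble 346 c then (bif Nat.ble 347 c then cFP_347 else cFP_346) else (bif Nat.ble 345 c then cFP_345 else cFP_344))) else (bif Nat.ble 340 c then (bif Nat.ble 342 c then (bif Nat.ble 343 c then cFP_343 else cFP_342) else (bif Nat.ble 341 c then cFP_341 else cFP_340)) else (bif Nat.ble 338 c then (bif Nat.ble 339 c then cFP_339 else cFP_338) else (bif Nat.ble 337 c then cFP_337 else cFP_336))))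
def sFP_0_22 (c : Nat) : Nat := (bif Nat.ble 360 c then (bif Nat.ble 364 c then (bif Nat.ble 366 c then (bif Nat.ble 367 c then cFP_367 else cFP_366) else (bif Nat.ble 365 c then cFP_365 else cFP_364)) else (bif Nat.ble 362 c then (bif Nat.ble 363 c then cFP_363 else cFP_362) else (bif Nat.ble 361 c then cFP_361 else cFP_360))) else (bif Nat.ble 356 c then (bif Nat.ble 358 c then (bif Nat.ble 359 c then cFP_359 else cFP_358) else (bif Nat.ble 357 c then cFP_357 else cFP_356)) else (bif Nat.ble 354 c then (bif Nat.ble 355 c then cFP_355 else cFP_354) else (bif Nat.ble 353 c then cFP_353 else cFP_352))))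
def sFP_0_23 (c : Nat) : Nat := (bif Nat.ble 376 c then (bif Nat.ble 380 c then (bif Nat.ble 382 c then (bif Nat.ble 383 c then cFP_383 else cFP_382) else (bif Nat.ble 381 c then cFP_381 else cFP_380)) else (bif Nat.ble 378 c then (bif Nat.ble 379 c then cFP_379 else cFP_378) else (bif Nat.ble 377 c then cFP_377 else cFP_376))) else (bif Nat.ble 372 c then (bif Nat.ble 374 c then (bif Nat.ble 375 c then cFP_375 else cFP_374) else (bif Nat.ble 373 c then cFP_373 else cFP_372)) else (bif Nat.ble 370 c then (bif Nat.ble 371 c then cFP_371 else cFP_370) else (bif Nat.ble 369 c then cFP_369 else cFP_368))))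
def sFP_0_24 (c : Nat) : Nat := (bif Nat.ble 392 c then (bif Nat.ble 396 c then (bif Nat.ble 398 c then (bif Nat.ble 399 c then cFP_399 else cFP_398) else (bif Nat.ble 397 c then cFP_397 else cFP_396)) else (bif Nat.ble 394 c then (bif Nat.ble 395 c then cFP_395 else cFP_394) else (bif Nat.ble 393 c then cFP_393 else cFP_392))) else (bif Nat.ble 388 c then (bif Nat.ble 390 c then (bif Nat.ble 391 c then cFP_391 else cFP_390) else (bif Nat.ble 389 c then cFP_389 else cFP_388)) else (bif Nat.ble 386 c then (bif Nat.ble 387 c then cFP_387 else cFP_386) else (bif Nat.ble 385 c then cFP_385 else cFP_384))))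
def sFP_0_25 (c : Nat) : Nat := (bif Nat.ble 408 c then (bif Nat.ble 412 c then (bif Nat.ble 414 c then (bif Nat.ble 415 c then cFP_415 else cFP_414) else (bif Nat.ble 413 c then cFP_413 else cFP_412)) else (bif Nat.ble 410 c then (bif Nat.ble 411 c then cFP_411 else cFP_410) else (bif Nat.ble 409 c then cFP_409 else cFP_408))) else (bif Nat.ble 404 c then (bif Nat.ble 406 c then (bif Nat.ble 407 c then cFP_407 else cFP_406) else (bif Nat.ble 405 c then cFP_405 else cFP_404)) else (bif Nat.ble 402 c then (bif Nat.ble 403 c then cFP_403 else cFP_402) else (bif Nat.ble 401 c then cFP_401 else cFP_400))))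
def sFP_0_26 (c : Nat) : Nat := (bif Nat.ble 424 c then (bif Nat.ble 428 c then (bif Nat.ble 430 c then (bif Nat.ble 431 c then cFP_431 else cFP_430) else (bif Nat.ble 429 c then cFP_429 else cFP_428)) else (bif Nat.ble 426 c then (bif Nat.ble 427 c then cFP_427 else cFP_426) else (bif Nat.ble 425 c then cFP_425 else cFP_424))) else (bif Nat.ble 420 c then (bif Nat.ble 422 c then (bif Nat.ble 423 c then cFP_423 else cFP_422) else (bif Nat.ble 421 c then cFP_421 else cFP_420)) else (bif Nat.ble 418 c then (bif Nat.ble 419 c then cFP_419 else cFP_418) else (bif Nat.ble 417 c then cFP_417 else cFP_416))))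
def sFP_0_27 (c : Nat) : Nat := (bif Nat.ble 440 c then (bif Nat.ble 444 c then (bif Nat.ble 446 c then (bif Nat.ble 447 c then cFP_447 else cFP_446) else (bif Nat.ble 445 c then cFP_445 else cFP_444)) else (bif Nat.ble 442 c then (bif Nat.ble 443 c then cFP_443 else cFP_442) else (bif Nat.ble 441 c then cFP_441 else cFP_440))) else (bif Nat.ble 436 c then (bif Nat.ble 438 c then (bif Nat.ble 439 c then cFP_439 else cFP_438) else (bif Nat.ble 437 c then cFP_437 else cFP_436)) else (bif Nat.ble 434 c then (bif Nat.ble 435 c then cFP_435 else cFP_434) else (bif Nat.ble 433 c then cFP_433 else cFP_432))))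
def sFP_0_28 (c : Nat) : Nat := (bif Nat.ble 456 c then (bif Nat.ble 460 c then (bif Nat.ble 462 c then (bif Nat.ble 463 c then cFP_463 else cFP_462) else (bif Nat.ble 461 c then cFP_461 else cFP_460)) else (bif Nat.ble 458 c then (bif Nat.ble 459 c then cFP_459 else cFP_458) else (bif Nat.ble 457 c then cFP_457 else cFP_456))) else (bif Nat.ble 452 c then (bif Nat.ble 454 c then (bif Nat.ble 455 c then cFP_455 else cFP_454) else (bif Nat.ble 453 c then cFP_453 else cFP_452)) else (bif Nat.ble 450 c then (bif Nat.ble 451 c then cFP_451 else cFP_450) else (bif Nat.ble 449 c then cFP_449 else cFP_448))))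
def sFP_0_29 (c : Nat) : Nat := (bif Nat.ble 472 c then (bif Nat.ble 476 c then (bif Nat.ble 478 c then (bif Nat.ble 479 c then cFP_479 else cFP_478) else (bif Nat.ble 477 c then cFP_477 else cFP_476)) else (bif Nat.ble 474 c then (bif Nat.ble 475 c then cFP_475 else cFP_474) else (bif Nat.ble 473 c then cFP_473 else cFP_472))) else (bif Nat.ble 468 c then (bif Nat.ble 470 c then (bif Nat.ble 471 c then cFP_471 else cFP_470) else (bif Nat.ble 469 c then cFP_469 else cFP_468)) else (bif Nat.ble 466 c then (bif Nat.ble 467 c then cFP_467 else cFP_466) else (bif Nat.ble 465 c then cFP_465 else cFP_464))))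
def sFP_0_30 (c : Nat) : Nat := (bif Nat.ble 488 c then (bif Nat.ble 492 c then (bif Nat.ble 494 c then (bif Nat.ble 495 c then cFP_495 else cFP_494) else (bif Nat.ble 493 c then cFP_493 else cFP_492)) else (bif Nat.ble 490 c then (bif Nat.ble 491 c then cFP_491 else cFP_490) else (bif Nat.ble 489 c then cFP_489 else cFP_488))) else (bif Nat.ble 484 c then (bif Nat.ble 486 c then (bif Nat.ble 487 c then cFP_487 else cFP_486) else (bif Nat.ble 485 c then cFP_485 else cFP_484)) else (bif Nat.ble 482 c then (bif Nat.ble 483 c then cFP_483 else cFP_482) else (bif Nat.ble 481 c then cFP_481 else cFP_480))))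
def sFP_0_31 (c : Nat) : Nat := (bif Nat.ble 504 c then (bif Nat.ble 508 c then (bif Nat.ble 510 c then (bif Nat.ble 511 c then cFP_511 else cFP_510) else (bif Nat.ble 509 c then cFP_509 else cFP_508)) else (bif Nat.ble 506 c then (bif Nat.ble 507 c then cFP_507 else cFP_506) else (bif Nat.ble 505 c then cFP_505 else cFP_504))) else (bif Nat.ble 500 c then (bif Nat.ble 502 c then (bif Nat.ble 503 c then cFP_503 else cFP_502) else (bif Nat.ble 501 c then cFP_501 else cFP_500)) else (bif Nat.ble 498 c then (bif Nat.ble 499 c then cFP_499 else cFP_498) else (bif Nat.ble 497 c then cFP_497 else cFP_496))))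
def sFP_0_32 (c : Nat) : Nat := (bif Nat.ble 520 c then (bif Nat.ble 524 c then (bif Nat.ble 526 c then (bif Nat.ble 527 c then cFP_527 else cFP_526) else (bif Nat.ble 525 c then cFP_525 else cFP_524)) else (bif Nat.ble 522 c then (bif Nat.ble 523 c then cFP_523 else cFP_522) else (bif Nat.ble 521 c then cFP_521 else cFP_520))) else (bif Nat.ble 516 c then (bif Nat.ble 518 c then (bif Nat.ble 519 c then cFP_519 else cFP_518) else (bif Nat.ble 517 c then cFP_517 else cFP_516)) else (bif Nat.ble 514 c then (bif Nat.ble 515 c then cFP_515 else cFP_514) else (bif Nat.ble 513 c then cFP_513 else cFP_512))))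
def sFP_0_33 (c : Nat) : Nat := (bif Nat.ble 536 c then (bif Nat.ble 540 c then (bif Nat.ble 542 c then (bif Nat.ble 543 c then cFP_543 else cFP_542) else (bif Nat.ble 541 c then cFP_541 else cFP_540)) else (bif Nat.ble 538 c then (bif Nat.ble 539 c then cFP_539 else cFP_538) else (bif Nat.ble 537 c then cFP_537 else cFP_536))) else (bif Nat.ble 532 c then (bif Nat.ble 534 c then (bif Nat.ble 535 c then cFP_535 else cFP_534) else (bif Nat.ble 533 c then cFP_533 else cFP_532)) else (bif Nat.ble 530 c then (bif Nat.ble 531 c then cFP_531 else cFP_530) else (bif Nat.ble 529 c then cFP_529 else cFP_528))))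
def sFP_0_34 (c : Nat) : Nat := (bif Nat.ble 552 c then (bif Nat.ble 556 c then (bif Nat.ble 558 c then (bif Nat.ble 559 c then cFP_559 else cFP_558) else (bif Nat.ble 557 c then cFP_557 else cFP_556)) else (bif Nat.ble 554 c then (bif Nat.ble 555 c then cFP_555 else cFP_554) else (bif Nat.ble 553 c then cFP_553 else cFP_552))) else (bif Nat.ble 548 c then (bif Nat.ble 550 c then (bif Nat.ble 551 c then cFP_551 else cFP_550) else (bif Nat.ble 549 c then cFP_549 else cFP_548)) else (bif Nat.ble 546 c then (bif Nat.ble 547 c then cFP_547 else cFP_546) else (bif Nat.ble 545 c then cFP_545 else cFP_544))))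
def sFP_0_35 (c : Nat) : Nat := (bif Nat.ble 568 c then (bif Nat.ble 572 c then (bif Nat.ble 574 c then (bif Nat.ble 575 c then cFP_575 else cFP_574) else (bif Nat.ble 573 c then cFP_573 else cFP_572)) else (bif Nat.ble 570 c then (bif Nat.ble 571 c then cFP_571 else cFP_570) else (bif Nat.ble 569 c then cFP_569 else cFP_568))) else (bif Nat.ble 564 c then (bif Nat.ble 566 c then (bif Nat.ble 567 c then cFP_567 else cFP_566) else (bif Nat.ble 565 c then cFP_565 else cFP_564)) else (bif Nat.ble 562 c then (bif Nat.ble 563 c then cFP_563 else cFP_562) else (bif Nat.ble 561 c then cFP_561 else cFP_560))))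
def sFP_0_36 (c : Nat) : Nat := (bif Nat.ble 584 c then (bif Nat.ble 588 c then (bif Nat.ble 590 c then (bif Nat.ble 591 c then cFP_591 else cFP_590) else (bif Nat.ble 589 c then cFP_589 else cFP_588)) else (bif Nat.ble 586 c then (bif Nat.ble 587 c then cFP_587 else cFP_586) else (bif Nat.ble 585 c then cFP_585 else cFP_584))) else (bif Nat.ble 580 c then (bif Nat.ble 582 c then (bif Nat.ble 583 c then cFP_583 else cFP_582) else (bif Nat.ble 581 c then cFP_581 else cFP_580)) else (bif Nat.ble 578 c then (bif Nat.ble 579 c then cFP_579 else cFP_578) else (bif Nat.ble 577 c then cFP_577 else cFP_576))))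
def sFP_0_37 (c : Nat) : Nat := (bif Nat.ble 600 c then (bif Nat.ble 604 c then (bif Nat.ble 606 c then (bif Nat.ble 607 c then cFP_607 else cFP_606) else (bif Nat.ble 605 c then cFP_605 else cFP_604)) else (bif Nat.ble 602 c then (bif Nat.ble 603 c then cFP_603 else cFP_602) else (bif Nat.ble 601 c then cFP_601 else cFP_600))) else (bif Nat.ble 596 c then (bif Nat.ble 598 c then (bif Nat.ble 599 c then cFP_599 else cFP_598) else (bif Nat.ble 597 c then cFP_597 else cFP_596)) else (bif Nat.ble 594 c then (bif Nat.ble 595 c then cFP_595 else cFP_594) else (bif Nat.ble 593 c then cFP_593 else cFP_592))))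
def sFP_0_38 (c : Nat) : Nat := (bif Nat.ble 616 c then (bif Nat.ble 620 c then (bif Nat.ble 622 c then (bif Nat.ble 623 c then cFP_623 else cFP_622) else (bif Nat.ble 621 c then cFP_621 else cFP_620)) else (bif Nat.ble 618 c then (bif Nat.ble 619 c then cFP_619 else cFP_618) else (bif Nat.ble 617 c then cFP_617 else cFP_616))) else (bif Nat.ble 612 c then (bif Nat.ble 614 c then (bif Nat.ble 615 c then cFP_615 else cFP_614) else (bif Nat.ble 613 c then cFP_613 else cFP_612)) else (bif Nat.ble 610 c then (bif Nat.ble 611 c then cFP_611 else cFP_610) else (bif Nat.ble 609 c then cFP_609 else cFP_608))))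
def sFP_0_39 (c : Nat) : Nat := (bif Nat.ble 632 c then (bif Nat.ble 636 c then (bif Nat.ble 638 c then (bif Nat.ble 639 c then cFP_639 else cFP_638) else (bif Nat.ble 637 c then cFP_637 else cFP_636)) else (bif Nat.ble 634 c then (bif Nat.ble 635 c then cFP_635 else cFP_634) else (bif Nat.ble 633 c then cFP_633 else cFP_632))) else (bif Nat.ble 628 c then (bif Nat.ble 630 c then (bif Nat.ble 631 c then cFP_631 else cFP_630) else (bif Nat.ble 629 c then cFP_629 else cFP_628)) else (bif Nat.ble 626 c then (bif Nat.ble 627 c then cFP_627 else cFP_626) else (bif Nat.ble 625 c then cFP_625 else cFP_624))))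
def sFP_0_40 (c : Nat) : Nat := (bif Nat.ble 648 c then (bif Nat.ble 652 c then (bif Nat.ble 654 c then (bif Nat.ble 655 c then cFP_655 else cFP_654) else (bif Nat.ble 653 c then cFP_653 else cFP_652)) else (bif Nat.ble 650 c then (bif Nat.ble 651 c then cFP_651 else cFP_650) else (bif Nat.ble 649 c then cFP_649 else cFP_648))) else (bif Nat.ble 644 c then (bif Nat.ble 646 c then (bif Nat.ble 647 c then cFP_647 else cFP_646) else (bif Nat.ble 645 c then cFP_645 else cFP_644)) else (bif Nat.ble 642 c then (bif Nat.ble 643 c then cFP_643 else cFP_642) else (bif Nat.ble 641 c then cFP_641 else cFP_640))))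
def sFP_0_41 (c : Nat) : Nat := (bif Nat.ble 664 c then (bif Nat.ble 668 c then (bif Nat.ble 670 c then (bif Nat.ble 671 c then cFP_671 else cFP_670) else (bif Nat.ble 669 c then cFP_669 else cFP_668)) else (bif Nat.ble 666 c then (bif Nat.ble 667 c then cFP_667 else cFP_666) else (bif Nat.ble 665 c then cFP_665 else cFP_664))) else (bif Nat.ble 660 c then (bif Nat.ble 662 c then (bif Nat.ble 663 c then cFP_663 else cFP_662) else (bif Nat.ble 661 c then cFP_661 else cFP_660)) else (bif Nat.ble 658 c then (bif Nat.ble 659 c then cFP_659 else cFP_658) else (bif Nat.ble 657 c then cFP_657 else cFP_656))))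
def sFP_0_42 (c : Nat) : Nat := (bif Nat.ble 680 c then (bif Nat.ble 684 c then (bif Nat.ble 686 c then (bif Nat.ble 687 c then cFP_687 else cFP_686) else (bif Nat.ble 685 c then cFP_685 else cFP_684)) else (bif Nat.ble 682 c then (bif Nat.ble 683 c then cFP_683 else cFP_682) else (bif Nat.ble 681 c then cFP_681 else cFP_680))) else (bif Nat.ble 676 c then (bif Nat.ble 678 c then (bif Nat.ble 679 c then cFP_679 else cFP_678) else (bif Nat.ble 677 c then cFP_677 else cFP_676)) else (bif Nat.ble 674 c then (bif Nat.ble 675 c then cFP_675 else cFP_674) else (bif Nat.ble 673 c then cFP_673 else cFP_672))))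
def sFP_0_43 (c : Nat) : Nat := (bif Nat.ble 696 c then (bif Nat.ble 700 c then (bif Nat.ble 702 c then (bif Nat.ble 703 c then cFP_703 else cFP_702) else (bif Nat.ble 701 c then cFP_701 else cFP_700)) else (bif Nat.ble 698 c then (bif Nat.ble 699 c then cFP_699 else cFP_698) else (bif Nat.ble 697 c then cFP_697 else cFP_696))) else (bif Nat.ble 692 c then (bif Nat.ble 694 c then (bif Nat.ble 695 c then cFP_695 else cFP_694) else (bif Nat.ble 693 c then cFP_693 else cFP_692)) else (bif Nat.ble 690 c then (bif Nat.ble 691 c then cFP_691 else cFP_690) else (bif Nat.ble 689 c then cFP_689 else cFP_688))))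
def sFP_0_44 (c : Nat) : Nat := (bif Nat.ble 712 c then (bif Nat.ble 716 c then (bif Nat.ble 718 c then (bif Nat.ble 719 c then cFP_719 else cFP_718) else (bif Nat.ble 717 c then cFP_717 else cFP_716)) else (bif Nat.ble 714 c then (bif Nat.ble 715 c then cFP_715 else cFP_714) else (bif Nat.ble 713 c then cFP_713 else cFP_712))) else (bif Nat.ble 708 c then (bif Nat.ble 710 c then (bif Nat.ble 711 c then cFP_711 else cFP_710) else (bif Nat.ble 709 c then cFP_709 else cFP_708)) else (bif Nat.ble 706 c then (bif Nat.ble 707 c then cFP_707 else cFP_706) else (bif Nat.ble 705 c then cFP_705 else cFP_704))))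
def sFP_0_45 (c : Nat) : Nat := (bif Nat.ble 728 c then (bif Nat.ble 732 c then (bif Nat.ble 734 c then (bif Nat.ble 735 c then cFP_735 else cFP_734) else (bif Nat.ble 733 c then cFP_733 else cFP_732)) else (bif Nat.ble 730 c then (bif Nat.ble 731 c then cFP_731 else cFP_730) else (bif Nat.ble 729 c then cFP_729 else cFP_728))) else (bif Nat.ble 724 c then (bif Nat.ble 726 c then (bif Nat.ble 727 c then cFP_727 else cFP_726) else (bif Nat.ble 725 c then cFP_725 else cFP_724)) else (bif Nat.ble 722 c then (bif Nat.ble 723 c then cFP_723 else cFP_722) else (bif Nat.ble 721 c then cFP_721 else cFP_720))))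
def sFP_0_46 (c : Nat) : Nat := (bif Nat.ble 744 c then (bif Nat.ble 748 c then (bif Nat.ble 750 c then (bif Nat.ble 751 c then cFP_751 else cFP_750) else (bif Nat.ble 749 c then cFP_749 else cFP_748)) else (bif Nat.ble 746 c then (bif Nat.ble 747 c then cFP_747 else cFP_746) else (bif Nat.ble 745 c then cFP_745 else cFP_744))) else (bif Nat.ble 740 c then (bif Nat.ble 742 c then (bif Nat.ble 743 c then cFP_743 else cFP_742) else (bif Nat.ble 741 c then cFP_741 else cFP_740)) else (bif Nat.ble 738 c then (bif Nat.ble 739 c then cFP_739 else cFP_738) else (bif Nat.ble 737 c then cFP_737 else cFP_736))))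
def sFP_0_47 (c : Nat) : Nat := (bif Nat.ble 760 c then (bif Nat.ble 764 c then (bif Nat.ble 766 c then (bif Nat.ble 767 c then cFP_767 else cFP_766) else (bif Nat.ble 765 c then cFP_765 else cFP_764)) else (bif Nat.ble 762 c then (bif Nat.ble 763 c then cFP_763 else cFP_762) else (bif Nat.ble 761 c then cFP_761 else cFP_760))) else (bif Nat.ble 756 c then (bif Nat.ble 758 c then (bif Nat.ble 759 c then cFP_759 else cFP_758) else (bif Nat.ble 757 c then cFP_757 else cFP_756)) else (bif Nat.ble 754 c then (bif Nat.ble 755 c then cFP_755 else cFP_754) else (bif Nat.ble 753 c then cFP_753 else cFP_752))))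
def sFP_0_48 (c : Nat) : Nat := (bif Nat.ble 776 c then (bif Nat.ble 780 c then (bif Nat.ble 782 c then (bif Nat.ble 783 c then cFP_783 else cFP_782) else (bif Nat.ble 781 c then cFP_781 else cFP_780)) else (bif Nat.ble 778 c then (bif Nat.ble 779 c then cFP_779 else cFP_778) else (bif Nat.ble 777 c then cFP_777 else cFP_776))) else (bif Nat.ble 772 c then (bif Nat.ble 774 c then (bif Nat.ble 775 c then cFP_775 else cFP_774) else (bif Nat.ble 773 c then cFP_773 else cFP_772)) else (bif Nat.ble 770 c then (bif Nat.ble 771 c then cFP_771 else cFP_770) else (bif Nat.ble 769 c then cFP_769 else cFP_768))))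
def sFP_0_49 (c : Nat) : Nat := (bif Nat.ble 792 c then (bif Nat.ble 796 c then (bif Nat.ble 798 c then (bif Nat.ble 799 c then cFP_799 else cFP_798) else (bif Nat.ble 797 c then cFP_797 else cFP_796)) else (bif Nat.ble 794 c then (bif Nat.ble 795 c then cFP_795 else cFP_794) else (bif Nat.ble 793 c then cFP_793 else cFP_792))) else (bif Nat.ble 788 c then (bif Nat.ble 790 c then (bif Nat.ble 791 c then cFP_791 else cFP_790) else (bif Nat.ble 789 c then cFP_789 else cFP_788)) else (bif Nat.ble 786 c then (bif Nat.ble 787 c then cFP_787 else cFP_786) else (bif Nat.ble 785 c then cFP_785 else cFP_784))))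
def sFP_0_50 (c : Nat) : Nat := (bif Nat.ble 808 c then (bif Nat.ble 812 c then (bif Nat.ble 814 c then (bif Nat.ble 815 c then cFP_815 else cFP_814) else (bif Nat.ble 813 c then cFP_813 else cFP_812)) else (bif Nat.ble 810 c then (bif Nat.ble 811 c then cFP_811 else cFP_810) else (bif Nat.ble 809 c then cFP_809 else cFP_808))) else (bif Nat.ble 804 c then (bif Nat.ble 806 c then (bif Nat.ble 807 c then cFP_807 else cFP_806) else (bif Nat.ble 805 c then cFP_805 else cFP_804)) else (bif Nat.ble 802 c then (bif Nat.ble 803 c then cFP_803 else cFP_802) else (bif Nat.ble 801 c then cFP_801 else cFP_800))))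
def sFP_0_51 (c : Nat) : Nat := (bif Nat.ble 824 c then (bif Nat.ble 828 c then (bif Nat.ble 830 c then (bif Nat.ble 831 c then cFP_831 else cFP_830) else (bif Nat.ble 829 c then cFP_829 else cFP_828)) else (bif Nat.ble 826 c then (bif Nat.ble 827 c then cFP_827 else cFP_826) else (bif Nat.ble 825 c then cFP_825 else cFP_824))) else (bif Nat.ble 820 c then (bif Nat.ble 822 c then (bif Nat.ble 823 c then cFP_823 else cFP_822) else (bif Nat.ble 821 c then cFP_821 else cFP_820)) else (bif Nat.ble 818 c then (bif Nat.ble 819 c then cFP_819 else cFP_818) else (bif Nat.ble 817 c then cFP_817 else cFP_816))))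
def sFP_0_52 (c : Nat) : Nat := (bif Nat.ble 840 c then (bif Nat.ble 844 c then (bif Nat.ble 846 c then (bif Nat.ble 847 c then cFP_847 else cFP_846) else (bif Nat.ble 845 c then cFP_845 else cFP_844)) else (bif Nat.ble 842 c then (bif Nat.ble 843 c then cFP_843 else cFP_842) else (bif Nat.ble 841 c then cFP_841 else cFP_840))) else (bif Nat.ble 836 c then (bif Nat.ble 838 c then (bif Nat.ble 839 c then cFP_839 else cFP_838) else (bif Nat.ble 837 c then cFP_837 else cFP_836)) else (bif Nat.ble 834 c then (bif Nat.ble 835 c then cFP_835 else cFP_834) else (bif Nat.ble 833 c then cFP_833 else cFP_832))))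
def sFP_0_53 (c : Nat) : Nat := (bif Nat.ble 855 c then (bif Nat.ble 859 c then (bif Nat.ble 861 c then cFP_861 else (bif Nat.ble 860 c then cFP_860 else cFP_859)) else (bif Nat.ble 857 c then (bif Nat.ble 858 c then cFP_858 else cFP_857) else (bif Nat.ble 856 c then cFP_856 else cFP_855))) else (bif Nat.ble 852 c then (bif Nat.ble 854 c then cFP_854 else (bif Nat.ble 853 c then cFP_853 else cFP_852)) else (bif Nat.ble 850 c then (bif Nat.ble 851 c then cFP_851 else cFP_850) else (bif Nat.ble 849 c then cFP_849 else cFP_848))))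
def sFP_1_0 (c : Nat) : Nat := (bif Nat.ble 128 c then (bif Nat.ble 192 c then (bif Nat.ble 224 c then (bif Nat.ble 240 c then sFP_0_15 c else sFP_0_14 c) else (bif Nat.ble 208 c then sFP_0_13 c else sFP_0_12 c)) else (bif Nat.ble 160 c then (bif Nat.ble 176 c then sFP_0_11 c else sFP_0_10 c) else (bif Nat.ble 144 c then sFP_0_9 c else sFP_0_8 c))) else (bif Nat.ble 64 c then (bif Nat.ble 96 c then (bif Nat.ble 112 c then sFP_0_7 c else sFP_0_6 c) else (bif Nat.ble 80 c then sFP_0_5 c else sFP_0_4 c)) else (bif Nat.ble 32 c then (bif Nat.ble 48 c then sFP_0_3 c else sFP_0_2 c) else (bif Nat.ble 16 c then sFP_0_1 c else sFP_0_0 c))))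
def sFP_1_1 (c : Nat) : Nat := (bif Nat.ble 384 c then (bif Nat.ble 448 c then (bif Nat.ble 480 c then (bif Nat.ble 496 c then sFP_0_31 c else sFP_0_30 c) else (bif Nat.ble 464 c then sFP_0_29 c else sFP_0_28 c)) else (bif Nat.ble 416 c then (bif Nat.ble 432 c then sFP_0_27 c else sFP_0_26 c) else (bif Nat.ble 400 c then sFP_0_25 c else sFP_0_24 c))) else (bif Nat.ble 320 c then (bif Nat.ble 352 c then (bif Nat.ble 368 c then sFP_0_23 c else sFP_0_22 c) else (bif Nat.ble 336 c then sFP_0_21 c else sFP_0_20 c)) else (bif Nat.ble 288 c then (bif Nat.ble 304 c then sFP_0_19 c else sFP_0_18 c) else (bif Nat.ble 272 c then sFP_0_17 c else sFP_0_16 c))))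
def sFP_1_2 (c : Nat) : Nat := (bif Nat.ble 640 c then (bif Nat.ble 704 c then (bif Nat.ble 736 c then (bif Nat.ble 752 c then sFP_0_47 c else sFP_0_46 c) else (bif Nat.ble 720 c then sFP_0_45 c else sFP_0_44 c)) else (bif Nat.ble 672 c then (bif Nat.ble 688 c then sFP_0_43 c else sFP_0_42 c) else (bif Nat.ble 656 c then sFP_0_41 c else sFP_0_40 c))) else (bif Nat.ble 576 c then (bif Nat.ble 608 c then (bif Nat.ble 624 c then sFP_0_39 c else sFP_0_38 c) else (bif Nat.ble 592 c then sFP_0_37 c else sFP_0_36 c)) else (bif Nat.ble 544 c then (bif Nat.ble 560 c then sFP_0_35 c else sFP_0_34 c) else (bif Nat.ble 528 c then sFP_0_33 c else sFP_0_32 c))))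
def sFP_1_3 (c : Nat) : Nat := (bif Nat.ble 816 c then (bif Nat.ble 848 c then sFP_0_53 c else (bif Nat.ble 832 c then sFP_0_52 c else sFP_0_51 c)) else (bif Nat.ble 800 c then sFP_0_50 c else (bif Nat.ble 784 c then sFP_0_49 c else sFP_0_48 c)))
def sFP (c : Nat) : Nat := (bif Nat.ble 512 c then (bif Nat.ble 768 c then sFP_1_3 c else sFP_1_2 c) else (bif Nat.ble 256 c then sFP_1_1 c else sFP_1_0 c))
def gFP (i : Nat) : Nat := Nat.land (Nat.shiftRight (sFP (Nat.shiftRight i 8)) (Nat.mul 37 (Nat.land i 255))) 137438953471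
def sFJ_0_0 (c : Nat) : Nat := (bif Nat.ble 8 c then (bif Nat.ble 12 c then (bif Nat.ble 14 c then (bif Nat.ble 15 c then cFJ_15 else cFJ_14) else (bif Nat.ble 13 c then cFJ_13 else cFJ_12)) else (bif Nat.ble 10 c then (bif Nat.ble 11 c then cFJ_11 else cFJ_10) else (bif Nat.ble 9 c then cFJ_9 else cFJ_8))) else (bif Nat.ble 4 c then (bif Nat.ble 6 c then (bif Nat.ble 7 c then cFJ_7 else cFJ_6) else (bif Nat.ble 5 c then cFJ_5 else cFJ_4)) else (bif Nat.ble 2 c then (bif Nat.ble 3 c then cFJ_3 else cFJ_2) else (bif Nat.ble 1 c then cFJ_1 else cFJ_0))))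
def sFJ_0_1 (c : Nat) : Nat := (bif Nat.ble 24 c then (bif Nat.ble 28 c then (bif Nat.ble 30 c then (bif Nat.ble 31 c then cFJ_31 else cFJ_30) else (bif Nat.ble 29 c then cFJ_29 else cFJ_28)) else (bif Nat.ble 26 c then (bif Nat.ble 27 c then cFJ_27 else cFJ_26) else (bif Nat.ble 25 c then cFJ_25 else cFJ_24))) else (bif Nat.ble 20 c then (bif Nat.ble 22 c then (bif Nat.ble 23 c then cFJ_23 else cFJ_22) else (bif Nat.ble 21 c then cFJ_21 else cFJ_20)) else (bif Nat.ble 18 c then (bif Nat.ble 19 c then cFJ_19 else cFJ_18) else (bif Nat.ble 17 c then cFJ_17 else cFJ_16))))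
def sFJ_0_2 (c : Nat) : Nat := (bif Nat.ble 40 c then (bif Nat.ble 44 c then (bif Nat.ble 46 c then (bif Nat.ble 47 c then cFJ_47 else cFJ_46) else (bif Nat.ble 45 c then cFJ_45 else cFJ_44)) else (bif Nat.ble 42 c then (bif Nat.ble 43 c then cFJ_43 else cFJ_42) else (bif Nat.ble 41 c then cFJ_41 else cFJ_40))) else (bif Nat.ble 36 c then (bif Nat.ble 38 c then (bif Nat.ble 39 c then cFJ_39 else cFJ_38) else (bif Nat.ble 37 c then cFJ_37 else cFJ_36)) else (bif Nat.ble 34 c then (bif Nat.ble 35 c then cFJ_35 else cFJ_34) else (bif Nat.ble 33 c then cFJ_33 else cFJ_32))))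
def sFJ_0_3 (c : Nat) : Nat := (bif Nat.ble 56 c then (bif Nat.ble 60 c then (bif Nat.ble 62 c then (bif Nat.ble 63 c then cFJ_63 else cFJ_62) else (bif Nat.ble 61 c then cFJ_61 else cFJ_60)) else (bif Nat.ble 58 c then (bif Nat.ble 59 c then cFJ_59 else cFJ_58) else (bif Nat.ble 57 c then cFJ_57 else cFJ_56))) else (bif Nat.ble 52 c then (bif Nat.ble 54 c then (bif Nat.ble 55 c then cFJ_55 else cFJ_54) else (bif Nat.ble 53 c then cFJ_53 else cFJ_52)) else (bif Nat.ble 50 c then (bif Nat.ble 51 c then cFJ_51 else cFJ_50) else (bif Nat.ble 49 c then cFJ_49 else cFJ_48))))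
def sFJ_0_4 (c : Nat) : Nat := (bif Nat.ble 72 c then (bif Nat.ble 76 c then (bif Nat.ble 78 c then (bif Nat.ble 79 c then cFJ_79 else cFJ_78) else (bif Nat.ble 77 c then cFJ_77 else cFJ_76)) else (bif Nat.ble 74 c then (bif Nat.ble 75 c then cFJ_75 else cFJ_74) else (bif Nat.ble 73 c then cFJ_73 else cFJ_72))) else (bif Nat.ble 68 c then (bif Nat.ble 70 c then (bif Nat.ble 71 c then cFJ_71 else cFJ_70) else (bif Nat.ble 69 c then cFJ_69 else cFJ_68)) else (bif Nat.ble 66 c then (bif Nat.ble 67 c then cFJ_67 else cFJ_66) else (bif Nat.ble 65 c then cFJ_65 else cFJ_64))))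
def sFJ_0_5 (c : Nat) : Nat := (bif Nat.ble 88 c then (bif Nat.ble 92 c then (bif Nat.ble 94 c then (bif Nat.ble 95 c then cFJ_95 else cFJ_94) else (bif Nat.ble 93 c then cFJ_93 else cFJ_92)) else (bif Nat.ble 90 c then (bif Nat.ble 91 c then cFJ_91 else cFJ_90) else (bif Nat.ble 89 c then cFJ_89 else cFJ_88))) else (bif Nat.ble 84 c then (bif Nat.ble 86 c then (bif Nat.ble 87 c then cFJ_87 else cFJ_86) else (bif Nat.ble 85 c then cFJ_85 else cFJ_84)) else (bif Nat.ble 82 c then (bif Nat.ble 83 c then cFJ_83 else cFJ_82) else (bif Nat.ble 81 c then cFJ_81 else cFJ_80))))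
def sFJ_0_6 (c : Nat) : Nat := (bif Nat.ble 104 c then (bif Nat.ble 108 c then (bif Nat.ble 110 c then (bif Nat.ble 111 c then cFJ_111 else cFJ_110) else (bif Nat.ble 109 c then cFJ_109 else cFJ_108)) else (bif Nat.ble 106 c then (bif Nat.ble 107 c then cFJ_107 else cFJ_106) else (bif Nat.ble 105 c then cFJ_105 else cFJ_104))) else (bif Nat.ble 100 c then (bif Nat.ble 102 c then (bif Nat.ble 103 c then cFJ_103 else cFJ_102) else (bif Nat.ble 101 c then cFJ_101 else cFJ_100)) else (bif Nat.ble 98 c then (bif Nat.ble 99 c then cFJ_99 else cFJ_98) else (bif Nat.ble 97 c then cFJ_97 else cFJ_96))))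
def sFJ_0_7 (c : Nat) : Nat := (bif Nat.ble 120 c then (bif Nat.ble 124 c then (bif Nat.ble 126 c then (bif Nat.ble 127 c then cFJ_127 else cFJ_126) else (bif Nat.ble 125 c then cFJ_125 else cFJ_124)) else (bif Nat.ble 122 c then (bif Nat.ble 123 c then cFJ_123 else cFJ_122) else (bif Nat.ble 121 c then cFJ_121 else cFJ_120))) else (bif Nat.ble 116 c then (bif Nat.ble 118 c then (bif Nat.ble 119 c then cFJ_119 else cFJ_118) else (bif Nat.ble 117 c then cFJ_117 else cFJ_116)) else (bif Nat.ble 114 c then (bif Nat.ble 115 c then cFJ_115 else cFJ_114) else (bif Nat.ble 113 c then cFJ_113 else cFJ_112))))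
def sFJ_0_8 (c : Nat) : Nat := (bif Nat.ble 136 c then (bif Nat.ble 140 c then (bif Nat.ble 142 c then (bif Nat.ble 143 c then cFJ_143 else cFJ_142) else (bif Nat.ble 141 c then cFJ_141 else cFJ_140)) else (bif Nat.ble 138 c then (bif Nat.ble 139 c then cFJ_139 else cFJ_138) else (bif Nat.ble 137 c then cFJ_137 else cFJ_136))) else (bif Nat.ble 132 c then (bif Nat.ble 134 c then (bif Nat.ble 135 c then cFJ_135 else cFJ_134) else (bif Nat.ble 133 c then cFJ_133 else cFJ_132)) else (bif Nat.ble 130 c then (bif Nat.ble 131 c then cFJ_131 else cFJ_130) else (bif Nat.ble 129 c then cFJ_129 else cFJ_128))))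
def sFJ_0_9 (c : Nat) : Nat := (bif Nat.ble 152 c then (bif Nat.ble 156 c then (bif Nat.ble 158 c then (bif Nat.ble 159 c then cFJ_159 else cFJ_158) else (bif Nat.ble 157 c then cFJ_157 else cFJ_156)) else (bif Nat.ble 154 c then (bif Nat.ble 155 c then cFJ_155 else cFJ_154) else (bif Nat.ble 153 c then cFJ_153 else cFJ_152))) else (bif Nat.ble 148 c then (bif Nat.ble 150 c then (bif Nat.ble 151 c then cFJ_151 else cFJ_150) else (bif Nat.ble 149 c then cFJ_149 else cFJ_148)) else (bif Nat.ble 146 c then (bif Nat.ble 147 c then cFJ_147 else cFJ_146) else (bif Nat.ble 145 c then cFJ_145 else cFJ_144))))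
def sFJ_0_10 (c : Nat) : Nat := (bif Nat.ble 168 c then (bif Nat.ble 172 c then (bif Nat.ble 174 c then (bif Nat.ble 175 c then cFJ_175 else cFJ_174) else (bif Nat.ble 173 c then cFJ_173 else cFJ_172)) else (bif Nat.ble 170 c then (bif Nat.ble 171 c then cFJ_171 else cFJ_170) else (bif Nat.ble 169 c then cFJ_169 else cFJ_168))) else (bif Nat.ble 164 c then (bif Nat.ble 166 c then (bif Nat.ble 167 c then cFJ_167 else cFJ_166) else (bif Nat.ble 165 c then cFJ_165 else cFJ_164)) else (bif Nat.ble 162 c then (bif Nat.ble 163 c then cFJ_163 else cFJ_162) else (bif Nat.ble 161 c then cFJ_161 else cFJ_160))))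
def sFJ_0_11 (c : Nat) : Nat := (bif Nat.ble 184 c then (bif Nat.ble 188 c then (bif Nat.ble 190 c then (bif Nat.ble 191 c then cFJ_191 else cFJ_190) else (bif Nat.ble 189 c then cFJ_189 else cFJ_188)) else (bif Nat.ble 186 c then (bif Nat.ble 187 c then cFJ_187 else cFJ_186) else (bif Nat.ble 185 c then cFJ_185 else cFJ_184))) else (bif Nat.ble 180 c then (bif Nat.ble 182 c then (bif Nat.ble 183 c then cFJ_183 else cFJ_182) else (bif Nat.ble 181 c then cFJ_181 else cFJ_180)) else (bif Nat.ble 178 c then (bif Nat.ble 179 c then cFJ_179 else cFJ_178) else (bif Nat.ble 177 c then cFJ_177 else cFJ_176))))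
def sFJ_0_12 (c : Nat) : Nat := (bif Nat.ble 200 c then (bif Nat.ble 204 c then (bif Nat.ble 206 c then (bif Nat.ble 207 c then cFJ_207 else cFJ_206) else (bif Nat.ble 205 c then cFJ_205 else cFJ_204)) else (bif Nat.ble 202 c then (bif Nat.ble 203 c then cFJ_203 else cFJ_202) else (bif Nat.ble 201 c then cFJ_201 else cFJ_200))) else (bif Nat.ble 196 c then (bif Nat.ble 198 c then (bif Nat.ble 199 c then cFJ_199 else cFJ_198) else (bif Nat.ble 197 c then cFJ_197 else cFJ_196)) else (bif Nat.ble 194 c then (bif Nat.ble 195 c then cFJ_195 else cFJ_194) else (bif Nat.ble 193 c then cFJ_193 else cFJ_192))))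
def sFJ_0_13 (c : Nat) : Nat := (bif Nat.ble 216 c then (bif Nat.ble 220 c then (bif Nat.ble 222 c then (bif Nat.ble 223 c then cFJ_223 else cFJ_222) else (bif Nat.ble 221 c then cFJ_221 else cFJ_220)) else (bif Nat.ble 218 c then (bif Nat.ble 219 c then cFJ_219 else cFJ_218) else (bif Nat.ble 217 c then cFJ_217 else cFJ_216))) else (bif Nat.ble 212 c then (bif Nat.ble 214 c then (bif Nat.ble 215 c then cFJ_215 else cFJ_214) else (bif Nat.ble 213 c then cFJ_213 else cFJ_212)) else (bif Nat.ble 210 c then (bif Nat.ble 211 c then cFJ_211 else cFJ_210) else (bif Nat.ble 209 c then cFJ_209 else cFJ_208))))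
def sFJ_0_14 (c : Nat) : Nat := (bif Nat.ble 232 c then (bif Nat.ble 236 c then (bif Nat.ble 238 c then (bif Nat.ble 239 c then cFJ_239 else cFJ_238) else (bif Nat.ble 237 c then cFJ_237 else cFJ_236)) else (bif Nat.ble 234 c then (bif Nat.ble 235 c then cFJ_235 else cFJ_234) else (bif Nat.ble 233 c then cFJ_233 else cFJ_232))) else (bif Nat.ble 228 c then (bif Nat.ble 230 c then (bif Nat.ble 231 c then cFJ_231 else cFJ_230) else (bif Nat.ble 229 c then cFJ_229 else cFJ_228)) else (bif Nat.ble 226 c then (bif Nat.ble 227 c then cFJ_227 else cFJ_226) else (bif Nat.ble 225 c then cFJ_225 else cFJ_224))))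
def sFJ_0_15 (c : Nat) : Nat := (bif Nat.ble 248 c then (bif Nat.ble 252 c then (bif Nat.ble 254 c then (bif Nat.ble 255 c then cFJ_255 else cFJ_254) else (bif Nat.ble 253 c then cFJ_253 else cFJ_252)) else (bif Nat.ble 250 c then (bif Nat.ble 251 c then cFJ_251 else cFJ_250) else (bif Nat.ble 249 c then cFJ_249 else cFJ_248))) else (bif Nat.ble 244 c then (bif Nat.ble 246 c then (bif Nat.ble 247 c then cFJ_247 else cFJ_246) else (bif Nat.ble 245 c then cFJ_245 else cFJ_244)) else (bif Nat.ble 242 c then (bif Nat.ble 243 c then cFJ_243 else cFJ_242) else (bif Nat.ble 241 c then cFJ_241 else cFJ_240))))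
def sFJ_0_16 (c : Nat) : Nat := (bif Nat.ble 264 c then (bif Nat.ble 268 c then (bif Nat.ble 270 c then (bif Nat.ble 271 c then cFJ_271 else cFJ_270) else (bif Nat.ble 269 c then cFJ_269 else cFJ_268)) else (bif Nat.ble 266 c then (bif Nat.ble 267 c then cFJ_267 else cFJ_266) else (bif Nat.ble 265 c then cFJ_265 else cFJ_264))) else (bif Nat.ble 260 c then (bif Nat.ble 262 c then (bif Nat.ble 263 c then cFJ_263 else cFJ_262) else (bif Nat.ble 261 c then cFJ_261 else cFJ_260)) else (bif Nat.ble 258 c then (bif Nat.ble 259 c then cFJ_259 else cFJ_258) else (bif Nat.ble 257 c then cFJ_257 else cFJ_256))))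
def sFJ_0_17 (c : Nat) : Nat := (bif Nat.ble 280 c then (bif Nat.ble 284 c then (bif Nat.ble 286 c then (bif Nat.ble 287 c then cFJ_287 else cFJ_286) else (bif Nat.ble 285 c then cFJ_285 else cFJ_284)) else (bif Nat.ble 282 c then (bif Nat.ble 283 c then cFJ_283 else cFJ_282) else (bif Nat.ble 281 c then cFJ_281 else cFJ_280))) else (bif Nat.ble 276 c then (bif Nat.ble 278 c then (bif Nat.ble 279 c then cFJ_279 else cFJ_278) else (bif Nat.ble 277 c then cFJ_277 else cFJ_276)) else (bif Nat.ble 274 c then (bif Nat.ble 275 c then cFJ_275 else cFJ_274) else (bif Nat.ble 273 c then cFJ_273 else cFJ_272))))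
def sFJ_0_18 (c : Nat) : Nat := (bif Nat.ble 296 c then (bif Nat.ble 300 c then (bif Nat.ble 302 c then (bif Nat.ble 303 c then cFJ_303 else cFJ_302) else (bif Nat.ble 301 c then cFJ_301 else cFJ_300)) else (bif Nat.ble 298 c then (bif Nat.ble 299 c then cFJ_299 else cFJ_298) else (bif Nat.ble 297 c then cFJ_297 else cFJ_296))) else (bif Nat.ble 292 c then (bif Nat.ble 294 c then (bif Nat.ble 295 c then cFJ_295 else cFJ_294) else (bif Nat.ble 293 c then cFJ_293 else cFJ_292)) else (bif Nat.ble 290 c then (bif Nat.ble 291 c then cFJ_291 else cFJ_290) else (bif Nat.ble 289 c then cFJ_289 else cFJ_288))))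
def sFJ_0_19 (c : Nat) : Nat := (bif Nat.ble 312 c then (bif Nat.ble 316 c then (bif Nat.ble 318 c then (bif Nat.ble 319 c then cFJ_319 else cFJ_318) else (bif Nat.ble 317 c then cFJ_317 else cFJ_316)) else (bif Nat.ble 314 c then (bif Nat.ble 315 c then cFJ_315 else cFJ_314) else (bif Nat.ble 313 c then cFJ_313 else cFJ_312))) else (bif Nat.ble 308 c then (bif Nat.ble 310 c then (bif Nat.ble 311 c then cFJ_311 else cFJ_310) else (bif Nat.ble 309 c then cFJ_309 else cFJ_308)) else (bif Nat.ble 306 c then (bif Nat.ble 307 c then cFJ_307 else cFJ_306) else (bif Nat.ble 305 c then cFJ_305 else cFJ_304))))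
def sFJ_0_20 (c : Nat) : Nat := (bif Nat.ble 328 c then (bif Nat.ble 332 c then (bif Nat.ble 334 c then (bif Nat.ble 335 c then cFJ_335 else cFJ_334) else (bif Nat.ble 333 c then cFJ_333 else cFJ_332)) else (bif Nat.ble 330 c then (bif Nat.ble 331 c then cFJ_331 else cFJ_330) else (bif Nat.ble 329 c then cFJ_329 else cFJ_328))) else (bif Nat.ble 324 c then (bif Nat.ble 326 c then (bif Nat.ble 327 c then cFJ_327 else cFJ_326) else (bif Nat.ble 325 c then cFJ_325 else cFJ_324)) else (bif Nat.ble 322 c then (bif Nat.ble 323 c then cFJ_323 else cFJ_322) else (bif Nat.ble 321 c then cFJ_321 else cFJ_320))))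
def sFJ_0_21 (c : Nat) : Nat := (bif Nat.ble 344 c then (bif Nat.ble 348 c then (bif Nat.ble 350 c then (bif Nat.ble 351 c then cFJ_351 else cFJ_350) else (bif Nat.ble 349 c then cFJ_349 else cFJ_348)) else (bif Nat.ble 346 c then (bif Nat.ble 347 c then cFJ_347 else cFJ_346) else (bif Nat.ble 345 c then cFJ_345 else cFJ_344))) else (bif Nat.ble 340 c then (bif Nat.ble 342 c then (bif Nat.ble 343 c then cFJ_343 else cFJ_342) else (bif Nat.ble 341 c then cFJ_341 else cFJ_340)) else (bif Nat.ble 338 c then (bif Nat.ble 339 c then cFJ_339 else cFJ_338) else (bif Nat.ble 337 c then cFJ_337 else cFJ_336))))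
def sFJ_0_22 (c : Nat) : Nat := (bif Nat.ble 360 c then (bif Nat.ble 364 c then (bif Nat.ble 366 c then (bif Nat.ble 367 c then cFJ_367 else cFJ_366) else (bif Nat.ble 365 c then cFJ_365 else cFJ_364)) else (bif Nat.ble 362 c then (bif Nat.ble 363 c then cFJ_363 else cFJ_362) else (bif Nat.ble 361 c then cFJ_361 else cFJ_360))) else (bif Nat.ble 356 c then (bif Nat.ble 358 c then (bif Nat.ble 359 c then cFJ_359 else cFJ_358) else (bif Nat.ble 357 c then cFJ_357 else cFJ_356)) else (bif Nat.ble 354 c then (bif Nat.ble 355 c then cFJ_355 else cFJ_354) else (bif Nat.ble 353 c then cFJ_353 else cFJ_352))))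
def sFJ_0_23 (c : Nat) : Nat := (bif Nat.ble 376 c then (bif Nat.ble 380 c then (bif Nat.ble 382 c then (bif Nat.ble 383 c then cFJ_383 else cFJ_382) else (bif Nat.ble 381 c then cFJ_381 else cFJ_380)) else (bif Nat.ble 378 c then (bif Nat.ble 379 c then cFJ_379 else cFJ_378) else (bif Nat.ble 377 c then cFJ_377 else cFJ_376))) else (bif Nat.ble 372 c then (bif Nat.ble 374 c then (bif Nat.ble 375 c then cFJ_375 else cFJ_374) else (bif Nat.ble 373 c then cFJ_373 else cFJ_372)) else (bif Nat.ble 370 c then (bif Nat.ble 371 c then cFJ_371 else cFJ_370) else (bif Nat.ble 369 c then cFJ_369 else cFJ_368))))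
def sFJ_0_24 (c : Nat) : Nat := (bif Nat.ble 392 c then (bif Nat.ble 396 c then (bif Nat.ble 398 c then (bif Nat.ble 399 c then cFJ_399 else cFJ_398) else (bif Nat.ble 397 c then cFJ_397 else cFJ_396)) else (bif Nat.ble 394 c then (bif Nat.ble 395 c then cFJ_395 else cFJ_394) else (bif Nat.ble 393 c then cFJ_393 else cFJ_392))) else (bif Nat.ble 388 c then (bif Nat.ble 390 c then (bif Nat.ble 391 c then cFJ_391 else cFJ_390) else (bif Nat.ble 389 c then cFJ_389 else cFJ_388)) else (bif Nat.ble 386 c then (bif Nat.ble 387 c then cFJ_387 else cFJ_386) else (bif Nat.ble 385 c then cFJ_385 else cFJ_384))))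
def sFJ_0_25 (c : Nat) : Nat := (bif Nat.ble 408 c then (bif Nat.ble 412 c then (bif Nat.ble 414 c then (bif Nat.ble 415 c then cFJ_415 else cFJ_414) else (bif Nat.ble 413 c then cFJ_413 else cFJ_412)) else (bif Nat.ble 410 c then (bif Nat.ble 411 c then cFJ_411 else cFJ_410) else (bif Nat.ble 409 c then cFJ_409 else cFJ_408))) else (bif Nat.ble 404 c then (bif Nat.ble 406 c then (bif Nat.ble 407 c then cFJ_407 else cFJ_406) else (bif Nat.ble 405 c then cFJ_405 else cFJ_404)) else (bif Nat.ble 402 c then (bif Nat.ble 403 c then cFJ_403 else cFJ_402) else (bif Nat.ble 401 c then cFJ_401 else cFJ_400))))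
def sFJ_0_26 (c : Nat) : Nat := (bif Nat.ble 424 c then (bif Nat.ble 428 c then (bif Nat.ble 430 c then (bif Nat.ble 431 c then cFJ_431 else cFJ_430) else (bif Nat.ble 429 c then cFJ_429 else cFJ_428)) else (bif Nat.ble 426 c then (bif Nat.ble 427 c then cFJ_427 else cFJ_426) else (bif Nat.ble 425 c then cFJ_425 else cFJ_424))) else (bif Nat.ble 420 c then (bif Nat.ble 422 c then (bif Nat.ble 423 c then cFJ_423 else cFJ_422) else (bif Nat.ble 421 c then cFJ_421 else cFJ_420)) else (bif Nat.ble 418 c then (bif Nat.ble 419 c then cFJ_419 else cFJ_418) else (bif Nat.ble 417 c then cFJ_417 else cFJ_416))))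
def sFJ_0_27 (c : Nat) : Nat := (bif Nat.ble 440 c then (bif Nat.ble 444 c then (bif Nat.ble 446 c then (bif Nat.ble 447 c then cFJ_447 else cFJ_446) else (bif Nat.ble 445 c then cFJ_445 else cFJ_444)) else (bif Nat.ble 442 c then (bif Nat.ble 443 c then cFJ_443 else cFJ_442) else (bif Nat.ble 441 c then cFJ_441 else cFJ_440))) else (bif Nat.ble 436 c then (bif Nat.ble 438 c then (bif Nat.ble 439 c then cFJ_439 else cFJ_438) else (bif Nat.ble 437 c then cFJ_437 else cFJ_436)) else (bif Nat.ble 434 c then (bif Nat.ble 435 c then cFJ_435 else cFJ_434) else (bif Nat.ble 433 c then cFJ_433 else cFJ_432))))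
def sFJ_0_28 (c : Nat) : Nat := (bif Nat.ble 456 c then (bif Nat.ble 460 c then (bif Nat.ble 462 c then (bif Nat.ble 463 c then cFJ_463 else cFJ_462) else (bif Nat.ble 461 c then cFJ_461 else cFJ_460)) else (bif Nat.ble 458 c then (bif Nat.ble 459 c then cFJ_459 else cFJ_458) else (bif Nat.ble 457 c then cFJ_457 else cFJ_456))) else (bif Nat.ble 452 c then (bif Nat.ble 454 c then (bif Nat.ble 455 c then cFJ_455 else cFJ_454) else (bif Nat.ble 453 c then cFJ_453 else cFJ_452)) else (bif Nat.ble 450 c then (bif Nat.ble 451 c then cFJ_451 else cFJ_450) else (bif Nat.ble 449 c then cFJ_449 else cFJ_448))))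
def sFJ_0_29 (c : Nat) : Nat := (bif Nat.ble 472 c then (bif Nat.ble 476 c then (bif Nat.ble 478 c then (bif Nat.ble 479 c then cFJ_479 else cFJ_478) else (bif Nat.ble 477 c then cFJ_477 else cFJ_476)) else (bif Nat.ble 474 c then (bif Nat.ble 475 c then cFJ_475 else cFJ_474) else (bif Nat.ble 473 c then cFJ_473 else cFJ_472))) else (bif Nat.ble 468 c then (bif Nat.ble 470 c then (bif Nat.ble 471 c then cFJ_471 else cFJ_470) else (bif Nat.ble 469 c then cFJ_469 else cFJ_468)) else (bif Nat.ble 466 c then (bif Nat.ble 467 c then cFJ_467 else cFJ_466) else (bif Nat.ble 465 c then cFJ_465 else cFJ_464))))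
def sFJ_0_30 (c : Nat) : Nat := (bif Nat.ble 488 c then (bif Nat.ble 492 c then (bif Nat.ble 494 c then (bif Nat.ble 495 c then cFJ_495 else cFJ_494) else (bif Nat.ble 493 c then cFJ_493 else cFJ_492)) else (bif Nat.ble 490 c then (bif Nat.ble 491 c then cFJ_491 else cFJ_490) else (bif Nat.ble 489 c then cFJ_489 else cFJ_488))) else (bif Nat.ble 484 c then (bif Nat.ble 486 c then (bif Nat.ble 487 c then cFJ_487 else cFJ_486) else (bif Nat.ble 485 c then cFJ_485 else cFJ_484)) else (bif Nat.ble 482 c then (bif Nat.ble 483 c then cFJ_483 else cFJ_482) else (bif Nat.ble 481 c then cFJ_481 else cFJ_480))))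
def sFJ_0_31 (c : Nat) : Nat := (bif Nat.ble 504 c then (bif Nat.ble 508 c then (bif Nat.ble 510 c then (bif Nat.ble 511 c then cFJ_511 else cFJ_510) else (bif Nat.ble 509 c then cFJ_509 else cFJ_508)) else (bif Nat.ble 506 c then (bif Nat.ble 507 c then cFJ_507 else cFJ_506) else (bif Nat.ble 505 c then cFJ_505 else cFJ_504))) else (bif Nat.ble 500 c then (bif Nat.ble 502 c then (bif Nat.ble 503 c then cFJ_503 else cFJ_502) else (bif Nat.ble 501 c then cFJ_501 else cFJ_500)) else (bif Nat.ble 498 c then (bif Nat.ble 499 c then cFJ_499 else cFJ_498) else (bif Nat.ble 497 c then cFJ_497 else cFJ_496))))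
def sFJ_0_32 (c : Nat) : Nat := (bif Nat.ble 520 c then (bif Nat.ble 524 c then (bif Nat.ble 526 c then (bif Nat.ble 527 c then cFJ_527 else cFJ_526) else (bif Nat.ble 525 c then cFJ_525 else cFJ_524)) else (bif Nat.ble 522 c then (bif Nat.ble 523 c then cFJ_523 else cFJ_522) else (bif Nat.ble 521 c then cFJ_521 else cFJ_520))) else (bif Nat.ble 516 c then (bif Nat.ble 518 c then (bif Nat.ble 519 c then cFJ_519 else cFJ_518) else (bif Nat.ble 517 c then cFJ_517 else cFJ_516)) else (bif Nat.ble 514 c then (bif Nat.ble 515 c then cFJ_515 else cFJ_514) else (bif Nat.ble 513 c then cFJ_513 else cFJ_512))))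
def sFJ_0_33 (c : Nat) : Nat := (bif Nat.ble 536 c then (bif Nat.ble 540 c then (bif Nat.ble 542 c then (bif Nat.ble 543 c then cFJ_543 else cFJ_542) else (bif Nat.ble 541 c then cFJ_541 else cFJ_540)) else (bif Nat.ble 538 c then (bif Nat.ble 539 c then cFJ_539 else cFJ_538) else (bif Nat.ble 537 c then cFJ_537 else cFJ_536))) else (bif Nat.ble 532 c then (bif Nat.ble 534 c then (bif Nat.ble 535 c then cFJ_535 else cFJ_534) else (bif Nat.ble 533 c then cFJ_533 else cFJ_532)) else (bif Nat.ble 530 c then (bif Nat.ble 531 c then cFJ_531 else cFJ_530) else (bif Nat.ble 529 c then cFJ_529 else cFJ_528))))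
def sFJ_0_34 (c : Nat) : Nat := (bif Nat.ble 552 c then (bif Nat.ble 556 c then (bif Nat.ble 558 c then (bif Nat.ble 559 c then cFJ_559 else cFJ_558) else (bif Nat.ble 557 c then cFJ_557 else cFJ_556)) else (bif Nat.ble 554 c then (bif Nat.ble 555 c then cFJ_555 else cFJ_554) else (bif Nat.ble 553 c then cFJ_553 else cFJ_552))) else (bif Nat.ble 548 c then (bif Nat.ble 550 c then (bif Nat.ble 551 c then cFJ_551 else cFJ_550) else (bif Nat.ble 549 c then cFJ_549 else cFJ_548)) else (bif Nat.ble 546 c then (bif Nat.ble 547 c then cFJ_547 else cFJ_546) else (bif Nat.ble 545 c then cFJ_545 else cFJ_544))))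
def sFJ_0_35 (c : Nat) : Nat := (bif Nat.ble 568 c then (bif Nat.ble 572 c then (bif Nat.ble 574 c then (bif Nat.ble 575 c then cFJ_575 else cFJ_574) else (bif Nat.ble 573 c then cFJ_573 else cFJ_572)) else (bif Nat.ble 570 c then (bif Nat.ble 571 c then cFJ_571 else cFJ_570) else (bif Nat.ble 569 c then cFJ_569 else cFJ_568))) else (bif Nat.ble 564 c then (bif Nat.ble 566 c then (bif Nat.ble 567 c then cFJ_567 else cFJ_566) else (bif Nat.ble 565 c then cFJ_565 else cFJ_564)) else (bif Nat.ble 562 c then (bif Nat.ble 563 c then cFJ_563 else cFJ_562) else (bif Nat.ble 561 c then cFJ_561 else cFJ_560))))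
def sFJ_0_36 (c : Nat) : Nat := (bif Nat.ble 584 c then (bif Nat.ble 588 c then (bif Nat.ble 590 c then (bif Nat.ble 591 c then cFJ_591 else cFJ_590) else (bif Nat.ble 589 c then cFJ_589 else cFJ_588)) else (bif Nat.ble 586 c then (bif Nat.ble 587 c then cFJ_587 else cFJ_586) else (bif Nat.ble 585 c then cFJ_585 else cFJ_584))) else (bif Nat.ble 580 c then (bif Nat.ble 582 c then (bif Nat.ble 583 c then cFJ_583 else cFJ_582) else (bif Nat.ble 581 c then cFJ_581 else cFJ_580)) else (bif Nat.ble 578 c then (bif Nat.ble 579 c then cFJ_579 else cFJ_578) else (bif Nat.ble 577 c then cFJ_577 else cFJ_576))))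
def sFJ_0_37 (c : Nat) : Nat := (bif Nat.ble 600 c then (bif Nat.ble 604 c then (bif Nat.ble 606 c then (bif Nat.ble 607 c then cFJ_607 else cFJ_606) else (bif Nat.ble 605 c then cFJ_605 else cFJ_604)) else (bif Nat.ble 602 c then (bif Nat.ble 603 c then cFJ_603 else cFJ_602) else (bif Nat.ble 601 c then cFJ_601 else cFJ_600))) else (bif Nat.ble 596 c then (bif Nat.ble 598 c then (bif Nat.ble 599 c then cFJ_599 else cFJ_598) else (bif Nat.ble 597 c then cFJ_597 else cFJ_596)) else (bif Nat.ble 594 c then (bif Nat.ble 595 c then cFJ_595 else cFJ_594) else (bif Nat.ble 593 c then cFJ_593 else cFJ_592))))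
def sFJ_0_38 (c : Nat) : Nat := (bif Nat.ble 616 c then (bif Nat.ble 620 c then (bif Nat.ble 622 c then (bif Nat.ble 623 c then cFJ_623 else cFJ_622) else (bif Nat.ble 621 c then cFJ_621 else cFJ_620)) else (bif Nat.ble 618 c then (bif Nat.ble 619 c then cFJ_619 else cFJ_618) else (bif Nat.ble 617 c then cFJ_617 else cFJ_616))) else (bif Nat.ble 612 c then (bif Nat.ble 614 c then (bif Nat.ble 615 c then cFJ_615 else cFJ_614) else (bif Nat.ble 613 c then cFJ_613 else cFJ_612)) else (bif Nat.ble 610 c then (bif Nat.ble 611 c then cFJ_611 else cFJ_610) else (bif Nat.ble 609 c then cFJ_609 else cFJ_608))))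
def sFJ_0_39 (c : Nat) : Nat := (bif Nat.ble 632 c then (bif Nat.ble 636 c then (bif Nat.ble 638 c then (bif Nat.ble 639 c then cFJ_639 else cFJ_638) else (bif Nat.ble 637 c then cFJ_637 else cFJ_636)) else (bif Nat.ble 634 c then (bif Nat.ble 635 c then cFJ_635 else cFJ_634) else (bif Nat.ble 633 c then cFJ_633 else cFJ_632))) else (bif Nat.ble 628 c then (bif Nat.ble 630 c then (bif Nat.ble 631 c then cFJ_631 else cFJ_630) else (bif Nat.ble 629 c then cFJ_629 else cFJ_628)) else (bif Nat.ble 626 c then (bif Nat.ble 627 c then cFJ_627 else cFJ_626) else (bif Nat.ble 625 c then cFJ_625 else cFJ_624))))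
def sFJ_0_40 (c : Nat) : Nat := (bif Nat.ble 648 c then (bif Nat.ble 652 c then (bif Nat.ble 654 c then (bif Nat.ble 655 c then cFJ_655 else cFJ_654) else (bif Nat.ble 653 c then cFJ_653 else cFJ_652)) else (bif Nat.ble 650 c then (bif Nat.ble 651 c then cFJ_651 else cFJ_650) else (bif Nat.ble 649 c then cFJ_649 else cFJ_648))) else (bif Nat.ble 644 c then (bif Nat.ble 646 c then (bif Nat.ble 647 c then cFJ_647 else cFJ_646) else (bif Nat.ble 645 c then cFJ_645 else cFJ_644)) else (bif Nat.ble 642 c then (bif Nat.ble 643 c then cFJ_643 else cFJ_642) else (bif Nat.ble 641 c then cFJ_641 else cFJ_640))))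
def sFJ_0_41 (c : Nat) : Nat := (bif Nat.ble 664 c then (bif Nat.ble 668 c then (bif Nat.ble 670 c then (bif Nat.ble 671 c then cFJ_671 else cFJ_670) else (bif Nat.ble 669 c then cFJ_669 else cFJ_668)) else (bif Nat.ble 666 c then (bif Nat.ble 667 c then cFJ_667 else cFJ_666) else (bif Nat.ble 665 c then cFJ_665 else cFJ_664))) else (bif Nat.ble 660 c then (bif Nat.ble 662 c then (bif Nat.ble 663 c then cFJ_663 else cFJ_662) else (bif Nat.ble 661 c then cFJ_661 else cFJ_660)) else (bif Nat.ble 658 c then (bif Nat.ble 659 c then cFJ_659 else cFJ_658) else (bif Nat.ble 657 c then cFJ_657 else cFJ_656))))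
def sFJ_0_42 (c : Nat) : Nat := (bif Nat.ble 680 c then (bif Nat.ble 684 c then (bif Nat.ble 686 c then (bif Nat.ble 687 c then cFJ_687 else cFJ_686) else (bif Nat.ble 685 c then cFJ_685 else cFJ_684)) else (bif Nat.ble 682 c then (bif Nat.ble 683 c then cFJ_683 else cFJ_682) else (bif Nat.ble 681 c then cFJ_681 else cFJ_680))) else (bif Nat.ble 676 c then (bif Nat.ble 678 c then (bif Nat.ble 679 c then cFJ_679 else cFJ_678) else (bif Nat.ble 677 c then cFJ_677 else cFJ_676)) else (bif Nat.ble 674 c then (bif Nat.ble 675 c then cFJ_675 else cFJ_674) else (bif Nat.ble 673 c then cFJ_673 else cFJ_672))))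
def sFJ_0_43 (c : Nat) : Nat := (bif Nat.ble 696 c then (bif Nat.ble 700 c then (bif Nat.ble 702 c then (bif Nat.ble 703 c then cFJ_703 else cFJ_702) else (bif Nat.ble 701 c then cFJ_701 else cFJ_700)) else (bif Nat.ble 698 c then (bif Nat.ble 699 c then cFJ_699 else cFJ_698) else (bif Nat.ble 697 c then cFJ_697 else cFJ_696))) else (bif Nat.ble 692 c then (bif Nat.ble 694 c then (bif Nat.ble 695 c then cFJ_695 else cFJ_694) else (bif Nat.ble 693 c then cFJ_693 else cFJ_692)) else (bif Nat.ble 690 c then (bif Nat.ble 691 c then cFJ_691 else cFJ_690) else (bif Nat.ble 689 c then cFJ_689 else cFJ_688))))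
def sFJ_0_44 (c : Nat) : Nat := (bif Nat.ble 712 c then (bif Nat.ble 716 c then (bif Nat.ble 718 c then (bif Nat.ble 719 c then cFJ_719 else cFJ_718) else (bif Nat.ble 717 c then cFJ_717 else cFJ_716)) else (bif Nat.ble 714 c then (bif Nat.ble 715 c then cFJ_715 else cFJ_714) else (bif Nat.ble 713 c then cFJ_713 else cFJ_712))) else (bif Nat.ble 708 c then (bif Nat.ble 710 c then (bif Nat.ble 711 c then cFJ_711 else cFJ_710) else (bif Nat.ble 709 c then cFJ_709 else cFJ_708)) else (bif Nat.ble 706 c then (bif Nat.ble 707 c then cFJ_707 else cFJ_706) else (bif Nat.ble 705 c then cFJ_705 else cFJ_704))))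
def sFJ_0_45 (c : Nat) : Nat := (bif Nat.ble 728 c then (bif Nat.ble 732 c then (bif Nat.ble 734 c then (bif Nat.ble 735 c then cFJ_735 else cFJ_734) else (bif Nat.ble 733 c then cFJ_733 else cFJ_732)) else (bif Nat.ble 730 c then (bif Nat.ble 731 c then cFJ_731 else cFJ_730) else (bif Nat.ble 729 c then cFJ_729 else cFJ_728))) else (bif Nat.ble 724 c then (bif Nat.ble 726 c then (bif Nat.ble 727 c then cFJ_727 else cFJ_726) else (bif Nat.ble 725 c then cFJ_725 else cFJ_724)) else (bif Nat.ble 722 c then (bif Nat.ble 723 c then cFJ_723 else cFJ_722) else (bif Nat.ble 721 c then cFJ_721 else cFJ_720))))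
def sFJ_0_46 (c : Nat) : Nat := (bif Nat.ble 744 c then (bif Nat.ble 748 c then (bif Nat.ble 750 c then (bif Nat.ble 751 c then cFJ_751 else cFJ_750) else (bif Nat.ble 749 c then cFJ_749 else cFJ_748)) else (bif Nat.ble 746 c then (bif Nat.ble 747 c then cFJ_747 else cFJ_746) else (bif Nat.ble 745 c then cFJ_745 else cFJ_744))) else (bif Nat.ble 740 c then (bif Nat.ble 742 c then (bif Nat.ble 743 c then cFJ_743 else cFJ_742) else (bif Nat.ble 741 c then cFJ_741 else cFJ_740)) else (bif Nat.ble 738 c then (bif Nat.ble 739 c then cFJ_739 else cFJ_738) else (bif Nat.ble 737 c then cFJ_737 else cFJ_736))))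
def sFJ_0_47 (c : Nat) : Nat := (bif Nat.ble 760 c then (bif Nat.ble 764 c then (bif Nat.ble 766 c then (bif Nat.ble 767 c then cFJ_767 else cFJ_766) else (bif Nat.ble 765 c then cFJ_765 else cFJ_764)) else (bif Nat.ble 762 c then (bif Nat.ble 763 c then cFJ_763 else cFJ_762) else (bif Nat.ble 761 c then cFJ_761 else cFJ_760))) else (bif Nat.ble 756 c then (bif Nat.ble 758 c then (bif Nat.ble 759 c then cFJ_759 else cFJ_758) else (bif Nat.ble 757 c then cFJ_757 else cFJ_756)) else (bif Nat.ble 754 c then (bif Nat.ble 755 c then cFJ_755 else cFJ_754) else (bif Nat.ble 753 c then cFJ_753 else cFJ_752))))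
def sFJ_0_48 (c : Nat) : Nat := (bif Nat.ble 776 c then (bif Nat.ble 780 c then (bif Nat.ble 782 c then (bif Nat.ble 783 c then cFJ_783 else cFJ_782) else (bif Nat.ble 781 c then cFJ_781 else cFJ_780)) else (bif Nat.ble 778 c then (bif Nat.ble 779 c then cFJ_779 else cFJ_778) else (bif Nat.ble 777 c then cFJ_777 else cFJ_776))) else (bif Nat.ble 772 c then (bif Nat.ble 774 c then (bif Nat.ble 775 c then cFJ_775 else cFJ_774) else (bif Nat.ble 773 c then cFJ_773 else cFJ_772)) else (bif Nat.ble 770 c then (bif Nat.ble 771 c then cFJ_771 else cFJ_770) else (bif Nat.ble 769 c then cFJ_769 else cFJ_768))))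
def sFJ_0_49 (c : Nat) : Nat := (bif Nat.ble 792 c then (bif Nat.ble 796 c then (bif Nat.ble 798 c then (bif Nat.ble 799 c then cFJ_799 else cFJ_798) else (bif Nat.ble 797 c then cFJ_797 else cFJ_796)) else (bif Nat.ble 794 c then (bif Nat.ble 795 c then cFJ_795 else cFJ_794) else (bif Nat.ble 793 c then cFJ_793 else cFJ_792))) else (bif Nat.ble 788 c then (bif Nat.ble 790 c then (bif Nat.ble 791 c then cFJ_791 else cFJ_790) else (bif Nat.ble 789 c then cFJ_789 else cFJ_788)) else (bif Nat.ble 786 c then (bif Nat.ble 787 c then cFJ_787 else cFJ_786) else (bif Nat.ble 785 c then cFJ_785 else cFJ_784))))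
def sFJ_0_50 (c : Nat) : Nat := (bif Nat.ble 808 c then (bif Nat.ble 812 c then (bif Nat.ble 814 c then (bif Nat.ble 815 c then cFJ_815 else cFJ_814) else (bif Nat.ble 813 c then cFJ_813 else cFJ_812)) else (bif Nat.ble 810 c then (bif Nat.ble 811 c then cFJ_811 else cFJ_810) else (bif Nat.ble 809 c then cFJ_809 else cFJ_808))) else (bif Nat.ble 804 c then (bif Nat.ble 806 c then (bif Nat.ble 807 c then cFJ_807 else cFJ_806) else (bif Nat.ble 805 c then cFJ_805 else cFJ_804)) else (bif Nat.ble 802 c then (bif Nat.ble 803 c then cFJ_803 else cFJ_802) else (bif Nat.ble 801 c then cFJ_801 else cFJ_800))))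
def sFJ_0_51 (c : Nat) : Nat := (bif Nat.ble 824 c then (bif Nat.ble 828 c then (bif Nat.ble 830 c then (bif Nat.ble 831 c then cFJ_831 else cFJ_830) else (bif Nat.ble 829 c then cFJ_829 else cFJ_828)) else (bif Nat.ble 826 c then (bif Nat.ble 827 c then cFJ_827 else cFJ_826) else (bif Nat.ble 825 c then cFJ_825 else cFJ_824))) else (bif Nat.ble 820 c then (bif Nat.ble 822 c then (bif Nat.ble 823 c then cFJ_823 else cFJ_822) else (bif Nat.ble 821 c then cFJ_821 else cFJ_820)) else (bif Nat.ble 818 c then (bif Nat.ble 819 c then cFJ_819 else cFJ_818) else (bif Nat.ble 817 c then cFJ_817 else cFJ_816))))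
def sFJ_0_52 (c : Nat) : Nat := (bif Nat.ble 840 c then (bif Nat.ble 844 c then (bif Nat.ble 846 c then (bif Nat.ble 847 c then cFJ_847 else cFJ_846) else (bif Nat.ble 845 c then cFJ_845 else cFJ_844)) else (bif Nat.ble 842 c then (bif Nat.ble 843 c then cFJ_843 else cFJ_842) else (bif Nat.ble 841 c then cFJ_841 else cFJ_840))) else (bif Nat.ble 836 c then (bif Nat.ble 838 c then (bif Nat.ble 839 c then cFJ_839 else cFJ_838) else (bif Nat.ble 837 c then cFJ_837 else cFJ_836)) else (bif Nat.ble 834 c then (bif Nat.ble 835 c then cFJ_835 else cFJ_834) else (bif Nat.ble 833 c then cFJ_833 else cFJ_832))))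
def sFJ_0_53 (c : Nat) : Nat := (bif Nat.ble 855 c then (bif Nat.ble 859 c then (bif Nat.ble 861 c then cFJ_861 else (bif Nat.ble 860 c then cFJ_860 else cFJ_859)) else (bif Nat.ble 857 c then (bif Nat.ble 858 c then cFJ_858 else cFJ_857) else (bif Nat.ble 856 c then cFJ_856 else cFJ_855))) else (bif Nat.ble 852 c then (bif Nat.ble 854 c then cFJ_854 else (bif Nat.ble 853 c then cFJ_853 else cFJ_852)) else (bif Nat.ble 850 c then (bif Nat.ble 851 c then cFJ_851 else cFJ_850) else (bif Nat.ble 849 c then cFJ_849 else cFJ_848))))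
def sFJ_1_0 (c : Nat) : Nat := (bif Nat.ble 128 c then (bif Nat.ble 192 c then (bif Nat.ble 224 c then (bif Nat.ble 240 c then sFJ_0_15 c else sFJ_0_14 c) else (bif Nat.ble 208 c then sFJ_0_13 c else sFJ_0_12 c)) else (bif Nat.ble 160 c then (bif Nat.ble 176 c then sFJ_0_11 c else sFJ_0_10 c) else (bif Nat.ble 144 c then sFJ_0_9 c else sFJ_0_8 c))) else (bif Nat.ble 64 c then (bif Nat.ble 96 c then (bif Nat.ble 112 c then sFJ_0_7 c else sFJ_0_6 c) else (bif Nat.ble 80 c then sFJ_0_5 c else sFJ_0_4 c)) else (bif Nat.ble 32 c then (bif Nat.ble 48 c then sFJ_0_3 c else sFJ_0_2 c) else (bif Nat.ble 16 c then sFJ_0_1 c else sFJ_0_0 c))))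
def sFJ_1_1 (c : Nat) : Nat := (bif Nat.ble 384 c then (bif Nat.ble 448 c then (bif Nat.ble 480 c then (bif Nat.ble 496 c then sFJ_0_31 c else sFJ_0_30 c) else (bif Nat.ble 464 c then sFJ_0_29 c else sFJ_0_28 c)) else (bif Nat.ble 416 c then (bif Nat.ble 432 c then sFJ_0_27 c else sFJ_0_26 c) else (bif Nat.ble 400 c then sFJ_0_25 c else sFJ_0_24 c))) else (bif Nat.ble 320 c then (bif Nat.ble 352 c then (bif Nat.ble 368 c then sFJ_0_23 c else sFJ_0_22 c) else (bif Nat.ble 336 c then sFJ_0_21 c else sFJ_0_20 c)) else (bif Nat.ble 288 c then (bif Nat.ble 304 c then sFJ_0_19 c else sFJ_0_18 c) else (bif Nat.ble 272 c then sFJ_0_17 c else sFJ_0_16 c))))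
def sFJ_1_2 (c : Nat) : Nat := (bif Nat.ble 640 c then (bif Nat.ble 704 c then (bif Nat.ble 736 c then (bif Nat.ble 752 c then sFJ_0_47 c else sFJ_0_46 c) else (bif Nat.ble 720 c then sFJ_0_45 c else sFJ_0_44 c)) else (bif Nat.ble 672 c then (bif Nat.ble 688 c then sFJ_0_43 c else sFJ_0_42 c) else (bif Nat.ble 656 c then sFJ_0_41 c else sFJ_0_40 c))) else (bif Nat.ble 576 c then (bif Nat.ble 608 c then (bif Nat.ble 624 c then sFJ_0_39 c else sFJ_0_38 c) else (bif Nat.ble 592 c then sFJ_0_37 c else sFJ_0_36 c)) else (bif Nat.ble 544 c then (bif Nat.ble 560 c then sFJ_0_35 c else sFJ_0_34 c) else (bif Nat.ble 528 c then sFJ_0_33 c else sFJ_0_32 c))))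
def sFJ_1_3 (c : Nat) : Nat := (bif Nat.ble 816 c then (bif Nat.ble 848 c then sFJ_0_53 c else (bif Nat.ble 832 c then sFJ_0_52 c else sFJ_0_51 c)) else (bif Nat.ble 800 c then sFJ_0_50 c else (bif Nat.ble 784 c then sFJ_0_49 c else sFJ_0_48 c)))
def sFJ (c : Nat) : Nat := (bif Nat.ble 512 c then (bif Nat.ble 768 c then sFJ_1_3 c else sFJ_1_2 c) else (bif Nat.ble 256 c then sFJ_1_1 c else sFJ_1_0 c))
def gFJ (i : Nat) : Nat := Nat.land (Nat.shiftRight (sFJ (Nat.shiftRight i 8)) (Nat.mul 57 (Nat.land i 255))) 144115188075855871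
def sST_0_0 (c : Nat) : Nat := (bif Nat.ble 8 c then (bif Nat.ble 12 c then (bif Nat.ble 14 c then (bif Nat.ble 15 c then cST_15 else cST_14) else (bif Nat.ble 13 c then cST_13 else cST_12)) else (bif Nat.ble 10 c then (bif Nat.ble 11 c then cST_11 else cST_10) else (bif Nat.ble 9 c then cST_9 else cST_8))) else (bif Nat.ble 4 c then (bif Nat.ble 6 c then (bif Nat.ble 7 c then cST_7 else cST_6) else (bif Nat.ble 5 c then cST_5 else cST_4)) else (bif Nat.ble 2 c then (bif Nat.ble 3 c then cST_3 else cST_2) else (bif Nat.ble 1 c then cST_1 else cST_0))))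
def sST_0_1 (c : Nat) : Nat := (bif Nat.ble 24 c then (bif Nat.ble 28 c then (bif Nat.ble 30 c then (bif Nat.ble 31 c then cST_31 else cST_30) else (bif Nat.ble 29 c then cST_29 else cST_28)) else (bif Nat.ble 26 c then (bif Nat.ble 27 c then cST_27 else cST_26) else (bif Nat.ble 25 c then cST_25 else cST_24))) else (bif Nat.ble 20 c then (bif Nat.ble 22 c then (bif Nat.ble 23 c then cST_23 else cST_22) else (bif Nat.ble 21 c then cST_21 else cST_20)) else (bif Nat.ble 18 c then (bif Nat.ble 19 c then cST_19 else cST_18) else (bif Nat.ble 17 c then cST_17 else cST_16))))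
def sST_0_2 (c : Nat) : Nat := (bif Nat.ble 40 c then (bif Nat.ble 44 c then (bif Nat.ble 46 c then (bif Nat.ble 47 c then cST_47 else cST_46) else (bif Nat.ble 45 c then cST_45 else cST_44)) else (bif Nat.ble 42 c then (bif Nat.ble 43 c then cST_43 else cST_42) else (bif Nat.ble 41 c then cST_41 else cST_40))) else (bif Nat.ble 36 c then (bif Nat.ble 38 c then (bif Nat.ble 39 c then cST_39 else cST_38) else (bif Nat.ble 37 c then cST_37 else cST_36)) else (bif Nat.ble 34 c then (bif Nat.ble 35 c then cST_35 else cST_34) else (bif Nat.ble 33 c then cST_33 else cST_32))))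
def sST_0_3 (c : Nat) : Nat := (bif Nat.ble 56 c then (bif Nat.ble 60 c then (bif Nat.ble 62 c then (bif Nat.ble 63 c then cST_63 else cST_62) else (bif Nat.ble 61 c then cST_61 else cST_60)) else (bif Nat.ble 58 c then (bif Nat.ble 59 c then cST_59 else cST_58) else (bif Nat.ble 57 c then cST_57 else cST_56))) else (bif Nat.ble 52 c then (bif Nat.ble 54 c then (bif Nat.ble 55 c then cST_55 else cST_54) else (bif Nat.ble 53 c then cST_53 else cST_52)) else (bif Nat.ble 50 c then (bif Nat.ble 51 c then cST_51 else cST_50) else (bif Nat.ble 49 c then cST_49 else cST_48))))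
def sST_0_4 (c : Nat) : Nat := (bif Nat.ble 72 c then (bif Nat.ble 76 c then (bif Nat.ble 78 c then (bif Nat.ble 79 c then cST_79 else cST_78) else (bif Nat.ble 77 c then cST_77 else cST_76)) else (bif Nat.ble 74 c then (bif Nat.ble 75 c then cST_75 else cST_74) else (bif Nat.ble 73 c then cST_73 else cST_72))) else (bif Nat.ble 68 c then (bif Nat.ble 70 c then (bif Nat.ble 71 c then cST_71 else cST_70) else (bif Nat.ble 69 c then cST_69 else cST_68)) else (bif Nat.ble 66 c then (bif Nat.ble 67 c then cST_67 else cST_66) else (bif Nat.ble 65 c then cST_65 else cST_64))))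
def sST_0_5 (c : Nat) : Nat := (bif Nat.ble 88 c then (bif Nat.ble 92 c then (bif Nat.ble 94 c then (bif Nat.ble 95 c then cST_95 else cST_94) else (bif Nat.ble 93 c then cST_93 else cST_92)) else (bif Nat.ble 90 c then (bif Nat.ble 91 c then cST_91 else cST_90) else (bif Nat.ble 89 c then cST_89 else cST_88))) else (bif Nat.ble 84 c then (bif Nat.ble 86 c then (bif Nat.ble 87 c then cST_87 else cST_86) else (bif Nat.ble 85 c then cST_85 else cST_84)) else (bif Nat.ble 82 c then (bif Nat.ble 83 c then cST_83 else cST_82) else (bif Nat.ble 81 c then cST_81 else cST_80))))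
def sST_0_6 (c : Nat) : Nat := (bif Nat.ble 104 c then (bif Nat.ble 108 c then (bif Nat.ble 110 c then (bif Nat.ble 111 c then cST_111 else cST_110) else (bif Nat.ble 109 c then cST_109 else cST_108)) else (bif Nat.ble 106 c then (bif Nat.ble 107 c then cST_107 else cST_106) else (bif Nat.ble 105 c then cST_105 else cST_104))) else (bif Nat.ble 100 c then (bif Nat.ble 102 c then (bif Nat.ble 103 c then cST_103 else cST_102) else (bif Nat.ble 101 c then cST_101 else cST_100)) else (bif Nat.ble 98 c then (bif Nat.ble 99 c then cST_99 else cST_98) else (bif Nat.ble 97 c then cST_97 else cST_96))))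
def sST_0_7 (c : Nat) : Nat := (bif Nat.ble 120 c then (bif Nat.ble 124 c then (bif Nat.ble 126 c then (bif Nat.ble 127 c then cST_127 else cST_126) else (bif Nat.ble 125 c then cST_125 else cST_124)) else (bif Nat.ble 122 c then (bif Nat.ble 123 c then cST_123 else cST_122) else (bif Nat.ble 121 c then cST_121 else cST_120))) else (bif Nat.ble 116 c then (bif Nat.ble 118 c then (bif Nat.ble 119 c then cST_119 else cST_118) else (bif Nat.ble 117 c then cST_117 else cST_116)) else (bif Nat.ble 114 c then (bif Nat.ble 115 c then cST_115 else cST_114) else (bif Nat.ble 113 c then cST_113 else cST_112))))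
def sST_0_8 (c : Nat) : Nat := (bif Nat.ble 136 c then (bif Nat.ble 140 c then (bif Nat.ble 142 c then (bif Nat.ble 143 c then cST_143 else cST_142) else (bif Nat.ble 141 c then cST_141 else cST_140)) else (bif Nat.ble 138 c then (bif Nat.ble 139 c then cST_139 else cST_138) else (bif Nat.ble 137 c then cST_137 else cST_136))) else (bif Nat.ble 132 c then (bif Nat.ble 134 c then (bif Nat.ble 135 c then cST_135 else cST_134) else (bif Nat.ble 133 c then cST_133 else cST_132)) else (bif Nat.ble 130 c then (bif Nat.ble 131 c then cST_131 else cST_130) else (bif Nat.ble 129 c then cST_129 else cST_128))))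
def sST_0_9 (c : Nat) : Nat := (bif Nat.ble 152 c then (bif Nat.ble 156 c then (bif Nat.ble 158 c then (bif Nat.ble 159 c then cST_159 else cST_158) else (bif Nat.ble 157 c then cST_157 else cST_156)) else (bif Nat.ble 154 c then (bif Nat.ble 155 c then cST_155 else cST_154) else (bif Nat.ble 153 c then cST_153 else cST_152))) else (bif Nat.ble 148 c then (bif Nat.ble 150 c then (bif Nat.ble 151 c then cST_151 else cST_150) else (bif Nat.ble 149 c then cST_149 else cST_148)) else (bif Nat.ble 146 c then (bif Nat.ble 147 c then cST_147 else cST_146) else (bif Nat.ble 145 c then cST_145 else cST_144))))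
def sST_0_10 (c : Nat) : Nat := (bif Nat.ble 168 c then (bif Nat.ble 172 c then (bif Nat.ble 174 c then (bif Nat.ble 175 c then cST_175 else cST_174) else (bif Nat.ble 173 c then cST_173 else cST_172)) else (bif Nat.ble 170 c then (bif Nat.ble 171 c then cST_171 else cST_170) else (bif Nat.ble 169 c then cST_169 else cST_168))) else (bif Nat.ble 164 c then (bif Nat.ble 166 c then (bif Nat.ble 167 c then cST_167 else cST_166) else (bif Nat.ble 165 c then cST_165 else cST_164)) else (bif Nat.ble 162 c then (bif Nat.ble 163 c then cST_163 else cST_162) else (bif Nat.ble 161 c then cST_161 else cST_160))))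
def sST_0_11 (c : Nat) : Nat := (bif Nat.ble 184 c then (bif Nat.ble 188 c then (bif Nat.ble 190 c then (bif Nat.ble 191 c then cST_191 else cST_190) else (bif Nat.ble 189 c then cST_189 else cST_188)) else (bif Nat.ble 186 c then (bif Nat.ble 187 c then cST_187 else cST_186) else (bif Nat.ble 185 c then cST_185 else cST_184))) else (bif Nat.ble 180 c then (bif Nat.ble 182 c then (bif Nat.ble 183 c then cST_183 else cST_182) else (bif Nat.ble 181 c then cST_181 else cST_180)) else (bif Nat.ble 178 c then (bif Nat.ble 179 c then cST_179 else cST_178) else (bif Nat.ble 177 c then cST_177 else cST_176))))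
def sST_0_12 (c : Nat) : Nat := (bif Nat.ble 200 c then (bif Nat.ble 204 c then (bif Nat.ble 206 c then (bif Nat.ble 207 c then cST_207 else cST_206) else (bif Nat.ble 205 c then cST_205 else cST_204)) else (bif Nat.ble 202 c then (bif Nat.ble 203 c then cST_203 else cST_202) else (bif Nat.ble 201 c then cST_201 else cST_200))) else (bif Nat.ble 196 c then (bif Nat.ble 198 c then (bif Nat.ble 199 c then cST_199 else cST_198) else (bif Nat.ble 197 c then cST_197 else cST_196)) else (bif Nat.ble 194 c then (bif Nat.ble 195 c then cST_195 else cST_194) else (bif Nat.ble 193 c then cST_193 else cST_192))))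
def sST_0_13 (c : Nat) : Nat := (bif Nat.ble 216 c then (bif Nat.ble 220 c then (bif Nat.ble 222 c then (bif Nat.ble 223 c then cST_223 else cST_222) else (bif Nat.ble 221 c then cST_221 else cST_220)) else (bif Nat.ble 218 c then (bif Nat.ble 219 c then cST_219 else cST_218) else (bif Nat.ble 217 c then cST_217 else cST_216))) else (bif Nat.ble 212 c then (bif Nat.ble 214 c then (bif Nat.ble 215 c then cST_215 else cST_214) else (bif Nat.ble 213 c then cST_213 else cST_212)) else (bif Nat.ble 210 c then (bif Nat.ble 211 c then cST_211 else cST_210) else (bif Nat.ble 209 c then cST_209 else cST_208))))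
def sST_0_14 (c : Nat) : Nat := (bif Nat.ble 232 c then (bif Nat.ble 236 c then (bif Nat.ble 238 c then (bif Nat.ble 239 c then cST_239 else cST_238) else (bif Nat.ble 237 c then cST_237 else cST_236)) else (bif Nat.ble 234 c then (bif Nat.ble 235 c then cST_235 else cST_234) else (bif Nat.ble 233 c then cST_233 else cST_232))) else (bif Nat.ble 228 c then (bif Nat.ble 230 c then (bif Nat.ble 231 c then cST_231 else cST_230) else (bif Nat.ble 229 c then cST_229 else cST_228)) else (bif Nat.ble 226 c then (bif Nat.ble 227 c then cST_227 else cST_226) else (bif Nat.ble 225 c then cST_225 else cST_224))))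
def sST_0_15 (c : Nat) : Nat := (bif Nat.ble 248 c then (bif Nat.ble 252 c then (bif Nat.ble 254 c then (bif Nat.ble 255 c then cST_255 else cST_254) else (bif Nat.ble 253 c then cST_253 else cST_252)) else (bif Nat.ble 250 c then (bif Nat.ble 251 c then cST_251 else cST_250) else (bif Nat.ble 249 c then cST_249 else cST_248))) else (bif Nat.ble 244 c then (bif Nat.ble 246 c then (bif Nat.ble 247 c then cST_247 else cST_246) else (bif Nat.ble 245 c then cST_245 else cST_244)) else (bif Nat.ble 242 c then (bif Nat.ble 243 c then cST_243 else cST_242) else (bif Nat.ble 241 c then cST_241 else cST_240))))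
def sST_0_16 (c : Nat) : Nat := (bif Nat.ble 264 c then (bif Nat.ble 268 c then (bif Nat.ble 270 c then (bif Nat.ble 271 c then cST_271 else cST_270) else (bif Nat.ble 269 c then cST_269 else cST_268)) else (bif Nat.ble 266 c then (bif Nat.ble 267 c then cST_267 else cST_266) else (bif Nat.ble 265 c then cST_265 else cST_264))) else (bif Nat.ble 260 c then (bif Nat.ble 262 c then (bif Nat.ble 263 c then cST_263 else cST_262) else (bif Nat.ble 261 c then cST_261 else cST_260)) else (bif Nat.ble 258 c then (bif Nat.ble 259 c then cST_259 else cST_258) else (bif Nat.ble 257 c then cST_257 else cST_256))))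
def sST_0_17 (c : Nat) : Nat := (bif Nat.ble 280 c then (bif Nat.ble 284 c then (bif Nat.ble 286 c then (bif Nat.ble 287 c then cST_287 else cST_286) else (bif Nat.ble 285 c then cST_285 else cST_284)) else (bif Nat.ble 282 c then (bif Nat.ble 283 c then cST_283 else cST_282) else (bif Nat.ble 281 c then cST_281 else cST_280))) else (bif Nat.ble 276 c then (bif Nat.ble 278 c then (bif Nat.ble 279 c then cST_279 else cST_278) else (bif Nat.ble 277 c then cST_277 else cST_276)) else (bif Nat.ble 274 c then (bif Nat.ble 275 c then cST_275 else cST_274) else (bif Nat.ble 273 c then cST_273 else cST_272))))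
def sST_0_18 (c : Nat) : Nat := (bif Nat.ble 296 c then (bif Nat.ble 300 c then (bif Nat.ble 302 c then (bif Nat.ble 303 c then cST_303 else cST_302) else (bif Nat.ble 301 c then cST_301 else cST_300)) else (bif Nat.ble 298 c then (bif Nat.ble 299 c then cST_299 else cST_298) else (bif Nat.ble 297 c then cST_297 else cST_296))) else (bif Nat.ble 292 c then (bif Nat.ble 294 c then (bif Nat.ble 295 c then cST_295 else cST_294) else (bif Nat.ble 293 c then cST_293 else cST_292)) else (bif Nat.ble 290 c then (bif Nat.ble 291 c then cST_291 else cST_290) else (bif Nat.ble 289 c then cST_289 else cST_288))))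
def sST_0_19 (c : Nat) : Nat := (bif Nat.ble 312 c then (bif Nat.ble 316 c then (bif Nat.ble 318 c then (bif Nat.ble 319 c then cST_319 else cST_318) else (bif Nat.ble 317 c then cST_317 else cST_316)) else (bif Nat.ble 314 c then (bif Nat.ble 315 c then cST_315 else cST_314) else (bif Nat.ble 313 c then cST_313 else cST_312))) else (bif Nat.ble 308 c then (bif Nat.ble 310 c then (bif Nat.ble 311 c then cST_311 else cST_310) else (bif Nat.ble 309 c then cST_309 else cST_308)) else (bif Nat.ble 306 c then (bif Nat.ble 307 c then cST_307 else cST_306) else (bif Nat.ble 305 c then cST_305 else cST_304))))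
def sST_0_20 (c : Nat) : Nat := (bif Nat.ble 328 c then (bif Nat.ble 332 c then (bif Nat.ble 334 c then (bif Nat.ble 335 c then cST_335 else cST_334) else (bif Nat.ble 333 c then cST_333 else cST_332)) else (bif Nat.ble 330 c then (bif Nat.ble 331 c then cST_331 else cST_330) else (bif Nat.ble 329 c then cST_329 else cST_328))) else (bif Nat.ble 324 c then (bif Nat.ble 326 c then (bif Nat.ble 327 c then cST_327 else cST_326) else (bif Nat.ble 325 c then cST_325 else cST_324)) else (bif Nat.ble 322 c then (bif Nat.ble 323 c then cST_323 else cST_322) else (bif Nat.ble 321 c then cST_321 else cST_320))))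
def sST_0_21 (c : Nat) : Nat := (bif Nat.ble 344 c then (bif Nat.ble 348 c then (bif Nat.ble 350 c then (bif Nat.ble 351 c then cST_351 else cST_350) else (bif Nat.ble 349 c then cST_349 else cST_348)) else (bif Nat.ble 346 c then (bif Nat.ble 347 c then cST_347 else cST_346) else (bif Nat.ble 345 c then cST_345 else cST_344))) else (bif Nat.ble 340 c then (bif Nat.ble 342 c then (bif Nat.ble 343 c then cST_343 else cST_342) else (bif Nat.ble 341 c then cST_341 else cST_340)) else (bif Nat.ble 338 c then (bif Nat.ble 339 c then cST_339 else cST_338) else (bif Nat.ble 337 c then cST_337 else cST_336))))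
def sST_0_22 (c : Nat) : Nat := (bif Nat.ble 360 c then (bif Nat.ble 364 c then (bif Nat.ble 366 c then (bif Nat.ble 367 c then cST_367 else cST_366) else (bif Nat.ble 365 c then cST_365 else cST_364)) else (bif Nat.ble 362 c then (bif Nat.ble 363 c then cST_363 else cST_362) else (bif Nat.ble 361 c then cST_361 else cST_360))) else (bif Nat.ble 356 c then (bif Nat.ble 358 c then (bif Nat.ble 359 c then cST_359 else cST_358) else (bif Nat.ble 357 c then cST_357 else cST_356)) else (bif Nat.ble 354 c then (bif Nat.ble 355 c then cST_355 else cST_354) else (bif Nat.ble 353 c then cST_353 else cST_352))))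
def sST_0_23 (c : Nat) : Nat := (bif Nat.ble 376 c then (bif Nat.ble 380 c then (bif Nat.ble 382 c then (bif Nat.ble 383 c then cST_383 else cST_382) else (bif Nat.ble 381 c then cST_381 else cST_380)) else (bif Nat.ble 378 c then (bif Nat.ble 379 c then cST_379 else cST_378) else (bif Nat.ble 377 c then cST_377 else cST_376))) else (bif Nat.ble 372 c then (bif Nat.ble 374 c then (bif Nat.ble 375 c then cST_375 else cST_374) else (bif Nat.ble 373 c then cST_373 else cST_372)) else (bif Nat.ble 370 c then (bif Nat.ble 371 c then cST_371 else cST_370) else (bif Nat.ble 369 c then cST_369 else cST_368))))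
def sST_0_24 (c : Nat) : Nat := (bif Nat.ble 392 c then (bif Nat.ble 396 c then (bif Nat.ble 398 c then (bif Nat.ble 399 c then cST_399 else cST_398) else (bif Nat.ble 397 c then cST_397 else cST_396)) else (bif Nat.ble 394 c then (bif Nat.ble 395 c then cST_395 else cST_394) else (bif Nat.ble 393 c then cST_393 else cST_392))) else (bif Nat.ble 388 c then (bif Nat.ble 390 c then (bif Nat.ble 391 c then cST_391 else cST_390) else (bif Nat.ble 389 c then cST_389 else cST_388)) else (bif Nat.ble 386 c then (bif Nat.ble 387 c then cST_387 else cST_386) else (bif Nat.ble 385 c then cST_385 else cST_384))))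
def sST_0_25 (c : Nat) : Nat := (bif Nat.ble 408 c then (bif Nat.ble 412 c then (bif Nat.ble 414 c then (bif Nat.ble 415 c then cST_415 else cST_414) else (bif Nat.ble 413 c then cST_413 else cST_412)) else (bif Nat.ble 410 c then (bif Nat.ble 411 c then cST_411 else cST_410) else (bif Nat.ble 409 c then cST_409 else cST_408))) else (bif Nat.ble 404 c then (bif Nat.ble 406 c then (bif Nat.ble 407 c then cST_407 else cST_406) else (bif Nat.ble 405 c then cST_405 else cST_404)) else (bif Nat.ble 402 c then (bif Nat.ble 403 c then cST_403 else cST_402) else (bif Nat.ble 401 c then cST_401 else cST_400))))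
def sST_0_26 (c : Nat) : Nat := (bif Nat.ble 424 c then (bif Nat.ble 428 c then (bif Nat.ble 430 c then (bif Nat.ble 431 c then cST_431 else cST_430) else (bif Nat.ble 429 c then cST_429 else cST_428)) else (bif Nat.ble 426 c then (bif Nat.ble 427 c then cST_427 else cST_426) else (bif Nat.ble 425 c then cST_425 else cST_424))) else (bif Nat.ble 420 c then (bif Nat.ble 422 c then (bif Nat.ble 423 c then cST_423 else cST_422) else (bif Nat.ble 421 c then cST_421 else cST_420)) else (bif Nat.ble 418 c then (bif Nat.ble 419 c then cST_419 else cST_418) else (bif Nat.ble 417 c then cST_417 else cST_416))))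
def sST_0_27 (c : Nat) : Nat := (bif Nat.ble 440 c then (bif Nat.ble 444 c then (bif Nat.ble 446 c then (bif Nat.ble 447 c then cST_447 else cST_446) else (bif Nat.ble 445 c then cST_445 else cST_444)) else (bif Nat.ble 442 c then (bif Nat.ble 443 c then cST_443 else cST_442) else (bif Nat.ble 441 c then cST_441 else cST_440))) else (bif Nat.ble 436 c then (bif Nat.ble 438 c then (bif Nat.ble 439 c then cST_439 else cST_438) else (bif Nat.ble 437 c then cST_437 else cST_436)) else (bif Nat.ble 434 c then (bif Nat.ble 435 c then cST_435 else cST_434) else (bif Nat.ble 433 c then cST_433 else cST_432))))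
def sST_0_28 (c : Nat) : Nat := (bif Nat.ble 456 c then (bif Nat.ble 460 c then (bif Nat.ble 462 c then (bif Nat.ble 463 c then cST_463 else cST_462) else (bif Nat.ble 461 c then cST_461 else cST_460)) else (bif Nat.ble 458 c then (bif Nat.ble 459 c then cST_459 else cST_458) else (bif Nat.ble 457 c then cST_457 else cST_456))) else (bif Nat.ble 452 c then (bif Nat.ble 454 c then (bif Nat.ble 455 c then cST_455 else cST_454) else (bif Nat.ble 453 c then cST_453 else cST_452)) else (bif Nat.ble 450 c then (bif Nat.ble 451 c then cST_451 else cST_450) else (bif Nat.ble 449 c then cST_449 else cST_448))))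
def sST_0_29 (c : Nat) : Nat := (bif Nat.ble 472 c then (bif Nat.ble 476 c then (bif Nat.ble 478 c then (bif Nat.ble 479 c then cST_479 else cST_478) else (bif Nat.ble 477 c then cST_477 else cST_476)) else (bif Nat.ble 474 c then (bif Nat.ble 475 c then cST_475 else cST_474) else (bif Nat.ble 473 c then cST_473 else cST_472))) else (bif Nat.ble 468 c then (bif Nat.ble 470 c then (bif Nat.ble 471 c then cST_471 else cST_470) else (bif Nat.ble 469 c then cST_469 else cST_468)) else (bif Nat.ble 466 c then (bif Nat.ble 467 c then cST_467 else cST_466) else (bif Nat.ble 465 c then cST_465 else cST_464))))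
def sST_0_30 (c : Nat) : Nat := (bif Nat.ble 488 c then (bif Nat.ble 492 c then (bif Nat.ble 494 c then (bif Nat.ble 495 c then cST_495 else cST_494) else (bif Nat.ble 493 c then cST_493 else cST_492)) else (bif Nat.ble 490 c then (bif Nat.ble 491 c then cST_491 else cST_490) else (bif Nat.ble 489 c then cST_489 else cST_488))) else (bif Nat.ble 484 c then (bif Nat.ble 486 c then (bif Nat.ble 487 c then cST_487 else cST_486) else (bif Nat.ble 485 c then cST_485 else cST_484)) else (bif Nat.ble 482 c then (bif Nat.ble 483 c then cST_483 else cST_482) else (bif Nat.ble 481 c then cST_481 else cST_480))))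
def sST_0_31 (c : Nat) : Nat := (bif Nat.ble 504 c then (bif Nat.ble 508 c then (bif Nat.ble 510 c then (bif Nat.ble 511 c then cST_511 else cST_510) else (bif Nat.ble 509 c then cST_509 else cST_508)) else (bif Nat.ble 506 c then (bif Nat.ble 507 c then cST_507 else cST_506) else (bif Nat.ble 505 c then cST_505 else cST_504))) else (bif Nat.ble 500 c then (bif Nat.ble 502 c then (bif Nat.ble 503 c then cST_503 else cST_502) else (bif Nat.ble 501 c then cST_501 else cST_500)) else (bif Nat.ble 498 c then (bif Nat.ble 499 c then cST_499 else cST_498) else (bif Nat.ble 497 c then cST_497 else cST_496))))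
def sST_0_32 (c : Nat) : Nat := (bif Nat.ble 520 c then (bif Nat.ble 524 c then (bif Nat.ble 526 c then (bif Nat.ble 527 c then cST_527 else cST_526) else (bif Nat.ble 525 c then cST_525 else cST_524)) else (bif Nat.ble 522 c then (bif Nat.ble 523 c then cST_523 else cST_522) else (bif Nat.ble 521 c then cST_521 else cST_520))) else (bif Nat.ble 516 c then (bif Nat.ble 518 c then (bif Nat.ble 519 c then cST_519 else cST_518) else (bif Nat.ble 517 c then cST_517 else cST_516)) else (bif Nat.ble 514 c then (bif Nat.ble 515 c then cST_515 else cST_514) else (bif Nat.ble 513 c then cST_513 else cST_512))))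
def sST_0_33 (c : Nat) : Nat := (bif Nat.ble 536 c then (bif Nat.ble 540 c then (bif Nat.ble 542 c then (bif Nat.ble 543 c then cST_543 else cST_542) else (bif Nat.ble 541 c then cST_541 else cST_540)) else (bif Nat.ble 538 c then (bif Nat.ble 539 c then cST_539 else cST_538) else (bif Nat.ble 537 c then cST_537 else cST_536))) else (bif Nat.ble 532 c then (bif Nat.ble 534 c then (bif Nat.ble 535 c then cST_535 else cST_534) else (bif Nat.ble 533 c then cST_533 else cST_532)) else (bif Nat.ble 530 c then (bif Nat.ble 531 c then cST_531 else cST_530) else (bif Nat.ble 529 c then cST_529 else cST_528))))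
def sST_0_34 (c : Nat) : Nat := (bif Nat.ble 552 c then (bif Nat.ble 556 c then (bif Nat.ble 558 c then (bif Nat.ble 559 c then cST_559 else cST_558) else (bif Nat.ble 557 c then cST_557 else cST_556)) else (bif Nat.ble 554 c then (bif Nat.ble 555 c then cST_555 else cST_554) else (bif Nat.ble 553 c then cST_553 else cST_552))) else (bif Nat.ble 548 c then (bif Nat.ble 550 c then (bif Nat.ble 551 c then cST_551 else cST_550) else (bif Nat.ble 549 c then cST_549 else cST_548)) else (bif Nat.ble 546 c then (bif Nat.ble 547 c then cST_547 else cST_546) else (bif Nat.ble 545 c then cST_545 else cST_544))))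
def sST_0_35 (c : Nat) : Nat := (bif Nat.ble 568 c then (bif Nat.ble 572 c then (bif Nat.ble 574 c then (bif Nat.ble 575 c then cST_575 else cST_574) else (bif Nat.ble 573 c then cST_573 else cST_572)) else (bif Nat.ble 570 c then (bif Nat.ble 571 c then cST_571 else cST_570) else (bif Nat.ble 569 c then cST_569 else cST_568))) else (bif Nat.ble 564 c then (bif Nat.ble 566 c then (bif Nat.ble 567 c then cST_567 else cST_566) else (bif Nat.ble 565 c then cST_565 else cST_564)) else (bif Nat.ble 562 c then (bif Nat.ble 563 c then cST_563 else cST_562) else (bif Nat.ble 561 c then cST_561 else cST_560))))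
def sST_0_36 (c : Nat) : Nat := (bif Nat.ble 584 c then (bif Nat.ble 588 c then (bif Nat.ble 590 c then (bif Nat.ble 591 c then cST_591 else cST_590) else (bif Nat.ble 589 c then cST_589 else cST_588)) else (bif Nat.ble 586 c then (bif Nat.ble 587 c then cST_587 else cST_586) else (bif Nat.ble 585 c then cST_585 else cST_584))) else (bif Nat.ble 580 c then (bif Nat.ble 582 c then (bif Nat.ble 583 c then cST_583 else cST_582) else (bif Nat.ble 581 c then cST_581 else cST_580)) else (bif Nat.ble 578 c then (bif Nat.ble 579 c then cST_579 else cST_578) else (bif Nat.ble 577 c then cST_577 else cST_576))))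
def sST_0_37 (c : Nat) : Nat := (bif Nat.ble 600 c then (bif Nat.ble 604 c then (bif Nat.ble 606 c then (bif Nat.ble 607 c then cST_607 else cST_606) else (bif Nat.ble 605 c then cST_605 else cST_604)) else (bif Nat.ble 602 c then (bif Nat.ble 603 c then cST_603 else cST_602) else (bif Nat.ble 601 c then cST_601 else cST_600))) else (bif Nat.ble 596 c then (bif Nat.ble 598 c then (bif Nat.ble 599 c then cST_599 else cST_598) else (bif Nat.ble 597 c then cST_597 else cST_596)) else (bif Nat.ble 594 c then (bif Nat.ble 595 c then cST_595 else cST_594) else (bif Nat.ble 593 c then cST_593 else cST_592))))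
def sST_0_38 (c : Nat) : Nat := (bif Nat.ble 616 c then (bif Nat.ble 620 c then (bif Nat.ble 622 c then (bif Nat.ble 623 c then cST_623 else cST_622) else (bif Nat.ble 621 c then cST_621 else cST_620)) else (bif Nat.ble 618 c then (bif Nat.ble 619 c then cST_619 else cST_618) else (bif Nat.ble 617 c then cST_617 else cST_616))) else (bif Nat.ble 612 c then (bif Nat.ble 614 c then (bif Nat.ble 615 c then cST_615 else cST_614) else (bif Nat.ble 613 c then cST_613 else cST_612)) else (bif Nat.ble 610 c then (bif Nat.ble 611 c then cST_611 else cST_610) else (bif Nat.ble 609 c then cST_609 else cST_608))))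
def sST_0_39 (c : Nat) : Nat := (bif Nat.ble 632 c then (bif Nat.ble 636 c then (bif Nat.ble 638 c then (bif Nat.ble 639 c then cST_639 else cST_638) else (bif Nat.ble 637 c then cST_637 else cST_636)) else (bif Nat.ble 634 c then (bif Nat.ble 635 c then cST_635 else cST_634) else (bif Nat.ble 633 c then cST_633 else cST_632))) else (bif Nat.ble 628 c then (bif Nat.ble 630 c then (bif Nat.ble 631 c then cST_631 else cST_630) else (bif Nat.ble 629 c then cST_629 else cST_628)) else (bif Nat.ble 626 c then (bif Nat.ble 627 c then cST_627 else cST_626) else (bif Nat.ble 625 c then cST_625 else cST_624))))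
def sST_0_40 (c : Nat) : Nat := (bif Nat.ble 648 c then (bif Nat.ble 652 c then (bif Nat.ble 654 c then (bif Nat.ble 655 c then cST_655 else cST_654) else (bif Nat.ble 653 c then cST_653 else cST_652)) else (bif Nat.ble 650 c then (bif Nat.ble 651 c then cST_651 else cST_650) else (bif Nat.ble 649 c then cST_649 else cST_648))) else (bif Nat.ble 644 c then (bif Nat.ble 646 c then (bif Nat.ble 647 c then cST_647 else cST_646) else (bif Nat.ble 645 c then cST_645 else cST_644)) else (bif Nat.ble 642 c then (bif Nat.ble 643 c then cST_643 else cST_642) else (bif Nat.ble 641 c then cST_641 else cST_640))))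
def sST_0_41 (c : Nat) : Nat := (bif Nat.ble 664 c then (bif Nat.ble 668 c then (bif Nat.ble 670 c then (bif Nat.ble 671 c then cST_671 else cST_670) else (bif Nat.ble 669 c then cST_669 else cST_668)) else (bif Nat.ble 666 c then (bif Nat.ble 667 c then cST_667 else cST_666) else (bif Nat.ble 665 c then cST_665 else cST_664))) else (bif Nat.ble 660 c then (bif Nat.ble 662 c then (bif Nat.ble 663 c then cST_663 else cST_662) else (bif Nat.ble 661 c then cST_661 else cST_660)) else (bif Nat.ble 658 c then (bif Nat.ble 659 c then cST_659 else cST_658) else (bif Nat.ble 657 c then cST_657 else cST_656))))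
def sST_0_42 (c : Nat) : Nat := (bif Nat.ble 680 c then (bif Nat.ble 684 c then (bif Nat.ble 686 c then (bif Nat.ble 687 c then cST_687 else cST_686) else (bif Nat.ble 685 c then cST_685 else cST_684)) else (bif Nat.ble 682 c then (bif Nat.ble 683 c then cST_683 else cST_682) else (bif Nat.ble 681 c then cST_681 else cST_680))) else (bif Nat.ble 676 c then (bif Nat.ble 678 c then (bif Nat.ble 679 c then cST_679 else cST_678) else (bif Nat.ble 677 c then cST_677 else cST_676)) else (bif Nat.ble 674 c then (bif Nat.ble 675 c then cST_675 else cST_674) else (bif Nat.ble 673 c then cST_673 else cST_672))))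
def sST_0_43 (c : Nat) : Nat := (bif Nat.ble 696 c then (bif Nat.ble 700 c then (bif Nat.ble 702 c then (bif Nat.ble 703 c then cST_703 else cST_702) else (bif Nat.ble 701 c then cST_701 else cST_700)) else (bif Nat.ble 698 c then (bif Nat.ble 699 c then cST_699 else cST_698) else (bif Nat.ble 697 c then cST_697 else cST_696))) else (bif Nat.ble 692 c then (bif Nat.ble 694 c then (bif Nat.ble 695 c then cST_695 else cST_694) else (bif Nat.ble 693 c then cST_693 else cST_692)) else (bif Nat.ble 690 c then (bif Nat.ble 691 c then cST_691 else cST_690) else (bif Nat.ble 689 c then cST_689 else cST_688))))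
def sST_0_44 (c : Nat) : Nat := (bif Nat.ble 712 c then (bif Nat.ble 716 c then (bif Nat.ble 718 c then (bif Nat.ble 719 c then cST_719 else cST_718) else (bif Nat.ble 717 c then cST_717 else cST_716)) else (bif Nat.ble 714 c then (bif Nat.ble 715 c then cST_715 else cST_714) else (bif Nat.ble 713 c then cST_713 else cST_712))) else (bif Nat.ble 708 c then (bif Nat.ble 710 c then (bif Nat.ble 711 c then cST_711 else cST_710) else (bif Nat.ble 709 c then cST_709 else cST_708)) else (bif Nat.ble 706 c then (bif Nat.ble 707 c then cST_707 else cST_706) else (bif Nat.ble 705 c then cST_705 else cST_704))))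
def sST_0_45 (c : Nat) : Nat := (bif Nat.ble 728 c then (bif Nat.ble 732 c then (bif Nat.ble 734 c then (bif Nat.ble 735 c then cST_735 else cST_734) else (bif Nat.ble 733 c then cST_733 else cST_732)) else (bif Nat.ble 730 c then (bif Nat.ble 731 c then cST_731 else cST_730) else (bif Nat.ble 729 c then cST_729 else cST_728))) else (bif Nat.ble 724 c then (bif Nat.ble 726 c then (bif Nat.ble 727 c then cST_727 else cST_726) else (bif Nat.ble 725 c then cST_725 else cST_724)) else (bif Nat.ble 722 c then (bif Nat.ble 723 c then cST_723 else cST_722) else (bif Nat.ble 721 c then cST_721 else cST_720))))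
def sST_0_46 (c : Nat) : Nat := (bif Nat.ble 744 c then (bif Nat.ble 748 c then (bif Nat.ble 750 c then (bif Nat.ble 751 c then cST_751 else cST_750) else (bif Nat.ble 749 c then cST_749 else cST_748)) else (bif Nat.ble 746 c then (bif Nat.ble 747 c then cST_747 else cST_746) else (bif Nat.ble 745 c then cST_745 else cST_744))) else (bif Nat.ble 740 c then (bif Nat.ble 742 c then (bif Nat.ble 743 c then cST_743 else cST_742) else (bif Nat.ble 741 c then cST_741 else cST_740)) else (bif Nat.ble 738 c then (bif Nat.ble 739 c then cST_739 else cST_738) else (bif Nat.ble 737 c then cST_737 else cST_736))))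
def sST_0_47 (c : Nat) : Nat := (bif Nat.ble 760 c then (bif Nat.ble 764 c then (bif Nat.ble 766 c then (bif Nat.ble 767 c then cST_767 else cST_766) else (bif Nat.ble 765 c then cST_765 else cST_764)) else (bif Nat.ble 762 c then (bif Nat.ble 763 c then cST_763 else cST_762) else (bif Nat.ble 761 c then cST_761 else cST_760))) else (bif Nat.ble 756 c then (bif Nat.ble 758 c then (bif Nat.ble 759 c then cST_759 else cST_758) else (bif Nat.ble 757 c then cST_757 else cST_756)) else (bif Nat.ble 754 c then (bif Nat.ble 755 c then cST_755 else cST_754) else (bif Nat.ble 753 c then cST_753 else cST_752))))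
def sST_0_48 (c : Nat) : Nat := (bif Nat.ble 776 c then (bif Nat.ble 780 c then (bif Nat.ble 782 c then (bif Nat.ble 783 c then cST_783 else cST_782) else (bif Nat.ble 781 c then cST_781 else cST_780)) else (bif Nat.ble 778 c then (bif Nat.ble 779 c then cST_779 else cST_778) else (bif Nat.ble 777 c then cST_777 else cST_776))) else (bif Nat.ble 772 c then (bif Nat.ble 774 c then (bif Nat.ble 775 c then cST_775 else cST_774) else (bif Nat.ble 773 c then cST_773 else cST_772)) else (bif Nat.ble 770 c then (bif Nat.ble 771 c then cST_771 else cST_770) else (bif Nat.ble 769 c then cST_769 else cST_768))))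
def sST_0_49 (c : Nat) : Nat := (bif Nat.ble 792 c then (bif Nat.ble 796 c then (bif Nat.ble 798 c then (bif Nat.ble 799 c then cST_799 else cST_798) else (bif Nat.ble 797 c then cST_797 else cST_796)) else (bif Nat.ble 794 c then (bif Nat.ble 795 c then cST_795 else cST_794) else (bif Nat.ble 793 c then cST_793 else cST_792))) else (bif Nat.ble 788 c then (bif Nat.ble 790 c then (bif Nat.ble 791 c then cST_791 else cST_790) else (bif Nat.ble 789 c then cST_789 else cST_788)) else (bif Nat.ble 786 c then (bif Nat.ble 787 c then cST_787 else cST_786) else (bif Nat.ble 785 c then cST_785 else cST_784))))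
def sST_0_50 (c : Nat) : Nat := (bif Nat.ble 808 c then (bif Nat.ble 812 c then (bif Nat.ble 814 c then (bif Nat.ble 815 c then cST_815 else cST_814) else (bif Nat.ble 813 c then cST_813 else cST_812)) else (bif Nat.ble 810 c then (bif Nat.ble 811 c then cST_811 else cST_810) else (bif Nat.ble 809 c then cST_809 else cST_808))) else (bif Nat.ble 804 c then (bif Nat.ble 806 c then (bif Nat.ble 807 c then cST_807 else cST_806) else (bif Nat.ble 805 c then cST_805 else cST_804)) else (bif Nat.ble 802 c then (bif Nat.ble 803 c then cST_803 else cST_802) else (bif Nat.ble 801 c then cST_801 else cST_800))))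
def sST_0_51 (c : Nat) : Nat := (bif Nat.ble 824 c then (bif Nat.ble 828 c then (bif Nat.ble 830 c then (bif Nat.ble 831 c then cST_831 else cST_830) else (bif Nat.ble 829 c then cST_829 else cST_828)) else (bif Nat.ble 826 c then (bif Nat.ble 827 c then cST_827 else cST_826) else (bif Nat.ble 825 c then cST_825 else cST_824))) else (bif Nat.ble 820 c then (bif Nat.ble 822 c then (bif Nat.ble 823 c then cST_823 else cST_822) else (bif Nat.ble 821 c then cST_821 else cST_820)) else (bif Nat.ble 818 c then (bif Nat.ble 819 c then cST_819 else cST_818) else (bif Nat.ble 817 c then cST_817 else cST_816))))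
def sST_0_52 (c : Nat) : Nat := (bif Nat.ble 840 c then (bif Nat.ble 844 c then (bif Nat.ble 846 c then (bif Nat.ble 847 c then cST_847 else cST_846) else (bif Nat.ble 845 c then cST_845 else cST_844)) else (bif Nat.ble 842 c then (bif Nat.ble 843 c then cST_843 else cST_842) else (bif Nat.ble 841 c then cST_841 else cST_840))) else (bif Nat.ble 836 c then (bif Nat.ble 838 c then (bif Nat.ble 839 c then cST_839 else cST_838) else (bif Nat.ble 837 c then cST_837 else cST_836)) else (bif Nat.ble 834 c then (bif Nat.ble 835 c then cST_835 else cST_834) else (bif Nat.ble 833 c then cST_833 else cST_832))))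
def sST_0_53 (c : Nat) : Nat := (bif Nat.ble 856 c then (bif Nat.ble 860 c then (bif Nat.ble 862 c then (bif Nat.ble 863 c then cST_863 else cST_862) else (bif Nat.ble 861 c then cST_861 else cST_860)) else (bif Nat.ble 858 c then (bif Nat.ble 859 c then cST_859 else cST_858) else (bif Nat.ble 857 c then cST_857 else cST_856))) else (bif Nat.ble 852 c then (bif Nat.ble 854 c then (bif Nat.ble 855 c then cST_855 else cST_854) else (bif Nat.ble 853 c then cST_853 else cST_852)) else (bif Nat.ble 850 c then (bif Nat.ble 851 c then cST_851 else cST_850) else (bif Nat.ble 849 c then cST_849 else cST_848))))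
def sST_0_54 (c : Nat) : Nat := (bif Nat.ble 872 c then (bif Nat.ble 876 c then (bif Nat.ble 878 c then (bif Nat.ble 879 c then cST_879 else cST_878) else (bif Nat.ble 877 c then cST_877 else cST_876)) else (bif Nat.ble 874 c then (bif Nat.ble 875 c then cST_875 else cST_874) else (bif Nat.ble 873 c then cST_873 else cST_872))) else (bif Nat.ble 868 c then (bif Nat.ble 870 c then (bif Nat.ble 871 c then cST_871 else cST_870) else (bif Nat.ble 869 c then cST_869 else cST_868)) else (bif Nat.ble 866 c then (bif Nat.ble 867 c then cST_867 else cST_866) else (bif Nat.ble 865 c then cST_865 else cST_864))))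
def sST_0_55 (c : Nat) : Nat := (bif Nat.ble 888 c then (bif Nat.ble 892 c then (bif Nat.ble 894 c then (bif Nat.ble 895 c then cST_895 else cST_894) else (bif Nat.ble 893 c then cST_893 else cST_892)) else (bif Nat.ble 890 c then (bif Nat.ble 891 c then cST_891 else cST_890) else (bif Nat.ble 889 c then cST_889 else cST_888))) else (bif Nat.ble 884 c then (bif Nat.ble 886 c then (bif Nat.ble 887 c then cST_887 else cST_886) else (bif Nat.ble 885 c then cST_885 else cST_884)) else (bif Nat.ble 882 c then (bif Nat.ble 883 c then cST_883 else cST_882) else (bif Nat.ble 881 c then cST_881 else cST_880))))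
def sST_0_56 (c : Nat) : Nat := (bif Nat.ble 904 c then (bif Nat.ble 908 c then (bif Nat.ble 910 c then (bif Nat.ble 911 c then cST_911 else cST_910) else (bif Nat.ble 909 c then cST_909 else cST_908)) else (bif Nat.ble 906 c then (bif Nat.ble 907 c then cST_907 else cST_906) else (bif Nat.ble 905 c then cST_905 else cST_904))) else (bif Nat.ble 900 c then (bif Nat.ble 902 c then (bif Nat.ble 903 c then cST_903 else cST_902) else (bif Nat.ble 901 c then cST_901 else cST_900)) else (bif Nat.ble 898 c then (bif Nat.ble 899 c then cST_899 else cST_898) else (bif Nat.ble 897 c then cST_897 else cST_896))))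
def sST_0_57 (c : Nat) : Nat := (bif Nat.ble 920 c then (bif Nat.ble 924 c then (bif Nat.ble 926 c then (bif Nat.ble 927 c then cST_927 else cST_926) else (bif Nat.ble 925 c then cST_925 else cST_924)) else (bif Nat.ble 922 c then (bif Nat.ble 923 c then cST_923 else cST_922) else (bif Nat.ble 921 c then cST_921 else cST_920))) else (bif Nat.ble 916 c then (bif Nat.ble 918 c then (bif Nat.ble 919 c then cST_919 else cST_918) else (bif Nat.ble 917 c then cST_917 else cST_916)) else (bif Nat.ble 914 c then (bif Nat.ble 915 c then cST_915 else cST_914) else (bif Nat.ble 913 c then cST_913 else cST_912))))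
def sST_0_58 (c : Nat) : Nat := (bif Nat.ble 936 c then (bif Nat.ble 940 c then (bif Nat.ble 942 c then (bif Nat.ble 943 c then cST_943 else cST_942) else (bif Nat.ble 941 c then cST_941 else cST_940)) else (bif Nat.ble 938 c then (bif Nat.ble 939 c then cST_939 else cST_938) else (bif Nat.ble 937 c then cST_937 else cST_936))) else (bif Nat.ble 932 c then (bif Nat.ble 934 c then (bif Nat.ble 935 c then cST_935 else cST_934) else (bif Nat.ble 933 c then cST_933 else cST_932)) else (bif Nat.ble 930 c then (bif Nat.ble 931 c then cST_931 else cST_930) else (bif Nat.ble 929 c then cST_929 else cST_928))))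
def sST_0_59 (c : Nat) : Nat := (bif Nat.ble 952 c then (bif Nat.ble 956 c then (bif Nat.ble 958 c then (bif Nat.ble 959 c then cST_959 else cST_958) else (bif Nat.ble 957 c then cST_957 else cST_956)) else (bif Nat.ble 954 c then (bif Nat.ble 955 c then cST_955 else cST_954) else (bif Nat.ble 953 c then cST_953 else cST_952))) else (bif Nat.ble 948 c then (bif Nat.ble 950 c then (bif Nat.ble 951 c then cST_951 else cST_950) else (bif Nat.ble 949 c then cST_949 else cST_948)) else (bif Nat.ble 946 c then (bif Nat.ble 947 c then cST_947 else cST_946) else (bif Nat.ble 945 c then cST_945 else cST_944))))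
def sST_0_60 (c : Nat) : Nat := (bif Nat.ble 968 c then (bif Nat.ble 972 c then (bif Nat.ble 974 c then (bif Nat.ble 975 c then cST_975 else cST_974) else (bif Nat.ble 973 c then cST_973 else cST_972)) else (bif Nat.ble 970 c then (bif Nat.ble 971 c then cST_971 else cST_970) else (bif Nat.ble 969 c then cST_969 else cST_968))) else (bif Nat.ble 964 c then (bif Nat.ble 966 c then (bif Nat.ble 967 c then cST_967 else cST_966) else (bif Nat.ble 965 c then cST_965 else cST_964)) else (bif Nat.ble 962 c then (bif Nat.ble 963 c then cST_963 else cST_962) else (bif Nat.ble 961 c then cST_961 else cST_960))))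
def sST_0_61 (c : Nat) : Nat := (bif Nat.ble 984 c then (bif Nat.ble 988 c then (bif Nat.ble 990 c then (bif Nat.ble 991 c then cST_991 else cST_990) else (bif Nat.ble 989 c then cST_989 else cST_988)) else (bif Nat.ble 986 c then (bif Nat.ble 987 c then cST_987 else cST_986) else (bif Nat.ble 985 c then cST_985 else cST_984))) else (bif Nat.ble 980 c then (bif Nat.ble 982 c then (bif Nat.ble 983 c then cST_983 else cST_982) else (bif Nat.ble 981 c then cST_981 else cST_980)) else (bif Nat.ble 978 c then (bif Nat.ble 979 c then cST_979 else cST_978) else (bif Nat.ble 977 c then cST_977 else cST_976))))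
def sST_0_62 (c : Nat) : Nat := (bif Nat.ble 1000 c then (bif Nat.ble 1004 c then (bif Nat.ble 1006 c then (bif Nat.ble 1007 c then cST_1007 else cST_1006) else (bif Nat.ble 1005 c then cST_1005 else cST_1004)) else (bif Nat.ble 1002 c then (bif Nat.ble 1003 c then cST_1003 else cST_1002) else (bif Nat.ble 1001 c then cST_1001 else cST_1000))) else (bif Nat.ble 996 c then (bif Nat.ble 998 c then (bif Nat.ble 999 c then cST_999 else cST_998) else (bif Nat.ble 997 c then cST_997 else cST_996)) else (bif Nat.ble 994 c then (bif Nat.ble 995 c then cST_995 else cST_994) else (bif Nat.ble 993 c then cST_993 else cST_992))))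
def sST_0_63 (c : Nat) : Nat := (bif Nat.ble 1016 c then (bif Nat.ble 1020 c then (bif Nat.ble 1022 c then (bif Nat.ble 1023 c then cST_1023 else cST_1022) else (bif Nat.ble 1021 c then cST_1021 else cST_1020)) else (bif Nat.ble 1018 c then (bif Nat.ble 1019 c then cST_1019 else cST_1018) else (bif Nat.ble 1017 c then cST_1017 else cST_1016))) else (bif Nat.ble 1012 c then (bif Nat.ble 1014 c then (bif Nat.ble 1015 c then cST_1015 else cST_1014) else (bif Nat.ble 1013 c then cST_1013 else cST_1012)) else (bif Nat.ble 1010 c then (bif Nat.ble 1011 c then cST_1011 else cST_1010) else (bif Nat.ble 1009 c then cST_1009 else cST_1008))))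
def sST_0_64 (c : Nat) : Nat := (bif Nat.ble 1032 c then (bif Nat.ble 1036 c then (bif Nat.ble 1038 c then (bif Nat.ble 1039 c then cST_1039 else cST_1038) else (bif Nat.ble 1037 c then cST_1037 else cST_1036)) else (bif Nat.ble 1034 c then (bif Nat.ble 1035 c then cST_1035 else cST_1034) else (bif Nat.ble 1033 c then cST_1033 else cST_1032))) else (bif Nat.ble 1028 c then (bif Nat.ble 1030 c then (bif Nat.ble 1031 c then cST_1031 else cST_1030) else (bif Nat.ble 1029 c then cST_1029 else cST_1028)) else (bif Nat.ble 1026 c then (bif Nat.ble 1027 c then cST_1027 else cST_1026) else (bif Nat.ble 1025 c then cST_1025 else cST_1024))))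
def sST_0_65 (c : Nat) : Nat := (bif Nat.ble 1048 c then (bif Nat.ble 1052 c then (bif Nat.ble 1054 c then (bif Nat.ble 1055 c then cST_1055 else cST_1054) else (bif Nat.ble 1053 c then cST_1053 else cST_1052)) else (bif Nat.ble 1050 c then (bif Nat.ble 1051 c then cST_1051 else cST_1050) else (bif Nat.ble 1049 c then cST_1049 else cST_1048))) else (bif Nat.ble 1044 c then (bif Nat.ble 1046 c then (bif Nat.ble 1047 c then cST_1047 else cST_1046) else (bif Nat.ble 1045 c then cST_1045 else cST_1044)) else (bif Nat.ble 1042 c then (bif Nat.ble 1043 c then cST_1043 else cST_1042) else (bif Nat.ble 1041 c then cST_1041 else cST_1040))))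
def sST_0_66 (c : Nat) : Nat := (bif Nat.ble 1064 c then (bif Nat.ble 1068 c then (bif Nat.ble 1070 c then (bif Nat.ble 1071 c then cST_1071 else cST_1070) else (bif Nat.ble 1069 c then cST_1069 else cST_1068)) else (bif Nat.ble 1066 c then (bif Nat.ble 1067 c then cST_1067 else cST_1066) else (bif Nat.ble 1065 c then cST_1065 else cST_1064))) else (bif Nat.ble 1060 c then (bif Nat.ble 1062 c then (bif Nat.ble 1063 c then cST_1063 else cST_1062) else (bif Nat.ble 1061 c then cST_1061 else cST_1060)) else (bif Nat.ble 1058 c then (bif Nat.ble 1059 c then cST_1059 else cST_1058) else (bif Nat.ble 1057 c then cST_1057 else cST_1056))))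
def sST_0_67 (c : Nat) : Nat := (bif Nat.ble 1079 c then (bif Nat.ble 1082 c then (bif Nat.ble 1084 c then cST_1084 else (bif Nat.ble 1083 c then cST_1083 else cST_1082)) else (bif Nat.ble 1081 c then cST_1081 else (bif Nat.ble 1080 c then cST_1080 else cST_1079))) else (bif Nat.ble 1076 c then (bif Nat.ble 1078 c then cST_1078 else (bif Nat.ble 1077 c then cST_1077 else cST_1076)) else (bif Nat.ble 1074 c then (bif Nat.ble 1075 c then cST_1075 else cST_1074) else (bif Nat.ble 1073 c then cST_1073 else cST_1072))))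
def sST_1_0 (c : Nat) : Nat := (bif Nat.ble 128 c then (bif Nat.ble 192 c then (bif Nat.ble 224 c then (bif Nat.ble 240 c then sST_0_15 c else sST_0_14 c) else (bif Nat.ble 208 c then sST_0_13 c else sST_0_12 c)) else (bif Nat.ble 160 c then (bif Nat.ble 176 c then sST_0_11 c else sST_0_10 c) else (bif Nat.ble 144 c then sST_0_9 c else sST_0_8 c))) else (bif Nat.ble 64 c then (bif Nat.ble 96 c then (bif Nat.ble 112 c then sST_0_7 c else sST_0_6 c) else (bif Nat.ble 80 c then sST_0_5 c else sST_0_4 c)) else (bif Nat.ble 32 c then (bif Nat.ble 48 c then sST_0_3 c else sST_0_2 c) else (bif Nat.ble 16 c then sST_0_1 c else sST_0_0 c))))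
def sST_1_1 (c : Nat) : Nat := (bif Nat.ble 384 c then (bif Nat.ble 448 c then (bif Nat.ble 480 c then (bif Nat.ble 496 c then sST_0_31 c else sST_0_30 c) else (bif Nat.ble 464 c then sST_0_29 c else sST_0_28 c)) else (bif Nat.ble 416 c then (bif Nat.ble 432 c then sST_0_27 c else sST_0_26 c) else (bif Nat.ble 400 c then sST_0_25 c else sST_0_24 c))) else (bif Nat.ble 320 c then (bif Nat.ble 352 c then (bif Nat.ble 368 c then sST_0_23 c else sST_0_22 c) else (bif Nat.ble 336 c then sST_0_21 c else sST_0_20 c)) else (bif Nat.ble 288 c then (bif Nat.ble 304 c then sST_0_19 c else sST_0_18 c) else (bif Nat.ble 272 c then sST_0_17 c else sST_0_16 c))))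
def sST_1_2 (c : Nat) : Nat := (bif Nat.ble 640 c then (bif Nat.ble 704 c then (bif Nat.ble 736 c then (bif Nat.ble 752 c then sST_0_47 c else sST_0_46 c) else (bif Nat.ble 720 c then sST_0_45 c else sST_0_44 c)) else (bif Nat.ble 672 c then (bif Nat.ble 688 c then sST_0_43 c else sST_0_42 c) else (bif Nat.ble 656 c then sST_0_41 c else sST_0_40 c))) else (bif Nat.ble 576 c then (bif Nat.ble 608 c then (bif Nat.ble 624 c then sST_0_39 c else sST_0_38 c) else (bif Nat.ble 592 c then sST_0_37 c else sST_0_36 c)) else (bif Nat.ble 544 c then (bif Nat.ble 560 c then sST_0_35 c else sST_0_34 c) else (bif Nat.ble 528 c then sST_0_33 c else sST_0_32 c))))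
def sST_1_3 (c : Nat) : Nat := (bif Nat.ble 896 c then (bif Nat.ble 960 c then (bif Nat.ble 992 c then (bif Nat.ble 1008 c then sST_0_63 c else sST_0_62 c) else (bif Nat.ble 976 c then sST_0_61 c else sST_0_60 c)) else (bif Nat.ble 928 c then (bif Nat.ble 944 c then sST_0_59 c else sST_0_58 c) else (bif Nat.ble 912 c then sST_0_57 c else sST_0_56 c))) else (bif Nat.ble 832 c then (bif Nat.ble 864 c then (bif Nat.ble 880 c then sST_0_55 c else sST_0_54 c) else (bif Nat.ble 848 c then sST_0_53 c else sST_0_52 c)) else (bif Nat.ble 800 c then (bif Nat.ble 816 c then sST_0_51 c else sST_0_50 c) else (bif Nat.ble 784 c then sST_0_49 c else sST_0_48 c))))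
def sST_1_4 (c : Nat) : Nat := (bif Nat.ble 1056 c then (bif Nat.ble 1072 c then sST_0_67 c else sST_0_66 c) else (bif Nat.ble 1040 c then sST_0_65 c else sST_0_64 c))
def sST (c : Nat) : Nat := (bif Nat.ble 768 c then (bif Nat.ble 1024 c then sST_1_4 c else sST_1_3 c) else (bif Nat.ble 512 c then sST_1_2 c else (bif Nat.ble 256 c then sST_1_1 c else sST_1_0 c)))
def gST (i : Nat) : Nat := Nat.land (Nat.shiftRight (sST (Nat.shiftRight i 9)) (Nat.mul 19 (Nat.land i 511))) 524287
def sND_0_0 (c : Nat) : Nat := (bif Nat.ble 8 c then (bif Nat.ble 12 c then (bif Nat.ble 14 c then (bif Nat.ble 15 c then cND_15 else cND_14) else (bif Nat.ble 13 c then cND_13 else cND_12)) else (bif Nat.ble 10 c then (bif Nat.ble 11 c then cND_11 else cND_10) else (bif Nat.ble 9 c then cND_9 else cND_8))) else (bif Nat.ble 4 c then (bif Nat.ble 6 c then (bif Nat.ble 7 c then cND_7 else cND_6) else (bif Nat.ble 5 c then cND_5 else cND_4)) else (bif Nat.ble 2 c then (bif Nat.ble 3 c then cND_3 else cND_2) else (bif Nat.ble 1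 c then cND_1 else cND_0))))
def sND_0_1 (c : Nat) : Nat := (bif Nat.ble 24 c then (bif Nat.ble 28 c then (bif Nat.ble 30 c then (bif Nat.ble 31 c then cND_31 else cND_30) else (bif Nat.ble 29 c then cND_29 else cND_28)) else (bif Nat.ble 26 c then (bif Nat.ble 27 c then cND_27 else cND_26) else (bif Nat.ble 25 c then cND_25 else cND_24))) else (bif Nat.ble 20 c then (bif Nat.ble 22 c then (bif Nat.ble 23 c then cND_23 else cND_22) else (bif Nat.ble 21 c then cND_21 else cND_20)) else (bif Nat.ble 18 c then (bif Nat.ble 19 c then cND_19 else cND_18) else (bif Nat.ble 17 c then cND_17 else cND_16))))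
def sND_0_2 (c : Nat) : Nat := (bif Nat.ble 40 c then (bif Nat.ble 44 c then (bif Nat.ble 46 c then (bif Nat.ble 47 c then cND_47 else cND_46) else (bif Nat.ble 45 c then cND_45 else cND_44)) else (bif Nat.ble 42 c then (bif Nat.ble 43 c then cND_43 else cND_42) else (bif Nat.ble 41 c then cND_41 else cND_40))) else (bif Nat.ble 36 c then (bif Nat.ble 38 c then (bif Nat.ble 39 c then cND_39 else cND_38) else (bif Nat.ble 37 c then cND_37 else cND_36)) else (bif Nat.ble 34 c then (bif Nat.ble 35 c then cND_35 else cND_34) else (bif Nat.ble 33 c then cND_33 else cND_32))))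
def sND_0_3 (c : Nat) : Nat := (bif Nat.ble 56 c then (bif Nat.ble 60 c then (bif Nat.ble 62 c then (bif Nat.ble 63 c then cND_63 else cND_62) else (bif Nat.ble 61 c then cND_61 else cND_60)) else (bif Nat.ble 58 c then (bif Nat.ble 59 c then cND_59 else cND_58) else (bif Nat.ble 57 c then cND_57 else cND_56))) else (bif Nat.ble 52 c then (bif Nat.ble 54 c then (bif Nat.ble 55 c then cND_55 else cND_54) else (bif Nat.ble 53 c then cND_53 else cND_52)) else (bif Nat.ble 50 c then (bif Nat.ble 51 c then cND_51 else cND_50) else (bif Nat.ble 49 c then cND_49 else cND_48))))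
def sND_0_4 (c : Nat) : Nat := (bif Nat.ble 72 c then (bif Nat.ble 76 c then (bif Nat.ble 78 c then (bif Nat.ble 79 c then cND_79 else cND_78) else (bif Nat.ble 77 c then cND_77 else cND_76)) else (bif Nat.ble 74 c then (bif Nat.ble 75 c then cND_75 else cND_74) else (bif Nat.ble 73 c then cND_73 else cND_72))) else (bif Nat.ble 68 c then (bif Nat.ble 70 c then (bif Nat.ble 71 c then cND_71 else cND_70) else (bif Nat.ble 69 c then cND_69 else cND_68)) else (bif Nat.ble 66 c then (bif Nat.ble 67 c then cND_67 else cND_66) else (bif Nat.ble 65 c then cND_65 else cND_64))))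
def sND_0_5 (c : Nat) : Nat := (bif Nat.ble 84 c then (bif Nat.ble 86 c then (bif Nat.ble 87 c then cND_87 else cND_86) else (bif Nat.ble 85 c then cND_85 else cND_84)) else (bif Nat.ble 82 c then (bif Nat.ble 83 c then cND_83 else cND_82) else (bif Nat.ble 81 c then cND_81 else cND_80)))
def sND (c : Nat) : Nat := (bif Nat.ble 48 c then (bif Nat.ble 80 c then sND_0_5 c else (bif Nat.ble 64 c then sND_0_4 c else sND_0_3 c)) else (bif Nat.ble 32 c then sND_0_2 c else (bif Nat.ble 16 c then sND_0_1 c else sND_0_0 c)))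
def gND (i : Nat) : Nat := Nat.land (Nat.shiftRight (sND (Nat.shiftRight i 9)) (Nat.mul 20 (Nat.land i 511))) 1048575
def sFIN_0_0 (c : Nat) : Nat := (bif Nat.ble 8 c then (bif Nat.ble 12 c then (bif Nat.ble 14 c then (bif Nat.ble 15 c then cFIN_15 else cFIN_14) else (bif Nat.ble 13 c then cFIN_13 else cFIN_12)) else (bif Nat.ble 10 c then (bif Nat.ble 11 c then cFIN_11 else cFIN_10) else (bif Nat.ble 9 c then cFIN_9 else cFIN_8))) else (bif Nat.ble 4 c then (bif Nat.ble 6 c then (bif Nat.ble 7 c then cFIN_7 else cFIN_6) else (bif Nat.ble 5 c then cFIN_5 else cFIN_4)) else (bif Nat.ble 2 c then (bif Nat.ble 3 c then cFIN_3 else cFIN_2) else (bif Nat.ble 1 c then cFIN_1 else cFIN_0))))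
def sFIN_0_1 (c : Nat) : Nat := (bif Nat.ble 24 c then (bif Nat.ble 28 c then (bif Nat.ble 30 c then (bif Nat.ble 31 c then cFIN_31 else cFIN_30) else (bif Nat.ble 29 c then cFIN_29 else cFIN_28)) else (bif Nat.ble 26 c then (bif Nat.ble 27 c then cFIN_27 else cFIN_26) else (bif Nat.ble 25 c then cFIN_25 else cFIN_24))) else (bif Nat.ble 20 c then (bif Nat.ble 22 c then (bif Nat.ble 23 c then cFIN_23 else cFIN_22) else (bif Nat.ble 21 c then cFIN_21 else cFIN_20)) else (bif Nat.ble 18 c then (bif Nat.ble 19 c then cFIN_19 else cFIN_18) else (bif Nat.ble 17 c then cFIN_17 else cFIN_16))))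
def sFIN_0_2 (c : Nat) : Nat := (bif Nat.ble 40 c then (bif Nat.ble 44 c then (bif Nat.ble 46 c then (bif Nat.ble 47 c then cFIN_47 else cFIN_46) else (bif Nat.ble 45 c then cFIN_45 else cFIN_44)) else (bif Nat.ble 42 c then (bif Nat.ble 43 c then cFIN_43 else cFIN_42) else (bif Nat.ble 41 c then cFIN_41 else cFIN_40))) else (bif Nat.ble 36 c then (bif Nat.ble 38 c then (bif Nat.ble 39 c then cFIN_39 else cFIN_38) else (bif Nat.ble 37 c then cFIN_37 else cFIN_36)) else (bif Nat.ble 34 c then (bif Nat.ble 35 c then cFIN_35 else cFIN_34) else (bif Nat.ble 33 c then cFIN_33 else cFIN_32))))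
def sFIN_0_3 (c : Nat) : Nat := (bif Nat.ble 56 c then (bif Nat.ble 60 c then (bif Nat.ble 62 c then (bif Nat.ble 63 c then cFIN_63 else cFIN_62) else (bif Nat.ble 61 c then cFIN_61 else cFIN_60)) else (bif Nat.ble 58 c then (bif Nat.ble 59 c then cFIN_59 else cFIN_58) else (bif Nat.ble 57 c then cFIN_57 else cFIN_56))) else (bif Nat.ble 52 c then (bif Nat.ble 54 c then (bif Nat.ble 55 c then cFIN_55 else cFIN_54) else (bif Nat.ble 53 c then cFIN_53 else cFIN_52)) else (bif Nat.ble 50 c then (bif Nat.ble 51 c then cFIN_51 else cFIN_50) else (bif Nat.ble 49 c then cFIN_49 else cFIN_48))))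
def sFIN_0_4 (c : Nat) : Nat := (bif Nat.ble 72 c then (bif Nat.ble 76 c then (bif Nat.ble 78 c then (bif Nat.ble 79 c then cFIN_79 else cFIN_78) else (bif Nat.ble 77 c then cFIN_77 else cFIN_76)) else (bif Nat.ble 74 c then (bif Nat.ble 75 c then cFIN_75 else cFIN_74) else (bif Nat.ble 73 c then cFIN_73 else cFIN_72))) else (bif Nat.ble 68 c then (bif Nat.ble 70 c then (bif Nat.ble 71 c then cFIN_71 else cFIN_70) else (bif Nat.ble 69 c then cFIN_69 else cFIN_68)) else (bif Nat.ble 66 c then (bif Nat.ble 67 c then cFIN_67 else cFIN_66) else (bif Nat.ble 65 c then cFIN_65 else cFIN_64))))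
def sFIN_0_5 (c : Nat) : Nat := (bif Nat.ble 88 c then (bif Nat.ble 92 c then (bif Nat.ble 94 c then (bif Nat.ble 95 c then cFIN_95 else cFIN_94) else (bif Nat.ble 93 c then cFIN_93 else cFIN_92)) else (bif Nat.ble 90 c then (bif Nat.ble 91 c then cFIN_91 else cFIN_90) else (bif Nat.ble 89 c then cFIN_89 else cFIN_88))) else (bif Nat.ble 84 c then (bif Nat.ble 86 c then (bif Nat.ble 87 c then cFIN_87 else cFIN_86) else (bif Nat.ble 85 c then cFIN_85 else cFIN_84)) else (bif Nat.ble 82 c then (bif Nat.ble 83 c then cFIN_83 else cFIN_82) else (bif Nat.ble 81 c then cFIN_81 else cFIN_80))))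
def sFIN_0_6 (c : Nat) : Nat := (bif Nat.ble 104 c then (bif Nat.ble 108 c then (bif Nat.ble 110 c then (bif Nat.ble 111 c then cFIN_111 else cFIN_110) else (bif Nat.ble 109 c then cFIN_109 else cFIN_108)) else (bif Nat.ble 106 c then (bif Nat.ble 107 c then cFIN_107 else cFIN_106) else (bif Nat.ble 105 c then cFIN_105 else cFIN_104))) else (bif Nat.ble 100 c then (bif Nat.ble 102 c then (bif Nat.ble 103 c then cFIN_103 else cFIN_102) else (bif Nat.ble 101 c then cFIN_101 else cFIN_100)) else (bif Nat.ble 98 c then (bif Nat.ble 99 c then cFIN_99 else cFIN_98) else (bif Nat.ble 97 c then cFIN_97 else cFIN_96))))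
def sFIN_0_7 (c : Nat) : Nat := (bif Nat.ble 120 c then (bif Nat.ble 124 c then (bif Nat.ble 126 c then (bif Nat.ble 127 c then cFIN_127 else cFIN_126) else (bif Nat.ble 125 c then cFIN_125 else cFIN_124)) else (bif Nat.ble 122 c then (bif Nat.ble 123 c then cFIN_123 else cFIN_122) else (bif Nat.ble 121 c then cFIN_121 else cFIN_120))) else (bif Nat.ble 116 c then (bif Nat.ble 118 c then (bif Nat.ble 119 c then cFIN_119 else cFIN_118) else (bif Nat.ble 117 c then cFIN_117 else cFIN_116)) else (bif Nat.ble 114 c then (bif Nat.ble 115 c then cFIN_115 else cFIN_114) else (bif Nat.ble 113 c then cFIN_113 else cFIN_112))))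
def sFIN_0_8 (c : Nat) : Nat := (bif Nat.ble 136 c then (bif Nat.ble 140 c then (bif Nat.ble 142 c then (bif Nat.ble 143 c then cFIN_143 else cFIN_142) else (bif Nat.ble 141 c then cFIN_141 else cFIN_140)) else (bif Nat.ble 138 c then (bif Nat.ble 139 c then cFIN_139 else cFIN_138) else (bif Nat.ble 137 c then cFIN_137 else cFIN_136))) else (bif Nat.ble 132 c then (bif Nat.ble 134 c then (bif Nat.ble 135 c then cFIN_135 else cFIN_134) else (bif Nat.ble 133 c then cFIN_133 else cFIN_132)) else (bif Nat.ble 130 c then (bif Nat.ble 131 c then cFIN_131 else cFIN_130) else (bif Nat.ble 129 c then cFIN_129 else cFIN_128))))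
def sFIN_0_9 (c : Nat) : Nat := (bif Nat.ble 152 c then (bif Nat.ble 156 c then (bif Nat.ble 158 c then (bif Nat.ble 159 c then cFIN_159 else cFIN_158) else (bif Nat.ble 157 c then cFIN_157 else cFIN_156)) else (bif Nat.ble 154 c then (bif Nat.ble 155 c then cFIN_155 else cFIN_154) else (bif Nat.ble 153 c then cFIN_153 else cFIN_152))) else (bif Nat.ble 148 c then (bif Nat.ble 150 c then (bif Nat.ble 151 c then cFIN_151 else cFIN_150) else (bif Nat.ble 149 c then cFIN_149 else cFIN_148)) else (bif Nat.ble 146 c then (bif Nat.ble 147 c then cFIN_147 else cFIN_146) else (bif Nat.ble 145 c then cFIN_145 else cFIN_144))))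
def sFIN_0_10 (c : Nat) : Nat := (bif Nat.ble 168 c then (bif Nat.ble 172 c then (bif Nat.ble 174 c then (bif Nat.ble 175 c then cFIN_175 else cFIN_174) else (bif Nat.ble 173 c then cFIN_173 else cFIN_172)) else (bif Nat.ble 170 c then (bif Nat.ble 171 c then cFIN_171 else cFIN_170) else (bif Nat.ble 169 c then cFIN_169 else cFIN_168))) else (bif Nat.ble 164 c then (bif Nat.ble 166 c then (bif Nat.ble 167 c then cFIN_167 else cFIN_166) else (bif Nat.ble 165 c then cFIN_165 else cFIN_164)) else (bif Nat.ble 162 c then (bif Nat.ble 163 c then cFIN_163 else cFIN_162) else (bif Nat.ble 161 c then cFIN_161 else cFIN_160))))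
def sFIN_0_11 (c : Nat) : Nat := (bif Nat.ble 184 c then (bif Nat.ble 188 c then (bif Nat.ble 190 c then (bif Nat.ble 191 c then cFIN_191 else cFIN_190) else (bif Nat.ble 189 c then cFIN_189 else cFIN_188)) else (bif Nat.ble 186 c then (bif Nat.ble 187 c then cFIN_187 else cFIN_186) else (bif Nat.ble 185 c then cFIN_185 else cFIN_184))) else (bif Nat.ble 180 c then (bif Nat.ble 182 c then (bif Nat.ble 183 c then cFIN_183 else cFIN_182) else (bif Nat.ble 181 c then cFIN_181 else cFIN_180)) else (bif Nat.ble 178 c then (bif Nat.ble 179 c then cFIN_179 else cFIN_178) else (bif Nat.ble 177 c then cFIN_177 else cFIN_176))))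
def sFIN_0_12 (c : Nat) : Nat := (bif Nat.ble 200 c then (bif Nat.ble 204 c then (bif Nat.ble 206 c then (bif Nat.ble 207 c then cFIN_207 else cFIN_206) else (bif Nat.ble 205 c then cFIN_205 else cFIN_204)) else (bif Nat.ble 202 c then (bif Nat.ble 203 c then cFIN_203 else cFIN_202) else (bif Nat.ble 201 c then cFIN_201 else cFIN_200))) else (bif Nat.ble 196 c then (bif Nat.ble 198 c then (bif Nat.ble 199 c then cFIN_199 else cFIN_198) else (bif Nat.ble 197 c then cFIN_197 else cFIN_196)) else (bif Nat.ble 194 c then (bif Nat.ble 195 c then cFIN_195 else cFIN_194) else (bif Nat.ble 193 c then cFIN_193 else cFIN_192))))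
def sFIN_0_13 (c : Nat) : Nat := (bif Nat.ble 216 c then (bif Nat.ble 220 c then (bif Nat.ble 222 c then (bif Nat.ble 223 c then cFIN_223 else cFIN_222) else (bif Nat.ble 221 c then cFIN_221 else cFIN_220)) else (bif Nat.ble 218 c then (bif Nat.ble 219 c then cFIN_219 else cFIN_218) else (bif Nat.ble 217 c then cFIN_217 else cFIN_216))) else (bif Nat.ble 212 c then (bif Nat.ble 214 c then (bif Nat.ble 215 c then cFIN_215 else cFIN_214) else (bif Nat.ble 213 c then cFIN_213 else cFIN_212)) else (bif Nat.ble 210 c then (bif Nat.ble 211 c then cFIN_211 else cFIN_210) else (bif Nat.ble 209 c then cFIN_209 else cFIN_208))))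
def sFIN_0_14 (c : Nat) : Nat := (bif Nat.ble 232 c then (bif Nat.ble 236 c then (bif Nat.ble 238 c then (bif Nat.ble 239 c then cFIN_239 else cFIN_238) else (bif Nat.ble 237 c then cFIN_237 else cFIN_236)) else (bif Nat.ble 234 c then (bif Nat.ble 235 c then cFIN_235 else cFIN_234) else (bif Nat.ble 233 c then cFIN_233 else cFIN_232))) else (bif Nat.ble 228 c then (bif Nat.ble 230 c then (bif Nat.ble 231 c then cFIN_231 else cFIN_230) else (bif Nat.ble 229 c then cFIN_229 else cFIN_228)) else (bif Nat.ble 226 c then (bif Nat.ble 227 c then cFIN_227 else cFIN_226) else (bif Nat.ble 225 c then cFIN_225 else cFIN_224))))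
def sFIN_0_15 (c : Nat) : Nat := (bif Nat.ble 248 c then (bif Nat.ble 252 c then (bif Nat.ble 254 c then (bif Nat.ble 255 c then cFIN_255 else cFIN_254) else (bif Nat.ble 253 c then cFIN_253 else cFIN_252)) else (bif Nat.ble 250 c then (bif Nat.ble 251 c then cFIN_251 else cFIN_250) else (bif Nat.ble 249 c then cFIN_249 else cFIN_248))) else (bif Nat.ble 244 c then (bif Nat.ble 246 c then (bif Nat.ble 247 c then cFIN_247 else cFIN_246) else (bif Nat.ble 245 c then cFIN_245 else cFIN_244)) else (bif Nat.ble 242 c then (bif Nat.ble 243 c then cFIN_243 else cFIN_242) else (bif Nat.ble 241 c then cFIN_241 else cFIN_240))))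
def sFIN_0_16 (c : Nat) : Nat := (bif Nat.ble 264 c then (bif Nat.ble 268 c then (bif Nat.ble 270 c then (bif Nat.ble 271 c then cFIN_271 else cFIN_270) else (bif Nat.ble 269 c then cFIN_269 else cFIN_268)) else (bif Nat.ble 266 c then (bif Nat.ble 267 c then cFIN_267 else cFIN_266) else (bif Nat.ble 265 c then cFIN_265 else cFIN_264))) else (bif Nat.ble 260 c then (bif Nat.ble 262 c then (bif Nat.ble 263 c then cFIN_263 else cFIN_262) else (bif Nat.ble 261 c then cFIN_261 else cFIN_260)) else (bif Nat.ble 258 c then (bif Nat.ble 259 c then cFIN_259 else cFIN_258) else (bif Nat.ble 257 c then cFIN_257 else cFIN_256))))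
def sFIN_0_17 (c : Nat) : Nat := (bif Nat.ble 280 c then (bif Nat.ble 284 c then (bif Nat.ble 286 c then (bif Nat.ble 287 c then cFIN_287 else cFIN_286) else (bif Nat.ble 285 c then cFIN_285 else cFIN_284)) else (bif Nat.ble 282 c then (bif Nat.ble 283 c then cFIN_283 else cFIN_282) else (bif Nat.ble 281 c then cFIN_281 else cFIN_280))) else (bif Nat.ble 276 c then (bif Nat.ble 278 c then (bif Nat.ble 279 c then cFIN_279 else cFIN_278) else (bif Nat.ble 277 c then cFIN_277 else cFIN_276)) else (bif Nat.ble 274 c then (bif Nat.ble 275 c then cFIN_275 else cFIN_274) else (bif Nat.ble 273 c then cFIN_273 else cFIN_272))))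
def sFIN_0_18 (c : Nat) : Nat := (bif Nat.ble 296 c then (bif Nat.ble 300 c then (bif Nat.ble 302 c then (bif Nat.ble 303 c then cFIN_303 else cFIN_302) else (bif Nat.ble 301 c then cFIN_301 else cFIN_300)) else (bif Nat.ble 298 c then (bif Nat.ble 299 c then cFIN_299 else cFIN_298) else (bif Nat.ble 297 c then cFIN_297 else cFIN_296))) else (bif Nat.ble 292 c then (bif Nat.ble 294 c then (bif Nat.ble 295 c then cFIN_295 else cFIN_294) else (bif Nat.ble 293 c then cFIN_293 else cFIN_292)) else (bif Nat.ble 290 c then (bif Nat.ble 291 c then cFIN_291 else cFIN_290) else (bif Nat.ble 289 c then cFIN_289 else cFIN_288))))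
def sFIN_0_19 (c : Nat) : Nat := (bif Nat.ble 312 c then (bif Nat.ble 316 c then (bif Nat.ble 318 c then (bif Nat.ble 319 c then cFIN_319 else cFIN_318) else (bif Nat.ble 317 c then cFIN_317 else cFIN_316)) else (bif Nat.ble 314 c then (bif Nat.ble 315 c then cFIN_315 else cFIN_314) else (bif Nat.ble 313 c then cFIN_313 else cFIN_312))) else (bif Nat.ble 308 c then (bif Nat.ble 310 c then (bif Nat.ble 311 c then cFIN_311 else cFIN_310) else (bif Nat.ble 309 c then cFIN_309 else cFIN_308)) else (bif Nat.ble 306 c then (bif Nat.ble 307 c then cFIN_307 else cFIN_306) else (bif Nat.ble 305 c then cFIN_305 else cFIN_304))))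
def sFIN_0_20 (c : Nat) : Nat := (bif Nat.ble 328 c then (bif Nat.ble 332 c then (bif Nat.ble 334 c then (bif Nat.ble 335 c then cFIN_335 else cFIN_334) else (bif Nat.ble 333 c then cFIN_333 else cFIN_332)) else (bif Nat.ble 330 c then (bif Nat.ble 331 c then cFIN_331 else cFIN_330) else (bif Nat.ble 329 c then cFIN_329 else cFIN_328))) else (bif Nat.ble 324 c then (bif Nat.ble 326 c then (bif Nat.ble 327 c then cFIN_327 else cFIN_326) else (bif Nat.ble 325 c then cFIN_325 else cFIN_324)) else (bif Nat.ble 322 c then (bif Nat.ble 323 c then cFIN_323 else cFIN_322) else (bif Nat.ble 321 c then cFIN_321 else cFIN_320))))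
def sFIN_0_21 (c : Nat) : Nat := (bif Nat.ble 344 c then (bif Nat.ble 348 c then (bif Nat.ble 350 c then (bif Nat.ble 351 c then cFIN_351 else cFIN_350) else (bif Nat.ble 349 c then cFIN_349 else cFIN_348)) else (bif Nat.ble 346 c then (bif Nat.ble 347 c then cFIN_347 else cFIN_346) else (bif Nat.ble 345 c then cFIN_345 else cFIN_344))) else (bif Nat.ble 340 c then (bif Nat.ble 342 c then (bif Nat.ble 343 c then cFIN_343 else cFIN_342) else (bif Nat.ble 341 c then cFIN_341 else cFIN_340)) else (bif Nat.ble 338 c then (bif Nat.ble 339 c then cFIN_339 else cFIN_338) else (bif Nat.ble 337 c then cFIN_337 else cFIN_336))))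
def sFIN_0_22 (c : Nat) : Nat := (bif Nat.ble 360 c then (bif Nat.ble 364 c then (bif Nat.ble 366 c then (bif Nat.ble 367 c then cFIN_367 else cFIN_366) else (bif Nat.ble 365 c then cFIN_365 else cFIN_364)) else (bif Nat.ble 362 c then (bif Nat.ble 363 c then cFIN_363 else cFIN_362) else (bif Nat.ble 361 c then cFIN_361 else cFIN_360))) else (bif Nat.ble 356 c then (bif Nat.ble 358 c then (bif Nat.ble 359 c then cFIN_359 else cFIN_358) else (bif Nat.ble 357 c then cFIN_357 else cFIN_356)) else (bif Nat.ble 354 c then (bif Nat.ble 355 c then cFIN_355 else cFIN_354) else (bif Nat.ble 353 c then cFIN_353 else cFIN_352))))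
def sFIN_0_23 (c : Nat) : Nat := (bif Nat.ble 376 c then (bif Nat.ble 380 c then (bif Nat.ble 382 c then (bif Nat.ble 383 c then cFIN_383 else cFIN_382) else (bif Nat.ble 381 c then cFIN_381 else cFIN_380)) else (bif Nat.ble 378 c then (bif Nat.ble 379 c then cFIN_379 else cFIN_378) else (bif Nat.ble 377 c then cFIN_377 else cFIN_376))) else (bif Nat.ble 372 c then (bif Nat.ble 374 c then (bif Nat.ble 375 c then cFIN_375 else cFIN_374) else (bif Nat.ble 373 c then cFIN_373 else cFIN_372)) else (bif Nat.ble 370 c then (bif Nat.ble 371 c then cFIN_371 else cFIN_370) else (bif Nat.ble 369 c then cFIN_369 else cFIN_368))))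
def sFIN_0_24 (c : Nat) : Nat := (bif Nat.ble 392 c then (bif Nat.ble 396 c then (bif Nat.ble 398 c then (bif Nat.ble 399 c then cFIN_399 else cFIN_398) else (bif Nat.ble 397 c then cFIN_397 else cFIN_396)) else (bif Nat.ble 394 c then (bif Nat.ble 395 c then cFIN_395 else cFIN_394) else (bif Nat.ble 393 c then cFIN_393 else cFIN_392))) else (bif Nat.ble 388 c then (bif Nat.ble 390 c then (bif Nat.ble 391 c then cFIN_391 else cFIN_390) else (bif Nat.ble 389 c then cFIN_389 else cFIN_388)) else (bif Nat.ble 386 c then (bif Nat.ble 387 c then cFIN_387 else cFIN_386) else (bif Nat.ble 385 c then cFIN_385 else cFIN_384))))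
def sFIN_0_25 (c : Nat) : Nat := (bif Nat.ble 408 c then (bif Nat.ble 412 c then (bif Nat.ble 414 c then (bif Nat.ble 415 c then cFIN_415 else cFIN_414) else (bif Nat.ble 413 c then cFIN_413 else cFIN_412)) else (bif Nat.ble 410 c then (bif Nat.ble 411 c then cFIN_411 else cFIN_410) else (bif Nat.ble 409 c then cFIN_409 else cFIN_408))) else (bif Nat.ble 404 c then (bif Nat.ble 406 c then (bif Nat.ble 407 c then cFIN_407 else cFIN_406) else (bif Nat.ble 405 c then cFIN_405 else cFIN_404)) else (bif Nat.ble 402 c then (bif Nat.ble 403 c then cFIN_403 else cFIN_402) else (bif Nat.ble 401 c then cFIN_401 else cFIN_400))))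
def sFIN_0_26 (c : Nat) : Nat := (bif Nat.ble 424 c then (bif Nat.ble 428 c then (bif Nat.ble 430 c then (bif Nat.ble 431 c then cFIN_431 else cFIN_430) else (bif Nat.ble 429 c then cFIN_429 else cFIN_428)) else (bif Nat.ble 426 c then (bif Nat.ble 427 c then cFIN_427 else cFIN_426) else (bif Nat.ble 425 c then cFIN_425 else cFIN_424))) else (bif Nat.ble 420 c then (bif Nat.ble 422 c then (bif Nat.ble 423 c then cFIN_423 else cFIN_422) else (bif Nat.ble 421 c then cFIN_421 else cFIN_420)) else (bif Nat.ble 418 c then (bif Nat.ble 419 c then cFIN_419 else cFIN_418) else (bif Nat.ble 417 c then cFIN_417 else cFIN_416))))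
def sFIN_0_27 (c : Nat) : Nat := (bif Nat.ble 440 c then (bif Nat.ble 444 c then (bif Nat.ble 446 c then (bif Nat.ble 447 c then cFIN_447 else cFIN_446) else (bif Nat.ble 445 c then cFIN_445 else cFIN_444)) else (bif Nat.ble 442 c then (bif Nat.ble 443 c then cFIN_443 else cFIN_442) else (bif Nat.ble 441 c then cFIN_441 else cFIN_440))) else (bif Nat.ble 436 c then (bif Nat.ble 438 c then (bif Nat.ble 439 c then cFIN_439 else cFIN_438) else (bif Nat.ble 437 c then cFIN_437 else cFIN_436)) else (bif Nat.ble 434 c then (bif Nat.ble 435 c then cFIN_435 else cFIN_434) else (bif Nat.ble 433 c then cFIN_433 else cFIN_432))))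
def sFIN_0_28 (c : Nat) : Nat := (bif Nat.ble 456 c then (bif Nat.ble 460 c then (bif Nat.ble 462 c then (bif Nat.ble 463 c then cFIN_463 else cFIN_462) else (bif Nat.ble 461 c then cFIN_461 else cFIN_460)) else (bif Nat.ble 458 c then (bif Nat.ble 459 c then cFIN_459 else cFIN_458) else (bif Nat.ble 457 c then cFIN_457 else cFIN_456))) else (bif Nat.ble 452 c then (bif Nat.ble 454 c then (bif Nat.ble 455 c then cFIN_455 else cFIN_454) else (bif Nat.ble 453 c then cFIN_453 else cFIN_452)) else (bif Nat.ble 450 c then (bif Nat.ble 451 c then cFIN_451 else cFIN_450) else (bif Nat.ble 449 c then cFIN_449 else cFIN_448))))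
def sFIN_0_29 (c : Nat) : Nat := (bif Nat.ble 472 c then (bif Nat.ble 476 c then (bif Nat.ble 478 c then (bif Nat.ble 479 c then cFIN_479 else cFIN_478) else (bif Nat.ble 477 c then cFIN_477 else cFIN_476)) else (bif Nat.ble 474 c then (bif Nat.ble 475 c then cFIN_475 else cFIN_474) else (bif Nat.ble 473 c then cFIN_473 else cFIN_472))) else (bif Nat.ble 468 c then (bif Nat.ble 470 c then (bif Nat.ble 471 c then cFIN_471 else cFIN_470) else (bif Nat.ble 469 c then cFIN_469 else cFIN_468)) else (bif Nat.ble 466 c then (bif Nat.ble 467 c then cFIN_467 else cFIN_466) else (bif Nat.ble 465 c then cFIN_465 else cFIN_464))))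
def sFIN_0_30 (c : Nat) : Nat := (bif Nat.ble 488 c then (bif Nat.ble 492 c then (bif Nat.ble 494 c then (bif Nat.ble 495 c then cFIN_495 else cFIN_494) else (bif Nat.ble 493 c then cFIN_493 else cFIN_492)) else (bif Nat.ble 490 c then (bif Nat.ble 491 c then cFIN_491 else cFIN_490) else (bif Nat.ble 489 c then cFIN_489 else cFIN_488))) else (bif Nat.ble 484 c then (bif Nat.ble 486 c then (bif Nat.ble 487 c then cFIN_487 else cFIN_486) else (bif Nat.ble 485 c then cFIN_485 else cFIN_484)) else (bif Nat.ble 482 c then (bif Nat.ble 483 c then cFIN_483 else cFIN_482) else (bif Nat.ble 481 c then cFIN_481 else cFIN_480))))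
def sFIN_0_31 (c : Nat) : Nat := (bif Nat.ble 504 c then (bif Nat.ble 508 c then (bif Nat.ble 510 c then (bif Nat.ble 511 c then cFIN_511 else cFIN_510) else (bif Nat.ble 509 c then cFIN_509 else cFIN_508)) else (bif Nat.ble 506 c then (bif Nat.ble 507 c then cFIN_507 else cFIN_506) else (bif Nat.ble 505 c then cFIN_505 else cFIN_504))) else (bif Nat.ble 500 c then (bif Nat.ble 502 c then (bif Nat.ble 503 c then cFIN_503 else cFIN_502) else (bif Nat.ble 501 c then cFIN_501 else cFIN_500)) else (bif Nat.ble 498 c then (bif Nat.ble 499 c then cFIN_499 else cFIN_498) else (bif Nat.ble 497 c then cFIN_497 else cFIN_496))))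
def sFIN_0_32 (c : Nat) : Nat := (bif Nat.ble 520 c then (bif Nat.ble 524 c then (bif Nat.ble 526 c then (bif Nat.ble 527 c then cFIN_527 else cFIN_526) else (bif Nat.ble 525 c then cFIN_525 else cFIN_524)) else (bif Nat.ble 522 c then (bif Nat.ble 523 c then cFIN_523 else cFIN_522) else (bif Nat.ble 521 c then cFIN_521 else cFIN_520))) else (bif Nat.ble 516 c then (bif Nat.ble 518 c then (bif Nat.ble 519 c then cFIN_519 else cFIN_518) else (bif Nat.ble 517 c then cFIN_517 else cFIN_516)) else (bif Nat.ble 514 c then (bif Nat.ble 515 c then cFIN_515 else cFIN_514) else (bif Nat.ble 513 c then cFIN_513 else cFIN_512))))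
def sFIN_0_33 (c : Nat) : Nat := (bif Nat.ble 536 c then (bif Nat.ble 540 c then (bif Nat.ble 542 c then (bif Nat.ble 543 c then cFIN_543 else cFIN_542) else (bif Nat.ble 541 c then cFIN_541 else cFIN_540)) else (bif Nat.ble 538 c then (bif Nat.ble 539 c then cFIN_539 else cFIN_538) else (bif Nat.ble 537 c then cFIN_537 else cFIN_536))) else (bif Nat.ble 532 c then (bif Nat.ble 534 c then (bif Nat.ble 535 c then cFIN_535 else cFIN_534) else (bif Nat.ble 533 c then cFIN_533 else cFIN_532)) else (bif Nat.ble 530 c then (bif Nat.ble 531 c then cFIN_531 else cFIN_530) else (bif Nat.ble 529 c then cFIN_529 else cFIN_528))))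
def sFIN_0_34 (c : Nat) : Nat := (bif Nat.ble 552 c then (bif Nat.ble 556 c then (bif Nat.ble 558 c then (bif Nat.ble 559 c then cFIN_559 else cFIN_558) else (bif Nat.ble 557 c then cFIN_557 else cFIN_556)) else (bif Nat.ble 554 c then (bif Nat.ble 555 c then cFIN_555 else cFIN_554) else (bif Nat.ble 553 c then cFIN_553 else cFIN_552))) else (bif Nat.ble 548 c then (bif Nat.ble 550 c then (bif Nat.ble 551 c then cFIN_551 else cFIN_550) else (bif Nat.ble 549 c then cFIN_549 else cFIN_548)) else (bif Nat.ble 546 c then (bif Nat.ble 547 c then cFIN_547 else cFIN_546) else (bif Nat.ble 545 c then cFIN_545 else cFIN_544))))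
def sFIN_0_35 (c : Nat) : Nat := (bif Nat.ble 568 c then (bif Nat.ble 572 c then (bif Nat.ble 574 c then (bif Nat.ble 575 c then cFIN_575 else cFIN_574) else (bif Nat.ble 573 c then cFIN_573 else cFIN_572)) else (bif Nat.ble 570 c then (bif Nat.ble 571 c then cFIN_571 else cFIN_570) else (bif Nat.ble 569 c then cFIN_569 else cFIN_568))) else (bif Nat.ble 564 c then (bif Nat.ble 566 c then (bif Nat.ble 567 c then cFIN_567 else cFIN_566) else (bif Nat.ble 565 c then cFIN_565 else cFIN_564)) else (bif Nat.ble 562 c then (bif Nat.ble 563 c then cFIN_563 else cFIN_562) else (bif Nat.ble 561 c then cFIN_561 else cFIN_560))))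
def sFIN_0_36 (c : Nat) : Nat := (bif Nat.ble 584 c then (bif Nat.ble 588 c then (bif Nat.ble 590 c then (bif Nat.ble 591 c then cFIN_591 else cFIN_590) else (bif Nat.ble 589 c then cFIN_589 else cFIN_588)) else (bif Nat.ble 586 c then (bif Nat.ble 587 c then cFIN_587 else cFIN_586) else (bif Nat.ble 585 c then cFIN_585 else cFIN_584))) else (bif Nat.ble 580 c then (bif Nat.ble 582 c then (bif Nat.ble 583 c then cFIN_583 else cFIN_582) else (bif Nat.ble 581 c then cFIN_581 else cFIN_580)) else (bif Nat.ble 578 c then (bif Nat.ble 579 c then cFIN_579 else cFIN_578) else (bif Nat.ble 577 c then cFIN_577 else cFIN_576))))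
def sFIN_0_37 (c : Nat) : Nat := (bif Nat.ble 600 c then (bif Nat.ble 604 c then (bif Nat.ble 606 c then (bif Nat.ble 607 c then cFIN_607 else cFIN_606) else (bif Nat.ble 605 c then cFIN_605 else cFIN_604)) else (bif Nat.ble 602 c then (bif Nat.ble 603 c then cFIN_603 else cFIN_602) else (bif Nat.ble 601 c then cFIN_601 else cFIN_600))) else (bif Nat.ble 596 c then (bif Nat.ble 598 c then (bif Nat.ble 599 c then cFIN_599 else cFIN_598) else (bif Nat.ble 597 c then cFIN_597 else cFIN_596)) else (bif Nat.ble 594 c then (bif Nat.ble 595 c then cFIN_595 else cFIN_594) else (bif Nat.ble 593 c then cFIN_593 else cFIN_592))))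
def sFIN_0_38 (c : Nat) : Nat := (bif Nat.ble 616 c then (bif Nat.ble 620 c then (bif Nat.ble 622 c then (bif Nat.ble 623 c then cFIN_623 else cFIN_622) else (bif Nat.ble 621 c then cFIN_621 else cFIN_620)) else (bif Nat.ble 618 c then (bif Nat.ble 619 c then cFIN_619 else cFIN_618) else (bif Nat.ble 617 c then cFIN_617 else cFIN_616))) else (bif Nat.ble 612 c then (bif Nat.ble 614 c then (bif Nat.ble 615 c then cFIN_615 else cFIN_614) else (bif Nat.ble 613 c then cFIN_613 else cFIN_612)) else (bif Nat.ble 610 c then (bif Nat.ble 611 c then cFIN_611 else cFIN_610) else (bif Nat.ble 609 c then cFIN_609 else cFIN_608))))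
def sFIN_0_39 (c : Nat) : Nat := (bif Nat.ble 632 c then (bif Nat.ble 636 c then (bif Nat.ble 638 c then (bif Nat.ble 639 c then cFIN_639 else cFIN_638) else (bif Nat.ble 637 c then cFIN_637 else cFIN_636)) else (bif Nat.ble 634 c then (bif Nat.ble 635 c then cFIN_635 else cFIN_634) else (bif Nat.ble 633 c then cFIN_633 else cFIN_632))) else (bif Nat.ble 628 c then (bif Nat.ble 630 c then (bif Nat.ble 631 c then cFIN_631 else cFIN_630) else (bif Nat.ble 629 c then cFIN_629 else cFIN_628)) else (bif Nat.ble 626 c then (bif Nat.ble 627 c then cFIN_627 else cFIN_626) else (bif Nat.ble 625 c then cFIN_625 else cFIN_624))))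
def sFIN_0_40 (c : Nat) : Nat := (bif Nat.ble 648 c then (bif Nat.ble 652 c then (bif Nat.ble 654 c then (bif Nat.ble 655 c then cFIN_655 else cFIN_654) else (bif Nat.ble 653 c then cFIN_653 else cFIN_652)) else (bif Nat.ble 650 c then (bif Nat.ble 651 c then cFIN_651 else cFIN_650) else (bif Nat.ble 649 c then cFIN_649 else cFIN_648))) else (bif Nat.ble 644 c then (bif Nat.ble 646 c then (bif Nat.ble 647 c then cFIN_647 else cFIN_646) else (bif Nat.ble 645 c then cFIN_645 else cFIN_644)) else (bif Nat.ble 642 c then (bif Nat.ble 643 c then cFIN_643 else cFIN_642) else (bif Nat.ble 641 c then cFIN_641 else cFIN_640))))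
def sFIN_0_41 (c : Nat) : Nat := (bif Nat.ble 664 c then (bif Nat.ble 668 c then (bif Nat.ble 670 c then (bif Nat.ble 671 c then cFIN_671 else cFIN_670) else (bif Nat.ble 669 c then cFIN_669 else cFIN_668)) else (bif Nat.ble 666 c then (bif Nat.ble 667 c then cFIN_667 else cFIN_666) else (bif Nat.ble 665 c then cFIN_665 else cFIN_664))) else (bif Nat.ble 660 c then (bif Nat.ble 662 c then (bif Nat.ble 663 c then cFIN_663 else cFIN_662) else (bif Nat.ble 661 c then cFIN_661 else cFIN_660)) else (bif Nat.ble 658 c then (bif Nat.ble 659 c then cFIN_659 else cFIN_658) else (bif Nat.ble 657 c then cFIN_657 else cFIN_656))))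
def sFIN_0_42 (c : Nat) : Nat := (bif Nat.ble 680 c then (bif Nat.ble 684 c then (bif Nat.ble 686 c then (bif Nat.ble 687 c then cFIN_687 else cFIN_686) else (bif Nat.ble 685 c then cFIN_685 else cFIN_684)) else (bif Nat.ble 682 c then (bif Nat.ble 683 c then cFIN_683 else cFIN_682) else (bif Nat.ble 681 c then cFIN_681 else cFIN_680))) else (bif Nat.ble 676 c then (bif Nat.ble 678 c then (bif Nat.ble 679 c then cFIN_679 else cFIN_678) else (bif Nat.ble 677 c then cFIN_677 else cFIN_676)) else (bif Nat.ble 674 c then (bif Nat.ble 675 c then cFIN_675 else cFIN_674) else (bif Nat.ble 673 c then cFIN_673 else cFIN_672))))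
def sFIN_0_43 (c : Nat) : Nat := (bif Nat.ble 696 c then (bif Nat.ble 700 c then (bif Nat.ble 702 c then (bif Nat.ble 703 c then cFIN_703 else cFIN_702) else (bif Nat.ble 701 c then cFIN_701 else cFIN_700)) else (bif Nat.ble 698 c then (bif Nat.ble 699 c then cFIN_699 else cFIN_698) else (bif Nat.ble 697 c then cFIN_697 else cFIN_696))) else (bif Nat.ble 692 c then (bif Nat.ble 694 c then (bif Nat.ble 695 c then cFIN_695 else cFIN_694) else (bif Nat.ble 693 c then cFIN_693 else cFIN_692)) else (bif Nat.ble 690 c then (bif Nat.ble 691 c then cFIN_691 else cFIN_690) else (bif Nat.ble 689 c then cFIN_689 else cFIN_688))))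
def sFIN_0_44 (c : Nat) : Nat := (bif Nat.ble 712 c then (bif Nat.ble 716 c then (bif Nat.ble 718 c then (bif Nat.ble 719 c then cFIN_719 else cFIN_718) else (bif Nat.ble 717 c then cFIN_717 else cFIN_716)) else (bif Nat.ble 714 c then (bif Nat.ble 715 c then cFIN_715 else cFIN_714) else (bif Nat.ble 713 c then cFIN_713 else cFIN_712))) else (bif Nat.ble 708 c then (bif Nat.ble 710 c then (bif Nat.ble 711 c then cFIN_711 else cFIN_710) else (bif Nat.ble 709 c then cFIN_709 else cFIN_708)) else (bif Nat.ble 706 c then (bif Nat.ble 707 c then cFIN_707 else cFIN_706) else (bif Nat.ble 705 c then cFIN_705 else cFIN_704))))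
def sFIN_0_45 (c : Nat) : Nat := (bif Nat.ble 728 c then (bif Nat.ble 732 c then (bif Nat.ble 734 c then (bif Nat.ble 735 c then cFIN_735 else cFIN_734) else (bif Nat.ble 733 c then cFIN_733 else cFIN_732)) else (bif Nat.ble 730 c then (bif Nat.ble 731 c then cFIN_731 else cFIN_730) else (bif Nat.ble 729 c then cFIN_729 else cFIN_728))) else (bif Nat.ble 724 c then (bif Nat.ble 726 c then (bif Nat.ble 727 c then cFIN_727 else cFIN_726) else (bif Nat.ble 725 c then cFIN_725 else cFIN_724)) else (bif Nat.ble 722 c then (bif Nat.ble 723 c then cFIN_723 else cFIN_722) else (bif Nat.ble 721 c then cFIN_721 else cFIN_720))))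
def sFIN_0_46 (c : Nat) : Nat := (bif Nat.ble 744 c then (bif Nat.ble 748 c then (bif Nat.ble 750 c then (bif Nat.ble 751 c then cFIN_751 else cFIN_750) else (bif Nat.ble 749 c then cFIN_749 else cFIN_748)) else (bif Nat.ble 746 c then (bif Nat.ble 747 c then cFIN_747 else cFIN_746) else (bif Nat.ble 745 c then cFIN_745 else cFIN_744))) else (bif Nat.ble 740 c then (bif Nat.ble 742 c then (bif Nat.ble 743 c then cFIN_743 else cFIN_742) else (bif Nat.ble 741 c then cFIN_741 else cFIN_740)) else (bif Nat.ble 738 c then (bif Nat.ble 739 c then cFIN_739 else cFIN_738) else (bif Nat.ble 737 c then cFIN_737 else cFIN_736))))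
def sFIN_0_47 (c : Nat) : Nat := (bif Nat.ble 760 c then (bif Nat.ble 764 c then (bif Nat.ble 766 c then (bif Nat.ble 767 c then cFIN_767 else cFIN_766) else (bif Nat.ble 765 c then cFIN_765 else cFIN_764)) else (bif Nat.ble 762 c then (bif Nat.ble 763 c then cFIN_763 else cFIN_762) else (bif Nat.ble 761 c then cFIN_761 else cFIN_760))) else (bif Nat.ble 756 c then (bif Nat.ble 758 c then (bif Nat.ble 759 c then cFIN_759 else cFIN_758) else (bif Nat.ble 757 c then cFIN_757 else cFIN_756)) else (bif Nat.ble 754 c then (bif Nat.ble 755 c then cFIN_755 else cFIN_754) else (bif Nat.ble 753 c then cFIN_753 else cFIN_752))))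
def sFIN_0_48 (c : Nat) : Nat := (bif Nat.ble 776 c then (bif Nat.ble 780 c then (bif Nat.ble 782 c then (bif Nat.ble 783 c then cFIN_783 else cFIN_782) else (bif Nat.ble 781 c then cFIN_781 else cFIN_780)) else (bif Nat.ble 778 c then (bif Nat.ble 779 c then cFIN_779 else cFIN_778) else (bif Nat.ble 777 c then cFIN_777 else cFIN_776))) else (bif Nat.ble 772 c then (bif Nat.ble 774 c then (bif Nat.ble 775 c then cFIN_775 else cFIN_774) else (bif Nat.ble 773 c then cFIN_773 else cFIN_772)) else (bif Nat.ble 770 c then (bif Nat.ble 771 c then cFIN_771 else cFIN_770) else (bif Nat.ble 769 c then cFIN_769 else cFIN_768))))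
def sFIN_0_49 (c : Nat) : Nat := (bif Nat.ble 792 c then (bif Nat.ble 796 c then (bif Nat.ble 798 c then (bif Nat.ble 799 c then cFIN_799 else cFIN_798) else (bif Nat.ble 797 c then cFIN_797 else cFIN_796)) else (bif Nat.ble 794 c then (bif Nat.ble 795 c then cFIN_795 else cFIN_794) else (bif Nat.ble 793 c then cFIN_793 else cFIN_792))) else (bif Nat.ble 788 c then (bif Nat.ble 790 c then (bif Nat.ble 791 c then cFIN_791 else cFIN_790) else (bif Nat.ble 789 c then cFIN_789 else cFIN_788)) else (bif Nat.ble 786 c then (bif Nat.ble 787 c then cFIN_787 else cFIN_786) else (bif Nat.ble 785 c then cFIN_785 else cFIN_784))))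
def sFIN_0_50 (c : Nat) : Nat := (bif Nat.ble 808 c then (bif Nat.ble 812 c then (bif Nat.ble 814 c then (bif Nat.ble 815 c then cFIN_815 else cFIN_814) else (bif Nat.ble 813 c then cFIN_813 else cFIN_812)) else (bif Nat.ble 810 c then (bif Nat.ble 811 c then cFIN_811 else cFIN_810) else (bif Nat.ble 809 c then cFIN_809 else cFIN_808))) else (bif Nat.ble 804 c then (bif Nat.ble 806 c then (bif Nat.ble 807 c then cFIN_807 else cFIN_806) else (bif Nat.ble 805 c then cFIN_805 else cFIN_804)) else (bif Nat.ble 802 c then (bif Nat.ble 803 c then cFIN_803 else cFIN_802) else (bif Nat.ble 801 c then cFIN_801 else cFIN_800))))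
def sFIN_0_51 (c : Nat) : Nat := (bif Nat.ble 824 c then (bif Nat.ble 828 c then (bif Nat.ble 830 c then (bif Nat.ble 831 c then cFIN_831 else cFIN_830) else (bif Nat.ble 829 c then cFIN_829 else cFIN_828)) else (bif Nat.ble 826 c then (bif Nat.ble 827 c then cFIN_827 else cFIN_826) else (bif Nat.ble 825 c then cFIN_825 else cFIN_824))) else (bif Nat.ble 820 c then (bif Nat.ble 822 c then (bif Nat.ble 823 c then cFIN_823 else cFIN_822) else (bif Nat.ble 821 c then cFIN_821 else cFIN_820)) else (bif Nat.ble 818 c then (bif Nat.ble 819 c then cFIN_819 else cFIN_818) else (bif Nat.ble 817 c then cFIN_817 else cFIN_816))))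
def sFIN_0_52 (c : Nat) : Nat := (bif Nat.ble 840 c then (bif Nat.ble 844 c then (bif Nat.ble 846 c then (bif Nat.ble 847 c then cFIN_847 else cFIN_846) else (bif Nat.ble 845 c then cFIN_845 else cFIN_844)) else (bif Nat.ble 842 c then (bif Nat.ble 843 c then cFIN_843 else cFIN_842) else (bif Nat.ble 841 c then cFIN_841 else cFIN_840))) else (bif Nat.ble 836 c then (bif Nat.ble 838 c then (bif Nat.ble 839 c then cFIN_839 else cFIN_838) else (bif Nat.ble 837 c then cFIN_837 else cFIN_836)) else (bif Nat.ble 834 c then (bif Nat.ble 835 c then cFIN_835 else cFIN_834) else (bif Nat.ble 833 c then cFIN_833 else cFIN_832))))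
def sFIN_0_53 (c : Nat) : Nat := (bif Nat.ble 856 c then (bif Nat.ble 860 c then (bif Nat.ble 862 c then (bif Nat.ble 863 c then cFIN_863 else cFIN_862) else (bif Nat.ble 861 c then cFIN_861 else cFIN_860)) else (bif Nat.ble 858 c then (bif Nat.ble 859 c then cFIN_859 else cFIN_858) else (bif Nat.ble 857 c then cFIN_857 else cFIN_856))) else (bif Nat.ble 852 c then (bif Nat.ble 854 c then (bif Nat.ble 855 c then cFIN_855 else cFIN_854) else (bif Nat.ble 853 c then cFIN_853 else cFIN_852)) else (bif Nat.ble 850 c then (bif Nat.ble 851 c then cFIN_851 else cFIN_850) else (bif Nat.ble 849 c then cFIN_849 else cFIN_848))))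
def sFIN_0_54 (c : Nat) : Nat := (bif Nat.ble 872 c then (bif Nat.ble 876 c then (bif Nat.ble 878 c then (bif Nat.ble 879 c then cFIN_879 else cFIN_878) else (bif Nat.ble 877 c then cFIN_877 else cFIN_876)) else (bif Nat.ble 874 c then (bif Nat.ble 875 c then cFIN_875 else cFIN_874) else (bif Nat.ble 873 c then cFIN_873 else cFIN_872))) else (bif Nat.ble 868 c then (bif Nat.ble 870 c then (bif Nat.ble 871 c then cFIN_871 else cFIN_870) else (bif Nat.ble 869 c then cFIN_869 else cFIN_868)) else (bif Nat.ble 866 c then (bif Nat.ble 867 c then cFIN_867 else cFIN_866) else (bif Nat.ble 865 c then cFIN_865 else cFIN_864))))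
def sFIN_0_55 (c : Nat) : Nat := (bif Nat.ble 888 c then (bif Nat.ble 892 c then (bif Nat.ble 894 c then (bif Nat.ble 895 c then cFIN_895 else cFIN_894) else (bif Nat.ble 893 c then cFIN_893 else cFIN_892)) else (bif Nat.ble 890 c then (bif Nat.ble 891 c then cFIN_891 else cFIN_890) else (bif Nat.ble 889 c then cFIN_889 else cFIN_888))) else (bif Nat.ble 884 c then (bif Nat.ble 886 c then (bif Nat.ble 887 c then cFIN_887 else cFIN_886) else (bif Nat.ble 885 c then cFIN_885 else cFIN_884)) else (bif Nat.ble 882 c then (bif Nat.ble 883 c then cFIN_883 else cFIN_882) else (bif Nat.ble 881 c then cFIN_881 else cFIN_880))))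
def sFIN_0_56 (c : Nat) : Nat := (bif Nat.ble 904 c then (bif Nat.ble 908 c then (bif Nat.ble 910 c then (bif Nat.ble 911 c then cFIN_911 else cFIN_910) else (bif Nat.ble 909 c then cFIN_909 else cFIN_908)) else (bif Nat.ble 906 c then (bif Nat.ble 907 c then cFIN_907 else cFIN_906) else (bif Nat.ble 905 c then cFIN_905 else cFIN_904))) else (bif Nat.ble 900 c then (bif Nat.ble 902 c then (bif Nat.ble 903 c then cFIN_903 else cFIN_902) else (bif Nat.ble 901 c then cFIN_901 else cFIN_900)) else (bif Nat.ble 898 c then (bif Nat.ble 899 c then cFIN_899 else cFIN_898) else (bif Nat.ble 897 c then cFIN_897 else cFIN_896))))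
def sFIN_0_57 (c : Nat) : Nat := (bif Nat.ble 920 c then (bif Nat.ble 924 c then (bif Nat.ble 926 c then (bif Nat.ble 927 c then cFIN_927 else cFIN_926) else (bif Nat.ble 925 c then cFIN_925 else cFIN_924)) else (bif Nat.ble 922 c then (bif Nat.ble 923 c then cFIN_923 else cFIN_922) else (bif Nat.ble 921 c then cFIN_921 else cFIN_920))) else (bif Nat.ble 916 c then (bif Nat.ble 918 c then (bif Nat.ble 919 c then cFIN_919 else cFIN_918) else (bif Nat.ble 917 c then cFIN_917 else cFIN_916)) else (bif Nat.ble 914 c then (bif Nat.ble 915 c then cFIN_915 else cFIN_914) else (bif Nat.ble 913 c then cFIN_913 else cFIN_912))))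
def sFIN_0_58 (c : Nat) : Nat := (bif Nat.ble 936 c then (bif Nat.ble 940 c then (bif Nat.ble 942 c then (bif Nat.ble 943 c then cFIN_943 else cFIN_942) else (bif Nat.ble 941 c then cFIN_941 else cFIN_940)) else (bif Nat.ble 938 c then (bif Nat.ble 939 c then cFIN_939 else cFIN_938) else (bif Nat.ble 937 c then cFIN_937 else cFIN_936))) else (bif Nat.ble 932 c then (bif Nat.ble 934 c then (bif Nat.ble 935 c then cFIN_935 else cFIN_934) else (bif Nat.ble 933 c then cFIN_933 else cFIN_932)) else (bif Nat.ble 930 c then (bif Nat.ble 931 c then cFIN_931 else cFIN_930) else (bif Nat.ble 929 c then cFIN_929 else cFIN_928))))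
def sFIN_0_59 (c : Nat) : Nat := (bif Nat.ble 952 c then (bif Nat.ble 956 c then (bif Nat.ble 958 c then (bif Nat.ble 959 c then cFIN_959 else cFIN_958) else (bif Nat.ble 957 c then cFIN_957 else cFIN_956)) else (bif Nat.ble 954 c then (bif Nat.ble 955 c then cFIN_955 else cFIN_954) else (bif Nat.ble 953 c then cFIN_953 else cFIN_952))) else (bif Nat.ble 948 c then (bif Nat.ble 950 c then (bif Nat.ble 951 c then cFIN_951 else cFIN_950) else (bif Nat.ble 949 c then cFIN_949 else cFIN_948)) else (bif Nat.ble 946 c then (bif Nat.ble 947 c then cFIN_947 else cFIN_946) else (bif Nat.ble 945 c then cFIN_945 else cFIN_944))))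
def sFIN_0_60 (c : Nat) : Nat := (bif Nat.ble 968 c then (bif Nat.ble 972 c then (bif Nat.ble 974 c then (bif Nat.ble 975 c then cFIN_975 else cFIN_974) else (bif Nat.ble 973 c then cFIN_973 else cFIN_972)) else (bif Nat.ble 970 c then (bif Nat.ble 971 c then cFIN_971 else cFIN_970) else (bif Nat.ble 969 c then cFIN_969 else cFIN_968))) else (bif Nat.ble 964 c then (bif Nat.ble 966 c then (bif Nat.ble 967 c then cFIN_967 else cFIN_966) else (bif Nat.ble 965 c then cFIN_965 else cFIN_964)) else (bif Nat.ble 962 c then (bif Nat.ble 963 c then cFIN_963 else cFIN_962) else (bif Nat.ble 961 c then cFIN_961 else cFIN_960))))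
def sFIN_0_61 (c : Nat) : Nat := (bif Nat.ble 983 c then (bif Nat.ble 987 c then (bif Nat.ble 989 c then cFIN_989 else (bif Nat.ble 988 c then cFIN_988 else cFIN_987)) else (bif Nat.ble 985 c then (bif Nat.ble 986 c then cFIN_986 else cFIN_985) else (bif Nat.ble 984 c then cFIN_984 else cFIN_983))) else (bif Nat.ble 980 c then (bif Nat.ble 982 c then cFIN_982 else (bif Nat.ble 981 c then cFIN_981 else cFIN_980)) else (bif Nat.ble 978 c then (bif Nat.ble 979 c then cFIN_979 else cFIN_978) else (bif Nat.ble 977 c then cFIN_977 else cFIN_976))))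
def sFIN_1_0 (c : Nat) : Nat := (bif Nat.ble 128 c then (bif Nat.ble 192 c then (bif Nat.ble 224 c then (bif Nat.ble 240 c then sFIN_0_15 c else sFIN_0_14 c) else (bif Nat.ble 208 c then sFIN_0_13 c else sFIN_0_12 c)) else (bif Nat.ble 160 c then (bif Nat.ble 176 c then sFIN_0_11 c else sFIN_0_10 c) else (bif Nat.ble 144 c then sFIN_0_9 c else sFIN_0_8 c))) else (bif Nat.ble 64 c then (bif Nat.ble 96 c then (bif Nat.ble 112 c then sFIN_0_7 c else sFIN_0_6 c) else (bif Nat.ble 80 c then sFIN_0_5 c else sFIN_0_4 c)) else (bif Nat.ble 32 c then (bif Nat.ble 48 c then sFIN_0_3 c else sFIN_0_2 c) else (bif Nat.ble 16 c then sFIN_0_1 c else sFIN_0_0 c))))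
def sFIN_1_1 (c : Nat) : Nat := (bif Nat.ble 384 c then (bif Nat.ble 448 c then (bif Nat.ble 480 c then (bif Nat.ble 496 c then sFIN_0_31 c else sFIN_0_30 c) else (bif Nat.ble 464 c then sFIN_0_29 c else sFIN_0_28 c)) else (bif Nat.ble 416 c then (bif Nat.ble 432 c then sFIN_0_27 c else sFIN_0_26 c) else (bif Nat.ble 400 c then sFIN_0_25 c else sFIN_0_24 c))) else (bif Nat.ble 320 c then (bif Nat.ble 352 c then (bif Nat.ble 368 c then sFIN_0_23 c else sFIN_0_22 c) else (bif Nat.ble 336 c then sFIN_0_21 c else sFIN_0_20 c)) else (bif Nat.ble 288 c then (bif Nat.ble 304 c then sFIN_0_19 c else sFIN_0_18 c) else (bif Nat.ble 272 c then sFIN_0_17 c else sFIN_0_16 c))))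
def sFIN_1_2 (c : Nat) : Nat := (bif Nat.ble 640 c then (bif Nat.ble 704 c then (bif Nat.ble 736 c then (bif Nat.ble 752 c then sFIN_0_47 c else sFIN_0_46 c) else (bif Nat.ble 720 c then sFIN_0_45 c else sFIN_0_44 c)) else (bif Nat.ble 672 c then (bif Nat.ble 688 c then sFIN_0_43 c else sFIN_0_42 c) else (bif Nat.ble 656 c then sFIN_0_41 c else sFIN_0_40 c))) else (bif Nat.ble 576 c then (bif Nat.ble 608 c then (bif Nat.ble 624 c then sFIN_0_39 c else sFIN_0_38 c) else (bif Nat.ble 592 c then sFIN_0_37 c else sFIN_0_36 c)) else (bif Nat.ble 544 c then (bif Nat.ble 560 c then sFIN_0_35 c else sFIN_0_34 c) else (bif Nat.ble 528 c then sFIN_0_33 c else sFIN_0_32 c))))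
def sFIN_1_3 (c : Nat) : Nat := (bif Nat.ble 880 c then (bif Nat.ble 944 c then (bif Nat.ble 976 c then sFIN_0_61 c else (bif Nat.ble 960 c then sFIN_0_60 c else sFIN_0_59 c)) else (bif Nat.ble 912 c then (bif Nat.ble 928 c then sFIN_0_58 c else sFIN_0_57 c) else (bif Nat.ble 896 c then sFIN_0_56 c else sFIN_0_55 c))) else (bif Nat.ble 832 c then (bif Nat.ble 864 c then sFIN_0_54 c else (bif Nat.ble 848 c then sFIN_0_53 c else sFIN_0_52 c)) else (bif Nat.ble 800 c then (bif Nat.ble 816 c then sFIN_0_51 c else sFIN_0_50 c) else (bif Nat.ble 784 c then sFIN_0_49 c else sFIN_0_48 c))))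
def sFIN (c : Nat) : Nat := (bif Nat.ble 512 c then (bif Nat.ble 768 c then sFIN_1_3 c else sFIN_1_2 c) else (bif Nat.ble 256 c then sFIN_1_1 c else sFIN_1_0 c))
def gFIN (i : Nat) : Nat := Nat.land (Nat.shiftRight (sFIN (Nat.shiftRight i 9)) (Nat.mul 19 (Nat.land i 511))) 524287
def sCAN_0_0 (c : Nat) : Nat := (bif Nat.ble 8 c then (bif Nat.ble 12 c then (bif Nat.ble 14 c then (bif Nat.ble 15 c then cCAN_15 else cCAN_14) else (bif Nat.ble 13 c then cCAN_13 else cCAN_12)) else (bif Nat.ble 10 c then (bif Nat.ble 11 c then cCAN_11 else cCAN_10) else (bif Nat.ble 9 c then cCAN_9 else cCAN_8))) else (bif Nat.ble 4 c then (bif Nat.ble 6 c then (bif Nat.ble 7 c then cCAN_7 else cCAN_6) else (bif Nat.ble 5 c then cCAN_5 else cCAN_4)) else (bif Nat.ble 2 c then (bif Nat.ble 3 c then cCAN_3 else cCAN_2) else (bif Nat.ble 1 c then cCAN_1 else cCAN_0))))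
def sCAN_0_1 (c : Nat) : Nat := (bif Nat.ble 24 c then (bif Nat.ble 28 c then (bif Nat.ble 30 c then cCAN_30 else (bif Nat.ble 29 c then cCAN_29 else cCAN_28)) else (bif Nat.ble 26 c then (bif Nat.ble 27 c then cCAN_27 else cCAN_26) else (bif Nat.ble 25 c then cCAN_25 else cCAN_24))) else (bif Nat.ble 20 c then (bif Nat.ble 22 c then (bif Nat.ble 23 c then cCAN_23 else cCAN_22) else (bif Nat.ble 21 c then cCAN_21 else cCAN_20)) else (bif Nat.ble 18 c then (bif Nat.ble 19 c then cCAN_19 else cCAN_18) else (bif Nat.ble 17 c then cCAN_17 else cCAN_16))))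
def sCAN (c : Nat) : Nat := (bif Nat.ble 16 c then sCAN_0_1 c else sCAN_0_0 c)
def gCAN (i : Nat) : Nat := Nat.land (Nat.shiftRight (sCAN (Nat.shiftRight i 10)) (Nat.mul 16 (Nat.land i 1023))) 65535
def sBPG_0_0 (c : Nat) : Nat := (bif Nat.ble 8 c then (bif Nat.ble 12 c then (bif Nat.ble 14 c then (bif Nat.ble 15 c then cBPG_15 else cBPG_14) else (bif Nat.ble 13 c then cBPG_13 else cBPG_12)) else (bif Nat.ble 10 c then (bif Nat.ble 11 c then cBPG_11 else cBPG_10) else (bif Nat.ble 9 c then cBPG_9 else cBPG_8))) else (bif Nat.ble 4 c then (bif Nat.ble 6 c then (bif Nat.ble 7 c then cBPG_7 else cBPG_6) else (bif Nat.ble 5 c then cBPG_5 else cBPG_4)) else (bif Nat.ble 2 c then (bif Nat.ble 3 c then cBPG_3 else cBPG_2) else (bif Nat.ble 1 c then cBPG_1 else cBPG_0))))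
def sBPG_0_1 (c : Nat) : Nat := (bif Nat.ble 24 c then (bif Nat.ble 28 c then (bif Nat.ble 30 c then (bif Nat.ble 31 c then cBPG_31 else cBPG_30) else (bif Nat.ble 29 c then cBPG_29 else cBPG_28)) else (bif Nat.ble 26 c then (bif Nat.ble 27 c then cBPG_27 else cBPG_26) else (bif Nat.ble 25 c then cBPG_25 else cBPG_24))) else (bif Nat.ble 20 c then (bif Nat.ble 22 c then (bif Nat.ble 23 c then cBPG_23 else cBPG_22) else (bif Nat.ble 21 c then cBPG_21 else cBPG_20)) else (bif Nat.ble 18 c then (bif Nat.ble 19 c then cBPG_19 else cBPG_18) else (bif Nat.ble 17 c then cBPG_17 else cBPG_16))))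
def sBPG_0_2 (c : Nat) : Nat := (bif Nat.ble 40 c then (bif Nat.ble 44 c then (bif Nat.ble 46 c then (bif Nat.ble 47 c then cBPG_47 else cBPG_46) else (bif Nat.ble 45 c then cBPG_45 else cBPG_44)) else (bif Nat.ble 42 c then (bif Nat.ble 43 c then cBPG_43 else cBPG_42) else (bif Nat.ble 41 c then cBPG_41 else cBPG_40))) else (bif Nat.ble 36 c then (bif Nat.ble 38 c then (bif Nat.ble 39 c then cBPG_39 else cBPG_38) else (bif Nat.ble 37 c then cBPG_37 else cBPG_36)) else (bif Nat.ble 34 c then (bif Nat.ble 35 c then cBPG_35 else cBPG_34) else (bif Nat.ble 33 c then cBPG_33 else cBPG_32))))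
def sBPG_0_3 (c : Nat) : Nat := (bif Nat.ble 55 c then (bif Nat.ble 59 c then (bif Nat.ble 61 c then cBPG_61 else (bif Nat.ble 60 c then cBPG_60 else cBPG_59)) else (bif Nat.ble 57 c then (bif Nat.ble 58 c then cBPG_58 else cBPG_57) else (bif Nat.ble 56 c then cBPG_56 else cBPG_55))) else (bif Nat.ble 52 c then (bif Nat.ble 54 c then cBPG_54 else (bif Nat.ble 53 c then cBPG_53 else cBPG_52)) else (bif Nat.ble 50 c then (bif Nat.ble 51 c then cBPG_51 else cBPG_50) else (bif Nat.ble 49 c then cBPG_49 else cBPG_48))))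
def sBPG (c : Nat) : Nat := (bif Nat.ble 32 c then (bif Nat.ble 48 c then sBPG_0_3 c else sBPG_0_2 c) else (bif Nat.ble 16 c then sBPG_0_1 c else sBPG_0_0 c))
def gBPG (i : Nat) : Nat := Nat.land (Nat.shiftRight (sBPG (Nat.shiftRight i 9)) (Nat.mul 19 (Nat.land i 511))) 524287
def sORB_0_0 (c : Nat) : Nat := (bif Nat.ble 8 c then (bif Nat.ble 12 c then (bif Nat.ble 14 c then (bif Nat.ble 15 c then cORB_15 else cORB_14) else (bif Nat.ble 13 c then cORB_13 else cORB_12)) else (bif Nat.ble 10 c then (bif Nat.ble 11 c then cORB_11 else cORB_10) else (bif Nat.ble 9 c then cORB_9 else cORB_8))) else (bif Nat.ble 4 c then (bif Nat.ble 6 c then (bif Nat.ble 7 c then cORB_7 else cORB_6) else (bif Nat.ble 5 c then cORB_5 else cORB_4)) else (bif Nat.ble 2 c then (bif Nat.ble 3 c then cORB_3 else cORB_2) else (bif Nat.ble 1 c then cORB_1 else cORB_0))))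
def sORB_0_1 (c : Nat) : Nat := (bif Nat.ble 24 c then (bif Nat.ble 28 c then (bif Nat.ble 30 c then (bif Nat.ble 31 c then cORB_31 else cORB_30) else (bif Nat.ble 29 c then cORB_29 else cORB_28)) else (bif Nat.ble 26 c then (bif Nat.ble 27 c then cORB_27 else cORB_26) else (bif Nat.ble 25 c then cORB_25 else cORB_24))) else (bif Nat.ble 20 c then (bif Nat.ble 22 c then (bif Nat.ble 23 c then cORB_23 else cORB_22) else (bif Nat.ble 21 c then cORB_21 else cORB_20)) else (bif Nat.ble 18 c then (bif Nat.ble 19 c then cORB_19 else cORB_18) else (bif Nat.ble 17 c then cORB_17 else cORB_16))))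
def sORB_0_2 (c : Nat) : Nat := (bif Nat.ble 40 c then (bif Nat.ble 44 c then (bif Nat.ble 46 c then (bif Nat.ble 47 c then cORB_47 else cORB_46) else (bif Nat.ble 45 c then cORB_45 else cORB_44)) else (bif Nat.ble 42 c then (bif Nat.ble 43 c then cORB_43 else cORB_42) else (bif Nat.ble 41 c then cORB_41 else cORB_40))) else (bif Nat.ble 36 c then (bif Nat.ble 38 c then (bif Nat.ble 39 c then cORB_39 else cORB_38) else (bif Nat.ble 37 c then cORB_37 else cORB_36)) else (bif Nat.ble 34 c then (bif Nat.ble 35 c then cORB_35 else cORB_34) else (bif Nat.ble 33 c then cORB_33 else cORB_32))))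
def sORB_0_3 (c : Nat) : Nat := (bif Nat.ble 55 c then (bif Nat.ble 59 c then (bif Nat.ble 61 c then cORB_61 else (bif Nat.ble 60 c then cORB_60 else cORB_59)) else (bif Nat.ble 57 c then (bif Nat.ble 58 c then cORB_58 else cORB_57) else (bif Nat.ble 56 c then cORB_56 else cORB_55))) else (bif Nat.ble 52 c then (bif Nat.ble 54 c then cORB_54 else (bif Nat.ble 53 c then cORB_53 else cORB_52)) else (bif Nat.ble 50 c then (bif Nat.ble 51 c then cORB_51 else cORB_50) else (bif Nat.ble 49 c then cORB_49 else cORB_48))))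
def sORB (c : Nat) : Nat := (bif Nat.ble 32 c then (bif Nat.ble 48 c then sORB_0_3 c else sORB_0_2 c) else (bif Nat.ble 16 c then sORB_0_1 c else sORB_0_0 c))
def gORB (i : Nat) : Nat := Nat.land (Nat.shiftRight (sORB (Nat.shiftRight i 9)) (Nat.mul 27 (Nat.land i 511))) 134217727
def sTT0 (c : Nat) : Nat := (bif Nat.ble 8 c then (bif Nat.ble 12 c then (bif Nat.ble 14 c then (bif Nat.ble 15 c then cTT0_15 else cTT0_14) else (bif Nat.ble 13 c then cTT0_13 else cTT0_12)) else (bif Nat.ble 10 c then (bif Nat.ble 11 c then cTT0_11 else cTT0_10) else (bif Nat.ble 9 c then cTT0_9 else cTT0_8))) else (bif Nat.ble 4 c then (bif Nat.ble 6 c then (bif Nat.ble 7 c then cTT0_7 else cTT0_6) else (bif Nat.ble 5 c then cTT0_5 else cTT0_4)) else (bif Nat.ble 2 c then (bif Nat.ble 3 c then cTT0_3 else cTT0_2) else (bif Nat.ble 1 c then cTT0_1 else cTT0_0))))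
def T0 (i : Nat) : Nat := Nat.land (Nat.shiftRight (sTT0 (Nat.shiftRight i 11)) (Nat.mul 15 (Nat.land i 2047))) 32767
def sTT1 (c : Nat) : Nat := (bif Nat.ble 8 c then (bif Nat.ble 12 c then (bif Nat.ble 14 c then (bif Nat.ble 15 c then cTT1_15 else cTT1_14) else (bif Nat.ble 13 c then cTT1_13 else cTT1_12)) else (bif Nat.ble 10 c then (bif Nat.ble 11 c then cTT1_11 else cTT1_10) else (bif Nat.ble 9 c then cTT1_9 else cTT1_8))) else (bif Nat.ble 4 c then (bif Nat.ble 6 c then (bif Nat.ble 7 c then cTT1_7 else cTT1_6) else (bif Nat.ble 5 c then cTT1_5 else cTT1_4)) else (bif Nat.ble 2 c then (bif Nat.ble 3 c then cTT1_3 else cTT1_2) else (bif Nat.ble 1 c then cTT1_1 else cTT1_0))))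
def T1 (i : Nat) : Nat := Nat.land (Nat.shiftRight (sTT1 (Nat.shiftRight i 11)) (Nat.mul 15 (Nat.land i 2047))) 32767
def sTT2 (c : Nat) : Nat := (bif Nat.ble 8 c then (bif Nat.ble 12 c then (bif Nat.ble 14 c then (bif Nat.ble 15 c then cTT2_15 else cTT2_14) else (bif Nat.ble 13 c then cTT2_13 else cTT2_12)) else (bif Nat.ble 10 c then (bif Nat.ble 11 c then cTT2_11 else cTT2_10) else (bif Nat.ble 9 c then cTT2_9 else cTT2_8))) else (bif Nat.ble 4 c then (bif Nat.ble 6 c then (bif Nat.ble 7 c then cTT2_7 else cTT2_6) else (bif Nat.ble 5 c then cTT2_5 else cTT2_4)) else (bif Nat.ble 2 c then (bif Nat.ble 3 c then cTT2_3 else cTT2_2) else (bif Nat.ble 1 c then cTT2_1 else cTT2_0))))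
def T2 (i : Nat) : Nat := Nat.land (Nat.shiftRight (sTT2 (Nat.shiftRight i 11)) (Nat.mul 15 (Nat.land i 2047))) 32767
def sTT3 (c : Nat) : Nat := (bif Nat.ble 8 c then (bif Nat.ble 12 c then (bif Nat.ble 14 c then (bif Nat.ble 15 c then cTT3_15 else cTT3_14) else (bif Nat.ble 13 c then cTT3_13 else cTT3_12)) else (bif Nat.ble 10 c then (bif Nat.ble 11 c then cTT3_11 else cTT3_10) else (bif Nat.ble 9 c then cTT3_9 else cTT3_8))) else (bif Nat.ble 4 c then (bif Nat.ble 6 c then (bif Nat.ble 7 c then cTT3_7 else cTT3_6) else (bif Nat.ble 5 c then cTT3_5 else cTT3_4)) else (bif Nat.ble 2 c then (bif Nat.ble 3 c then cTT3_3 else cTT3_2) else (bif Nat.ble 1 c then cTT3_1 else cTT3_0))))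
def T3 (i : Nat) : Nat := Nat.land (Nat.shiftRight (sTT3 (Nat.shiftRight i 11)) (Nat.mul 15 (Nat.land i 2047))) 32767
def sTT4 (c : Nat) : Nat := (bif Nat.ble 8 c then (bif Nat.ble 12 c then (bif Nat.ble 14 c then (bif Nat.ble 15 c then cTT4_15 else cTT4_14) else (bif Nat.ble 13 c then cTT4_13 else cTT4_12)) else (bif Nat.ble 10 c then (bif Nat.ble 11 c then cTT4_11 else cTT4_10) else (bif Nat.ble 9 c then cTT4_9 else cTT4_8))) else (bif Nat.ble 4 c then (bif Nat.ble 6 c then (bif Nat.ble 7 c then cTT4_7 else cTT4_6) else (bif Nat.ble 5 c then cTT4_5 else cTT4_4)) else (bif Nat.ble 2 c then (bif Nat.ble 3 c then cTT4_3 else cTT4_2) else (bif Nat.ble 1 c then cTT4_1 else cTT4_0))))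
def T4 (i : Nat) : Nat := Nat.land (Nat.shiftRight (sTT4 (Nat.shiftRight i 11)) (Nat.mul 15 (Nat.land i 2047))) 32767
def sTT5 (c : Nat) : Nat := (bif Nat.ble 8 c then (bif Nat.ble 12 c then (bif Nat.ble 14 c then (bif Nat.ble 15 c then cTT5_15 else cTT5_14) else (bif Nat.ble 13 c then cTT5_13 else cTT5_12)) else (bif Nat.ble 10 c then (bif Nat.ble 11 c then cTT5_11 else cTT5_10) else (bif Nat.ble 9 c then cTT5_9 else cTT5_8))) else (bif Nat.ble 4 c then (bif Nat.ble 6 c then (bif Nat.ble 7 c then cTT5_7 else cTT5_6) else (bif Nat.ble 5 c then cTT5_5 else cTT5_4)) else (bif Nat.ble 2 c then (bif Nat.ble 3 c then cTT5_3 else cTT5_2) else (bif Nat.ble 1 c then cTT5_1 else cTT5_0))))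
def T5 (i : Nat) : Nat := Nat.land (Nat.shiftRight (sTT5 (Nat.shiftRight i 11)) (Nat.mul 15 (Nat.land i 2047))) 32767
def sTT6 (c : Nat) : Nat := (bif Nat.ble 8 c then (bif Nat.ble 12 c then (bif Nat.ble 14 c then (bif Nat.ble 15 c then cTT6_15 else cTT6_14) else (bif Nat.ble 13 c then cTT6_13 else cTT6_12)) else (bif Nat.ble 10 c then (bif Nat.ble 11 c then cTT6_11 else cTT6_10) else (bif Nat.ble 9 c then cTT6_9 else cTT6_8))) else (bif Nat.ble 4 c then (bif Nat.ble 6 c then (bif Nat.ble 7 c then cTT6_7 else cTT6_6) else (bif Nat.ble 5 c then cTT6_5 else cTT6_4)) else (bif Nat.ble 2 c then (bif Nat.ble 3 c then cTT6_3 else cTT6_2) else (bif Nat.ble 1 c then cTT6_1 else cTT6_0))))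
def T6 (i : Nat) : Nat := Nat.land (Nat.shiftRight (sTT6 (Nat.shiftRight i 11)) (Nat.mul 15 (Nat.land i 2047))) 32767
def sTT7 (c : Nat) : Nat := (bif Nat.ble 8 c then (bif Nat.ble 12 c then (bif Nat.ble 14 c then (bif Nat.ble 15 c then cTT7_15 else cTT7_14) else (bif Nat.ble 13 c then cTT7_13 else cTT7_12)) else (bif Nat.ble 10 c then (bif Nat.ble 11 c then cTT7_11 else cTT7_10) else (bif Nat.ble 9 c then cTT7_9 else cTT7_8))) else (bif Nat.ble 4 c then (bif Nat.ble 6 c then (bif Nat.ble 7 c then cTT7_7 else cTT7_6) else (bif Nat.ble 5 c then cTT7_5 else cTT7_4)) else (bif Nat.ble 2 c then (bif Nat.ble 3 c then cTT7_3 else cTT7_2) else (bif Nat.ble 1 c then cTT7_1 else cTT7_0))))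
def T7 (i : Nat) : Nat := Nat.land (Nat.shiftRight (sTT7 (Nat.shiftRight i 11)) (Nat.mul 15 (Nat.land i 2047))) 32767
def sTT8 (c : Nat) : Nat := (bif Nat.ble 8 c then (bif Nat.ble 12 c then (bif Nat.ble 14 c then (bif Nat.ble 15 c then cTT8_15 else cTT8_14) else (bif Nat.ble 13 c then cTT8_13 else cTT8_12)) else (bif Nat.ble 10 c then (bif Nat.ble 11 c then cTT8_11 else cTT8_10) else (bif Nat.ble 9 c then cTT8_9 else cTT8_8))) else (bif Nat.ble 4 c then (bif Nat.ble 6 c then (bif Nat.ble 7 c then cTT8_7 else cTT8_6) else (bif Nat.ble 5 c then cTT8_5 else cTT8_4)) else (bif Nat.ble 2 c then (bif Nat.ble 3 c then cTT8_3 else cTT8_2) else (bif Nat.ble 1 c then cTT8_1 else cTT8_0))))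
def T8 (i : Nat) : Nat := Nat.land (Nat.shiftRight (sTT8 (Nat.shiftRight i 11)) (Nat.mul 15 (Nat.land i 2047))) 32767
def sTT9 (c : Nat) : Nat := (bif Nat.ble 8 c then (bif Nat.ble 12 c then (bif Nat.ble 14 c then (bif Nat.ble 15 c then cTT9_15 else cTT9_14) else (bif Nat.ble 13 c then cTT9_13 else cTT9_12)) else (bif Nat.ble 10 c then (bif Nat.ble 11 c then cTT9_11 else cTT9_10) else (bif Nat.ble 9 c then cTT9_9 else cTT9_8))) else (bif Nat.ble 4 c then (bif Nat.ble 6 c then (bif Nat.ble 7 c then cTT9_7 else cTT9_6) else (bif Nat.ble 5 c then cTT9_5 else cTT9_4)) else (bif Nat.ble 2 c then (bif Nat.ble 3 c then cTT9_3 else cTT9_2) else (bif Nat.ble 1 c then cTT9_1 else cTT9_0))))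
def T9 (i : Nat) : Nat := Nat.land (Nat.shiftRight (sTT9 (Nat.shiftRight i 11)) (Nat.mul 15 (Nat.land i 2047))) 32767

def nn : Nat := 31671
def kk : Nat := 10
def nF : Nat := 220445
def cycW : List (List Nat) := [[0], [1], [2], [3], [4], [5], [6], [8], [9], [0, 0], [1, 1], [2, 2], [3, 3], [4, 4], [5, 5], [6, 6], [7, 7], [8, 8], [9, 9], [1, 0, 1, 0, 1, 0], [2, 0, 2, 0], [3, 0, 3, 0], [4, 0, 4, 0], [5, 0, 5, 0], [6, 0, 6, 0], [7, 0, 7, 0], [8, 0, 8, 0], [9, 0, 9, 0], [2, 1, 2, 1, 2, 1], [3, 1, 3, 1], [4, 1, 4, 1], [5, 1, 5, 1], [6, 1, 6, 1], [7, 1, 7, 1], [8, 1, 8, 1], [9, 1, 9, 1], [3, 2, 3, 2, 3, 2], [4, 2, 4, 2], [5, 2, 5, 2], [6, 2, 6, 2], [7, 2, 7, 2], [8, 2, 8, 2], [9, 2, 9, 2], [4, 3, 4, 3, 4, 3], [5, 3, 5, 3], [6, 3, 6, 3], [7, 3, 7, 3], [8, 3, 8, 3, 8, 3], [9, 3, 9, 3], [5, 4, 5, 4, 5, 4], [6, 4, 6, 4], [7, 4, 7, 4], [8, 4, 8, 4], [9, 4, 9, 4], [6, 5, 6, 5, 6, 5], [7, 5, 7, 5], [8, 5, 8, 5], [9, 5, 9, 5], [7, 6, 7, 6, 7, 6], [8, 6, 8, 6], [9, 6, 9, 6], [8, 7, 8, 7], [9, 7, 9, 7], [9, 8, 9,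 8, 9, 8], [9, 8, 3, 5, 4, 3, 1, 2, 3, 9, 8, 3, 5, 4, 3, 1, 2, 3, 9, 8, 3, 5, 4, 3, 1, 2, 3, 9, 8, 3, 5, 4, 3, 1, 2, 3, 9, 8, 3, 5, 4, 3, 1, 2, 3, 9, 8, 3, 5, 4, 3, 1, 2, 3, 9, 8, 3, 5, 4, 3, 1, 2, 3, 9, 8, 3, 5, 4, 3, 1, 2, 3, 9, 8, 3, 5, 4, 3, 1, 2, 3, 9, 8, 3, 5, 4, 3, 1, 2, 3], [8, 5, 4, 3, 2, 1, 0, 8, 5, 4, 3, 2, 1, 0, 8, 5, 4, 3, 2, 1, 0, 8, 5, 4, 3, 2, 1, 0, 8, 5, 4, 3, 2, 1, 0, 8, 5, 4, 3, 2, 1, 0, 8, 5, 4, 3, 2, 1, 0, 8, 5, 4, 3, 2, 1, 0, 8, 5, 4, 3, 2, 1, 0]]
def T (x i : Nat) : Nat :=
  match x with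
  | 0 => T0 i
  | 1 => T1 i
  | 2 => T2 i
  | 3 => T3 i
  | 4 => T4 i
  | 5 => T5 i
  | 6 => T6 i
  | 7 => T7 i
  | 8 => T8 i
  | 9 => T9 i
  | _ => 0
def fin (x i : Nat) : Nat := gFIN (Nat.add (Nat.shiftLeft i 4) x)
def can (i : Nat) : Nat := gCAN i
def bp (i : Nat) : Nat := fld (gBPG i) 0 32767
def bg (i : Nat) : Nat := fld (gBPG i) 15 15
def ol (i : Nat) : Nat := fld (gORB i) 0 3
def op (i : Nat) : Nat := fld (gORB i) 2 32767
def ow (i : Nat) : Nat := fld (gORB i) 17 15
def od (i : Nat) : Nat := fld (gORB i) 21 63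
def C : Cert where
  cyc := cycW
  ns := 9
  nd := gND
  fp := gFP
  fj := gFJ
  st := gST
  wN := 16
  wR := 7
  wL := 7
  wO := 20


def LL : List (List Nat) := [[1, 3, 2, 2, 2, 2, 2, 2, 2, 2], [3, 1, 3, 2, 2, 2, 2, 2, 2, 2], [2, 3, 1, 3, 2, 2, 2, 2, 2, 2], [2, 2, 3, 1, 3, 2, 2, 2, 3, 2], [2, 2, 2, 3, 1, 3, 2, 2, 2, 2], [2, 2, 2, 2, 3, 1, 3, 2, 2, 2], [2, 2, 2, 2, 2, 3, 1, 3, 2, 2], [2, 2, 2, 2, 2, 2, 3, 1, 2, 2], [2, 2, 2, 3, 2, 2, 2, 2, 1, 3], [2, 2, 2, 2, 2, 2, 2, 2, 3, 1]]
def L (x y : Nat) : Nat := (LL.getD x []).getD y 0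
def extraW : List (List Nat) := [[9, 8, 3, 5, 4, 3, 1, 2, 3, 9, 8, 3, 5, 4, 3, 1, 2, 3, 9, 8, 3, 5, 4, 3, 1, 2, 3, 9, 8, 3, 5, 4, 3, 1, 2, 3, 9, 8, 3, 5, 4, 3, 1, 2, 3, 9, 8, 3, 5, 4, 3, 1, 2, 3, 9, 8, 3, 5, 4, 3, 1, 2, 3, 9, 8, 3, 5, 4, 3, 1, 2, 3, 9, 8, 3, 5, 4, 3, 1, 2, 3, 9, 8, 3, 5, 4, 3, 1, 2, 3], [8, 5, 4, 3, 2, 1, 0, 8, 5, 4, 3, 2, 1, 0, 8, 5, 4, 3, 2, 1, 0, 8, 5, 4, 3, 2, 1, 0, 8, 5, 4, 3, 2, 1, 0, 8, 5, 4, 3, 2, 1, 0, 8, 5, 4, 3, 2, 1, 0, 8, 5, 4, 3, 2, 1, 0, 8, 5, 4, 3, 2, 1, 0]]
def sw : List (List Nat) := [[0], [1], [2], [3], [4], [5], [6], [8], [9]]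
def roots : List Nat := [0, 1, 52]
def relWords : List (List Nat) := [[0, 0], [1, 0, 1, 0, 1, 0], [2, 0, 2, 0], [3, 0, 3, 0], [4, 0, 4, 0], [5, 0, 5, 0], [6, 0, 6, 0], [7, 0, 7, 0], [8, 0, 8, 0], [9, 0, 9, 0], [1, 1], [2, 1, 2, 1, 2, 1], [3, 1, 3, 1], [4, 1, 4, 1], [5, 1, 5, 1], [6, 1, 6, 1], [7, 1, 7, 1], [8, 1, 8, 1], [9, 1, 9, 1], [2, 2], [3, 2, 3, 2, 3, 2], [4, 2, 4, 2], [5, 2, 5, 2], [6, 2, 6, 2], [7, 2, 7, 2], [8, 2, 8, 2], [9, 2, 9, 2], [3, 3], [4, 3, 4, 3, 4, 3], [5, 3, 5, 3], [6, 3, 6, 3], [7, 3, 7, 3], [8, 3, 8, 3, 8, 3], [9, 3, 9, 3], [4, 4], [5, 4, 5, 4, 5, 4], [6, 4, 6, 4], [7, 4, 7, 4], [8, 4, 8, 4], [9, 4, 9, 4], [5, 5], [6, 5, 6, 5, 6, 5], [7, 5, 7, 5], [8, 5, 8, 5], [9, 5, 9, 5], [6, 6], [7, 6, 7, 6, 7, 6], [8, 6, 8, 6], [9, 6, 9, 6], [7, 7], [8, 7, 8, 7], [9, 7, 9, 7], [8, 8], [9, 8, 9, 8, 9, 8], [9, 9], [9, 8, 3, 5, 4, 3, 1, 2, 3, 9, 8, 3, 5, 4, 3, 1, 2, 3, 9, 8, 3, 5, 4, 3, 1, 2, 3, 9, 8, 3, 5, 4, 3, 1, 2, 3, 9, 8, 3, 5, 4, 3, 1, 2, 3, 9, 8, 3, 5, 4, 3, 1, 2, 3, 9, 8, 3, 5, 4, 3,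 1, 2, 3, 9, 8, 3, 5, 4, 3, 1, 2, 3, 9, 8, 3, 5, 4, 3, 1, 2, 3, 9, 8, 3, 5, 4, 3, 1, 2, 3], [8, 5, 4, 3, 2, 1, 0, 8, 5, 4, 3, 2, 1, 0, 8, 5, 4, 3, 2, 1, 0, 8, 5, 4, 3, 2, 1, 0, 8, 5, 4, 3, 2, 1, 0, 8, 5, 4, 3, 2, 1, 0, 8, 5, 4, 3, 2, 1, 0, 8, 5, 4, 3, 2, 1, 0, 8, 5, 4, 3, 2, 1, 0]]
def fr_0 (i : Nat) : Nat := T0 (T0 i)
def fr_1 (i : Nat) : Nat := T0 (T1 (T0 (T1 (T0 (T1 i)))))
def fr_2 (i : Nat) : Nat := T0 (T2 (T0 (T2 i)))
def fr_3 (i : Nat) : Nat := T0 (T3 (T0 (T3 i)))
def fr_4 (i : Nat) : Nat := T0 (T4 (T0 (T4 i)))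
def fr_5 (i : Nat) : Nat := T0 (T5 (T0 (T5 i)))
def fr_6 (i : Nat) : Nat := T0 (T6 (T0 (T6 i)))
def fr_7 (i : Nat) : Nat := T0 (T7 (T0 (T7 i)))
def fr_8 (i : Nat) : Nat := T0 (T8 (T0 (T8 i)))
def fr_9 (i : Nat) : Nat := T0 (T9 (T0 (T9 i)))
def fr_10 (i : Nat) : Nat := T1 (T1 i)
def fr_11 (i : Nat) : Nat := T1 (T2 (T1 (T2 (T1 (T2 i)))))
def fr_12 (i : Nat) : Nat := T1 (T3 (T1 (T3 i)))
def fr_13 (i : Nat) : Nat := T1 (T4 (T1 (T4 i)))
def fr_14 (i : Nat) : Nat := T1 (T5 (T1 (T5 i)))
def fr_15 (i : Nat) : Nat := T1 (T6 (T1 (T6 i)))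
def fr_16 (i : Nat) : Nat := T1 (T7 (T1 (T7 i)))
def fr_17 (i : Nat) : Nat := T1 (T8 (T1 (T8 i)))
def fr_18 (i : Nat) : Nat := T1 (T9 (T1 (T9 i)))
def fr_19 (i : Nat) : Nat := T2 (T2 i)
def fr_20 (i : Nat) : Nat := T2 (T3 (T2 (T3 (T2 (T3 i)))))
def fr_21 (i : Nat) : Nat := T2 (T4 (T2 (T4 i)))
def fr_22 (i : Nat) : Nat := T2 (T5 (T2 (T5 i)))
def fr_23 (i : Nat) : Nat := T2 (T6 (T2 (T6 i)))
def fr_24 (i : Nat) : Nat := T2 (T7 (T2 (T7 i)))
def fr_25 (i : Nat) : Nat := T2 (T8 (T2 (T8 i)))
def fr_26 (i : Nat) : Nat := T2 (T9 (T2 (T9 i)))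
def fr_27 (i : Nat) : Nat := T3 (T3 i)
def fr_28 (i : Nat) : Nat := T3 (T4 (T3 (T4 (T3 (T4 i)))))
def fr_29 (i : Nat) : Nat := T3 (T5 (T3 (T5 i)))
def fr_30 (i : Nat) : Nat := T3 (T6 (T3 (T6 i)))
def fr_31 (i : Nat) : Nat := T3 (T7 (T3 (T7 i)))
def fr_32 (i : Nat) : Nat := T3 (T8 (T3 (T8 (T3 (T8 i)))))
def fr_33 (i : Nat) : Nat := T3 (T9 (T3 (T9 i)))
def fr_34 (i : Nat) : Nat := T4 (T4 i)
def fr_35 (i : Nat) : Nat := T4 (T5 (T4 (T5 (T4 (T5 i)))))
def fr_36 (i : Nat) : Nat := T4 (T6 (T4 (T6 i)))
def fr_37 (i : Nat) : Nat := T4 (T7 (T4 (T7 i)))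
def fr_38 (i : Nat) : Nat := T4 (T8 (T4 (T8 i)))
def fr_39 (i : Nat) : Nat := T4 (T9 (T4 (T9 i)))
def fr_40 (i : Nat) : Nat := T5 (T5 i)
def fr_41 (i : Nat) : Nat := T5 (T6 (T5 (T6 (T5 (T6 i)))))
def fr_42 (i : Nat) : Nat := T5 (T7 (T5 (T7 i)))
def fr_43 (i : Nat) : Nat := T5 (T8 (T5 (T8 i)))
def fr_44 (i : Nat) : Nat := T5 (T9 (T5 (T9 i)))
def fr_45 (i : Nat) : Nat := T6 (T6 i)
def fr_46 (i : Nat) : Nat := T6 (T7 (T6 (T7 (T6 (T7 i)))))
def fr_47 (i : Nat) : Nat := T6 (T8 (T6 (T8 i)))
def fr_48 (i : Nat) : Nat := T6 (T9 (T6 (T9 i)))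
def fr_49 (i : Nat) : Nat := T7 (T7 i)
def fr_50 (i : Nat) : Nat := T7 (T8 (T7 (T8 i)))
def fr_51 (i : Nat) : Nat := T7 (T9 (T7 (T9 i)))
def fr_52 (i : Nat) : Nat := T8 (T8 i)
def fr_53 (i : Nat) : Nat := T8 (T9 (T8 (T9 (T8 (T9 i)))))
def fr_54 (i : Nat) : Nat := T9 (T9 i)
def fr_55 (i : Nat) : Nat := T3 (T2 (T1 (T3 (T4 (T5 (T3 (T8 (T9 (T3 (T2 (T1 (T3 (T4 (T5 (T3 (T8 (T9 (T3 (T2 (T1 (T3 (T4 (T5 (T3 (T8 (T9 (T3 (T2 (T1 (T3 (T4 (T5 (T3 (T8 (T9 (T3 (T2 (T1 (T3 (T4 (T5 (T3 (T8 (T9 (T3 (T2 (T1 (T3 (T4 (T5 (T3 (T8 (T9 (T3 (T2 (T1 (T3 (T4 (T5 (T3 (T8 (T9 (T3 (T2 (T1 (T3 (T4 (T5 (T3 (T8 (T9 (T3 (T2 (T1 (T3 (T4 (T5 (T3 (T8 (T9 (T3 (T2 (T1 (T3 (T4 (T5 (T3 (T8 (T9 i)))))))))))))))))))))))))))))))))))))))))))))))))))))))))))))))))))))))))))))))))))))))))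
def fr_56 (i : Nat) : Nat := T0 (T1 (T2 (T3 (T4 (T5 (T8 (T0 (T1 (T2 (T3 (T4 (T5 (T8 (T0 (T1 (T2 (T3 (T4 (T5 (T8 (T0 (T1 (T2 (T3 (T4 (T5 (T8 (T0 (T1 (T2 (T3 (T4 (T5 (T8 (T0 (T1 (T2 (T3 (T4 (T5 (T8 (T0 (T1 (T2 (T3 (T4 (T5 (T8 (T0 (T1 (T2 (T3 (T4 (T5 (T8 (T0 (T1 (T2 (T3 (T4 (T5 (T8 i))))))))))))))))))))))))))))))))))))))))))))))))))))))))))))))
def fastRel (i : Nat) : Bool := Nat.ble nn i || (Nat.beq (fr_0 i) i && (Nat.beq (fr_1 i) i && (Nat.beq (fr_2 i) i && (Nat.beq (fr_3 i) i && (Nat.beq (fr_4 i) i && (Nat.beq (fr_5 i) i && (Nat.beq (fr_6 i) i && (Nat.beq (fr_7 i) i && (Nat.beq (fr_8 i) i && (Nat.beq (fr_9 i) i && (Nat.beq (fr_10 i) i && (Nat.beq (fr_11 i) i && (Nat.beq (fr_12 i) i && (Nat.beq (fr_13 i) i && (Nat.beq (fr_14 i) i && (Nat.beq (fr_15 i) i && (Nat.beq (fr_16 i) i && (Nat.beq (fr_17 i) i && (Nat.beq (fr_18 i) i && (Nat.beq (fr_19 i) i && (Nat.beq (fr_20 i) i && (Nat.beq (fr_21 i) i && (Nat.beq (fr_22 i) i && (Nat.beq (fr_23 i) i && (Nat.beq (fr_24 i) i && (Nat.beq (fr_25 i) i && (Nat.beq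 (fr_26 i) i && (Nat.beq (fr_27 i) i && (Nat.beq (fr_28 i) i && (Nat.beq (fr_29 i) i && (Nat.beq (fr_30 i) i && (Nat.beq (fr_31 i) i && (Nat.beq (fr_32 i) i && (Nat.beq (fr_33 i) i && (Nat.beq (fr_34 i) i && (Nat.beq (fr_35 i) i && (Nat.beq (fr_36 i) i && (Nat.beq (fr_37 i) i && (Nat.beq (fr_38 i) i && (Nat.beq (fr_39 i) i && (Nat.beq (fr_40 i) i && (Nat.beq (fr_41 i) i && (Nat.beq (fr_42 i) i && (Nat.beq (fr_43 i) i && (Nat.beq (fr_44 i) i && (Nat.beq (fr_45 i) i && (Nat.beq (fr_46 i) i && (Nat.beq (fr_47 i) i && (Nat.beq (fr_48 i) i && (Nat.beq (fr_49 i) i && (Nat.beq (fr_50 i) i && (Nat.beq (fr_51 i) i && (Nat.beq (fr_52 i) i && (Nat.beq (fr_53 i) i && (Nat.beq (fr_54 i) i && (Nat.beq (fr_55 i) i && (Nat.beq (fr_56 i) i && true)))))))))))))))))))))))))))))))))))))))))))))))))))))))))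

end Cfsg.Agent.Lib.Helper25.TC.Fi23_31671
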