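import Cfsg.Agent.Lib.Helper25.TCG2Surj

set_option autoImplicit false
set_option maxRecDepth 1000000
set_option linter.unusedVariables false
set_option linter.unusedSimpArgs false
set_option Elab.async false

namespace Cfsg.Agent.Lib.Helper25.TC.G2Mat

open Cfsg.Agent.Lib.Helper25.TC

theorem ckRoot_0 : ckRoot 0 = true := by decide +kernel
theorem ckRoot_1 : ckRoot 1 = true := by decide +kernel
theorem ckRoot_2 : ckRoot 2 = true := by decide +kernel
theorem ckRoot_3 : ckRoot 3 = true := by decide +kernel

end Cfsg.Agent.Lib.Helper25.TC.G2Mat
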