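import Cfsg.Agent.Lib.Helper25.TCG2Surj
import Cfsg.Agent.Lib.Helper25.TCG2SurjP0
import Cfsg.Agent.Lib.Helper25.TCG2SurjP1
import Cfsg.Agent.Lib.Helper25.TCG2SurjP2
import Cfsg.Agent.Lib.Helper25.TCG2SurjP3
import Cfsg.Agent.Lib.Helper25.TCG2SurjP4
import Cfsg.Agent.Lib.Helper25.TCG2SurjP5

set_option autoImplicit false
set_option maxRecDepth 1000000
set_option linter.unusedVariables false
set_option linter.unusedSimpArgs false

/-! Every root element of the Chevalley group of type `G₂` over the field with four elements is a word in the images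
of the generators of the presented group `G₂(4)`; hence a homomorphism with these images is surjective. -/

namespace Cfsg.Agent.Lib.Helper25.TC.G2Mat

open Matrix Cfsg.Spor Cfsg.Agent.Lib.Helper25.TC Cfsg.Agent.Lib.Helper25.Pres

theorem ckRoot_all : ∀ j < 24, ckRoot j = true := by
  intro j hj
  interval_cases j
  · exact ckRoot_0
  · exact ckRoot_1
  · exact ckRoot_2
  · exact ckRoot_3
  · exact ckRoot_4
  · exact ckRoot_5
  · exact ckRoot_6
  · exact ckRoot_7
  · exact ckRoot_8
  · exact ckRoot_9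
  · exact ckRoot_10
  · exact ckRoot_11
  · exact ckRoot_12
  · exact ckRoot_13
  · exact ckRoot_14
  · exact ckRoot_15
  · exact ckRoot_16
  · exact ckRoot_17
  · exact ckRoot_18
  · exact ckRoot_19
  · exact ckRoot_20
  · exact ckRoot_21
  · exact ckRoot_22
  · exact ckRoot_23

/-- the value of the word with number `j` -/
theorem evr_root (j : Nat) (hj : j < 24) :
    (((evr fC (rwL.getD j []) : CG) : GL14) : M14) = xm (j / 2) (j % 2 + 1) := by
  have h1 := evr_val (rwL.getD j []) 1
  rw [mul_one] at h1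
  rw [h1]
  exact ckV_sound _ _ _ _ (ckRoot_all j hj)

theorem xm_three : ∀ r < 12, xm r 3 = xm r 2 * xm r 1 := by decide +kernel

theorem x_zero : ∀ r < 12, Cfsg.Lie.chevG2.x GF4 r 0 = 1 := by decide +kernel

theorem letters_lt : ∀ j < 24, ∀ x ∈ rwL.getD j [], x < 6 := by decide +kernel

section Surj

variable (ψ : CoxPresented SG24.Gen SG24.edges SG24.extra →* CG)
  (hψ : ∀ x < 6, ψ (cgen SG24.edges SG24.extra 6 SG24_416.ofIdx x) = fC x)

include hψ in
theorem psi_evr (w : List Nat) (hw : ∀ x ∈ w, x < 6) :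
    ψ (evr (cgen SG24.edges SG24.extra 6 SG24_416.ofIdx) w) = evr fC w := by
  induction w with
  | nil => simp [evr]
  | cons x w ih =>
    rw [evr, evr, map_mul, ih (fun y hy => hw y (List.mem_cons_of_mem _ hy)), hψ x (hw x List.mem_cons_self)]

include hψ in
/-- the root elements lie in the image -/
theorem root_mem_range (r t : Nat) (hr : r < 12) (ht : 1 ≤ t ∧ t ≤ 3) :
    ∃ p, ((ψ p : CG) : GL14) = xG r t := by
  have key : ∀ t', t' < 2 → ∃ p, ((ψ p : CG) : GL14) = xG r (t' + 1) := by
    intro t' ht'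
    have hj : 2 * r + t' < 24 := by omega
    refine ⟨evr (cgen SG24.edges SG24.extra 6 SG24_416.ofIdx) (rwL.getD (2 * r + t') []), ?_⟩
    rw [psi_evr ψ hψ _ (letters_lt _ hj)]
    apply Units.ext
    rw [evr_root _ hj]
    have e1 : (2 * r + t') / 2 = r := by omega
    have e2 : (2 * r + t') % 2 = t' := by omega
    rw [e1, e2]
    rfl
  obtain ⟨h1, h3⟩ := ht
  have c : t = 1 ∨ t = 2 ∨ t = 3 := by omega
  rcases c with rfl | rfl | rfl
  · exact key 0 (by decide)
  · exact key 1 (by decide)
  · obtain ⟨p1, hp1⟩ := key 0 (by decide)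
    obtain ⟨p2, hp2⟩ := key 1 (by decide)
    refine ⟨p2 * p1, ?_⟩
    rw [map_mul, Subgroup.coe_mul, hp1, hp2]
    apply Units.ext
    rw [Units.val_mul]
    show xm r 2 * xm r 1 = xm r 3
    exact (xm_three r hr).symm

/-- the number of an element of the field -/
def numOf : GF4 → Nat
  | .z => 0 | .o => 1 | .w => 2 | .v => 3

theorem ofN_numOf (t : GF4) : GF4.ofN (numOf t) = t := by cases t <;> rfl

include hψ in
theorem surjective_of_gens : Function.Surjective ψ := by
  have hall : ∀ g : GL14, g ∈ CG → ∃ p, ((ψ p : CG) : GL14) = g := by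
    intro g hg
    unfold CG Cfsg.Lie.ChevalleyDatum.group at hg
    induction hg using Subgroup.closure_induction with
    | mem g hg =>
      obtain ⟨r, t, hgt⟩ := hg
      have hr : r.val < 12 := r.isLt
      have hx : Cfsg.Lie.chevG2.x GF4 r.val t = Cfsg.Lie.chevG2.xMat GF4 r t := by
        unfold Cfsg.Lie.ChevalleyDatum.x
        rw [dif_pos r.isLt]
      by_cases ht : t = 0
      · refine ⟨1, ?_⟩
        rw [map_one]
        apply Units.ext
        rw [hgt, ← hx, ht, x_zero r.val hr]
        rfl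
      · have hn : 1 ≤ numOf t ∧ numOf t ≤ 3 := by
          cases t
          · exact absurd rfl ht
          · exact ⟨by decide, by decide⟩
          · exact ⟨by decide, by decide⟩
          · exact ⟨by decide, by decide⟩
        obtain ⟨p, hp⟩ := root_mem_range ψ hψ r.val (numOf t) hr hn
        refine ⟨p, ?_⟩
        rw [hp]
        apply Units.ext
        rw [hgt, ← hx]
        obtain ⟨t', ht'⟩ : ∃ t', numOf t = t' + 1 := ⟨numOf t - 1, by omega⟩
        have h4 := xm_eq_lt r.val hr t' (by omega)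
        rw [← ht', ofN_numOf] at h4
        rw [h4]
        rfl
    | one => exact ⟨1, by rw [map_one]; rfl⟩
    | mul a b ha hb iha ihb =>
      obtain ⟨p, hp⟩ := iha
      obtain ⟨q, hq⟩ := ihb
      exact ⟨p * q, by rw [map_mul, Subgroup.coe_mul, hp, hq]⟩
    | inv a ha iha =>
      obtain ⟨p, hp⟩ := iha
      exact ⟨p⁻¹, by rw [map_inv, Subgroup.coe_inv, hp]⟩
  rintro ⟨g, hg⟩
  obtain ⟨p, hp⟩ := hall g hg
  exact ⟨p, Subtype.ext hp⟩

end Surj

/-- a surjective homomorphism from the presented group `G₂(4)` onto the Chevalley group -/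
theorem exists_psi_surj : ∃ ψ : CoxPresented SG24.Gen SG24.edges SG24.extra →* CG,
    Function.Surjective ψ ∧ ∃ x : CoxPresented SG24.Gen SG24.edges SG24.extra, ψ x ≠ 1 := by
  obtain ⟨ψ, hψ⟩ := exists_hom_of_words SG24_416.setup fC fC_sq fC_rel
  refine ⟨ψ, surjective_of_gens ψ hψ, cgen SG24.edges SG24.extra 6 SG24_416.ofIdx 0, ?_⟩
  rw [hψ 0 (by decide)]
  intro h
  apply gm_ne_one
  rw [← fC_val 0, h]
  rfl

end Cfsg.Agent.Lib.Helper25.TC.G2Mat
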