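import Cfsg.Agent.Lib.Helper25.TCSG24_416T

set_option autoImplicit false
set_option maxRecDepth 1000000
set_option linter.unusedVariables false
set_option Elab.async false

namespace Cfsg.Agent.Lib.Helper25.TC.SG24_416

open Cfsg.Agent.Lib.Helper25.TC

theorem k_relp_0 : allR fastRel 8 0 = true := by decide +kernel
theorem k_relp_1 : allR fastRel 8 256 = true := by decide +kernel
theorem k_certp_0 : allR (ckCert C nF) 9 0 = true := by decide +kernel
theorem k_certp_1 : allR (ckCert C nF) 9 512 = true := by decide +kernel
theorem k_certp_2 : allR (ckCert C nF) 9 1024 = true := by decide +kernel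
theorem k_certp_3 : allR (ckCert C nF) 9 1536 = true := by decide +kernel
theorem k_certp_4 : allR (ckCert C nF) 9 2048 = true := by decide +kernel
theorem k_certp_5 : allR (ckCert C nF) 9 2560 = true := by decide +kernel
theorem k_certp_6 : allR (ckCert C nF) 9 3072 = true := by decide +kernel
theorem k_certp_7 : allR (ckCert C nF) 9 3584 = true := by decide +kernel
theorem k_finp_0 : allR (ckFin C 6 nn nF can fin T) 9 0 = true := by decide +kernel
theorem k_tblp_0 : allR (ckTbl 6 nn T) 9 0 = true := by decide +kernel
theorem k_treep_0 : allR (ckTree 6 nn T bp bg) 9 0 = true := by decide +kernel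

end Cfsg.Agent.Lib.Helper25.TC.SG24_416
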