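import Cfsg.Agent.Lib.Helper25.PresSuzChain
import Cfsg.Agent.Lib.Helper25.TCMain
import Cfsg.Agent.Lib.Helper25.TCSJ2_280P0

set_option autoImplicit false
set_option maxRecDepth 1000000
set_option linter.unusedVariables false
set_option linter.constructorNameAsVariable false
set_option linter.unusedSimpArgs false

namespace Cfsg.Agent.Lib.Helper25.TC.SJ2_280

open Cfsg.Spor Cfsg.Agent.Lib.Helper25.TC

def idx : Cfsg.Agent.Lib.Helper25.Pres.SJ2.Gen → Nat
  | .a => 0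
  | .b => 1
  | .c => 2
  | .d => 3
  | .e => 4

def ofIdx : Nat → Cfsg.Agent.Lib.Helper25.Pres.SJ2.Gen
  | 0 => .a
  | 1 => .b
  | 2 => .c
  | 3 => .d
  | 4 => .e
  | _ => .a

theorem setup : CoxSetup Cfsg.Agent.Lib.Helper25.Pres.SJ2.edges Cfsg.Agent.Lib.Helper25.Pres.SJ2.extra 5 idx ofIdx L extraW where
  ofIdx_idx := by intro a; cases a <;> rfl
  idx_ofIdx := by intro x hx; interval_cases x <;> rfl
  idx_lt := by intro a; cases a <;> decide
  allNodes := by intro a; cases a <;> decide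
  hL := by intro a b; cases a <;> cases b <;> decide
  hLsymm := by decide
  hextra := by
    unfold Cfsg.Agent.Lib.Helper25.Pres.SJ2.extra extraW
    refine List.Forall₂.cons ?_ (List.Forall₂.cons ?_ (List.Forall₂.nil))
    all_goals
      intro K _ f hf
      have hfi : ∀ x, (f x)⁻¹ = f x := fun x => inv_eq_of_mul_eq_one_left (hf x)
      simp only [map_mul, map_inv, map_pow, FreeGroup.lift_apply_of, idx, evr, pow_succ, pow_zero, one_mul,
        mul_inv_rev, hfi, mul_assoc]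

theorem relWords_eq : coxWords 5 L ++ extraW = relWords := by decide +kernel

theorem fr_0_eq (i : Nat) : tr T [0, 0] i = fr_0 i := rfl
theorem fr_1_eq (i : Nat) : tr T [1, 0, 1, 0, 1, 0, 1, 0, 1, 0] i = fr_1 i := rfl
theorem fr_2_eq (i : Nat) : tr T [2, 0, 2, 0] i = fr_2 i := rfl
theorem fr_3_eq (i : Nat) : tr T [3, 0, 3, 0] i = fr_3 i := rfl
theorem fr_4_eq (i : Nat) : tr T [4, 0, 4, 0] i = fr_4 i := rfl
theorem fr_5_eq (i : Nat) : tr T [1, 1] i = fr_5 i := rfl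
theorem fr_6_eq (i : Nat) : tr T [2, 1, 2, 1, 2, 1] i = fr_6 i := rfl
theorem fr_7_eq (i : Nat) : tr T [3, 1, 3, 1] i = fr_7 i := rfl
theorem fr_8_eq (i : Nat) : tr T [4, 1, 4, 1] i = fr_8 i := rfl
theorem fr_9_eq (i : Nat) : tr T [2, 2] i = fr_9 i := rfl
theorem fr_10_eq (i : Nat) : tr T [3, 2, 3, 2, 3, 2, 3, 2, 3, 2, 3, 2, 3, 2, 3, 2] i = fr_10 i := rfl
theorem fr_11_eq (i : Nat) : tr T [4, 2, 4, 2] i = fr_11 i := rfl
theorem fr_12_eq (i : Nat) : tr T [3, 3] i = fr_12 i := rfl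
theorem fr_13_eq (i : Nat) : tr T [4, 3, 4, 3, 4, 3] i = fr_13 i := rfl
theorem fr_14_eq (i : Nat) : tr T [4, 4] i = fr_14 i := rfl
theorem fr_15_eq (i : Nat) : tr T [2, 3, 2, 3, 2, 3, 2, 3, 0] i = fr_15 i := rfl
theorem fr_16_eq (i : Nat) : tr T [4, 3, 2, 3, 2, 1, 3, 2, 3, 2, 1, 3, 2, 3, 2, 1, 3, 2, 3, 2, 1, 3, 2, 3, 2, 1, 4, 3, 2, 3, 2, 1, 3, 2, 3, 2, 1, 3, 2, 3, 2, 1, 3, 2, 3, 2, 1, 3, 2, 3, 2, 1, 4, 3, 2, 3, 2, 1, 3, 2, 3, 2, 1, 3, 2, 3, 2, 1, 3, 2, 3, 2, 1, 3, 2, 3, 2, 1] i = fr_16 i := rfl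

theorem fastRel_eq (i : Nat) : ckRel nn T relWords i = fastRel i := by
  simp only [ckRel, relWords, List.all_cons, List.all_nil, fr_0_eq, fr_1_eq, fr_2_eq, fr_3_eq, fr_4_eq, fr_5_eq, fr_6_eq, fr_7_eq, fr_8_eq, fr_9_eq, fr_10_eq, fr_11_eq, fr_12_eq, fr_13_eq, fr_14_eq, fr_15_eq, fr_16_eq]
  rfl

theorem k_rel_fast : allR fastRel 9 0 = true := (allR_join _ _ _ _ (by decide) k_relp_0 k_relp_1)

theorem k_cert : allR (ckCert C nF) 11 0 = true := (allR_join _ _ _ _ (by decide) (allR_join _ _ _ _ (by decide) k_certp_0 k_certp_1) (allR_join _ _ _ _ (by decide) k_certp_2 k_certp_3))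

theorem k_fin : allR (ckFin C 5 nn nF can fin T) 9 0 = true := k_finp_0

theorem k_tbl : allR (ckTbl 5 nn T) 9 0 = true := k_tblp_0

theorem k_tree : allR (ckTree 5 nn T bp bg) 9 0 = true := k_treep_0

theorem checks : Checks 5 L extraW C nn nF T fin can bp bg sw where
  hn := by decide
  hns := by decide
  hsw := by decide +kernel
  hcyc := by decide +kernel
  hlet := by decide +kernel
  hletsw := by decide +kernel
  hsw0 := by decide +kernel
  hcan := by decide +kernel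
  cCert := by
    intro f hf
    have := all_lt_pow (ckCert C nF) nF 11 (by decide) k_cert f hf
    simp only [ckCert, Bool.or_eq_true] at this
    rcases this with h | h
    · have := Nat.le_of_ble_eq_true h; omega
    · exact h
  cFin := all_lt_pow _ nn 9 (by decide) k_fin
  cTbl := all_lt_pow _ nn 9 (by decide) k_tbl
  cRel := by
    intro i hi
    rw [relWords_eq, fastRel_eq]
    exact all_lt_pow fastRel nn 9 (by decide) k_rel_fast i hi
  cTree := all_lt_pow _ nn 9 (by decide) k_tree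

end Cfsg.Agent.Lib.Helper25.TC.SJ2_280
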