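import Cfsg.Agent.Lib.Helper25.TCSK0_270I
import Cfsg.Agent.Lib.Helper25.TCSJ2_280I
import Cfsg.Agent.Lib.Helper25.TCSG24_416I
import Cfsg.Agent.Lib.Helper25.TCExistD

set_option autoImplicit false
set_option maxRecDepth 1000000
set_option linter.unusedVariables false
set_option linter.unusedSimpArgs false

/-! Upper bounds for the orders of the groups given by the sub-presentations of the Suzuki presentation on
`a, b, c, d`, on `a, …, e` and on `a, …, f`, through verified coset enumerations. -/

namespace Cfsg.Agent.Lib.Helper25.TC.SuzChain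

open Cfsg.Spor Cfsg.Agent.Lib.Helper25.TC Cfsg.Agent.Lib.Helper25.Pres

/-- the sub-presentation on `a, b, c, d` has order at most `2160` -/
theorem card_le_K0 : Finite (CoxPresented SK0.Gen SK0.edges SK0.extra) ∧
    Nat.card (CoxPresented SK0.Gen SK0.edges SK0.extra) ≤ 270 * 8 :=
  card_le_cyclic SK0_270.setup SK0_270.checks 2 3 (by decide) (by decide) (by decide) 8 (by decide) (by decide)

/-- the sub-presentation on `a, …, e` has order at most `604800` -/
theorem card_le_J2 : Finite (CoxPresented SJ2.Gen SJ2.edges SJ2.extra) ∧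
    Nat.card (CoxPresented SJ2.Gen SJ2.edges SJ2.extra) ≤ 604800 := by
  have h := card_le_step (edges₁ := SK0.edges) (extra₁ := SK0.extra) (edges := SJ2.edges) (extra := SJ2.extra)
    SJ2_280.setup SJ2_280.checks SJ2.emb
    (by intro a _ b _; cases a <;> cases b <;> decide)
    (by
      intro r hr
      simp only [SK0.extra, List.mem_cons, List.not_mem_nil, or_false] at hr
      rcases hr with rfl
      simp [SJ2.extra, SJ2.emb, map_mul, map_inv, map_pow, FreeGroup.map.of])
    (by
      intro w hw
      simp only [SJ2_280.sw, List.mem_cons, List.not_mem_nil, or_false] at hw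
      rcases hw with rfl | rfl | rfl | rfl
      · exact ⟨.a, rfl⟩
      · exact ⟨.b, rfl⟩
      · exact ⟨.c, rfl⟩
      · exact ⟨.d, rfl⟩)
    (270 * 8) card_le_K0
  exact ⟨h.1, h.2.trans (by decide)⟩

/-- the sub-presentation on `a, …, f` has order at most `251596800` -/
theorem card_le_G24 : Finite (CoxPresented SG24.Gen SG24.edges SG24.extra) ∧
    Nat.card (CoxPresented SG24.Gen SG24.edges SG24.extra) ≤ 251596800 := by
  have h := card_le_step (edges₁ := SJ2.edges) (extra₁ := SJ2.extra) (edges := SG24.edges) (extra := SG24.extra)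
    SG24_416.setup SG24_416.checks SG24.emb
    (by intro a _ b _; cases a <;> cases b <;> decide)
    (by
      intro r hr
      simp only [SJ2.extra, List.mem_cons, List.not_mem_nil, or_false] at hr
      rcases hr with rfl | rfl <;>
        simp [SG24.extra, SG24.emb, map_mul, map_inv, map_pow, FreeGroup.map.of])
    (by
      intro w hw
      simp only [SG24_416.sw, List.mem_cons, List.not_mem_nil, or_false] at hw
      rcases hw with rfl | rfl | rfl | rfl | rfl
      · exact ⟨.a, rfl⟩
      · exact ⟨.b, rfl⟩
      · exact ⟨.c, rfl⟩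
      · exact ⟨.d, rfl⟩
      · exact ⟨.e, rfl⟩)
    604800 card_le_J2
  exact ⟨h.1, h.2.trans (by decide)⟩

end Cfsg.Agent.Lib.Helper25.TC.SuzChain
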