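import Cfsg.Agent.Lib.Helper25.TCSuzX

set_option autoImplicit false
set_option maxRecDepth 1000000
set_option linter.unusedVariables false
set_option Elab.async false

namespace Cfsg.Agent.Lib.Helper25.TC.SuzX

open Cfsg.Agent.Lib.Helper25.TC Cfsg.Agent.Lib.Helper25.TC.Suz1782

theorem k_xp_0 : allR ckX 8 0 = true := by decide +kernel
theorem k_xp_1 : allR ckX 8 256 = true := by decide +kernel
theorem k_xp_2 : allR ckX 8 512 = true := by decide +kernel
theorem k_xp_3 : allR ckX 8 768 = true := by decide +kernel
theorem k_xp_4 : allR ckX 8 1024 = true := by decide +kernel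
theorem k_xp_5 : allR ckX 8 1280 = true := by decide +kernel
theorem k_xp_6 : allR ckX 8 1536 = true := by decide +kernel
theorem k_xp_7 : allR ckX 8 1792 = true := by decide +kernel

end Cfsg.Agent.Lib.Helper25.TC.SuzX
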