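import Cfsg.Agent.Lib.Helper25.TCSuzX
import Cfsg.Agent.Lib.Helper25.TCSuzXP0
import Cfsg.Agent.Lib.Helper25.TCSuzChainLe

set_option autoImplicit false
set_option maxRecDepth 1000000
set_option linter.unusedVariables false
set_option linter.unusedSimpArgs false

namespace Cfsg.Agent.Lib.Helper25.TC.SuzX

open Cfsg.Spor Cfsg.Agent.Lib.Helper25.TC Cfsg.Agent.Lib.Helper25.Pres

abbrev KG := CoxPresented Suz.Gen Suz.edges Suz.extra

theorem k_x : allR ckX 11 0 = true := (allR_join _ _ _ _ (by decide) (allR_join _ _ _ _ (by decide) (allR_join _ _ _ _ (by decide) k_xp_0 k_xp_1) (allR_join _ _ _ _ (by decide) k_xp_2 k_xp_3)) (allR_join _ _ _ _ (by decide) (allR_join _ _ _ _ (by decide) k_xp_4 k_xp_5) (allR_join _ _ _ _ (by decide) k_xp_6 k_xp_7)))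

theorem k_ol : allR ckOl 11 0 = true := by decide +kernel

theorem ckX_spec : ∀ i < Suz1782.nn, ckX i = true := all_lt_pow _ Suz1782.nn 11 (by decide) k_x

theorem ckOl_spec : ∀ i < Suz1782.nn, ckOl i = true := all_lt_pow _ Suz1782.nn 11 (by decide) k_ol

theorem full_eq : fullW = fullL := by decide +kernel
theorem fw_eq (i : Nat) : tr Suz1782.T fullL i = fw i := rfl
theorem gpow_eq : gpow = gpowL := by decide +kernel
theorem fg_eq (i : Nat) : tr Suz1782.T gpowL i = fg i := rfl

theorem tr_full : ∀ i < Suz1782.nn, tr Suz1782.T [0] i = tr Suz1782.T fullW i := by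
  intro i hi
  have h := ckX_spec i hi
  simp only [ckX, Bool.or_eq_true, Bool.and_eq_true] at h
  rcases h with h | h
  · have := Nat.le_of_ble_eq_true h; omega
  · rw [full_eq, fw_eq]; exact (Nat.eq_of_beq_eq_true h.1).symm

theorem tr_gpow : ∀ i < Suz1782.nn, tr Suz1782.T gpow i = tr Suz1782.T [] i := by
  intro i hi
  have h := ckX_spec i hi
  simp only [ckX, Bool.or_eq_true, Bool.and_eq_true] at h
  rcases h with h | h
  · have := Nat.le_of_ble_eq_true h; omega
  · rw [gpow_eq, fg_eq]; exact Nat.eq_of_beq_eq_true h.2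

theorem letters_lt : (∀ x ∈ wg, x < 7) ∧ (∀ x ∈ gpow, x < 7) ∧ (∀ x ∈ fullW, x < 7) := by
  decide +kernel

/-- upper bound for the order of the presented group -/
theorem card_le : Finite KG ∧ Nat.card KG ≤ 448345497600 := by
  have h := card_le_step (edges₁ := SG24.edges) (extra₁ := SG24.extra) (edges := Suz.edges) (extra := Suz.extra)
    Suz1782.setup Suz1782.checks SG24.embSuz
    (by intro a _ b _; cases a <;> cases b <;> decide)
    (by
      intro r hr
      simp only [SG24.extra, List.mem_cons, List.not_mem_nil, or_false] at hr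
      rcases hr with rfl | rfl | rfl <;>
        simp [Suz.extra, SG24.embSuz, map_mul, map_inv, map_pow, FreeGroup.map.of])
    (by
      intro w hw
      simp only [Suz1782.sw, List.mem_cons, List.not_mem_nil, or_false] at hw
      rcases hw with rfl | rfl | rfl | rfl | rfl | rfl
      · exact ⟨.a, rfl⟩
      · exact ⟨.b, rfl⟩
      · exact ⟨.c, rfl⟩
      · exact ⟨.d, rfl⟩
      · exact ⟨.e, rfl⟩
      · exact ⟨.f, rfl⟩)
    251596800 SuzChain.card_le_G24
  exact ⟨h.1, h.2.trans (by decide)⟩

instance fact_p : Fact (Nat.Prime 11) := ⟨by norm_num⟩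

theorem sizes_eq : ∀ j < 3, (fun j => if j = Suz1782.ol 0 then 0 else cnt (fun i => Nat.beq (Suz1782.ol i) j) Suz1782.nn) j =
    (fun j => if j = 0 then 0 else szl.getD j 0) j := by
  intro j hj
  interval_cases j <;> decide +kernel

theorem hol_all : (∀ i < Suz1782.nn, Suz1782.ol i < 3) ∧ (∀ i < Suz1782.nn, Suz1782.ol i = Suz1782.ol 0 → i = 0) := by
  constructor
  · intro i hi
    have h := ckOl_spec i hi
    simp only [ckOl, Bool.or_eq_true, Bool.and_eq_true] at h
    rcases h with h | h
    · have := Nat.le_of_ble_eq_true h; omega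
    · exact Nat.le_of_ble_eq_true h.1
  · intro i hi h0
    have h := ckOl_spec i hi
    simp only [ckOl, Bool.or_eq_true, Bool.and_eq_true] at h
    rcases h with h | h
    · have := Nat.le_of_ble_eq_true h; omega
    · rcases h.2 with h2 | h2
      · exact Nat.eq_of_beq_eq_true h2
      · rw [h0, Nat.beq_refl] at h2; simp at h2

theorem normalClosure_top (hinj : Function.Injective (Suz1782.checks.phi Suz1782.setup)) :
    Subgroup.normalClosure {evr (cgen Suz.edges Suz.extra 7 Suz1782.ofIdx) wg} = (⊤ : Subgroup KG) := by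
  set gen := cgen Suz.edges Suz.extra 7 Suz1782.ofIdx with hgen
  set N : Subgroup KG := Subgroup.normalClosure {evr gen wg} with hN
  have hinv := cgen_mul_self Suz1782.setup
  have h0 : evr gen wg ∈ N := Subgroup.subset_normalClosure (Set.mem_singleton _)
  have hm0 : gen 0 ∈ N := by
    have e1 : evr gen [0] = evr gen fullW :=
      Suz1782.checks.evr_eq_of_tr Suz1782.setup hinj [0] fullW (by decide) letters_lt.2.2 tr_full
    rw [← evr_singleton gen 0, e1]
    exact ncFull_mem gen hinv N wg wu _ _ wy _ 0 h0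
  have hm1 : gen 1 ∈ N := mem_of_relator gen hinv N [0]
    (by intro x hx; simp only [List.mem_cons, List.not_mem_nil, or_false] at hx; rcases hx with rfl <;> assumption)
    [1, 0, 1, 0, 1, 0, 1, 0, 1, 0] (evr_cgen_rel Suz1782.setup _ (by rw [Suz1782.relWords_eq]; decide +kernel)) 1 (by decide +kernel)
  have hm2 : gen 2 ∈ N := mem_of_relator gen hinv N [0, 1]
    (by intro x hx; simp only [List.mem_cons, List.not_mem_nil, or_false] at hx; rcases hx with rfl | rfl <;> assumption)
    [2, 1, 2, 1, 2, 1] (evr_cgen_rel Suz1782.setup _ (by rw [Suz1782.relWords_eq]; decide +kernel)) 2 (by decide +kernel)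
  have hm5 : gen 5 ∈ N := mem_of_relator gen hinv N [0, 1, 2]
    (by intro x hx; simp only [List.mem_cons, List.not_mem_nil, or_false] at hx; rcases hx with rfl | rfl | rfl <;> assumption)
    [5, 1, 5, 1, 5, 1] (evr_cgen_rel Suz1782.setup _ (by rw [Suz1782.relWords_eq]; decide +kernel)) 5 (by decide +kernel)
  have hm6 : gen 6 ∈ N := mem_of_relator gen hinv N [0, 1, 2, 5]
    (by intro x hx; simp only [List.mem_cons, List.not_mem_nil, or_false] at hx; rcases hx with rfl | rfl | rfl | rfl <;> assumption)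
    [6, 1, 6, 1, 6, 1] (evr_cgen_rel Suz1782.setup _ (by rw [Suz1782.relWords_eq]; decide +kernel)) 6 (by decide +kernel)
  have hm4 : gen 4 ∈ N := mem_of_relator gen hinv N [0, 1, 2, 5, 6]
    (by intro x hx; simp only [List.mem_cons, List.not_mem_nil, or_false] at hx; rcases hx with rfl | rfl | rfl | rfl | rfl <;> assumption)
    [4, 3, 2, 3, 2, 1, 3, 2, 3, 2, 1, 3, 2, 3, 2, 1, 3, 2, 3, 2, 1, 3, 2, 3, 2, 1, 4, 3, 2, 3, 2, 1, 3, 2, 3, 2, 1, 3, 2, 3, 2, 1, 3, 2, 3, 2, 1, 3, 2, 3, 2, 1, 4, 3, 2, 3, 2, 1, 3, 2, 3, 2, 1, 3, 2, 3, 2, 1, 3, 2, 3, 2, 1, 3, 2, 3, 2, 1] (evr_cgen_rel Suz1782.setup _ (by rw [Suz1782.relWords_eq]; decide +kernel)) 4 (by decide +kernel)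
  have hm3 : gen 3 ∈ N := mem_of_relator gen hinv N [0, 1, 2, 5, 6, 4]
    (by intro x hx; simp only [List.mem_cons, List.not_mem_nil, or_false] at hx; rcases hx with rfl | rfl | rfl | rfl | rfl | rfl <;> assumption)
    [4, 3, 4, 3, 4, 3] (evr_cgen_rel Suz1782.setup _ (by rw [Suz1782.relWords_eq]; decide +kernel)) 3 (by decide +kernel)
  rw [eq_top_iff, ← cgen_closure Suz1782.setup, Subgroup.closure_le]
  rintro g ⟨x, hx, rfl⟩
  interval_cases x <;> assumption

theorem pow_eq_one (hinj : Function.Injective (Suz1782.checks.phi Suz1782.setup)) :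
    (evr (cgen Suz.edges Suz.extra 7 Suz1782.ofIdx) wg) ^ (11 ^ 1) = (1 : KG) := by
  have h1 : (evr (cgen Suz.edges Suz.extra 7 Suz1782.ofIdx) wg) ^ 11 = (1 : KG) := by
    rw [← evr_flatten_replicate]
    have := Suz1782.checks.evr_eq_of_tr Suz1782.setup hinj gpow [] letters_lt.2.1 (by simp) tr_gpow
    simpa [gpow, evr] using this
  rw [show (11 : ℕ) ^ 1 = 11 * 1 from by norm_num, pow_mul, h1, one_pow]

theorem harith : ∀ s ∈ sumsBelow (fun j => if j = Suz1782.ol 0 then 0 else cnt (fun i => Nat.beq (Suz1782.ol i) j) Suz1782.nn) 3,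
    (1 + s) ∣ Suz1782.nn → s = 0 ∨ 1 + s = Suz1782.nn := by
  rw [sumsBelow_congr _ _ 3 sizes_eq]
  decide +kernel

/-- the presented group is simple of order 448345497600, and acts faithfully on the 1782 cosets -/
theorem simple_card : Function.Injective (Suz1782.checks.phi Suz1782.setup) ∧ IsSimpleGroup KG ∧
    Nat.card KG = 448345497600 ∧ Nat.card (Suz1782.checks.phi Suz1782.setup).range = 448345497600 := by
  obtain ⟨hfin, hle⟩ := card_le
  exact simple_card_of_table Suz1782.setup Suz1782.checks Suz1782.orbChecks 448345497600 hfin hle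
    1 (by decide) (by decide +kernel) levels (by decide +kernel) (by decide +kernel)
    3 hol_all.1 hol_all.2 harith 11 1 40758681600 (by norm_num) (by norm_num) (by decide)
    (evr (cgen Suz.edges Suz.extra 7 Suz1782.ofIdx) wg) pow_eq_one normalClosure_top (by decide)

end Cfsg.Agent.Lib.Helper25.TC.SuzX
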