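import Cfsg.Agent.Lib.Helper25.TCSG24XMain
import Cfsg.Agent.Lib.Helper25.TCSuzXMain
import Cfsg.Agent.Lib.Helper25.TCG2SurjMain

set_option autoImplicit false
set_option maxRecDepth 1000000
set_option linter.unusedVariables false
set_option linter.unusedSimpArgs false
set_option linter.constructorNameAsVariable false

/-! The subgroup of the presented sporadic Suzuki group generated by `a, …, f` is isomorphic to the Chevalley group
of type `G₂` over a field with four elements. -/

namespace Cfsg.Agent.Lib.Helper25.TC.G2Iso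

open Cfsg.Spor Cfsg.Agent.Lib.Helper25.TC Cfsg.Agent.Lib.Helper25.Pres

/-- the group given by the sub-presentation on `a, …, f` -/
abbrev PP := CoxPresented SG24.Gen SG24.edges SG24.extra

/-- the subgroup of `Suz` generated by `a, …, f` -/
abbrev HH : Subgroup Cfsg.Spor.Suz := subH Suz.edges Suz.extra 7 Suz1782.ofIdx Suz1782.sw

theorem exists_f : ∃ f : PP →* Cfsg.Spor.Suz,
    ∀ a, f (PresentedGroup.of a) = PresentedGroup.of (SG24.embSuz a) :=
  exists_hom_of_emb (edges₁ := SG24.edges) (extra₁ := SG24.extra) (edges := Suz.edges) (extra := Suz.extra)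
    SG24.embSuz
    (by intro a _ b _; cases a <;> cases b <;> decide)
    (by
      intro r hr
      simp only [SG24.extra, List.mem_cons, List.not_mem_nil, or_false] at hr
      rcases hr with rfl | rfl | rfl <;>
        simp [Suz.extra, SG24.embSuz, map_mul, map_inv, map_pow, FreeGroup.map.of])

theorem card_PP : Nat.card PP = 251596800 := SG24X.simple_card.2.2.1

theorem simple_PP : IsSimpleGroup PP := SG24X.simple_card.2.1

theorem finite_PP : Finite PP := Nat.finite_of_card_ne_zero (by rw [card_PP]; decide)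

theorem card_HH : Nat.card HH = 251596800 := by
  have h1 := (HH).index_mul_card
  have h2 : (HH).index = 1782 := Suz1782.checks.index_eq Suz1782.setup
  have h3 : Nat.card Cfsg.Spor.Suz = 448345497600 := SuzX.simple_card.2.2.1
  rw [h2, h3] at h1
  have : 1782 * Nat.card HH = 1782 * 251596800 := by rw [h1]
  exact Nat.eq_of_mul_eq_mul_left (by decide) this

/-- the presented group `G₂(4)` is isomorphic to the subgroup generated by `a, …, f` -/
theorem equiv_HH : Nonempty (PP ≃* HH) := by
  obtain ⟨f, hf⟩ := exists_f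
  have hs := Suz1782.setup
  have hPfin := finite_PP
  have hge : HH ≤ f.range := by
    unfold HH subH
    rw [Subgroup.closure_le]
    rintro g ⟨w, hw, rfl⟩
    simp only [Suz1782.sw, List.mem_cons, List.not_mem_nil, or_false] at hw
    rcases hw with rfl | rfl | rfl | rfl | rfl | rfl
    · exact ⟨PresentedGroup.of .a, by rw [hf, evr_singleton, ← cgen_idx hs]; rfl⟩
    · exact ⟨PresentedGroup.of .b, by rw [hf, evr_singleton, ← cgen_idx hs]; rfl⟩
    · exact ⟨PresentedGroup.of .c, by rw [hf, evr_singleton, ← cgen_idx hs]; rfl⟩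
    · exact ⟨PresentedGroup.of .d, by rw [hf, evr_singleton, ← cgen_idx hs]; rfl⟩
    · exact ⟨PresentedGroup.of .e, by rw [hf, evr_singleton, ← cgen_idx hs]; rfl⟩
    · exact ⟨PresentedGroup.of .f, by rw [hf, evr_singleton, ← cgen_idx hs]; rfl⟩
  have hle : f.range ≤ HH := by
    rw [MonoidHom.range_eq_map, ← PresentedGroup.closure_range_of, MonoidHom.map_closure, Subgroup.closure_le]
    rintro g ⟨_, ⟨a, rfl⟩, rfl⟩
    rw [hf, ← cgen_idx hs, ← evr_singleton (cgen Suz.edges Suz.extra 7 Suz1782.ofIdx)]
    apply Subgroup.subset_closure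
    refine ⟨_, ?_, rfl⟩
    cases a <;> simp [Suz1782.sw, Suz1782.idx, SG24.embSuz]
  let f' : PP →* HH := f.codRestrict HH (fun p => hle ⟨p, rfl⟩)
  have hsurj : Function.Surjective f' := by
    rintro ⟨h, hh⟩
    obtain ⟨p, rfl⟩ := hge hh
    exact ⟨p, rfl⟩
  have hbij : Function.Bijective f' :=
    hsurj.bijective_of_nat_card_le (by rw [card_PP, card_HH])
  exact ⟨MulEquiv.ofBijective f' hbij⟩

/-- the presented group `G₂(4)` is isomorphic to the Chevalley group -/
theorem equiv_CG : Nonempty (PP ≃* G2Mat.CG) := by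
  obtain ⟨ψ, hsurj, x, hx⟩ := G2Mat.exists_psi_surj
  have hs := simple_PP
  have hinj : Function.Injective ψ := by
    rw [← MonoidHom.ker_eq_bot_iff]
    rcases (inferInstance : ψ.ker.Normal).eq_bot_or_eq_top with h | h
    · exact h
    · exfalso
      apply hx
      have : x ∈ ψ.ker := by rw [h]; trivial
      exact this
  exact ⟨MulEquiv.ofBijective ψ ⟨hinj, hsurj⟩⟩

/-- the subgroup generated by `a, …, f` is isomorphic to the Chevalley group -/
theorem equiv_main : Nonempty (HH ≃* G2Mat.CG) := by
  obtain ⟨e1⟩ := equiv_HH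
  obtain ⟨e2⟩ := equiv_CG
  exact ⟨e1.symm.trans e2⟩

end Cfsg.Agent.Lib.Helper25.TC.G2Iso
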