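import Cfsg.Agent.Lib.Helper25.TCHe2058D0
import Cfsg.Agent.Lib.Helper25.TCMain

set_option autoImplicit false
set_option maxRecDepth 1000000
set_option linter.unusedVariables false

namespace Cfsg.Agent.Lib.Helper25.TC.He2058

def sFP_0_0 (c : Nat) : Nat := (bif Nat.ble 8 c then (bif Nat.ble 12 c then (bif Nat.ble 14 c then (bif Nat.ble 15 c then cFP_15 else cFP_14) else (bif Nat.ble 13 c then cFP_13 else cFP_12)) else (bif Nat.ble 10 c then (bif Nat.ble 11 c then cFP_11 else cFP_10) else (bif Nat.ble 9 c then cFP_9 else cFP_8))) else (bif Nat.ble 4 c then (bif Nat.ble 6 c then (bif Nat.ble 7 c then cFP_7 else cFP_6) else (bif Nat.ble 5 c then cFP_5 else cFP_4)) else (bif Nat.ble 2 c then (bif Nat.ble 3 c then cFP_3 else cFP_2) else (bif Nat.ble 1 c then cFP_1 else cFP_0))))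
def sFP_0_1 (c : Nat) : Nat := (bif Nat.ble 24 c then (bif Nat.ble 28 c then (bif Nat.ble 30 c then (bif Nat.ble 31 c then cFP_31 else cFP_30) else (bif Nat.ble 29 c then cFP_29 else cFP_28)) else (bif Nat.ble 26 c then (bif Nat.ble 27 c then cFP_27 else cFP_26) else (bif Nat.ble 25 c then cFP_25 else cFP_24))) else (bif Nat.ble 20 c then (bif Nat.ble 22 c then (bif Nat.ble 23 c then cFP_23 else cFP_22) else (bif Nat.ble 21 c then cFP_21 else cFP_20)) else (bif Nat.ble 18 c then (bif Nat.ble 19 c then cFP_19 else cFP_18) else (bif Nat.ble 17 c then cFP_17 else cFP_16))))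
def sFP_0_2 (c : Nat) : Nat := (bif Nat.ble 36 c then (bif Nat.ble 38 c then (bif Nat.ble 39 c then cFP_39 else cFP_38) else (bif Nat.ble 37 c then cFP_37 else cFP_36)) else (bif Nat.ble 34 c then (bif Nat.ble 35 c then cFP_35 else cFP_34) else (bif Nat.ble 33 c then cFP_33 else cFP_32)))
def sFP (c : Nat) : Nat := (bif Nat.ble 32 c then sFP_0_2 c else (bif Nat.ble 16 c then sFP_0_1 c else sFP_0_0 c))
def gFP (i : Nat) : Nat := Nat.land (Nat.shiftRight (sFP (Nat.shiftRight i 9)) (Nat.mul 31 (Nat.land i 511))) 2147483647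
def sFJ_0_0 (c : Nat) : Nat := (bif Nat.ble 8 c then (bif Nat.ble 12 c then (bif Nat.ble 14 c then (bif Nat.ble 15 c then cFJ_15 else cFJ_14) else (bif Nat.ble 13 c then cFJ_13 else cFJ_12)) else (bif Nat.ble 10 c then (bif Nat.ble 11 c then cFJ_11 else cFJ_10) else (bif Nat.ble 9 c then cFJ_9 else cFJ_8))) else (bif Nat.ble 4 c then (bif Nat.ble 6 c then (bif Nat.ble 7 c then cFJ_7 else cFJ_6) else (bif Nat.ble 5 c then cFJ_5 else cFJ_4)) else (bif Nat.ble 2 c then (bif Nat.ble 3 c then cFJ_3 else cFJ_2) else (bif Nat.ble 1 c then cFJ_1 else cFJ_0))))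
def sFJ_0_1 (c : Nat) : Nat := (bif Nat.ble 24 c then (bif Nat.ble 28 c then (bif Nat.ble 30 c then (bif Nat.ble 31 c then cFJ_31 else cFJ_30) else (bif Nat.ble 29 c then cFJ_29 else cFJ_28)) else (bif Nat.ble 26 c then (bif Nat.ble 27 c then cFJ_27 else cFJ_26) else (bif Nat.ble 25 c then cFJ_25 else cFJ_24))) else (bif Nat.ble 20 c then (bif Nat.ble 22 c then (bif Nat.ble 23 c then cFJ_23 else cFJ_22) else (bif Nat.ble 21 c then cFJ_21 else cFJ_20)) else (bif Nat.ble 18 c then (bif Nat.ble 19 c then cFJ_19 else cFJ_18) else (bif Nat.ble 17 c then cFJ_17 else cFJ_16))))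
def sFJ_0_2 (c : Nat) : Nat := (bif Nat.ble 40 c then (bif Nat.ble 44 c then (bif Nat.ble 46 c then (bif Nat.ble 47 c then cFJ_47 else cFJ_46) else (bif Nat.ble 45 c then cFJ_45 else cFJ_44)) else (bif Nat.ble 42 c then (bif Nat.ble 43 c then cFJ_43 else cFJ_42) else (bif Nat.ble 41 c then cFJ_41 else cFJ_40))) else (bif Nat.ble 36 c then (bif Nat.ble 38 c then (bif Nat.ble 39 c then cFJ_39 else cFJ_38) else (bif Nat.ble 37 c then cFJ_37 else cFJ_36)) else (bif Nat.ble 34 c then (bif Nat.ble 35 c then cFJ_35 else cFJ_34) else (bif Nat.ble 33 c then cFJ_33 else cFJ_32))))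
def sFJ_0_3 (c : Nat) : Nat := (bif Nat.ble 56 c then (bif Nat.ble 60 c then (bif Nat.ble 62 c then (bif Nat.ble 63 c then cFJ_63 else cFJ_62) else (bif Nat.ble 61 c then cFJ_61 else cFJ_60)) else (bif Nat.ble 58 c then (bif Nat.ble 59 c then cFJ_59 else cFJ_58) else (bif Nat.ble 57 c then cFJ_57 else cFJ_56))) else (bif Nat.ble 52 c then (bif Nat.ble 54 c then (bif Nat.ble 55 c then cFJ_55 else cFJ_54) else (bif Nat.ble 53 c then cFJ_53 else cFJ_52)) else (bif Nat.ble 50 c then (bif Nat.ble 51 c then cFJ_51 else cFJ_50) else (bif Nat.ble 49 c then cFJ_49 else cFJ_48))))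
def sFJ_0_4 (c : Nat) : Nat := (bif Nat.ble 72 c then (bif Nat.ble 76 c then (bif Nat.ble 78 c then cFJ_78 else (bif Nat.ble 77 c then cFJ_77 else cFJ_76)) else (bif Nat.ble 74 c then (bif Nat.ble 75 c then cFJ_75 else cFJ_74) else (bif Nat.ble 73 c then cFJ_73 else cFJ_72))) else (bif Nat.ble 68 c then (bif Nat.ble 70 c then (bif Nat.ble 71 c then cFJ_71 else cFJ_70) else (bif Nat.ble 69 c then cFJ_69 else cFJ_68)) else (bif Nat.ble 66 c then (bif Nat.ble 67 c then cFJ_67 else cFJ_66) else (bif Nat.ble 65 c then cFJ_65 else cFJ_64))))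
def sFJ (c : Nat) : Nat := (bif Nat.ble 48 c then (bif Nat.ble 64 c then sFJ_0_4 c else sFJ_0_3 c) else (bif Nat.ble 32 c then sFJ_0_2 c else (bif Nat.ble 16 c then sFJ_0_1 c else sFJ_0_0 c)))
def gFJ (i : Nat) : Nat := Nat.land (Nat.shiftRight (sFJ (Nat.shiftRight i 8)) (Nat.mul 45 (Nat.land i 255))) 35184372088831
def sST_0_0 (c : Nat) : Nat := (bif Nat.ble 8 c then (bif Nat.ble 12 c then (bif Nat.ble 14 c then (bif Nat.ble 15 c then cST_15 else cST_14) else (bif Nat.ble 13 c then cST_13 else cST_12)) else (bif Nat.ble 10 c then (bif Nat.ble 11 c then cST_11 else cST_10) else (bif Nat.ble 9 c then cST_9 else cST_8))) else (bif Nat.ble 4 c then (bif Nat.ble 6 c then (bif Nat.ble 7 c then cST_7 else cST_6) else (bif Nat.ble 5 c then cST_5 else cST_4)) else (bif Nat.ble 2 c then (bif Nat.ble 3 c then cST_3 else cST_2) else (bif Nat.ble 1 c then cST_1 else cST_0))))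
def sST_0_1 (c : Nat) : Nat := (bif Nat.ble 24 c then (bif Nat.ble 28 c then (bif Nat.ble 30 c then (bif Nat.ble 31 c then cST_31 else cST_30) else (bif Nat.ble 29 c then cST_29 else cST_28)) else (bif Nat.ble 26 c then (bif Nat.ble 27 c then cST_27 else cST_26) else (bif Nat.ble 25 c then cST_25 else cST_24))) else (bif Nat.ble 20 c then (bif Nat.ble 22 c then (bif Nat.ble 23 c then cST_23 else cST_22) else (bif Nat.ble 21 c then cST_21 else cST_20)) else (bif Nat.ble 18 c then (bif Nat.ble 19 c then cST_19 else cST_18) else (bif Nat.ble 17 c then cST_17 else cST_16))))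
def sST_0_2 (c : Nat) : Nat := (bif Nat.ble 40 c then (bif Nat.ble 44 c then (bif Nat.ble 46 c then (bif Nat.ble 47 c then cST_47 else cST_46) else (bif Nat.ble 45 c then cST_45 else cST_44)) else (bif Nat.ble 42 c then (bif Nat.ble 43 c then cST_43 else cST_42) else (bif Nat.ble 41 c then cST_41 else cST_40))) else (bif Nat.ble 36 c then (bif Nat.ble 38 c then (bif Nat.ble 39 c then cST_39 else cST_38) else (bif Nat.ble 37 c then cST_37 else cST_36)) else (bif Nat.ble 34 c then (bif Nat.ble 35 c then cST_35 else cST_34) else (bif Nat.ble 33 c then cST_33 else cST_32))))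
def sST_0_3 (c : Nat) : Nat := cST_48
def sST (c : Nat) : Nat := (bif Nat.ble 32 c then (bif Nat.ble 48 c then sST_0_3 c else sST_0_2 c) else (bif Nat.ble 16 c then sST_0_1 c else sST_0_0 c))
def gST (i : Nat) : Nat := Nat.land (Nat.shiftRight (sST (Nat.shiftRight i 10)) (Nat.mul 16 (Nat.land i 1023))) 65535
def sND (c : Nat) : Nat := (bif Nat.ble 6 c then (bif Nat.ble 9 c then (bif Nat.ble 11 c then cND_11 else (bif Nat.ble 10 c then cND_10 else cND_9)) else (bif Nat.ble 8 c then cND_8 else (bif Nat.ble 7 c then cND_7 else cND_6))) else (bif Nat.ble 3 c then (bif Nat.ble 5 c then cND_5 else (bif Nat.ble 4 c then cND_4 else cND_3)) else (bif Nat.ble 2 c then cND_2 else (bif Nat.ble 1 c then cND_1 else cND_0))))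
def gND (i : Nat) : Nat := Nat.land (Nat.shiftRight (sND (Nat.shiftRight i 9)) (Nat.mul 17 (Nat.land i 511))) 131071
def sFIN_0_0 (c : Nat) : Nat := (bif Nat.ble 8 c then (bif Nat.ble 12 c then (bif Nat.ble 14 c then (bif Nat.ble 15 c then cFIN_15 else cFIN_14) else (bif Nat.ble 13 c then cFIN_13 else cFIN_12)) else (bif Nat.ble 10 c then (bif Nat.ble 11 c then cFIN_11 else cFIN_10) else (bif Nat.ble 9 c then cFIN_9 else cFIN_8))) else (bif Nat.ble 4 c then (bif Nat.ble 6 c then (bif Nat.ble 7 c then cFIN_7 else cFIN_6) else (bif Nat.ble 5 c then cFIN_5 else cFIN_4)) else (bif Nat.ble 2 c then (bif Nat.ble 3 c then cFIN_3 else cFIN_2) else (bif Nat.ble 1 c then cFIN_1 else cFIN_0))))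
def sFIN_0_1 (c : Nat) : Nat := cFIN_16
def sFIN (c : Nat) : Nat := (bif Nat.ble 16 c then sFIN_0_1 c else sFIN_0_0 c)
def gFIN (i : Nat) : Nat := Nat.land (Nat.shiftRight (sFIN (Nat.shiftRight i 10)) (Nat.mul 16 (Nat.land i 1023))) 65535
def sCAN (c : Nat) : Nat := (bif Nat.ble 2 c then cCAN_2 else (bif Nat.ble 1 c then cCAN_1 else cCAN_0))
def gCAN (i : Nat) : Nat := Nat.land (Nat.shiftRight (sCAN (Nat.shiftRight i 10)) (Nat.mul 13 (Nat.land i 1023))) 8191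
def sBPG (c : Nat) : Nat := (bif Nat.ble 2 c then cBPG_2 else (bif Nat.ble 1 c then cBPG_1 else cBPG_0))
def gBPG (i : Nat) : Nat := Nat.land (Nat.shiftRight (sBPG (Nat.shiftRight i 10)) (Nat.mul 16 (Nat.land i 1023))) 65535
def sORB (c : Nat) : Nat := (bif Nat.ble 3 c then (bif Nat.ble 4 c then cORB_4 else cORB_3) else (bif Nat.ble 2 c then cORB_2 else (bif Nat.ble 1 c then cORB_1 else cORB_0)))
def gORB (i : Nat) : Nat := Nat.land (Nat.shiftRight (sORB (Nat.shiftRight i 9)) (Nat.mul 23 (Nat.land i 511))) 8388607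
def sTT0 (c : Nat) : Nat := (bif Nat.ble 1 c then cTT0_1 else cTT0_0)
def T0 (i : Nat) : Nat := Nat.land (Nat.shiftRight (sTT0 (Nat.shiftRight i 11)) (Nat.mul 12 (Nat.land i 2047))) 4095
def sTT1 (c : Nat) : Nat := (bif Nat.ble 1 c then cTT1_1 else cTT1_0)
def T1 (i : Nat) : Nat := Nat.land (Nat.shiftRight (sTT1 (Nat.shiftRight i 11)) (Nat.mul 12 (Nat.land i 2047))) 4095
def sTT2 (c : Nat) : Nat := (bif Nat.ble 1 c then cTT2_1 else cTT2_0)
def T2 (i : Nat) : Nat := Nat.land (Nat.shiftRight (sTT2 (Nat.shiftRight i 11)) (Nat.mul 12 (Nat.land i 2047))) 4095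
def sTT3 (c : Nat) : Nat := (bif Nat.ble 1 c then cTT3_1 else cTT3_0)
def T3 (i : Nat) : Nat := Nat.land (Nat.shiftRight (sTT3 (Nat.shiftRight i 11)) (Nat.mul 12 (Nat.land i 2047))) 4095
def sTT4 (c : Nat) : Nat := (bif Nat.ble 1 c then cTT4_1 else cTT4_0)
def T4 (i : Nat) : Nat := Nat.land (Nat.shiftRight (sTT4 (Nat.shiftRight i 11)) (Nat.mul 12 (Nat.land i 2047))) 4095
def sTT5 (c : Nat) : Nat := (bif Nat.ble 1 c then cTT5_1 else cTT5_0)
def T5 (i : Nat) : Nat := Nat.land (Nat.shiftRight (sTT5 (Nat.shiftRight i 11)) (Nat.mul 12 (Nat.land i 2047))) 4095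
def sTT6 (c : Nat) : Nat := (bif Nat.ble 1 c then cTT6_1 else cTT6_0)
def T6 (i : Nat) : Nat := Nat.land (Nat.shiftRight (sTT6 (Nat.shiftRight i 11)) (Nat.mul 12 (Nat.land i 2047))) 4095

def nn : Nat := 2058
def kk : Nat := 7
def nF : Nat := 19986
def cycW : List (List Nat) := [[0], [2], [3], [4], [5], [1, 0, 1, 0], [4, 3, 2, 1, 4, 3, 2, 1, 4, 3, 2, 1, 4, 3, 2, 1, 4, 3, 2, 1, 4, 3, 2, 1, 4, 3, 2, 1], [0, 0], [1, 1], [2, 2], [3, 3], [4, 4], [5, 5], [6, 6], [1, 0, 1, 0, 1, 0, 1, 0], [2, 0, 2, 0], [3, 0, 3, 0], [4, 0, 4, 0], [5, 0, 5, 0], [6, 0, 6, 0], [2, 1, 2, 1, 2, 1], [3, 1, 3, 1], [4, 1, 4, 1], [5, 1, 5, 1], [6, 1, 6, 1], [3, 2, 3, 2, 3, 2, 3, 2, 3, 2, 3, 2, 3, 2, 3, 2, 3, 2, 3, 2], [4, 2, 4, 2], [5, 2, 5, 2], [6, 2, 6, 2], [4, 3, 4, 3, 4, 3], [5, 3, 5, 3, 5, 3], [6, 3, 6, 3, 6, 3], [5, 4, 5, 4], [6, 4, 6, 4], [6, 5, 6, 5, 6, 5, 6, 5], [5, 6, 5, 6, 4], [0, 1, 2, 0, 1, 2, 0,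 1, 2, 4], [2, 3, 2, 3, 2, 3, 2, 3, 2, 3, 0], [6, 5, 3, 2, 6, 5, 3, 2, 6, 5, 3, 2, 6, 5, 3, 2]]
def T (x i : Nat) : Nat :=
  match x with
  | 0 => T0 i
  | 1 => T1 i
  | 2 => T2 i
  | 3 => T3 i
  | 4 => T4 i
  | 5 => T5 i
  | 6 => T6 i
  | _ => 0
def fin (x i : Nat) : Nat := gFIN (Nat.add (Nat.shiftLeft i 3) x)
def can (i : Nat) : Nat := gCAN i
def bp (i : Nat) : Nat := fld (gBPG i) 0 4095
def bg (i : Nat) : Nat := fld (gBPG i) 12 15
def ol (i : Nat) : Nat := fld (gORB i) 0 7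
def op (i : Nat) : Nat := fld (gORB i) 3 4095
def ow (i : Nat) : Nat := fld (gORB i) 15 7
def od (i : Nat) : Nat := fld (gORB i) 18 31
def C : Cert where
  cyc := cycW
  ns := 7
  nd := gND
  fp := gFP
  fj := gFJ
  st := gST
  wN := 13
  wR := 6
  wL := 5
  wO := 16


def LL : List (List Nat) := [[1, 4, 2, 2, 2, 2, 2], [4, 1, 3, 2, 2, 2, 2], [2, 3, 1, 10, 2, 2, 2], [2, 2, 10, 1, 3, 3, 3], [2, 2, 2, 3, 1, 2, 2], [2, 2, 2, 3, 2, 1, 4], [2, 2, 2, 3, 2, 4, 1]]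
def L (x y : Nat) : Nat := (LL.getD x []).getD y 0
def extraW : List (List Nat) := [[5, 6, 5, 6, 4], [0, 1, 2, 0, 1, 2, 0, 1, 2, 4], [2, 3, 2, 3, 2, 3, 2, 3, 2, 3, 0], [6, 5, 3, 2, 6, 5, 3, 2, 6, 5, 3, 2, 6, 5, 3, 2]]
def sw : List (List Nat) := [[0], [2], [3], [4], [5], [1, 0, 1, 0], [4, 3, 2, 1, 4, 3, 2, 1, 4, 3, 2, 1, 4, 3, 2, 1, 4, 3, 2, 1, 4, 3, 2, 1, 4, 3, 2, 1]]
def roots : List Nat := [0, 1, 2, 46, 65]
def relWords : List (List Nat) := [[0, 0], [1, 0, 1, 0, 1, 0, 1, 0], [2, 0, 2, 0], [3, 0, 3, 0], [4, 0, 4, 0], [5, 0, 5, 0], [6, 0, 6, 0], [1, 1], [2, 1, 2, 1, 2, 1], [3, 1, 3, 1], [4, 1, 4, 1], [5, 1, 5, 1], [6, 1, 6, 1], [2, 2], [3, 2, 3, 2, 3, 2, 3, 2, 3, 2, 3, 2, 3, 2, 3, 2, 3, 2, 3, 2], [4, 2, 4, 2], [5, 2, 5, 2], [6, 2, 6, 2], [3, 3], [4, 3, 4, 3, 4, 3], [5, 3, 5, 3, 5, 3], [6, 3, 6, 3, 6, 3], [4, 4], [5, 4, 5, 4], [6, 4, 6, 4], [5, 5], [6, 5, 6, 5, 6, 5, 6, 5], [6,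 6], [5, 6, 5, 6, 4], [0, 1, 2, 0, 1, 2, 0, 1, 2, 4], [2, 3, 2, 3, 2, 3, 2, 3, 2, 3, 0], [6, 5, 3, 2, 6, 5, 3, 2, 6, 5, 3, 2, 6, 5, 3, 2]]
def fr_0 (i : Nat) : Nat := T0 (T0 i)
def fr_1 (i : Nat) : Nat := T0 (T1 (T0 (T1 (T0 (T1 (T0 (T1 i)))))))
def fr_2 (i : Nat) : Nat := T0 (T2 (T0 (T2 i)))
def fr_3 (i : Nat) : Nat := T0 (T3 (T0 (T3 i)))
def fr_4 (i : Nat) : Nat := T0 (T4 (T0 (T4 i)))
def fr_5 (i : Nat) : Nat := T0 (T5 (T0 (T5 i)))
def fr_6 (i : Nat) : Nat := T0 (T6 (T0 (T6 i)))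
def fr_7 (i : Nat) : Nat := T1 (T1 i)
def fr_8 (i : Nat) : Nat := T1 (T2 (T1 (T2 (T1 (T2 i)))))
def fr_9 (i : Nat) : Nat := T1 (T3 (T1 (T3 i)))
def fr_10 (i : Nat) : Nat := T1 (T4 (T1 (T4 i)))
def fr_11 (i : Nat) : Nat := T1 (T5 (T1 (T5 i)))
def fr_12 (i : Nat) : Nat := T1 (T6 (T1 (T6 i)))
def fr_13 (i : Nat) : Nat := T2 (T2 i)
def fr_14 (i : Nat) : Nat := T2 (T3 (T2 (T3 (T2 (T3 (T2 (T3 (T2 (T3 (T2 (T3 (T2 (T3 (T2 (T3 (T2 (T3 (T2 (T3 i)))))))))))))))))))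
def fr_15 (i : Nat) : Nat := T2 (T4 (T2 (T4 i)))
def fr_16 (i : Nat) : Nat := T2 (T5 (T2 (T5 i)))
def fr_17 (i : Nat) : Nat := T2 (T6 (T2 (T6 i)))
def fr_18 (i : Nat) : Nat := T3 (T3 i)
def fr_19 (i : Nat) : Nat := T3 (T4 (T3 (T4 (T3 (T4 i)))))
def fr_20 (i : Nat) : Nat := T3 (T5 (T3 (T5 (T3 (T5 i)))))
def fr_21 (i : Nat) : Nat := T3 (T6 (T3 (T6 (T3 (T6 i)))))
def fr_22 (i : Nat) : Nat := T4 (T4 i)
def fr_23 (i : Nat) : Nat := T4 (T5 (T4 (T5 i)))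
def fr_24 (i : Nat) : Nat := T4 (T6 (T4 (T6 i)))
def fr_25 (i : Nat) : Nat := T5 (T5 i)
def fr_26 (i : Nat) : Nat := T5 (T6 (T5 (T6 (T5 (T6 (T5 (T6 i)))))))
def fr_27 (i : Nat) : Nat := T6 (T6 i)
def fr_28 (i : Nat) : Nat := T4 (T6 (T5 (T6 (T5 i))))
def fr_29 (i : Nat) : Nat := T4 (T2 (T1 (T0 (T2 (T1 (T0 (T2 (T1 (T0 i)))))))))
def fr_30 (i : Nat) : Nat := T0 (T3 (T2 (T3 (T2 (T3 (T2 (T3 (T2 (T3 (T2 i))))))))))
def fr_31 (i : Nat) : Nat := T2 (T3 (T5 (T6 (T2 (T3 (T5 (T6 (T2 (T3 (T5 (T6 (T2 (T3 (T5 (T6 i)))))))))))))))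
def fastRel (i : Nat) : Bool := Nat.ble nn i || (Nat.beq (fr_0 i) i && (Nat.beq (fr_1 i) i && (Nat.beq (fr_2 i) i && (Nat.beq (fr_3 i) i && (Nat.beq (fr_4 i) i && (Nat.beq (fr_5 i) i && (Nat.beq (fr_6 i) i && (Nat.beq (fr_7 i) i && (Nat.beq (fr_8 i) i && (Nat.beq (fr_9 i) i && (Nat.beq (fr_10 i) i && (Nat.beq (fr_11 i) i && (Nat.beq (fr_12 i) i && (Nat.beq (fr_13 i) i && (Nat.beq (fr_14 i) i && (Nat.beq (fr_15 i) i && (Nat.beq (fr_16 i) i && (Nat.beq (fr_17 i) i && (Nat.beq (fr_18 i) i && (Nat.beq (fr_19 i) i && (Nat.beq (fr_20 i) i && (Nat.beq (fr_21 i) i && (Nat.beq (fr_22 i) i && (Nat.beq (fr_23 i) i && (Nat.beq (fr_24 i) i && (Nat.beq (fr_25 i) i && (Nat.beq (fr_26 i) i && (Nat.beq (fr_27 i) i && (Nat.beq (fr_28 i) i && (Nat.beq (fr_29 i) i && (Nat.beq (fr_30 i) i && (Nat.beq (fr_31 i) i && true))))))))))))))))))))))))))))))))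

end Cfsg.Agent.Lib.Helper25.TC.He2058
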