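import Cfsg.Agent.Lib.Helper25.TCJ3X

set_option autoImplicit false
set_option maxRecDepth 1000000
set_option linter.unusedVariables false
set_option Elab.async false

namespace Cfsg.Agent.Lib.Helper25.TC.J3X

open Cfsg.Agent.Lib.Helper25.TC Cfsg.Agent.Lib.Helper25.TC.J3_6156

theorem k_xp_0 : allR ckX 6 0 = true := by decide +kernel
theorem k_xp_1 : allR ckX 6 64 = true := by decide +kernel
theorem k_xp_2 : allR ckX 6 128 = true := by decide +kernel
theorem k_xp_3 : allR ckX 6 192 = true := by decide +kernel
theorem k_xp_4 : allR ckX 6 256 = true := by decide +kernel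
theorem k_xp_5 : allR ckX 6 320 = true := by decide +kernel
theorem k_xp_6 : allR ckX 6 384 = true := by decide +kernel
theorem k_xp_7 : allR ckX 6 448 = true := by decide +kernel
theorem k_xp_8 : allR ckX 6 512 = true := by decide +kernel
theorem k_xp_9 : allR ckX 6 576 = true := by decide +kernel
theorem k_xp_10 : allR ckX 6 640 = true := by decide +kernel
theorem k_xp_11 : allR ckX 6 704 = true := by decide +kernel
theorem k_xp_12 : allR ckX 6 768 = true := by decide +kernel
theorem k_xp_13 : allR ckX 6 832 = true := by decide +kernel
theorem k_xp_14 : allR ckX 6 896 = true := by decide +kernel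
theorem k_xp_15 : allR ckX 6 960 = true := by decide +kernel
theorem k_xp_16 : allR ckX 6 1024 = true := by decide +kernel
theorem k_xp_17 : allR ckX 6 1088 = true := by decide +kernel
theorem k_xp_18 : allR ckX 6 1152 = true := by decide +kernel
theorem k_xp_19 : allR ckX 6 1216 = true := by decide +kernel
theorem k_xp_20 : allR ckX 6 1280 = true := by decide +kernel
theorem k_xp_21 : allR ckX 6 1344 = true := by decide +kernel
theorem k_xp_22 : allR ckX 6 1408 = true := by decide +kernel
theorem k_xp_23 : allR ckX 6 1472 = true := by decide +kernel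
theorem k_xp_24 : allR ckX 6 1536 = true := by decide +kernel

end Cfsg.Agent.Lib.Helper25.TC.J3X
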