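import Cfsg.Agent.Lib.Helper25.TCJ3X

set_option autoImplicit false
set_option maxRecDepth 1000000
set_option linter.unusedVariables false
set_option Elab.async false

namespace Cfsg.Agent.Lib.Helper25.TC.J3X

open Cfsg.Agent.Lib.Helper25.TC Cfsg.Agent.Lib.Helper25.TC.J3_6156

theorem k_xp_25 : allR ckX 6 1600 = true := by decide +kernel
theorem k_xp_26 : allR ckX 6 1664 = true := by decide +kernel
theorem k_xp_27 : allR ckX 6 1728 = true := by decide +kernel
theorem k_xp_28 : allR ckX 6 1792 = true := by decide +kernel
theorem k_xp_29 : allR ckX 6 1856 = true := by decide +kernel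
theorem k_xp_30 : allR ckX 6 1920 = true := by decide +kernel
theorem k_xp_31 : allR ckX 6 1984 = true := by decide +kernel
theorem k_xp_32 : allR ckX 6 2048 = true := by decide +kernel
theorem k_xp_33 : allR ckX 6 2112 = true := by decide +kernel
theorem k_xp_34 : allR ckX 6 2176 = true := by decide +kernel
theorem k_xp_35 : allR ckX 6 2240 = true := by decide +kernel
theorem k_xp_36 : allR ckX 6 2304 = true := by decide +kernel
theorem k_xp_37 : allR ckX 6 2368 = true := by decide +kernel
theorem k_xp_38 : allR ckX 6 2432 = true := by decide +kernel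
theorem k_xp_39 : allR ckX 6 2496 = true := by decide +kernel
theorem k_xp_40 : allR ckX 6 2560 = true := by decide +kernel
theorem k_xp_41 : allR ckX 6 2624 = true := by decide +kernel
theorem k_xp_42 : allR ckX 6 2688 = true := by decide +kernel
theorem k_xp_43 : allR ckX 6 2752 = true := by decide +kernel
theorem k_xp_44 : allR ckX 6 2816 = true := by decide +kernel
theorem k_xp_45 : allR ckX 6 2880 = true := by decide +kernel
theorem k_xp_46 : allR ckX 6 2944 = true := by decide +kernel
theorem k_xp_47 : allR ckX 6 3008 = true := by decide +kernel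
theorem k_xp_48 : allR ckX 6 3072 = true := by decide +kernel
theorem k_xp_49 : allR ckX 6 3136 = true := by decide +kernel

end Cfsg.Agent.Lib.Helper25.TC.J3X
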