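import Cfsg.Agent.Lib.Helper25.TCJ3X

set_option autoImplicit false
set_option maxRecDepth 1000000
set_option linter.unusedVariables false
set_option Elab.async false

namespace Cfsg.Agent.Lib.Helper25.TC.J3X

open Cfsg.Agent.Lib.Helper25.TC Cfsg.Agent.Lib.Helper25.TC.J3_6156

theorem k_xp_50 : allR ckX 6 3200 = true := by decide +kernel
theorem k_xp_51 : allR ckX 6 3264 = true := by decide +kernel
theorem k_xp_52 : allR ckX 6 3328 = true := by decide +kernel
theorem k_xp_53 : allR ckX 6 3392 = true := by decide +kernel
theorem k_xp_54 : allR ckX 6 3456 = true := by decide +kernel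
theorem k_xp_55 : allR ckX 6 3520 = true := by decide +kernel
theorem k_xp_56 : allR ckX 6 3584 = true := by decide +kernel
theorem k_xp_57 : allR ckX 6 3648 = true := by decide +kernel
theorem k_xp_58 : allR ckX 6 3712 = true := by decide +kernel
theorem k_xp_59 : allR ckX 6 3776 = true := by decide +kernel
theorem k_xp_60 : allR ckX 6 3840 = true := by decide +kernel
theorem k_xp_61 : allR ckX 6 3904 = true := by decide +kernel
theorem k_xp_62 : allR ckX 6 3968 = true := by decide +kernel
theorem k_xp_63 : allR ckX 6 4032 = true := by decide +kernel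
theorem k_xp_64 : allR ckX 6 4096 = true := by decide +kernel
theorem k_xp_65 : allR ckX 6 4160 = true := by decide +kernel
theorem k_xp_66 : allR ckX 6 4224 = true := by decide +kernel
theorem k_xp_67 : allR ckX 6 4288 = true := by decide +kernel
theorem k_xp_68 : allR ckX 6 4352 = true := by decide +kernel
theorem k_xp_69 : allR ckX 6 4416 = true := by decide +kernel
theorem k_xp_70 : allR ckX 6 4480 = true := by decide +kernel
theorem k_xp_71 : allR ckX 6 4544 = true := by decide +kernel
theorem k_xp_72 : allR ckX 6 4608 = true := by decide +kernel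
theorem k_xp_73 : allR ckX 6 4672 = true := by decide +kernel
theorem k_xp_74 : allR ckX 6 4736 = true := by decide +kernel

end Cfsg.Agent.Lib.Helper25.TC.J3X
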