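import Cfsg.Agent.Lib.Helper25.TCJ3X

set_option autoImplicit false
set_option maxRecDepth 1000000
set_option linter.unusedVariables false
set_option Elab.async false

namespace Cfsg.Agent.Lib.Helper25.TC.J3X

open Cfsg.Agent.Lib.Helper25.TC Cfsg.Agent.Lib.Helper25.TC.J3_6156

theorem k_xp_75 : allR ckX 6 4800 = true := by decide +kernel
theorem k_xp_76 : allR ckX 6 4864 = true := by decide +kernel
theorem k_xp_77 : allR ckX 6 4928 = true := by decide +kernel
theorem k_xp_78 : allR ckX 6 4992 = true := by decide +kernel
theorem k_xp_79 : allR ckX 6 5056 = true := by decide +kernel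
theorem k_xp_80 : allR ckX 6 5120 = true := by decide +kernel
theorem k_xp_81 : allR ckX 6 5184 = true := by decide +kernel
theorem k_xp_82 : allR ckX 6 5248 = true := by decide +kernel
theorem k_xp_83 : allR ckX 6 5312 = true := by decide +kernel
theorem k_xp_84 : allR ckX 6 5376 = true := by decide +kernel
theorem k_xp_85 : allR ckX 6 5440 = true := by decide +kernel
theorem k_xp_86 : allR ckX 6 5504 = true := by decide +kernel
theorem k_xp_87 : allR ckX 6 5568 = true := by decide +kernel
theorem k_xp_88 : allR ckX 6 5632 = true := by decide +kernel
theorem k_xp_89 : allR ckX 6 5696 = true := by decide +kernel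
theorem k_xp_90 : allR ckX 6 5760 = true := by decide +kernel
theorem k_xp_91 : allR ckX 6 5824 = true := by decide +kernel
theorem k_xp_92 : allR ckX 6 5888 = true := by decide +kernel
theorem k_xp_93 : allR ckX 6 5952 = true := by decide +kernel
theorem k_xp_94 : allR ckX 6 6016 = true := by decide +kernel
theorem k_xp_95 : allR ckX 6 6080 = true := by decide +kernel
theorem k_xp_96 : allR ckX 6 6144 = true := by decide +kernel
theorem k_xp_97 : allR ckX 6 6208 = true := by decide +kernel
theorem k_xp_98 : allR ckX 6 6272 = true := by decide +kernel
theorem k_xp_99 : allR ckX 6 6336 = true := by decide +kernel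
theorem k_xp_100 : allR ckX 6 6400 = true := by decide +kernel
theorem k_xp_101 : allR ckX 6 6464 = true := by decide +kernel
theorem k_xp_102 : allR ckX 6 6528 = true := by decide +kernel
theorem k_xp_103 : allR ckX 6 6592 = true := by decide +kernel
theorem k_xp_104 : allR ckX 6 6656 = true := by decide +kernel
theorem k_xp_105 : allR ckX 6 6720 = true := by decide +kernel
theorem k_xp_106 : allR ckX 6 6784 = true := by decide +kernel
theorem k_xp_107 : allR ckX 6 6848 = true := by decide +kernel
theorem k_xp_108 : allR ckX 6 6912 = true := by decide +kernel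
theorem k_xp_109 : allR ckX 6 6976 = true := by decide +kernel
theorem k_xp_110 : allR ckX 6 7040 = true := by decide +kernel
theorem k_xp_111 : allR ckX 6 7104 = true := by decide +kernel
theorem k_xp_112 : allR ckX 6 7168 = true := by decide +kernel
theorem k_xp_113 : allR ckX 6 7232 = true := by decide +kernel
theorem k_xp_114 : allR ckX 6 7296 = true := by decide +kernel
theorem k_xp_115 : allR ckX 6 7360 = true := by decide +kernel
theorem k_xp_116 : allR ckX 6 7424 = true := by decide +kernel
theorem k_xp_117 : allR ckX 6 7488 = true := by decide +kernel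
theorem k_xp_118 : allR ckX 6 7552 = true := by decide +kernel
theorem k_xp_119 : allR ckX 6 7616 = true := by decide +kernel
theorem k_xp_120 : allR ckX 6 7680 = true := by decide +kernel
theorem k_xp_121 : allR ckX 6 7744 = true := by decide +kernel
theorem k_xp_122 : allR ckX 6 7808 = true := by decide +kernel
theorem k_xp_123 : allR ckX 6 7872 = true := by decide +kernel
theorem k_xp_124 : allR ckX 6 7936 = true := by decide +kernel
theorem k_xp_125 : allR ckX 6 8000 = true := by decide +kernel
theorem k_xp_126 : allR ckX 6 8064 = true := by decide +kernel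
theorem k_xp_127 : allR ckX 6 8128 = true := by decide +kernel

end Cfsg.Agent.Lib.Helper25.TC.J3X
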