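import Cfsg.Agent.Lib.Helper25.TCJ3X
import Cfsg.Agent.Lib.Helper25.TCJ3XP0
import Cfsg.Agent.Lib.Helper25.TCJ3XP1
import Cfsg.Agent.Lib.Helper25.TCJ3XP2
import Cfsg.Agent.Lib.Helper25.TCJ3XP3

set_option autoImplicit false
set_option maxRecDepth 1000000
set_option linter.unusedVariables false
set_option linter.unusedSimpArgs false

namespace Cfsg.Agent.Lib.Helper25.TC.J3X

open Cfsg.Spor Cfsg.Agent.Lib.Helper25.TC Cfsg.Agent.Lib.Helper25.Pres

abbrev KJ3 := CoxPresented J3.Gen J3.edges J3.extra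

theorem k_x : allR ckX 13 0 = true := (allR_join _ _ _ _ (by decide) (allR_join _ _ _ _ (by decide) (allR_join _ _ _ _ (by decide) (allR_join _ _ _ _ (by decide) (allR_join _ _ _ _ (by decide) (allR_join _ _ _ _ (by decide) (allR_join _ _ _ _ (by decide) k_xp_0 k_xp_1) (allR_join _ _ _ _ (by decide) k_xp_2 k_xp_3)) (allR_join _ _ _ _ (by decide) (allR_join _ _ _ _ (by decide) k_xp_4 k_xp_5) (allR_join _ _ _ _ (by decide) k_xp_6 k_xp_7))) (allR_join _ _ _ _ (by decide) (allR_join _ _ _ _ (by decide) (allR_join _ _ _ _ (by decide) k_xp_8 k_xp_9) (allR_join _ _ _ _ (by decide) k_xp_10 k_xp_11)) (allR_join _ _ _ _ (by decide) (allR_join _ _ _ _ (by decide) k_xp_12 k_xp_13) (allR_join _ _ _ _ (by decide) k_xp_14 k_xp_15)))) (allR_join _ _ _ _ (by decide) (allR_join _ _ _ _ (by decide) (allR_join _ _ _ _ (by decide) (allR_join _ _ _ _ (by decide) k_xp_16 k_xp_17) (allR_join _ _ _ _ (by decide) k_xp_18 k_xp_19)) (allR_join _ _ _ _ (by decide) (allR_join _ _ _ _ (by decide) k_xp_20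 k_xp_21) (allR_join _ _ _ _ (by decide) k_xp_22 k_xp_23))) (allR_join _ _ _ _ (by decide) (allR_join _ _ _ _ (by decide) (allR_join _ _ _ _ (by decide) k_xp_24 k_xp_25) (allR_join _ _ _ _ (by decide) k_xp_26 k_xp_27)) (allR_join _ _ _ _ (by decide) (allR_join _ _ _ _ (by decide) k_xp_28 k_xp_29) (allR_join _ _ _ _ (by decide) k_xp_30 k_xp_31))))) (allR_join _ _ _ _ (by decide) (allR_join _ _ _ _ (by decide) (allR_join _ _ _ _ (by decide) (allR_join _ _ _ _ (by decide) (allR_join _ _ _ _ (by decide) k_xp_32 k_xp_33) (allR_join _ _ _ _ (by decide) k_xp_34 k_xp_35)) (allR_join _ _ _ _ (by decide) (allR_join _ _ _ _ (by decide) k_xp_36 k_xp_37) (allR_join _ _ _ _ (by decide) k_xp_38 k_xp_39))) (allR_join _ _ _ _ (by decide) (allR_join _ _ _ _ (by decide) (allR_join _ _ _ _ (by decide) k_xp_40 k_xp_41) (allR_join _ _ _ _ (by decide) k_xp_42 k_xp_43)) (allR_join _ _ _ _ (by decide) (allR_join _ _ _ _ (by decide) k_xp_44 k_xp_45) (allR_join _ _ _ _ (by decide) k_xp_46 k_xp_47))))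 (allR_join _ _ _ _ (by decide) (allR_join _ _ _ _ (by decide) (allR_join _ _ _ _ (by decide) (allR_join _ _ _ _ (by decide) k_xp_48 k_xp_49) (allR_join _ _ _ _ (by decide) k_xp_50 k_xp_51)) (allR_join _ _ _ _ (by decide) (allR_join _ _ _ _ (by decide) k_xp_52 k_xp_53) (allR_join _ _ _ _ (by decide) k_xp_54 k_xp_55))) (allR_join _ _ _ _ (by decide) (allR_join _ _ _ _ (by decide) (allR_join _ _ _ _ (by decide) k_xp_56 k_xp_57) (allR_join _ _ _ _ (by decide) k_xp_58 k_xp_59)) (allR_join _ _ _ _ (by decide) (allR_join _ _ _ _ (by decide) k_xp_60 k_xp_61) (allR_join _ _ _ _ (by decide) k_xp_62 k_xp_63)))))) (allR_join _ _ _ _ (by decide) (allR_join _ _ _ _ (by decide) (allR_join _ _ _ _ (by decide) (allR_join _ _ _ _ (by decide) (allR_join _ _ _ _ (by decide) (allR_join _ _ _ _ (by decide) k_xp_64 k_xp_65) (allR_join _ _ _ _ (by decide) k_xp_66 k_xp_67)) (allR_join _ _ _ _ (by decide) (allR_join _ _ _ _ (by decide) k_xp_68 k_xp_69) (allR_join _ _ _ _ (by decide) k_xp_70 k_xp_71)))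 (allR_join _ _ _ _ (by decide) (allR_join _ _ _ _ (by decide) (allR_join _ _ _ _ (by decide) k_xp_72 k_xp_73) (allR_join _ _ _ _ (by decide) k_xp_74 k_xp_75)) (allR_join _ _ _ _ (by decide) (allR_join _ _ _ _ (by decide) k_xp_76 k_xp_77) (allR_join _ _ _ _ (by decide) k_xp_78 k_xp_79)))) (allR_join _ _ _ _ (by decide) (allR_join _ _ _ _ (by decide) (allR_join _ _ _ _ (by decide) (allR_join _ _ _ _ (by decide) k_xp_80 k_xp_81) (allR_join _ _ _ _ (by decide) k_xp_82 k_xp_83)) (allR_join _ _ _ _ (by decide) (allR_join _ _ _ _ (by decide) k_xp_84 k_xp_85) (allR_join _ _ _ _ (by decide) k_xp_86 k_xp_87))) (allR_join _ _ _ _ (by decide) (allR_join _ _ _ _ (by decide) (allR_join _ _ _ _ (by decide) k_xp_88 k_xp_89) (allR_join _ _ _ _ (by decide) k_xp_90 k_xp_91)) (allR_join _ _ _ _ (by decide) (allR_join _ _ _ _ (by decide) k_xp_92 k_xp_93) (allR_join _ _ _ _ (by decide) k_xp_94 k_xp_95))))) (allR_join _ _ _ _ (by decide) (allR_join _ _ _ _ (by decide) (allR_join _ _ _ _ (by decide)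 (allR_join _ _ _ _ (by decide) (allR_join _ _ _ _ (by decide) k_xp_96 k_xp_97) (allR_join _ _ _ _ (by decide) k_xp_98 k_xp_99)) (allR_join _ _ _ _ (by decide) (allR_join _ _ _ _ (by decide) k_xp_100 k_xp_101) (allR_join _ _ _ _ (by decide) k_xp_102 k_xp_103))) (allR_join _ _ _ _ (by decide) (allR_join _ _ _ _ (by decide) (allR_join _ _ _ _ (by decide) k_xp_104 k_xp_105) (allR_join _ _ _ _ (by decide) k_xp_106 k_xp_107)) (allR_join _ _ _ _ (by decide) (allR_join _ _ _ _ (by decide) k_xp_108 k_xp_109) (allR_join _ _ _ _ (by decide) k_xp_110 k_xp_111)))) (allR_join _ _ _ _ (by decide) (allR_join _ _ _ _ (by decide) (allR_join _ _ _ _ (by decide) (allR_join _ _ _ _ (by decide) k_xp_112 k_xp_113) (allR_join _ _ _ _ (by decide) k_xp_114 k_xp_115)) (allR_join _ _ _ _ (by decide) (allR_join _ _ _ _ (by decide) k_xp_116 k_xp_117) (allR_join _ _ _ _ (by decide) k_xp_118 k_xp_119))) (allR_join _ _ _ _ (by decide) (allR_join _ _ _ _ (by decide) (allR_join _ _ _ _ (by decide) k_xp_120 k_xp_121)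 (allR_join _ _ _ _ (by decide) k_xp_122 k_xp_123)) (allR_join _ _ _ _ (by decide) (allR_join _ _ _ _ (by decide) k_xp_124 k_xp_125) (allR_join _ _ _ _ (by decide) k_xp_126 k_xp_127)))))))

theorem k_ol : allR ckOl 13 0 = true := by decide +kernel

theorem ckX_spec : ∀ i < J3_6156.nn, ckX i = true := all_lt_pow _ J3_6156.nn 13 (by decide) k_x

theorem ckOl_spec : ∀ i < J3_6156.nn, ckOl i = true := all_lt_pow _ J3_6156.nn 13 (by decide) k_ol

theorem full0_eq : full 0 = fullL0 := by decide +kernel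
theorem fw0_eq (i : Nat) : tr J3_6156.T fullL0 i = fw0 i := rfl
theorem full1_eq : full 1 = fullL1 := by decide +kernel
theorem fw1_eq (i : Nat) : tr J3_6156.T fullL1 i = fw1 i := rfl
theorem full2_eq : full 2 = fullL2 := by decide +kernel
theorem fw2_eq (i : Nat) : tr J3_6156.T fullL2 i = fw2 i := rfl
theorem full3_eq : full 3 = fullL3 := by decide +kernel
theorem fw3_eq (i : Nat) : tr J3_6156.T fullL3 i = fw3 i := rfl
theorem g19_eq : g19 = g19L := by decide +kernel
theorem fg_eq (i : Nat) : tr J3_6156.T g19L i = fg i := rfl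

theorem tr_full (j : Nat) (hj : j < 4) : ∀ i < J3_6156.nn, tr J3_6156.T [j] i = tr J3_6156.T (full j) i := by
  intro i hi
  have h := ckX_spec i hi
  simp only [ckX, Bool.or_eq_true, Bool.and_eq_true] at h
  rcases h with h | h
  · have := Nat.le_of_ble_eq_true h; omega
  · obtain ⟨h0, h1, h2, h3, _⟩ := h
    interval_cases j
    · rw [full0_eq, fw0_eq]; exact (Nat.eq_of_beq_eq_true h0).symm
    · rw [full1_eq, fw1_eq]; exact (Nat.eq_of_beq_eq_true h1).symm
    · rw [full2_eq, fw2_eq]; exact (Nat.eq_of_beq_eq_true h2).symm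
    · rw [full3_eq, fw3_eq]; exact (Nat.eq_of_beq_eq_true h3).symm

theorem tr_g19 : ∀ i < J3_6156.nn, tr J3_6156.T g19 i = tr J3_6156.T [] i := by
  intro i hi
  have h := ckX_spec i hi
  simp only [ckX, Bool.or_eq_true, Bool.and_eq_true] at h
  rcases h with h | h
  · have := Nat.le_of_ble_eq_true h; omega
  · obtain ⟨_, _, _, _, h4⟩ := h
    rw [g19_eq, fg_eq]; exact Nat.eq_of_beq_eq_true h4

theorem letters_lt : (∀ x ∈ wg, x < 4) ∧ (∀ x ∈ g19, x < 4) ∧ (∀ j < 4, ∀ x ∈ full j, x < 4) := by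
  decide +kernel

/-- upper bound for the order of the presented group -/
theorem card_le : Finite KJ3 ∧ Nat.card KJ3 ≤ 50232960 := by
  have h := card_le_of_two_level (edges₁ := L216.edges) (extra₁ := L216.extra) (edges := J3.edges) (extra := J3.extra)
    L216_480.setup L216_480.checks 0 1 (by decide) (by decide) (by decide) 17 (by decide) (by decide)
    J3_6156.setup J3_6156.checks J3.emb
    (by intro a _ b _; cases a <;> cases b <;> decide)
    (by
      intro r hr
      simp only [L216.extra, List.mem_cons, List.not_mem_nil, or_false] at hr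
      rcases hr with rfl | rfl | rfl <;>
        simp [J3.extra, J3.emb, map_mul, FreeGroup.map.of])
    (by
      intro w hw
      simp only [J3_6156.sw, List.mem_cons, List.not_mem_nil, or_false] at hw
      rcases hw with rfl | rfl | rfl
      · exact ⟨.a, rfl⟩
      · exact ⟨.b, rfl⟩
      · exact ⟨.c, rfl⟩)
  exact h

instance : Fact (Nat.Prime 19) := ⟨by norm_num⟩

theorem sizes_eq : ∀ j < 8, (fun j => if j = J3_6156.ol 0 then 0 else cnt (fun i => Nat.beq (J3_6156.ol i) j) J3_6156.nn) j =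
    (fun j => if j = 0 then 0 else szl.getD j 0) j := by
  intro j hj
  interval_cases j <;> decide +kernel

theorem hol_all : (∀ i < J3_6156.nn, J3_6156.ol i < 8) ∧ (∀ i < J3_6156.nn, J3_6156.ol i = J3_6156.ol 0 → i = 0) := by
  constructor
  · intro i hi
    have h := ckOl_spec i hi
    simp only [ckOl, Bool.or_eq_true, Bool.and_eq_true] at h
    rcases h with h | h
    · have := Nat.le_of_ble_eq_true h; omega
    · exact Nat.le_of_ble_eq_true h.1
  · intro i hi h0
    have h := ckOl_spec i hi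
    simp only [ckOl, Bool.or_eq_true, Bool.and_eq_true] at h
    rcases h with h | h
    · have := Nat.le_of_ble_eq_true h; omega
    · rcases h.2 with h2 | h2
      · exact Nat.eq_of_beq_eq_true h2
      · rw [h0, Nat.beq_refl] at h2; simp at h2

theorem normalClosure_top (hinj : Function.Injective (J3_6156.checks.phi J3_6156.setup)) :
    Subgroup.normalClosure {evr (cgen J3.edges J3.extra 4 J3_6156.ofIdx) wg} = (⊤ : Subgroup KJ3) := by
  set gen := cgen J3.edges J3.extra 4 J3_6156.ofIdx with hgen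
  set N : Subgroup KJ3 := Subgroup.normalClosure {evr gen wg} with hN
  have hinv := cgen_mul_self J3_6156.setup
  have h0 : evr gen wg ∈ N := Subgroup.subset_normalClosure (Set.mem_singleton _)
  have h1 : evr gen ww ∈ N := by
    unfold ww
    exact evr_mul_mem gen N _ _ h0 (evr_conj_mem gen hinv N wu wg h0)
  have h2 : evr gen tw ∈ N := evr_mul_mem gen N _ _ h1 h1
  have h3 : ∀ j < 4, gen j ∈ N := by
    intro j hj
    have e1 : evr gen [j] = evr gen (full j) :=
      J3_6156.checks.evr_eq_of_tr J3_6156.setup hinj [j] (full j) (by intro x hx; simp at hx; omega)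
        (letters_lt.2.2 j hj) (tr_full j hj)
    rw [← evr_singleton gen j, e1]
    unfold full
    apply evr_conj_mem gen hinv N
    unfold sj
    exact evr_conj_mem gen hinv N _ _ h2
  rw [eq_top_iff, ← cgen_closure J3_6156.setup, Subgroup.closure_le]
  rintro g ⟨x, hx, rfl⟩
  exact h3 x hx

theorem pow_eq_one (hinj : Function.Injective (J3_6156.checks.phi J3_6156.setup)) :
    (evr (cgen J3.edges J3.extra 4 J3_6156.ofIdx) wg) ^ (19 ^ 1) = (1 : KJ3) := by
  rw [pow_one, ← evr_flatten_replicate]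
  have := J3_6156.checks.evr_eq_of_tr J3_6156.setup hinj g19 [] letters_lt.2.1 (by simp) tr_g19
  simpa [g19, evr] using this

theorem harith : ∀ s ∈ sumsBelow (fun j => if j = J3_6156.ol 0 then 0 else cnt (fun i => Nat.beq (J3_6156.ol i) j) J3_6156.nn) 8,
    (1 + s) ∣ J3_6156.nn → s = 0 ∨ 1 + s = J3_6156.nn := by
  rw [sumsBelow_congr _ _ 8 sizes_eq]
  decide +kernel

/-- J3 exists as a simple transitive permutation group of degree 6156 -/
theorem j3_exists : ∃ P : Subgroup (Equiv.Perm (Fin 6156)), IsSimpleGroup P ∧ Nat.card P = 50232960 ∧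
    MulAction.IsPretransitive P (Fin 6156) ∧
    Nat.card (MulAction.stabilizer P (0 : Fin 6156)) * 6156 = 50232960 := by
  obtain ⟨hfin, hle⟩ := card_le
  exact exists_simple_perm_group J3_6156.setup J3_6156.checks J3_6156.orbChecks 50232960 hfin hle
    13 2 (by decide) (by decide +kernel) (by decide) ws (by decide +kernel) (by decide +kernel)
    (by decide +kernel) 8 hol_all.1 hol_all.2 harith 19 1 2643840 (by norm_num) (by norm_num) (by decide)
    (evr (cgen J3.edges J3.extra 4 J3_6156.ofIdx) wg) pow_eq_one normalClosure_top (by decide)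

end Cfsg.Agent.Lib.Helper25.TC.J3X
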