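import Cfsg.Agent.Lib.Helper25.TCJ3_6156I
import Cfsg.Agent.Lib.Helper25.TCL216_480I
import Cfsg.Agent.Lib.Helper25.TCExistC

set_option autoImplicit false
set_option maxRecDepth 1000000
set_option linter.unusedVariables false

namespace Cfsg.Agent.Lib.Helper25.TC.J3X

open Cfsg.Spor Cfsg.Agent.Lib.Helper25.TC Cfsg.Agent.Lib.Helper25.Pres Cfsg.Agent.Lib.Helper25.TC.J3_6156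

/-- a word of order 19 -/
def wg : List Nat := [0, 1, 3, 1, 3]
def wu : List Nat := [2]
/-- `g * (u g u⁻¹)`, of order 4 -/
def ww : List Nat := wg ++ (wu.reverse ++ wg ++ wu)
/-- an involution in the normal closure of `g` -/
def tw : List Nat := ww ++ ww
def yw : Nat → List Nat
  | 0 => [1]
  | 1 => [0]
  | 2 => [0, 1]
  | 3 => [2, 0]
  | _ => []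
def ew : Nat → Nat
  | 0 => 2
  | 1 => 3
  | 2 => 3
  | 3 => 3
  | _ => 0
def sj (j : Nat) : List Nat := (yw j).reverse ++ tw ++ yw j
def cj (j : Nat) : List Nat := (List.replicate (ew j) (sj j ++ [j])).flatten
/-- a conjugate of `tw` equal to the generator `j` -/
def full (j : Nat) : List Nat := (cj j).reverse ++ sj j ++ cj j
def g19 : List Nat := (List.replicate 19 wg).flatten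
/-- words fixing the points 0 and β -/
def ws : List (List Nat) := [[], [0, 1, 0, 1, 0, 1, 2, 0, 1], [1, 0, 2, 1, 0, 1, 0, 1, 0], [0, 2, 0, 2, 1, 0, 1, 0, 1, 2, 0, 2, 0]]
def szl : List Nat := [1, 680, 1360, 2040, 120, 1360, 510, 85]

def fullL0 : List Nat := [0, 1, 2, 3, 1, 3, 1, 0, 2, 3, 1, 3, 1, 0, 2, 3, 1, 3, 1, 0, 2, 3, 1, 3, 1, 0, 1, 0, 1, 2, 3, 1, 3, 1, 0, 2, 3, 1, 3, 1, 0, 2, 3, 1, 3, 1, 0, 2, 3, 1, 3, 1, 0, 1, 1, 0, 1, 3, 1, 3, 2, 0, 1, 3, 1, 3, 2, 0, 1, 3, 1, 3, 2, 0, 1, 3, 1, 3, 2, 1, 1, 0, 1, 3, 1, 3, 2, 0, 1, 3, 1, 3, 2, 0, 1, 3, 1, 3, 2, 0, 1, 3, 1, 3, 2, 1, 0, 1, 0, 1, 3, 1, 3, 2, 0, 1, 3, 1, 3, 2, 0, 1, 3, 1, 3, 2, 0, 1, 3, 1, 3, 2, 1, 0]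
def fw0 (i : Nat) : Nat := T0 (T1 (T2 (T3 (T1 (T3 (T1 (T0 (T2 (T3 (T1 (T3 (T1 (T0 (T2 (T3 (T1 (T3 (T1 (T0 (T2 (T3 (T1 (T3 (T1 (T0 (T1 (T0 (T1 (T2 (T3 (T1 (T3 (T1 (T0 (T2 (T3 (T1 (T3 (T1 (T0 (T2 (T3 (T1 (T3 (T1 (T0 (T2 (T3 (T1 (T3 (T1 (T0 (T1 (T1 (T2 (T3 (T1 (T3 (T1 (T0 (T2 (T3 (T1 (T3 (T1 (T0 (T2 (T3 (T1 (T3 (T1 (T0 (T2 (T3 (T1 (T3 (T1 (T0 (T1 (T1 (T0 (T1 (T3 (T1 (T3 (T2 (T0 (T1 (T3 (T1 (T3 (T2 (T0 (T1 (T3 (T1 (T3 (T2 (T0 (T1 (T3 (T1 (T3 (T2 (T1 (T0 (T1 (T0 (T1 (T3 (T1 (T3 (T2 (T0 (T1 (T3 (T1 (T3 (T2 (T0 (T1 (T3 (T1 (T3 (T2 (T0 (T1 (T3 (T1 (T3 (T2 (T1 (T0 i)))))))))))))))))))))))))))))))))))))))))))))))))))))))))))))))))))))))))))))))))))))))))))))))))))))))))))))))))))))))))))))))))))))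
def fullL1 : List Nat := [1, 0, 2, 3, 1, 3, 1, 0, 2, 3, 1, 3, 1, 0, 2, 3, 1, 3, 1, 0, 2, 3, 1, 3, 1, 0, 0, 1, 0, 2, 3, 1, 3, 1, 0, 2, 3, 1, 3, 1, 0, 2, 3, 1, 3, 1, 0, 2, 3, 1, 3, 1, 0, 0, 1, 0, 2, 3, 1, 3, 1, 0, 2, 3, 1, 3, 1, 0, 2, 3, 1, 3, 1, 0, 2, 3, 1, 3, 1, 0, 0, 0, 0, 1, 3, 1, 3, 2, 0, 1, 3, 1, 3, 2, 0, 1, 3, 1, 3, 2, 0, 1, 3, 1, 3, 2, 0, 0, 0, 1, 3, 1, 3, 2, 0, 1, 3, 1, 3, 2, 0, 1, 3, 1, 3, 2, 0, 1, 3, 1, 3, 2, 0, 1, 0, 0, 1, 3, 1, 3, 2, 0, 1, 3, 1, 3, 2, 0, 1, 3, 1, 3, 2, 0, 1, 3, 1, 3, 2, 0, 1, 0, 0, 1, 3, 1, 3, 2, 0, 1, 3, 1, 3, 2, 0, 1, 3, 1, 3, 2, 0, 1, 3, 1, 3, 2, 0, 1]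
def fw1 (i : Nat) : Nat := T1 (T0 (T2 (T3 (T1 (T3 (T1 (T0 (T2 (T3 (T1 (T3 (T1 (T0 (T2 (T3 (T1 (T3 (T1 (T0 (T2 (T3 (T1 (T3 (T1 (T0 (T0 (T1 (T0 (T2 (T3 (T1 (T3 (T1 (T0 (T2 (T3 (T1 (T3 (T1 (T0 (T2 (T3 (T1 (T3 (T1 (T0 (T2 (T3 (T1 (T3 (T1 (T0 (T0 (T1 (T0 (T2 (T3 (T1 (T3 (T1 (T0 (T2 (T3 (T1 (T3 (T1 (T0 (T2 (T3 (T1 (T3 (T1 (T0 (T2 (T3 (T1 (T3 (T1 (T0 (T0 (T0 (T2 (T3 (T1 (T3 (T1 (T0 (T2 (T3 (T1 (T3 (T1 (T0 (T2 (T3 (T1 (T3 (T1 (T0 (T2 (T3 (T1 (T3 (T1 (T0 (T0 (T0 (T0 (T1 (T3 (T1 (T3 (T2 (T0 (T1 (T3 (T1 (T3 (T2 (T0 (T1 (T3 (T1 (T3 (T2 (T0 (T1 (T3 (T1 (T3 (T2 (T0 (T1 (T0 (T0 (T1 (T3 (T1 (T3 (T2 (T0 (T1 (T3 (T1 (T3 (T2 (T0 (T1 (T3 (T1 (T3 (T2 (T0 (T1 (T3 (T1 (T3 (T2 (T0 (T1 (T0 (T0 (T1 (T3 (T1 (T3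 (T2 (T0 (T1 (T3 (T1 (T3 (T2 (T0 (T1 (T3 (T1 (T3 (T2 (T0 (T1 (T3 (T1 (T3 (T2 (T0 (T1 i)))))))))))))))))))))))))))))))))))))))))))))))))))))))))))))))))))))))))))))))))))))))))))))))))))))))))))))))))))))))))))))))))))))))))))))))))))))))))))))))))))))))))))))))))))))))))))
def fullL2 : List Nat := [2, 1, 0, 2, 3, 1, 3, 1, 0, 2, 3, 1, 3, 1, 0, 2, 3, 1, 3, 1, 0, 2, 3, 1, 3, 1, 0, 0, 1, 2, 1, 0, 2, 3, 1, 3, 1, 0, 2, 3, 1, 3, 1, 0, 2, 3, 1, 3, 1, 0, 2, 3, 1, 3, 1, 0, 0, 1, 2, 1, 0, 2, 3, 1, 3, 1, 0, 2, 3, 1, 3, 1, 0, 2, 3, 1, 3, 1, 0, 2, 3, 1, 3, 1, 0, 0, 1, 1, 0, 0, 1, 3, 1, 3, 2, 0, 1, 3, 1, 3, 2, 0, 1, 3, 1, 3, 2, 0, 1, 3, 1, 3, 2, 0, 1, 1, 0, 0, 1, 3, 1, 3, 2, 0, 1, 3, 1, 3, 2, 0, 1,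 3, 1, 3, 2, 0, 1, 3, 1, 3, 2, 0, 1, 2, 1, 0, 0, 1, 3, 1, 3, 2, 0, 1, 3, 1, 3, 2, 0, 1, 3, 1, 3, 2, 0, 1, 3, 1, 3, 2, 0, 1, 2, 1, 0, 0, 1, 3, 1, 3, 2, 0, 1, 3, 1, 3, 2, 0, 1, 3, 1, 3, 2, 0, 1, 3, 1, 3, 2, 0, 1, 2]
def fw2 (i : Nat) : Nat := T2 (T1 (T0 (T2 (T3 (T1 (T3 (T1 (T0 (T2 (T3 (T1 (T3 (T1 (T0 (T2 (T3 (T1 (T3 (T1 (T0 (T2 (T3 (T1 (T3 (T1 (T0 (T0 (T1 (T2 (T1 (T0 (T2 (T3 (T1 (T3 (T1 (T0 (T2 (T3 (T1 (T3 (T1 (T0 (T2 (T3 (T1 (T3 (T1 (T0 (T2 (T3 (T1 (T3 (T1 (T0 (T0 (T1 (T2 (T1 (T0 (T2 (T3 (T1 (T3 (T1 (T0 (T2 (T3 (T1 (T3 (T1 (T0 (T2 (T3 (T1 (T3 (T1 (T0 (T2 (T3 (T1 (T3 (T1 (T0 (T0 (T1 (T1 (T0 (T2 (T3 (T1 (T3 (T1 (T0 (T2 (T3 (T1 (T3 (T1 (T0 (T2 (T3 (T1 (T3 (T1 (T0 (T2 (T3 (T1 (T3 (T1 (T0 (T0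 (T1 (T1 (T0 (T0 (T1 (T3 (T1 (T3 (T2 (T0 (T1 (T3 (T1 (T3 (T2 (T0 (T1 (T3 (T1 (T3 (T2 (T0 (T1 (T3 (T1 (T3 (T2 (T0 (T1 (T2 (T1 (T0 (T0 (T1 (T3 (T1 (T3 (T2 (T0 (T1 (T3 (T1 (T3 (T2 (T0 (T1 (T3 (T1 (T3 (T2 (T0 (T1 (T3 (T1 (T3 (T2 (T0 (T1 (T2 (T1 (T0 (T0 (T1 (T3 (T1 (T3 (T2 (T0 (T1 (T3 (T1 (T3 (T2 (T0 (T1 (T3 (T1 (T3 (T2 (T0 (T1 (T3 (T1 (T3 (T2 (T0 (T1 (T2 i)))))))))))))))))))))))))))))))))))))))))))))))))))))))))))))))))))))))))))))))))))))))))))))))))))))))))))))))))))))))))))))))))))))))))))))))))))))))))))))))))))))))))))))))))))))))))))))))))))))))))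
def fullL3 : List Nat := [3, 0, 2, 2, 3, 1, 3, 1, 0, 2, 3, 1, 3, 1, 0, 2, 3, 1, 3, 1, 0, 2, 3, 1, 3, 1, 0, 2, 0, 3, 0, 2, 2, 3, 1, 3, 1, 0, 2, 3, 1, 3, 1, 0, 2, 3, 1, 3, 1, 0, 2, 3, 1, 3, 1, 0, 2, 0, 3, 0, 2, 2, 3, 1, 3, 1, 0, 2, 3, 1, 3, 1, 0, 2, 3, 1, 3, 1, 0, 2, 3, 1, 3, 1, 0, 2, 0, 0, 2, 0, 1, 3, 1, 3, 2, 0, 1, 3, 1, 3, 2, 0, 1, 3, 1, 3, 2, 0, 1, 3, 1, 3, 2, 2, 0, 0, 2, 0, 1, 3, 1, 3, 2, 0, 1, 3, 1, 3, 2, 0, 1, 3, 1, 3, 2, 0, 1, 3, 1, 3, 2, 2, 0, 3, 0, 2, 0, 1, 3, 1, 3, 2, 0, 1, 3, 1, 3, 2, 0, 1, 3, 1, 3, 2, 0, 1, 3, 1, 3, 2, 2, 0, 3, 0, 2, 0, 1, 3, 1, 3, 2, 0, 1, 3, 1, 3, 2, 0, 1, 3, 1, 3, 2, 0, 1, 3, 1, 3, 2, 2, 0, 3]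
def fw3 (i : Nat) : Nat := T3 (T0 (T2 (T2 (T3 (T1 (T3 (T1 (T0 (T2 (T3 (T1 (T3 (T1 (T0 (T2 (T3 (T1 (T3 (T1 (T0 (T2 (T3 (T1 (T3 (T1 (T0 (T2 (T0 (T3 (T0 (T2 (T2 (T3 (T1 (T3 (T1 (T0 (T2 (T3 (T1 (T3 (T1 (T0 (T2 (T3 (T1 (T3 (T1 (T0 (T2 (T3 (T1 (T3 (T1 (T0 (T2 (T0 (T3 (T0 (T2 (T2 (T3 (T1 (T3 (T1 (T0 (T2 (T3 (T1 (T3 (T1 (T0 (T2 (T3 (T1 (T3 (T1 (T0 (T2 (T3 (T1 (T3 (T1 (T0 (T2 (T0 (T0 (T2 (T2 (T3 (T1 (T3 (T1 (T0 (T2 (T3 (T1 (T3 (T1 (T0 (T2 (T3 (T1 (T3 (T1 (T0 (T2 (T3 (T1 (T3 (T1 (T0 (T2 (T0 (T0 (T2 (T0 (T1 (T3 (T1 (T3 (T2 (T0 (T1 (T3 (T1 (T3 (T2 (T0 (T1 (T3 (T1 (T3 (T2 (T0 (T1 (T3 (T1 (T3 (T2 (T2 (T0 (T3 (T0 (T2 (T0 (T1 (T3 (T1 (T3 (T2 (T0 (T1 (T3 (T1 (T3 (T2 (T0 (T1 (T3 (T1 (T3 (T2 (T0 (T1 (T3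 (T1 (T3 (T2 (T2 (T0 (T3 (T0 (T2 (T0 (T1 (T3 (T1 (T3 (T2 (T0 (T1 (T3 (T1 (T3 (T2 (T0 (T1 (T3 (T1 (T3 (T2 (T0 (T1 (T3 (T1 (T3 (T2 (T2 (T0 (T3 i)))))))))))))))))))))))))))))))))))))))))))))))))))))))))))))))))))))))))))))))))))))))))))))))))))))))))))))))))))))))))))))))))))))))))))))))))))))))))))))))))))))))))))))))))))))))))))))))))))))))))
def g19L : List Nat := [0, 1, 3, 1, 3, 0, 1, 3, 1, 3, 0, 1, 3, 1, 3, 0, 1, 3, 1, 3, 0, 1, 3, 1, 3, 0, 1, 3, 1, 3, 0, 1, 3, 1, 3, 0, 1, 3, 1, 3, 0, 1, 3, 1, 3, 0, 1, 3, 1, 3, 0, 1, 3, 1, 3, 0, 1, 3, 1, 3, 0, 1, 3, 1, 3, 0, 1, 3, 1, 3, 0, 1, 3, 1, 3, 0, 1, 3, 1, 3, 0, 1, 3, 1, 3, 0, 1, 3, 1, 3, 0, 1, 3, 1, 3]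
def fg (i : Nat) : Nat := T3 (T1 (T3 (T1 (T0 (T3 (T1 (T3 (T1 (T0 (T3 (T1 (T3 (T1 (T0 (T3 (T1 (T3 (T1 (T0 (T3 (T1 (T3 (T1 (T0 (T3 (T1 (T3 (T1 (T0 (T3 (T1 (T3 (T1 (T0 (T3 (T1 (T3 (T1 (T0 (T3 (T1 (T3 (T1 (T0 (T3 (T1 (T3 (T1 (T0 (T3 (T1 (T3 (T1 (T0 (T3 (T1 (T3 (T1 (T0 (T3 (T1 (T3 (T1 (T0 (T3 (T1 (T3 (T1 (T0 (T3 (T1 (T3 (T1 (T0 (T3 (T1 (T3 (T1 (T0 (T3 (T1 (T3 (T1 (T0 (T3 (T1 (T3 (T1 (T0 (T3 (T1 (T3 (T1 (T0 i))))))))))))))))))))))))))))))))))))))))))))))))))))))))))))))))))))))))))))))))))))))))))))))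
def ckX (i : Nat) : Bool := Nat.ble nn i || (Nat.beq (fw0 i) (T0 i) && (Nat.beq (fw1 i) (T1 i) && (Nat.beq (fw2 i) (T2 i) && (Nat.beq (fw3 i) (T3 i) && Nat.beq (fg i) i))))
def ckOl (i : Nat) : Bool := Nat.ble nn i || (Nat.blt (ol i) 8 && (Nat.beq i 0 || !(Nat.beq (ol i) (ol 0))))

end Cfsg.Agent.Lib.Helper25.TC.J3X
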