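import Cfsg.Agent.Lib.Helper25.TCJ3_6156T

set_option autoImplicit false
set_option maxRecDepth 1000000
set_option linter.unusedVariables false
set_option Elab.async false

namespace Cfsg.Agent.Lib.Helper25.TC.J3_6156

open Cfsg.Agent.Lib.Helper25.TC

theorem k_relp_31 : allR fastRel 7 3968 = true := by decide +kernel
theorem k_relp_32 : allR fastRel 7 4096 = true := by decide +kernel
theorem k_relp_33 : allR fastRel 7 4224 = true := by decide +kernel
theorem k_relp_34 : allR fastRel 7 4352 = true := by decide +kernel
theorem k_relp_35 : allR fastRel 7 4480 = true := by decide +kernel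
theorem k_relp_36 : allR fastRel 7 4608 = true := by decide +kernel
theorem k_relp_37 : allR fastRel 7 4736 = true := by decide +kernel
theorem k_relp_38 : allR fastRel 7 4864 = true := by decide +kernel
theorem k_relp_39 : allR fastRel 7 4992 = true := by decide +kernel
theorem k_relp_40 : allR fastRel 7 5120 = true := by decide +kernel
theorem k_relp_41 : allR fastRel 7 5248 = true := by decide +kernel
theorem k_relp_42 : allR fastRel 7 5376 = true := by decide +kernel
theorem k_relp_43 : allR fastRel 7 5504 = true := by decide +kernel
theorem k_relp_44 : allR fastRel 7 5632 = true := by decide +kernel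
theorem k_relp_45 : allR fastRel 7 5760 = true := by decide +kernel
theorem k_relp_46 : allR fastRel 7 5888 = true := by decide +kernel
theorem k_relp_47 : allR fastRel 7 6016 = true := by decide +kernel
theorem k_relp_48 : allR fastRel 7 6144 = true := by decide +kernel
theorem k_relp_49 : allR fastRel 7 6272 = true := by decide +kernel
theorem k_relp_50 : allR fastRel 7 6400 = true := by decide +kernel
theorem k_relp_51 : allR fastRel 7 6528 = true := by decide +kernel
theorem k_relp_52 : allR fastRel 7 6656 = true := by decide +kernel
theorem k_relp_53 : allR fastRel 7 6784 = true := by decide +kernel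
theorem k_relp_54 : allR fastRel 7 6912 = true := by decide +kernel
theorem k_relp_55 : allR fastRel 7 7040 = true := by decide +kernel
theorem k_relp_56 : allR fastRel 7 7168 = true := by decide +kernel
theorem k_relp_57 : allR fastRel 7 7296 = true := by decide +kernel
theorem k_relp_58 : allR fastRel 7 7424 = true := by decide +kernel
theorem k_relp_59 : allR fastRel 7 7552 = true := by decide +kernel
theorem k_relp_60 : allR fastRel 7 7680 = true := by decide +kernel
theorem k_relp_61 : allR fastRel 7 7808 = true := by decide +kernel
theorem k_relp_62 : allR fastRel 7 7936 = true := by decide +kernel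
theorem k_relp_63 : allR fastRel 7 8064 = true := by decide +kernel
theorem k_certp_0 : allR (ckCert C nF) 9 0 = true := by decide +kernel
theorem k_certp_1 : allR (ckCert C nF) 9 512 = true := by decide +kernel
theorem k_certp_2 : allR (ckCert C nF) 9 1024 = true := by decide +kernel
theorem k_certp_3 : allR (ckCert C nF) 9 1536 = true := by decide +kernel
theorem k_certp_4 : allR (ckCert C nF) 9 2048 = true := by decide +kernel
theorem k_certp_5 : allR (ckCert C nF) 9 2560 = true := by decide +kernel
theorem k_certp_6 : allR (ckCert C nF) 9 3072 = true := by decide +kernel
theorem k_certp_7 : allR (ckCert C nF) 9 3584 = true := by decide +kernel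
theorem k_certp_8 : allR (ckCert C nF) 9 4096 = true := by decide +kernel
theorem k_certp_9 : allR (ckCert C nF) 9 4608 = true := by decide +kernel

end Cfsg.Agent.Lib.Helper25.TC.J3_6156
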