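import Cfsg.Agent.Lib.Helper25.TCJ3_6156T

set_option autoImplicit false
set_option maxRecDepth 1000000
set_option linter.unusedVariables false
set_option Elab.async false

namespace Cfsg.Agent.Lib.Helper25.TC.J3_6156

open Cfsg.Agent.Lib.Helper25.TC

theorem k_certp_58 : allR (ckCert C nF) 9 29696 = true := by decide +kernel
theorem k_certp_59 : allR (ckCert C nF) 9 30208 = true := by decide +kernel
theorem k_certp_60 : allR (ckCert C nF) 9 30720 = true := by decide +kernel
theorem k_certp_61 : allR (ckCert C nF) 9 31232 = true := by decide +kernel
theorem k_certp_62 : allR (ckCert C nF) 9 31744 = true := by decide +kernel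
theorem k_certp_63 : allR (ckCert C nF) 9 32256 = true := by decide +kernel
theorem k_certp_64 : allR (ckCert C nF) 9 32768 = true := by decide +kernel
theorem k_certp_65 : allR (ckCert C nF) 9 33280 = true := by decide +kernel
theorem k_certp_66 : allR (ckCert C nF) 9 33792 = true := by decide +kernel
theorem k_certp_67 : allR (ckCert C nF) 9 34304 = true := by decide +kernel
theorem k_certp_68 : allR (ckCert C nF) 9 34816 = true := by decide +kernel
theorem k_certp_69 : allR (ckCert C nF) 9 35328 = true := by decide +kernel
theorem k_certp_70 : allR (ckCert C nF) 9 35840 = true := by decide +kernel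
theorem k_certp_71 : allR (ckCert C nF) 9 36352 = true := by decide +kernel
theorem k_certp_72 : allR (ckCert C nF) 9 36864 = true := by decide +kernel
theorem k_certp_73 : allR (ckCert C nF) 9 37376 = true := by decide +kernel
theorem k_certp_74 : allR (ckCert C nF) 9 37888 = true := by decide +kernel
theorem k_certp_75 : allR (ckCert C nF) 9 38400 = true := by decide +kernel
theorem k_certp_76 : allR (ckCert C nF) 9 38912 = true := by decide +kernel
theorem k_certp_77 : allR (ckCert C nF) 9 39424 = true := by decide +kernel
theorem k_certp_78 : allR (ckCert C nF) 9 39936 = true := by decide +kernel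
theorem k_certp_79 : allR (ckCert C nF) 9 40448 = true := by decide +kernel
theorem k_certp_80 : allR (ckCert C nF) 9 40960 = true := by decide +kernel
theorem k_certp_81 : allR (ckCert C nF) 9 41472 = true := by decide +kernel

end Cfsg.Agent.Lib.Helper25.TC.J3_6156
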