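import Cfsg.Agent.Lib.Helper25.TCJ3_6156T

set_option autoImplicit false
set_option maxRecDepth 1000000
set_option linter.unusedVariables false
set_option Elab.async false

namespace Cfsg.Agent.Lib.Helper25.TC.J3_6156

open Cfsg.Agent.Lib.Helper25.TC

theorem k_finp_0 : allR (ckFin C 4 nn nF can fin T) 10 0 = true := by decide +kernel
theorem k_finp_1 : allR (ckFin C 4 nn nF can fin T) 10 1024 = true := by decide +kernel
theorem k_finp_2 : allR (ckFin C 4 nn nF can fin T) 10 2048 = true := by decide +kernel
theorem k_finp_3 : allR (ckFin C 4 nn nF can fin T) 10 3072 = true := by decide +kernel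
theorem k_finp_4 : allR (ckFin C 4 nn nF can fin T) 10 4096 = true := by decide +kernel
theorem k_finp_5 : allR (ckFin C 4 nn nF can fin T) 10 5120 = true := by decide +kernel
theorem k_finp_6 : allR (ckFin C 4 nn nF can fin T) 10 6144 = true := by decide +kernel
theorem k_finp_7 : allR (ckFin C 4 nn nF can fin T) 10 7168 = true := by decide +kernel
theorem k_tblp_0 : allR (ckTbl 4 nn T) 10 0 = true := by decide +kernel
theorem k_tblp_1 : allR (ckTbl 4 nn T) 10 1024 = true := by decide +kernel
theorem k_tblp_2 : allR (ckTbl 4 nn T) 10 2048 = true := by decide +kernel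
theorem k_tblp_3 : allR (ckTbl 4 nn T) 10 3072 = true := by decide +kernel
theorem k_tblp_4 : allR (ckTbl 4 nn T) 10 4096 = true := by decide +kernel
theorem k_tblp_5 : allR (ckTbl 4 nn T) 10 5120 = true := by decide +kernel
theorem k_tblp_6 : allR (ckTbl 4 nn T) 10 6144 = true := by decide +kernel
theorem k_tblp_7 : allR (ckTbl 4 nn T) 10 7168 = true := by decide +kernel
theorem k_treep_0 : allR (ckTree 4 nn T bp bg) 12 0 = true := by decide +kernel
theorem k_treep_1 : allR (ckTree 4 nn T bp bg) 12 4096 = true := by decide +kernel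
theorem k_oinvp_0 : allR (ckOrbInv nn T sw ol) 11 0 = true := by decide +kernel
theorem k_oinvp_1 : allR (ckOrbInv nn T sw ol) 11 2048 = true := by decide +kernel
theorem k_oinvp_2 : allR (ckOrbInv nn T sw ol) 11 4096 = true := by decide +kernel
theorem k_oinvp_3 : allR (ckOrbInv nn T sw ol) 11 6144 = true := by decide +kernel
theorem k_otreep_0 : allR (ckOrbTree nn T sw roots ol op ow od) 11 0 = true := by decide +kernel
theorem k_otreep_1 : allR (ckOrbTree nn T sw roots ol op ow od) 11 2048 = true := by decide +kernel
theorem k_otreep_2 : allR (ckOrbTree nn T sw roots ol op ow od) 11 4096 = true := by decide +kernel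
theorem k_otreep_3 : allR (ckOrbTree nn T sw roots ol op ow od) 11 6144 = true := by decide +kernel

end Cfsg.Agent.Lib.Helper25.TC.J3_6156
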