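import Cfsg.Agent.Lib.Helper25.PresJ3
import Cfsg.Agent.Lib.Helper25.TCMain
import Cfsg.Agent.Lib.Helper25.TCJ3_6156P0
import Cfsg.Agent.Lib.Helper25.TCJ3_6156P1
import Cfsg.Agent.Lib.Helper25.TCJ3_6156P2
import Cfsg.Agent.Lib.Helper25.TCJ3_6156P3
import Cfsg.Agent.Lib.Helper25.TCJ3_6156P4
import Cfsg.Agent.Lib.Helper25.TCJ3_6156P5
import Cfsg.Agent.Lib.Helper25.TCJ3_6156P6

set_option autoImplicit false
set_option maxRecDepth 1000000
set_option linter.unusedVariables false
set_option linter.constructorNameAsVariable false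
set_option linter.unusedSimpArgs false

namespace Cfsg.Agent.Lib.Helper25.TC.J3_6156

open Cfsg.Spor Cfsg.Agent.Lib.Helper25.TC

def idx : Cfsg.Agent.Lib.Helper25.Pres.J3.Gen → Nat
  | .a => 0
  | .b => 1
  | .c => 2
  | .d => 3

def ofIdx : Nat → Cfsg.Agent.Lib.Helper25.Pres.J3.Gen
  | 0 => .a
  | 1 => .b
  | 2 => .c
  | 3 => .d
  | _ => .a

theorem setup : CoxSetup Cfsg.Agent.Lib.Helper25.Pres.J3.edges Cfsg.Agent.Lib.Helper25.Pres.J3.extra 4 idx ofIdx L extraW where
  ofIdx_idx := by intro a; cases a <;> rfl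
  idx_ofIdx := by intro x hx; interval_cases x <;> rfl
  idx_lt := by intro a; cases a <;> decide
  allNodes := by intro a; cases a <;> decide
  hL := by intro a b; cases a <;> cases b <;> decide
  hLsymm := by decide
  hextra := by
    unfold Cfsg.Agent.Lib.Helper25.Pres.J3.extra extraW
    refine List.Forall₂.cons ?_ (List.Forall₂.cons ?_ (List.Forall₂.cons ?_ (List.Forall₂.cons ?_ (List.Forall₂.cons ?_ (List.Forall₂.cons ?_ (List.Forall₂.cons ?_ (List.Forall₂.cons ?_ (List.Forall₂.cons ?_ (List.Forall₂.cons ?_ (List.Forall₂.nil))))))))))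
    all_goals
      intro K _ f hf
      have hfi : ∀ x, (f x)⁻¹ = f x := fun x => inv_eq_of_mul_eq_one_left (hf x)
      simp only [map_mul, map_inv, map_pow, FreeGroup.lift_apply_of, idx, evr, pow_succ, pow_zero, one_mul,
        mul_inv_rev, hfi, mul_assoc]

theorem relWords_eq : coxWords 4 L ++ extraW = relWords := by decide +kernel

theorem fr_0_eq (i : Nat) : tr T [0, 0] i = fr_0 i := rfl
theorem fr_1_eq (i : Nat) : tr T [1, 0, 1, 0, 1, 0, 1, 0, 1, 0, 1, 0, 1, 0, 1, 0, 1, 0, 1, 0, 1, 0, 1, 0, 1, 0, 1, 0, 1, 0, 1, 0, 1, 0] i = fr_1 i := rfl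
theorem fr_2_eq (i : Nat) : tr T [2, 0, 2, 0, 2, 0, 2, 0, 2, 0, 2, 0, 2, 0, 2, 0, 2, 0, 2, 0] i = fr_2 i := rfl
theorem fr_3_eq (i : Nat) : tr T [3, 0, 3, 0, 3, 0, 3, 0, 3, 0, 3, 0, 3, 0, 3, 0, 3, 0, 3, 0] i = fr_3 i := rfl
theorem fr_4_eq (i : Nat) : tr T [1, 1] i = fr_4 i := rfl
theorem fr_5_eq (i : Nat) : tr T [2, 1, 2, 1, 2, 1, 2, 1] i = fr_5 i := rfl
theorem fr_6_eq (i : Nat) : tr T [3, 1, 3, 1, 3, 1, 3, 1, 3, 1, 3, 1, 3, 1, 3, 1, 3, 1, 3, 1, 3, 1, 3, 1] i = fr_6 i := rfl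
theorem fr_7_eq (i : Nat) : tr T [2, 2] i = fr_7 i := rfl
theorem fr_8_eq (i : Nat) : tr T [3, 2, 3, 2, 3, 2, 3, 2, 3, 2, 3, 2, 3, 2, 3, 2, 3, 2, 3, 2, 3, 2, 3, 2, 3, 2, 3, 2, 3, 2] i = fr_8 i := rfl
theorem fr_9_eq (i : Nat) : tr T [3, 3] i = fr_9 i := rfl
theorem fr_10_eq (i : Nat) : tr T [0, 2, 1, 2, 0, 2, 1, 2, 0, 2, 1, 2] i = fr_10 i := rfl
theorem fr_11_eq (i : Nat) : tr T [0, 1, 2, 1, 0, 2, 0, 1, 2, 1, 0, 2] i = fr_11 i := rfl
theorem fr_12_eq (i : Nat) : tr T [0, 1, 0, 2, 0, 1, 2, 0, 1, 0, 2, 0, 1, 2, 0, 1, 0, 2, 0, 1, 2] i = fr_12 i := rfl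
theorem fr_13_eq (i : Nat) : tr T [3, 1, 0, 2, 1, 0, 2, 3, 1, 0, 2, 1, 0, 2] i = fr_13 i := rfl
theorem fr_14_eq (i : Nat) : tr T [3, 0, 1, 2, 3, 2, 1, 0, 3, 1, 0, 1, 0, 1, 2, 0, 1, 0, 1, 0, 2, 1, 0, 1, 0, 1] i = fr_14 i := rfl
theorem fr_15_eq (i : Nat) : tr T [3, 0, 3, 0, 3, 0, 3, 0, 3, 1, 0, 1, 0, 1, 2, 1, 0, 1, 0, 1] i = fr_15 i := rfl
theorem fr_16_eq (i : Nat) : tr T [3, 0, 2, 1, 3, 1, 3, 2, 0, 2, 1, 3, 2, 0, 1, 0, 2, 1, 0, 1, 0, 2, 1, 0, 1] i = fr_16 i := rfl
theorem fr_17_eq (i : Nat) : tr T [3, 1, 0, 1, 3, 2, 0, 1, 2, 1, 3, 2, 0, 1, 2, 0, 2, 1, 0, 2] i = fr_17 i := rfl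
theorem fr_18_eq (i : Nat) : tr T [3, 2, 1, 0, 1, 3, 1, 0, 1, 2, 3, 0, 1, 2, 0, 2, 1, 0] i = fr_18 i := rfl
theorem fr_19_eq (i : Nat) : tr T [3, 2, 1, 0, 3, 2, 3, 0, 1, 2, 3, 0, 1, 2, 0, 1, 2, 0, 2, 1, 0, 2, 1, 0] i = fr_19 i := rfl

theorem fastRel_eq (i : Nat) : ckRel nn T relWords i = fastRel i := by
  simp only [ckRel, relWords, List.all_cons, List.all_nil, fr_0_eq, fr_1_eq, fr_2_eq, fr_3_eq, fr_4_eq, fr_5_eq, fr_6_eq, fr_7_eq, fr_8_eq, fr_9_eq, fr_10_eq, fr_11_eq, fr_12_eq, fr_13_eq, fr_14_eq, fr_15_eq, fr_16_eq, fr_17_eq, fr_18_eq, fr_19_eq]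
  rfl

theorem k_rel_fast : allR fastRel 13 0 = true := (allR_join _ _ _ _ (by decide) (allR_join _ _ _ _ (by decide) (allR_join _ _ _ _ (by decide) (allR_join _ _ _ _ (by decide) (allR_join _ _ _ _ (by decide) (allR_join _ _ _ _ (by decide) k_relp_0 k_relp_1) (allR_join _ _ _ _ (by decide) k_relp_2 k_relp_3)) (allR_join _ _ _ _ (by decide) (allR_join _ _ _ _ (by decide) k_relp_4 k_relp_5) (allR_join _ _ _ _ (by decide) k_relp_6 k_relp_7))) (allR_join _ _ _ _ (by decide) (allR_join _ _ _ _ (by decide) (allR_join _ _ _ _ (by decide) k_relp_8 k_relp_9) (allR_join _ _ _ _ (by decide) k_relp_10 k_relp_11)) (allR_join _ _ _ _ (by decide) (allR_join _ _ _ _ (by decide) k_relp_12 k_relp_13) (allR_join _ _ _ _ (by decide) k_relp_14 k_relp_15)))) (allR_join _ _ _ _ (by decide) (allR_join _ _ _ _ (by decide) (allR_join _ _ _ _ (by decide) (allR_join _ _ _ _ (by decide) k_relp_16 k_relp_17) (allR_join _ _ _ _ (by decide) k_relp_18 k_relp_19)) (allR_join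 _ _ _ _ (by decide) (allR_join _ _ _ _ (by decide) k_relp_20 k_relp_21) (allR_join _ _ _ _ (by decide) k_relp_22 k_relp_23))) (allR_join _ _ _ _ (by decide) (allR_join _ _ _ _ (by decide) (allR_join _ _ _ _ (by decide) k_relp_24 k_relp_25) (allR_join _ _ _ _ (by decide) k_relp_26 k_relp_27)) (allR_join _ _ _ _ (by decide) (allR_join _ _ _ _ (by decide) k_relp_28 k_relp_29) (allR_join _ _ _ _ (by decide) k_relp_30 k_relp_31))))) (allR_join _ _ _ _ (by decide) (allR_join _ _ _ _ (by decide) (allR_join _ _ _ _ (by decide) (allR_join _ _ _ _ (by decide) (allR_join _ _ _ _ (by decide) k_relp_32 k_relp_33) (allR_join _ _ _ _ (by decide) k_relp_34 k_relp_35)) (allR_join _ _ _ _ (by decide) (allR_join _ _ _ _ (by decide) k_relp_36 k_relp_37) (allR_join _ _ _ _ (by decide) k_relp_38 k_relp_39))) (allR_join _ _ _ _ (by decide) (allR_join _ _ _ _ (by decide) (allR_join _ _ _ _ (by decide) k_relp_40 k_relp_41) (allR_join _ _ _ _ (by decide) k_relp_42 k_relp_43))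 (allR_join _ _ _ _ (by decide) (allR_join _ _ _ _ (by decide) k_relp_44 k_relp_45) (allR_join _ _ _ _ (by decide) k_relp_46 k_relp_47)))) (allR_join _ _ _ _ (by decide) (allR_join _ _ _ _ (by decide) (allR_join _ _ _ _ (by decide) (allR_join _ _ _ _ (by decide) k_relp_48 k_relp_49) (allR_join _ _ _ _ (by decide) k_relp_50 k_relp_51)) (allR_join _ _ _ _ (by decide) (allR_join _ _ _ _ (by decide) k_relp_52 k_relp_53) (allR_join _ _ _ _ (by decide) k_relp_54 k_relp_55))) (allR_join _ _ _ _ (by decide) (allR_join _ _ _ _ (by decide) (allR_join _ _ _ _ (by decide) k_relp_56 k_relp_57) (allR_join _ _ _ _ (by decide) k_relp_58 k_relp_59)) (allR_join _ _ _ _ (by decide) (allR_join _ _ _ _ (by decide) k_relp_60 k_relp_61) (allR_join _ _ _ _ (by decide) k_relp_62 k_relp_63))))))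

theorem k_cert : allR (ckCert C nF) 16 0 = true := (allR_join _ _ _ _ (by decide) (allR_join _ _ _ _ (by decide) (allR_join _ _ _ _ (by decide) (allR_join _ _ _ _ (by decide) (allR_join _ _ _ _ (by decide) (allR_join _ _ _ _ (by decide) (allR_join _ _ _ _ (by decide) k_certp_0 k_certp_1) (allR_join _ _ _ _ (by decide) k_certp_2 k_certp_3)) (allR_join _ _ _ _ (by decide) (allR_join _ _ _ _ (by decide) k_certp_4 k_certp_5) (allR_join _ _ _ _ (by decide) k_certp_6 k_certp_7))) (allR_join _ _ _ _ (by decide) (allR_join _ _ _ _ (by decide) (allR_join _ _ _ _ (by decide) k_certp_8 k_certp_9) (allR_join _ _ _ _ (by decide) k_certp_10 k_certp_11)) (allR_join _ _ _ _ (by decide) (allR_join _ _ _ _ (by decide) k_certp_12 k_certp_13) (allR_join _ _ _ _ (by decide) k_certp_14 k_certp_15)))) (allR_join _ _ _ _ (by decide) (allR_join _ _ _ _ (by decide) (allR_join _ _ _ _ (by decide) (allR_join _ _ _ _ (by decide) k_certp_16 k_certp_17) (allR_join _ _ _ _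 (by decide) k_certp_18 k_certp_19)) (allR_join _ _ _ _ (by decide) (allR_join _ _ _ _ (by decide) k_certp_20 k_certp_21) (allR_join _ _ _ _ (by decide) k_certp_22 k_certp_23))) (allR_join _ _ _ _ (by decide) (allR_join _ _ _ _ (by decide) (allR_join _ _ _ _ (by decide) k_certp_24 k_certp_25) (allR_join _ _ _ _ (by decide) k_certp_26 k_certp_27)) (allR_join _ _ _ _ (by decide) (allR_join _ _ _ _ (by decide) k_certp_28 k_certp_29) (allR_join _ _ _ _ (by decide) k_certp_30 k_certp_31))))) (allR_join _ _ _ _ (by decide) (allR_join _ _ _ _ (by decide) (allR_join _ _ _ _ (by decide) (allR_join _ _ _ _ (by decide) (allR_join _ _ _ _ (by decide) k_certp_32 k_certp_33) (allR_join _ _ _ _ (by decide) k_certp_34 k_certp_35)) (allR_join _ _ _ _ (by decide) (allR_join _ _ _ _ (by decide) k_certp_36 k_certp_37) (allR_join _ _ _ _ (by decide) k_certp_38 k_certp_39))) (allR_join _ _ _ _ (by decide) (allR_join _ _ _ _ (by decide) (allR_join _ _ _ _ (by decide)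 k_certp_40 k_certp_41) (allR_join _ _ _ _ (by decide) k_certp_42 k_certp_43)) (allR_join _ _ _ _ (by decide) (allR_join _ _ _ _ (by decide) k_certp_44 k_certp_45) (allR_join _ _ _ _ (by decide) k_certp_46 k_certp_47)))) (allR_join _ _ _ _ (by decide) (allR_join _ _ _ _ (by decide) (allR_join _ _ _ _ (by decide) (allR_join _ _ _ _ (by decide) k_certp_48 k_certp_49) (allR_join _ _ _ _ (by decide) k_certp_50 k_certp_51)) (allR_join _ _ _ _ (by decide) (allR_join _ _ _ _ (by decide) k_certp_52 k_certp_53) (allR_join _ _ _ _ (by decide) k_certp_54 k_certp_55))) (allR_join _ _ _ _ (by decide) (allR_join _ _ _ _ (by decide) (allR_join _ _ _ _ (by decide) k_certp_56 k_certp_57) (allR_join _ _ _ _ (by decide) k_certp_58 k_certp_59)) (allR_join _ _ _ _ (by decide) (allR_join _ _ _ _ (by decide) k_certp_60 k_certp_61) (allR_join _ _ _ _ (by decide) k_certp_62 k_certp_63)))))) (allR_join _ _ _ _ (by decide) (allR_join _ _ _ _ (by decide) (allR_join _ _ _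 _ (by decide) (allR_join _ _ _ _ (by decide) (allR_join _ _ _ _ (by decide) (allR_join _ _ _ _ (by decide) k_certp_64 k_certp_65) (allR_join _ _ _ _ (by decide) k_certp_66 k_certp_67)) (allR_join _ _ _ _ (by decide) (allR_join _ _ _ _ (by decide) k_certp_68 k_certp_69) (allR_join _ _ _ _ (by decide) k_certp_70 k_certp_71))) (allR_join _ _ _ _ (by decide) (allR_join _ _ _ _ (by decide) (allR_join _ _ _ _ (by decide) k_certp_72 k_certp_73) (allR_join _ _ _ _ (by decide) k_certp_74 k_certp_75)) (allR_join _ _ _ _ (by decide) (allR_join _ _ _ _ (by decide) k_certp_76 k_certp_77) (allR_join _ _ _ _ (by decide) k_certp_78 k_certp_79)))) (allR_join _ _ _ _ (by decide) (allR_join _ _ _ _ (by decide) (allR_join _ _ _ _ (by decide) (allR_join _ _ _ _ (by decide) k_certp_80 k_certp_81) (allR_join _ _ _ _ (by decide) k_certp_82 k_certp_83)) (allR_join _ _ _ _ (by decide) (allR_join _ _ _ _ (by decide) k_certp_84 k_certp_85) (allR_join _ _ _ _ (by decide)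 k_certp_86 k_certp_87))) (allR_join _ _ _ _ (by decide) (allR_join _ _ _ _ (by decide) (allR_join _ _ _ _ (by decide) k_certp_88 k_certp_89) (allR_join _ _ _ _ (by decide) k_certp_90 k_certp_91)) (allR_join _ _ _ _ (by decide) (allR_join _ _ _ _ (by decide) k_certp_92 k_certp_93) (allR_join _ _ _ _ (by decide) k_certp_94 k_certp_95))))) (allR_join _ _ _ _ (by decide) (allR_join _ _ _ _ (by decide) (allR_join _ _ _ _ (by decide) (allR_join _ _ _ _ (by decide) (allR_join _ _ _ _ (by decide) k_certp_96 k_certp_97) (allR_join _ _ _ _ (by decide) k_certp_98 k_certp_99)) (allR_join _ _ _ _ (by decide) (allR_join _ _ _ _ (by decide) k_certp_100 k_certp_101) (allR_join _ _ _ _ (by decide) k_certp_102 k_certp_103))) (allR_join _ _ _ _ (by decide) (allR_join _ _ _ _ (by decide) (allR_join _ _ _ _ (by decide) k_certp_104 k_certp_105) (allR_join _ _ _ _ (by decide) k_certp_106 k_certp_107)) (allR_join _ _ _ _ (by decide) (allR_join _ _ _ _ (by decide) k_certp_108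 k_certp_109) (allR_join _ _ _ _ (by decide) k_certp_110 k_certp_111)))) (allR_join _ _ _ _ (by decide) (allR_join _ _ _ _ (by decide) (allR_join _ _ _ _ (by decide) (allR_join _ _ _ _ (by decide) k_certp_112 k_certp_113) (allR_join _ _ _ _ (by decide) k_certp_114 k_certp_115)) (allR_join _ _ _ _ (by decide) (allR_join _ _ _ _ (by decide) k_certp_116 k_certp_117) (allR_join _ _ _ _ (by decide) k_certp_118 k_certp_119))) (allR_join _ _ _ _ (by decide) (allR_join _ _ _ _ (by decide) (allR_join _ _ _ _ (by decide) k_certp_120 k_certp_121) (allR_join _ _ _ _ (by decide) k_certp_122 k_certp_123)) (allR_join _ _ _ _ (by decide) (allR_join _ _ _ _ (by decide) k_certp_124 k_certp_125) (allR_join _ _ _ _ (by decide) k_certp_126 k_certp_127)))))))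

theorem k_fin : allR (ckFin C 4 nn nF can fin T) 13 0 = true := (allR_join _ _ _ _ (by decide) (allR_join _ _ _ _ (by decide) (allR_join _ _ _ _ (by decide) k_finp_0 k_finp_1) (allR_join _ _ _ _ (by decide) k_finp_2 k_finp_3)) (allR_join _ _ _ _ (by decide) (allR_join _ _ _ _ (by decide) k_finp_4 k_finp_5) (allR_join _ _ _ _ (by decide) k_finp_6 k_finp_7)))

theorem k_tbl : allR (ckTbl 4 nn T) 13 0 = true := (allR_join _ _ _ _ (by decide) (allR_join _ _ _ _ (by decide) (allR_join _ _ _ _ (by decide) k_tblp_0 k_tblp_1) (allR_join _ _ _ _ (by decide) k_tblp_2 k_tblp_3)) (allR_join _ _ _ _ (by decide) (allR_join _ _ _ _ (by decide) k_tblp_4 k_tblp_5) (allR_join _ _ _ _ (by decide) k_tblp_6 k_tblp_7)))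

theorem k_tree : allR (ckTree 4 nn T bp bg) 13 0 = true := (allR_join _ _ _ _ (by decide) k_treep_0 k_treep_1)

theorem k_oinv : allR (ckOrbInv nn T sw ol) 13 0 = true := (allR_join _ _ _ _ (by decide) (allR_join _ _ _ _ (by decide) k_oinvp_0 k_oinvp_1) (allR_join _ _ _ _ (by decide) k_oinvp_2 k_oinvp_3))

theorem k_otree : allR (ckOrbTree nn T sw roots ol op ow od) 13 0 = true := (allR_join _ _ _ _ (by decide) (allR_join _ _ _ _ (by decide) k_otreep_0 k_otreep_1) (allR_join _ _ _ _ (by decide) k_otreep_2 k_otreep_3))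

theorem checks : Checks 4 L extraW C nn nF T fin can bp bg sw where
  hn := by decide
  hns := by decide
  hsw := by decide +kernel
  hcyc := by decide +kernel
  hlet := by decide +kernel
  hletsw := by decide +kernel
  hsw0 := by decide +kernel
  hcan := by decide +kernel
  cCert := by
    intro f hf
    have := all_lt_pow (ckCert C nF) nF 16 (by decide) k_cert f hf
    simp only [ckCert, Bool.or_eq_true] at this
    rcases this with h | h
    · have := Nat.le_of_ble_eq_true h; omega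
    · exact h
  cFin := all_lt_pow _ nn 13 (by decide) k_fin
  cTbl := all_lt_pow _ nn 13 (by decide) k_tbl
  cRel := by
    intro i hi
    rw [relWords_eq, fastRel_eq]
    exact all_lt_pow fastRel nn 13 (by decide) k_rel_fast i hi
  cTree := all_lt_pow _ nn 13 (by decide) k_tree

theorem orbChecks : OrbChecks nn T sw roots ol op ow od where
  cInv := all_lt_pow _ nn 13 (by decide) k_oinv
  cTree := all_lt_pow _ nn 13 (by decide) k_otree

end Cfsg.Agent.Lib.Helper25.TC.J3_6156
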