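import Cfsg.Agent.Lib.Helper25.TCL216_480D0
import Cfsg.Agent.Lib.Helper25.TCMain

set_option autoImplicit false
set_option maxRecDepth 1000000
set_option linter.unusedVariables false

namespace Cfsg.Agent.Lib.Helper25.TC.L216_480

def sFP (c : Nat) : Nat := (bif Nat.ble 2 c then (bif Nat.ble 3 c then cFP_3 else cFP_2) else (bif Nat.ble 1 c then cFP_1 else cFP_0))
def gFP (i : Nat) : Nat := Nat.land (Nat.shiftRight (sFP (Nat.shiftRight i 9)) (Nat.mul 25 (Nat.land i 511))) 33554431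
def sFJ (c : Nat) : Nat := (bif Nat.ble 4 c then (bif Nat.ble 6 c then (bif Nat.ble 7 c then cFJ_7 else cFJ_6) else (bif Nat.ble 5 c then cFJ_5 else cFJ_4)) else (bif Nat.ble 2 c then (bif Nat.ble 3 c then cFJ_3 else cFJ_2) else (bif Nat.ble 1 c then cFJ_1 else cFJ_0)))
def gFJ (i : Nat) : Nat := Nat.land (Nat.shiftRight (sFJ (Nat.shiftRight i 8)) (Nat.mul 39 (Nat.land i 255))) 549755813887
def sST (c : Nat) : Nat := (bif Nat.ble 3 c then (bif Nat.ble 4 c then cST_4 else cST_3) else (bif Nat.ble 2 c then cST_2 else (bif Nat.ble 1 c then cST_1 else cST_0)))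
def gST (i : Nat) : Nat := Nat.land (Nat.shiftRight (sST (Nat.shiftRight i 10)) (Nat.mul 12 (Nat.land i 1023))) 4095
def sND (c : Nat) : Nat := cND_0
def gND (i : Nat) : Nat := Nat.land (Nat.shiftRight (sND (Nat.shiftRight i 10)) (Nat.mul 14 (Nat.land i 1023))) 16383
def sFIN (c : Nat) : Nat := (bif Nat.ble 1 c then cFIN_1 else cFIN_0)
def gFIN (i : Nat) : Nat := Nat.land (Nat.shiftRight (sFIN (Nat.shiftRight i 10)) (Nat.mul 12 (Nat.land i 1023))) 4095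
def sCAN (c : Nat) : Nat := cCAN_0
def gCAN (i : Nat) : Nat := Nat.land (Nat.shiftRight (sCAN (Nat.shiftRight i 10)) (Nat.mul 10 (Nat.land i 1023))) 1023
def sBPG (c : Nat) : Nat := cBPG_0
def gBPG (i : Nat) : Nat := Nat.land (Nat.shiftRight (sBPG (Nat.shiftRight i 10)) (Nat.mul 13 (Nat.land i 1023))) 8191
def sORB (c : Nat) : Nat := cORB_0
def gORB (i : Nat) : Nat := Nat.land (Nat.shiftRight (sORB (Nat.shiftRight i 9)) (Nat.mul 21 (Nat.land i 511))) 2097151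
def sTT0 (c : Nat) : Nat := cTT0_0
def T0 (i : Nat) : Nat := Nat.land (Nat.shiftRight (sTT0 (Nat.shiftRight i 11)) (Nat.mul 9 (Nat.land i 2047))) 511
def sTT1 (c : Nat) : Nat := cTT1_0
def T1 (i : Nat) : Nat := Nat.land (Nat.shiftRight (sTT1 (Nat.shiftRight i 11)) (Nat.mul 9 (Nat.land i 2047))) 511
def sTT2 (c : Nat) : Nat := cTT2_0
def T2 (i : Nat) : Nat := Nat.land (Nat.shiftRight (sTT2 (Nat.shiftRight i 11)) (Nat.mul 9 (Nat.land i 2047))) 511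

def nn : Nat := 480
def kk : Nat := 3
def nF : Nat := 1931
def cycW : List (List Nat) := [[1, 0], [0, 0], [1, 1], [2, 2], [1, 0, 1, 0, 1, 0, 1, 0, 1, 0, 1, 0, 1, 0, 1, 0, 1, 0, 1, 0, 1, 0, 1, 0, 1, 0, 1, 0, 1, 0, 1, 0, 1, 0], [2, 0, 2, 0, 2, 0, 2, 0, 2, 0, 2, 0, 2, 0, 2, 0, 2, 0, 2, 0], [2, 1, 2, 1, 2, 1, 2, 1], [0, 2, 1, 2, 0, 2, 1, 2, 0, 2, 1, 2], [0, 1, 2, 1, 0, 2, 0, 1, 2, 1, 0, 2], [0, 1, 0, 2, 0, 1, 2, 0, 1, 0, 2, 0, 1, 2, 0, 1, 0, 2, 0, 1, 2]]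
def T (x i : Nat) : Nat :=
  match x with
  | 0 => T0 i
  | 1 => T1 i
  | 2 => T2 i
  | _ => 0
def fin (x i : Nat) : Nat := gFIN (Nat.add (Nat.shiftLeft i 2) x)
def can (i : Nat) : Nat := gCAN i
def bp (i : Nat) : Nat := fld (gBPG i) 0 511
def bg (i : Nat) : Nat := fld (gBPG i) 9 15
def ol (i : Nat) : Nat := fld (gORB i) 0 63
def op (i : Nat) : Nat := fld (gORB i) 6 511
def ow (i : Nat) : Nat := fld (gORB i) 15 1
def od (i : Nat) : Nat := fld (gORB i) 16 31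
def C : Cert where
  cyc := cycW
  ns := 1
  nd := gND
  fp := gFP
  fj := gFJ
  st := gST
  wN := 10
  wR := 4
  wL := 6
  wO := 13


def LL : List (List Nat) := [[1, 17, 10], [17, 1, 4], [10, 4, 1]]
def L (x y : Nat) : Nat := (LL.getD x []).getD y 0
def extraW : List (List Nat) := [[0, 2, 1, 2, 0, 2, 1, 2, 0, 2, 1, 2], [0, 1, 2, 1, 0, 2, 0, 1, 2, 1, 0, 2], [0, 1, 0, 2, 0, 1, 2, 0, 1, 0, 2, 0, 1, 2, 0, 1, 0, 2, 0, 1, 2]]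
def sw : List (List Nat) := [[1, 0]]
def roots : List Nat := [0, 1, 2, 3, 9, 11, 13, 15, 17, 24, 35, 37, 39, 42, 48, 52, 57, 61, 67, 73, 75, 78, 82, 88, 94, 96, 113, 145, 181, 183, 470, 475]
def relWords : List (List Nat) := [[0, 0], [1, 0, 1, 0, 1, 0, 1, 0, 1, 0, 1, 0, 1, 0, 1, 0, 1, 0, 1, 0, 1, 0, 1, 0, 1, 0, 1, 0, 1, 0, 1, 0, 1, 0], [2, 0, 2, 0, 2, 0, 2, 0, 2, 0, 2, 0, 2, 0, 2, 0, 2, 0, 2, 0], [1, 1], [2, 1, 2, 1, 2, 1, 2, 1], [2, 2], [0, 2, 1, 2, 0, 2, 1, 2, 0, 2, 1, 2], [0, 1, 2, 1, 0, 2, 0, 1, 2, 1, 0, 2], [0, 1, 0, 2, 0, 1, 2, 0, 1, 0, 2, 0, 1, 2, 0, 1, 0, 2, 0, 1, 2]]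
def fr_0 (i : Nat) : Nat := T0 (T0 i)
def fr_1 (i : Nat) : Nat := T0 (T1 (T0 (T1 (T0 (T1 (T0 (T1 (T0 (T1 (T0 (T1 (T0 (T1 (T0 (T1 (T0 (T1 (T0 (T1 (T0 (T1 (T0 (T1 (T0 (T1 (T0 (T1 (T0 (T1 (T0 (T1 (T0 (T1 i)))))))))))))))))))))))))))))))))
def fr_2 (i : Nat) : Nat := T0 (T2 (T0 (T2 (T0 (T2 (T0 (T2 (T0 (T2 (T0 (T2 (T0 (T2 (T0 (T2 (T0 (T2 (T0 (T2 i)))))))))))))))))))
def fr_3 (i : Nat) : Nat := T1 (T1 i)
def fr_4 (i : Nat) : Nat := T1 (T2 (T1 (T2 (T1 (T2 (T1 (T2 i)))))))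
def fr_5 (i : Nat) : Nat := T2 (T2 i)
def fr_6 (i : Nat) : Nat := T2 (T1 (T2 (T0 (T2 (T1 (T2 (T0 (T2 (T1 (T2 (T0 i)))))))))))
def fr_7 (i : Nat) : Nat := T2 (T0 (T1 (T2 (T1 (T0 (T2 (T0 (T1 (T2 (T1 (T0 i)))))))))))
def fr_8 (i : Nat) : Nat := T2 (T1 (T0 (T2 (T0 (T1 (T0 (T2 (T1 (T0 (T2 (T0 (T1 (T0 (T2 (T1 (T0 (T2 (T0 (T1 (T0 i))))))))))))))))))))
def fastRel (i : Nat) : Bool := Nat.ble nn i || (Nat.beq (fr_0 i) i && (Nat.beq (fr_1 i) i && (Nat.beq (fr_2 i) i && (Nat.beq (fr_3 i) i && (Nat.beq (fr_4 i) i && (Nat.beq (fr_5 i) i && (Nat.beq (fr_6 i) i && (Nat.beq (fr_7 i) i && (Nat.beq (fr_8 i) i && true)))))))))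

end Cfsg.Agent.Lib.Helper25.TC.L216_480
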