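import Mathlib
import Cfsg.Prelude.Def_Classical
import Cfsg.Agent.Lib.Helper25.TCExistJ
import Cfsg.Agent.Lib.Helper25.TCFO7_364I

set_option autoImplicit false
set_option maxRecDepth 1000000
set_option linter.unusedVariables false
set_option linter.unusedSimpArgs false

/-! Explicit isometries of the quadratic form `x₀² + x₁y₁ + x₂y₂ + x₃y₃` over the integers mod 3 (negatives of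
reflections) satisfying the relators of the presentation of `O₇(3)` on the generators `b, …, i`. -/

namespace Cfsg.Agent.Lib.Helper25.TC.O7Mat

open Matrix Cfsg.Spor Cfsg.Agent.Lib.Helper25.TC Cfsg.Agent.Lib.Helper25.Pres

/-- the index type of the quadratic form -/
abbrev I7 := Unit ⊕ (Fin 3 ⊕ Fin 3)

/-- numbering of the coordinates -/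
def code : I7 → Nat
  | .inl _ => 0
  | .inr (.inl i) => 1 + i.val
  | .inr (.inr i) => 4 + i.val

/-- a matrix from its list of entries (row by row) -/
def matOf (l : List Nat) : Matrix I7 I7 (ZMod 3) := fun i j => ((l.getD (7 * code i + code j) 0 : Nat) : ZMod 3)

/-- a symmetric matrix of the quadratic form -/
def A0 : Matrix I7 I7 (ZMod 3) := fun i j =>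
  match i, j with
  | .inl _, .inl _ => 1
  | .inr (.inl a), .inr (.inr b) => if a = b then 2 else 0
  | .inr (.inr a), .inr (.inl b) => if a = b then 2 else 0
  | _, _ => 0

theorem quad_eq (u : I7 → ZMod 3) : Cfsg.quadFormOdd 3 (ZMod 3) u = u ⬝ᵥ (A0 *ᵥ u) := by
  have h3 : (3 : ZMod 3) = 0 := by decide
  simp only [Cfsg.quadFormOdd, dotProduct, Matrix.mulVec, Fintype.sum_sum_type, A0, Finset.univ_unique,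
    Finset.sum_singleton, Fin.sum_univ_three]
  simp
  linear_combination (-(u (.inr (.inl 0)) * u (.inr (.inr 0)) + u (.inr (.inl 1)) * u (.inr (.inr 1)) +
    u (.inr (.inl 2)) * u (.inr (.inr 2)))) * h3

theorem quad_mulVec (M : Matrix I7 I7 (ZMod 3)) (h : Mᵀ * A0 * M = A0) (u : I7 → ZMod 3) :
    Cfsg.quadFormOdd 3 (ZMod 3) (M *ᵥ u) = Cfsg.quadFormOdd 3 (ZMod 3) u := by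
  rw [quad_eq, quad_eq]
  conv_rhs => rw [← h]
  rw [← Matrix.mulVec_mulVec, ← Matrix.mulVec_mulVec, Matrix.dotProduct_mulVec u Mᵀ, Matrix.vecMul_transpose]

/-- the entries of the matrices of the generators `b, …, i` -/
def gmL : List (List Nat) := [
  [0, 1, 2, 2, 1, 1, 2, 2, 1, 1, 1, 2, 2, 1, 2, 2, 0, 1, 2, 2, 1, 1, 1, 2, 1, 1, 1, 2, 2, 2, 1, 1, 1, 2, 1, 1, 1, 2, 2, 1, 0, 2, 1, 1, 2, 2, 1, 1, 1],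
  [0, 1, 0, 0, 1, 0, 0, 2, 1, 0, 0, 2, 0, 0, 0, 0, 2, 0, 0, 0, 0, 0, 0, 0, 2, 0, 0, 0, 2, 2, 0, 0, 1, 0, 0, 0, 0, 0, 0, 0, 2, 0, 0, 0, 0, 0, 0, 0, 2],
  [2, 0, 0, 0, 0, 0, 0, 0, 1, 1, 1, 2, 0, 1, 0, 0, 2, 0, 0, 0, 0, 0, 1, 2, 1, 1, 0, 2, 0, 2, 1, 1, 1, 0, 1, 0, 1, 2, 2, 1, 2, 2, 0, 1, 2, 2, 1, 0, 1],
  [2, 0, 0, 0, 0, 0, 0, 0, 2, 0, 0, 0, 0, 0, 0, 0, 0, 2, 0, 2, 0, 0, 0, 0, 2, 0, 0, 0, 0, 0, 0, 0, 2, 0, 0, 0, 0, 2, 1, 0, 0, 0, 0, 0, 1, 2, 0, 2, 2],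
  [2, 0, 0, 0, 0, 0, 0, 0, 0, 0, 1, 2, 2, 0, 0, 1, 2, 1, 2, 2, 0, 0, 0, 0, 2, 0, 0, 0, 0, 2, 0, 2, 0, 1, 0, 0, 0, 0, 0, 0, 2, 0, 0, 2, 0, 2, 1, 1, 2],
  [2, 0, 0, 0, 0, 0, 0, 0, 0, 0, 0, 2, 0, 0, 0, 0, 2, 0, 0, 0, 0, 0, 0, 0, 2, 0, 0, 0, 0, 2, 0, 0, 0, 0, 0, 0, 0, 0, 0, 0, 2, 0, 0, 0, 0, 0, 0, 0, 2],
  [0, 2, 0, 0, 2, 0, 0, 1, 1, 0, 0, 2, 0, 0, 0, 0, 2, 0, 0, 0, 0, 0, 0, 0, 2, 0, 0, 0, 1, 2, 0, 0, 1, 0, 0, 0, 0, 0, 0, 0, 2, 0, 0, 0, 0, 0, 0, 0, 2],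
  [0, 2, 1, 1, 2, 2, 1, 1, 1, 1, 1, 2, 2, 1, 1, 2, 0, 1, 2, 2, 1, 2, 1, 2, 1, 1, 1, 2, 1, 2, 1, 1, 1, 2, 1, 2, 1, 2, 2, 1, 0, 2, 2, 1, 2, 2, 1, 1, 1]]

/-- the matrix of a generator (the identity for numbers beyond the generators) -/
def gm (x : Nat) : Matrix I7 I7 (ZMod 3) := if x < 8 then matOf (gmL.getD x []) else 1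

theorem gm_sq_lt : ∀ x < 8, gm x * gm x = 1 := by decide +kernel

theorem gm_gram_lt : ∀ x < 8, (gm x)ᵀ * A0 * gm x = A0 := by decide +kernel

theorem gm_sq (x : Nat) : gm x * gm x = 1 := by
  by_cases hx : x < 8
  · exact gm_sq_lt x hx
  · unfold gm; rw [if_neg hx, one_mul]

theorem gm_gram (x : Nat) : (gm x)ᵀ * A0 * gm x = A0 := by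
  by_cases hx : x < 8
  · exact gm_gram_lt x hx
  · unfold gm; rw [if_neg hx, Matrix.transpose_one, one_mul, mul_one]

/-- the orthogonal group of the form -/
abbrev GO := Cfsg.isometryGroup (ZMod 3) (Cfsg.quadFormOdd 3 (ZMod 3))

/-- the isometry of a generator -/
def fO (x : Nat) : GO :=
  ⟨⟨gm x, gm x, gm_sq x, gm_sq x⟩, by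
    intro u v
    exact quad_mulVec (gm x) (gm_gram x) u⟩

theorem fO_val (x : Nat) : ((fO x : GO) : GL I7 (ZMod 3)).val = gm x := rfl

theorem fO_sq (x : Nat) : fO x * fO x = 1 := by
  apply Subtype.ext
  apply Units.ext
  exact gm_sq x

/-- checking that a word evaluates to the identity, with the partial products given -/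
def ckW : List Nat → List (List Nat) → Matrix I7 I7 (ZMod 3) → Bool
  | [], _, A => decide (A = 1)
  | x :: w, l :: ls, A => decide (gm x * A = matOf l) && ckW w ls (matOf l)
  | _ :: _, [], _ => false

theorem ckW_sound : ∀ (w : List Nat) (ls : List (List Nat)) (A : Matrix I7 I7 (ZMod 3)),
    ckW w ls A = true → w.foldl (fun acc x => gm x * acc) A = 1 := by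
  intro w
  induction w with
  | nil =>
    intro ls A h
    simpa [ckW] using h
  | cons x w ih =>
    intro ls A h
    cases ls with
    | nil => simp [ckW] at h
    | cons l ls =>
      simp only [ckW, Bool.and_eq_true, decide_eq_true_eq] at h
      rw [List.foldl_cons, h.1]
      exact ih ls _ h.2

theorem evr_val : ∀ (w : List Nat) (B : Matrix I7 I7 (ZMod 3)),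
    ((evr fO w : GO) : GL I7 (ZMod 3)).val * B = w.foldl (fun acc x => gm x * acc) B := by
  intro w
  induction w with
  | nil => intro B; simp [evr]
  | cons x w ih =>
    intro B
    rw [List.foldl_cons, ← ih (gm x * B)]
    simp only [evr, Subgroup.coe_mul, Units.val_mul, fO_val, mul_assoc]

/-- checking a list of words -/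
def ckAll : List (List Nat) → List (List (List Nat)) → Bool
  | [], _ => true
  | w :: ws, c :: cs => ckW w c 1 && ckAll ws cs
  | _ :: _, [] => false

theorem ckAll_sound : ∀ (ws : List (List Nat)) (cs : List (List (List Nat))), ckAll ws cs = true →
    ∀ w ∈ ws, evr fO w = 1 := by
  intro ws
  induction ws with
  | nil => intro cs _ w hw; simp at hw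
  | cons w0 ws ih =>
    intro cs h w hw
    cases cs with
    | nil => simp [ckAll] at h
    | cons c cs =>
      simp only [ckAll, Bool.and_eq_true] at h
      rcases List.mem_cons.mp hw with rfl | hw
      · apply Subtype.ext
        apply Units.ext
        have h1 := evr_val w 1
        rw [mul_one] at h1
        rw [h1]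
        exact ckW_sound w c 1 h.1
      · exact ih cs h.2 w hw

/-- the partial products along the relator words -/
def certs : List (List (List Nat)) := [
  [[0, 1, 2, 2, 1, 1, 2, 2, 1, 1, 1, 2, 2, 1, 2, 2, 0, 1, 2, 2, 1, 1, 1, 2, 1, 1, 1, 2, 2, 2, 1, 1, 1, 2, 1, 1, 1, 2, 2, 1, 0, 2, 1, 1, 2, 2, 1, 1, 1], [1, 0, 0, 0, 0, 0, 0, 0, 1, 0, 0, 0, 0, 0, 0, 0, 1, 0, 0, 0, 0, 0, 0, 0, 1, 0, 0, 0, 0, 0, 0, 0, 1, 0, 0, 0, 0, 0, 0, 0, 1, 0, 0, 0, 0, 0, 0, 0, 1]],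
  [[0, 1, 0, 0, 1, 0, 0, 2, 1, 0, 0, 2, 0, 0, 0, 0, 2, 0, 0, 0, 0, 0, 0, 0, 2, 0, 0, 0, 2, 2, 0, 0, 1, 0, 0, 0, 0, 0, 0, 0, 2, 0, 0, 0, 0, 0, 0, 0, 2], [1, 0, 1, 1, 0, 2, 1, 0, 1, 2, 2, 0, 1, 2, 2, 2, 0, 2, 2, 1, 2, 1, 1, 1, 2, 1, 2, 1, 0, 0, 2, 2, 1, 1, 2, 1, 1, 1, 1, 1, 0, 1, 1, 1, 1, 1, 1, 2, 2], [0, 1, 1, 1, 1, 2, 1, 2, 1, 2, 2, 2, 1, 2, 1, 1, 0, 1, 1, 2, 1, 2, 2, 2, 1, 2, 1, 2, 2, 2, 2, 2, 1, 1, 2, 2, 2, 2, 2, 2, 0, 2, 2, 2, 2, 2, 2, 1, 1], [1, 0, 2, 2, 0, 1, 2, 0, 1, 1, 1, 0, 2, 1, 1, 1, 0, 2, 1, 1, 2, 2, 2, 1, 2, 2, 2, 1, 0, 0, 1, 1, 1, 2, 1, 2, 2, 1, 1, 2, 0, 1, 2, 2, 1, 1, 2, 2, 2], [0, 1, 2, 2, 1, 1, 2, 2, 1, 1, 1, 2, 2, 1,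 2, 2, 0, 1, 2, 2, 1, 1, 1, 2, 1, 1, 1, 2, 2, 2, 1, 1, 1, 2, 1, 1, 1, 2, 2, 1, 0, 2, 1, 1, 2, 2, 1, 1, 1], [1, 0, 0, 0, 0, 0, 0, 0, 1, 0, 0, 0, 0, 0, 0, 0, 1, 0, 0, 0, 0, 0, 0, 0, 1, 0, 0, 0, 0, 0, 0, 0, 1, 0, 0, 0, 0, 0, 0, 0, 1, 0, 0, 0, 0, 0, 0, 0, 1]],
  [[2, 0, 0, 0, 0, 0, 0, 0, 1, 1, 1, 2, 0, 1, 0, 0, 2, 0, 0, 0, 0, 0, 1, 2, 1, 1, 0, 2, 0, 2, 1, 1, 1, 0, 1, 0, 1, 2, 2, 1, 2, 2, 0, 1, 2, 2, 1, 0, 1], [0, 2, 1, 1, 2, 2, 1, 1, 0, 1, 1, 2, 1, 1, 1, 1, 0, 2, 1, 1, 2, 2, 1, 2, 0, 1, 2, 2, 1, 2, 1, 1, 0, 1, 1, 2, 1, 2, 2, 1, 0, 2, 2, 1, 2, 2, 1, 2, 0], [0, 1, 2, 2, 1, 1, 2, 2, 1, 1, 1, 2, 2, 1, 2, 2, 0, 1, 2, 2, 1, 1, 1, 2, 1, 1, 1, 2,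 2, 2, 1, 1, 1, 2, 1, 1, 1, 2, 2, 1, 0, 2, 1, 1, 2, 2, 1, 1, 1], [1, 0, 0, 0, 0, 0, 0, 0, 1, 0, 0, 0, 0, 0, 0, 0, 1, 0, 0, 0, 0, 0, 0, 0, 1, 0, 0, 0, 0, 0, 0, 0, 1, 0, 0, 0, 0, 0, 0, 0, 1, 0, 0, 0, 0, 0, 0, 0, 1]],
  [[2, 0, 0, 0, 0, 0, 0, 0, 2, 0, 0, 0, 0, 0, 0, 0, 0, 2, 0, 2, 0, 0, 0, 0, 2, 0, 0, 0, 0, 0, 0, 0, 2, 0, 0, 0, 0, 2, 1, 0, 0, 0, 0, 0, 1, 2, 0, 2, 2], [0, 2, 1, 1, 2, 2, 1, 1, 2, 2, 2, 1, 1, 2, 1, 1, 2, 0, 1, 2, 2, 2, 2, 1, 2, 2, 2, 1, 1, 1, 2, 2, 2, 1, 2, 2, 2, 2, 0, 2, 2, 1, 2, 2, 0, 2, 2, 0, 2], [0, 1, 2, 2, 1, 1, 2, 2, 1, 1, 1, 2, 2, 1, 2, 2, 0, 1, 2, 2, 1, 1, 1, 2, 1, 1, 1, 2, 2, 2, 1, 1, 1, 2, 1, 1, 1, 2, 2, 1, 0, 2,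 1, 1, 2, 2, 1, 1, 1], [1, 0, 0, 0, 0, 0, 0, 0, 1, 0, 0, 0, 0, 0, 0, 0, 1, 0, 0, 0, 0, 0, 0, 0, 1, 0, 0, 0, 0, 0, 0, 0, 1, 0, 0, 0, 0, 0, 0, 0, 1, 0, 0, 0, 0, 0, 0, 0, 1]],
  [[2, 0, 0, 0, 0, 0, 0, 0, 0, 0, 1, 2, 2, 0, 0, 1, 2, 1, 2, 2, 0, 0, 0, 0, 2, 0, 0, 0, 0, 2, 0, 2, 0, 1, 0, 0, 0, 0, 0, 0, 2, 0, 0, 2, 0, 2, 1, 1, 2], [0, 2, 1, 1, 2, 2, 1, 1, 1, 2, 1, 2, 2, 2, 1, 0, 0, 1, 2, 2, 2, 2, 2, 1, 2, 2, 2, 1, 1, 2, 2, 0, 1, 0, 2, 2, 2, 1, 1, 2, 0, 1, 2, 0, 1, 2, 1, 1, 2], [0, 1, 2, 2, 1, 1, 2, 2, 1, 1, 1, 2, 2, 1, 2, 2, 0, 1, 2, 2, 1, 1, 1, 2, 1, 1, 1, 2, 2, 2, 1, 1, 1, 2, 1, 1, 1, 2, 2, 1, 0, 2, 1, 1, 2, 2, 1, 1, 1], [1, 0, 0, 0, 0, 0,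 0, 0, 1, 0, 0, 0, 0, 0, 0, 0, 1, 0, 0, 0, 0, 0, 0, 0, 1, 0, 0, 0, 0, 0, 0, 0, 1, 0, 0, 0, 0, 0, 0, 0, 1, 0, 0, 0, 0, 0, 0, 0, 1]],
  [[2, 0, 0, 0, 0, 0, 0, 0, 0, 0, 0, 2, 0, 0, 0, 0, 2, 0, 0, 0, 0, 0, 0, 0, 2, 0, 0, 0, 0, 2, 0, 0, 0, 0, 0, 0, 0, 0, 0, 0, 2, 0, 0, 0, 0, 0, 0, 0, 2], [0, 2, 1, 1, 2, 2, 1, 1, 1, 2, 2, 2, 1, 2, 1, 1, 0, 2, 1, 1, 2, 2, 2, 1, 2, 2, 2, 1, 1, 2, 2, 2, 1, 1, 2, 2, 2, 1, 1, 2, 0, 1, 2, 2, 1, 1, 2, 2, 2], [0, 1, 2, 2, 1, 1, 2, 2, 1, 1, 1, 2, 2, 1, 2, 2, 0, 1, 2, 2, 1, 1, 1, 2, 1, 1, 1, 2, 2, 2, 1, 1, 1, 2, 1, 1, 1, 2, 2, 1, 0, 2, 1, 1, 2, 2, 1, 1, 1], [1, 0, 0, 0, 0, 0, 0, 0, 1, 0, 0, 0, 0, 0, 0, 0, 1, 0, 0, 0,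 0, 0, 0, 0, 1, 0, 0, 0, 0, 0, 0, 0, 1, 0, 0, 0, 0, 0, 0, 0, 1, 0, 0, 0, 0, 0, 0, 0, 1]],
  [[0, 2, 0, 0, 2, 0, 0, 1, 1, 0, 0, 2, 0, 0, 0, 0, 2, 0, 0, 0, 0, 0, 0, 0, 2, 0, 0, 0, 1, 2, 0, 0, 1, 0, 0, 0, 0, 0, 0, 0, 2, 0, 0, 0, 0, 0, 0, 0, 2], [2, 0, 1, 1, 0, 2, 1, 0, 0, 2, 2, 2, 1, 2, 1, 1, 0, 2, 1, 1, 2, 2, 2, 1, 2, 2, 2, 1, 0, 2, 2, 2, 0, 1, 2, 2, 2, 1, 1, 2, 0, 1, 2, 2, 1, 1, 2, 2, 2], [0, 1, 2, 2, 1, 1, 2, 2, 1, 1, 1, 2, 2, 1, 2, 2, 0, 1, 2, 2, 1, 1, 1, 2, 1, 1, 1, 2, 2, 2, 1, 1, 1, 2, 1, 1, 1, 2, 2, 1, 0, 2, 1, 1, 2, 2, 1, 1, 1], [1, 0, 0, 0, 0, 0, 0, 0, 1, 0, 0, 0, 0, 0, 0, 0, 1, 0, 0, 0, 0, 0, 0, 0, 1, 0, 0, 0, 0, 0, 0, 0, 1, 0,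 0, 0, 0, 0, 0, 0, 1, 0, 0, 0, 0, 0, 0, 0, 1]],
  [[0, 2, 1, 1, 2, 2, 1, 1, 1, 1, 1, 2, 2, 1, 1, 2, 0, 1, 2, 2, 1, 2, 1, 2, 1, 1, 1, 2, 1, 2, 1, 1, 1, 2, 1, 2, 1, 2, 2, 1, 0, 2, 2, 1, 2, 2, 1, 1, 1], [2, 0, 0, 0, 0, 0, 0, 0, 0, 1, 1, 2, 2, 1, 0, 2, 2, 1, 2, 2, 1, 0, 1, 2, 0, 1, 1, 2, 0, 2, 1, 1, 0, 2, 1, 0, 1, 2, 2, 1, 2, 2, 0, 1, 2, 2, 1, 1, 0], [0, 1, 2, 2, 1, 1, 2, 2, 1, 1, 1, 2, 2, 1, 2, 2, 0, 1, 2, 2, 1, 1, 1, 2, 1, 1, 1, 2, 2, 2, 1, 1, 1, 2, 1, 1, 1, 2, 2, 1, 0, 2, 1, 1, 2, 2, 1, 1, 1], [1, 0, 0, 0, 0, 0, 0, 0, 1, 0, 0, 0, 0, 0, 0, 0, 1, 0, 0, 0, 0, 0, 0, 0, 1, 0, 0, 0, 0, 0, 0, 0, 1, 0, 0, 0, 0, 0, 0, 0, 1, 0, 0, 0, 0, 0, 0, 0,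 1]],
  [[0, 1, 0, 0, 1, 0, 0, 2, 1, 0, 0, 2, 0, 0, 0, 0, 2, 0, 0, 0, 0, 0, 0, 0, 2, 0, 0, 0, 2, 2, 0, 0, 1, 0, 0, 0, 0, 0, 0, 0, 2, 0, 0, 0, 0, 0, 0, 0, 2], [1, 0, 0, 0, 0, 0, 0, 0, 1, 0, 0, 0, 0, 0, 0, 0, 1, 0, 0, 0, 0, 0, 0, 0, 1, 0, 0, 0, 0, 0, 0, 0, 1, 0, 0, 0, 0, 0, 0, 0, 1, 0, 0, 0, 0, 0, 0, 0, 1]],
  [[2, 0, 0, 0, 0, 0, 0, 0, 1, 1, 1, 2, 0, 1, 0, 0, 2, 0, 0, 0, 0, 0, 1, 2, 1, 1, 0, 2, 0, 2, 1, 1, 1, 0, 1, 0, 1, 2, 2, 1, 2, 2, 0, 1, 2, 2, 1, 0, 1], [0, 0, 2, 2, 0, 0, 2, 1, 2, 0, 0, 1, 0, 0, 0, 0, 1, 0, 0, 0, 0, 0, 2, 1, 2, 2, 0, 1, 1, 1, 0, 0, 2, 0, 0, 0, 2, 1, 1, 2, 1, 1, 0, 2, 1, 1, 2, 0, 2], [0, 0, 1, 1, 0, 0, 1, 0, 2, 0, 0,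 0, 0, 0, 0, 0, 2, 0, 0, 0, 0, 2, 0, 2, 1, 0, 0, 2, 0, 0, 0, 0, 2, 0, 0, 2, 0, 2, 2, 0, 2, 2, 2, 0, 2, 2, 0, 0, 1], [0, 2, 0, 0, 2, 0, 0, 0, 2, 2, 2, 1, 0, 2, 0, 0, 1, 0, 0, 0, 0, 1, 0, 1, 2, 0, 0, 1, 0, 1, 2, 2, 2, 0, 2, 1, 0, 1, 1, 0, 1, 1, 1, 0, 1, 1, 0, 0, 2], [0, 1, 0, 0, 1, 0, 0, 2, 1, 0, 0, 2, 0, 0, 0, 0, 2, 0, 0, 0, 0, 0, 0, 0, 2, 0, 0, 0, 2, 2, 0, 0, 1, 0, 0, 0, 0, 0, 0, 0, 2, 0, 0, 0, 0, 0, 0, 0, 2], [1, 0, 0, 0, 0, 0, 0, 0, 1, 0, 0, 0, 0, 0, 0, 0, 1, 0, 0, 0, 0, 0, 0, 0, 1, 0, 0, 0, 0, 0, 0, 0, 1, 0, 0, 0, 0, 0, 0, 0, 1, 0, 0, 0, 0, 0, 0, 0, 1]],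
  [[2, 0, 0, 0, 0, 0, 0, 0, 2, 0, 0, 0, 0, 0, 0, 0, 0, 2, 0, 2, 0, 0, 0, 0, 2, 0, 0, 0, 0, 0, 0, 0, 2, 0, 0, 0, 0, 2, 1, 0, 0, 0, 0, 0, 1, 2, 0, 2, 2], [0, 2, 0, 0, 2, 0, 0, 1, 2, 0, 0, 1, 0, 0, 0, 0, 0, 1, 0, 1, 0, 0, 0, 0, 1, 0, 0, 0, 1, 1, 0, 0, 2, 0, 0, 0, 0, 1, 2, 0, 0, 0, 0, 0, 2, 1, 0, 1, 1], [0, 1, 0, 0, 1, 0, 0, 2, 1, 0, 0, 2, 0, 0, 0, 0, 2, 0, 0, 0, 0, 0, 0, 0, 2, 0, 0, 0, 2, 2, 0, 0, 1, 0, 0, 0, 0, 0, 0, 0, 2, 0, 0, 0, 0, 0, 0, 0, 2], [1, 0, 0, 0, 0, 0, 0, 0, 1, 0, 0, 0, 0, 0, 0, 0, 1, 0, 0, 0, 0, 0, 0, 0, 1, 0, 0, 0, 0, 0, 0, 0, 1, 0, 0, 0, 0, 0, 0, 0, 1, 0, 0, 0, 0, 0, 0, 0, 1]],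
  [[2, 0, 0, 0, 0, 0, 0, 0, 0, 0, 1, 2, 2, 0, 0, 1, 2, 1, 2, 2, 0, 0, 0, 0, 2, 0, 0, 0, 0, 2, 0, 2, 0, 1, 0, 0, 0, 0, 0, 0, 2, 0, 0, 2, 0, 2, 1, 1, 2], [0, 2, 0, 0, 2, 0, 0, 1, 1, 0, 2, 2, 1, 0, 0, 2, 1, 2, 1, 1, 0, 0, 0, 0, 1, 0, 0, 0, 1, 2, 0, 1, 1, 2, 0, 0, 0, 0, 0, 0, 1, 0, 0, 1, 0, 1, 2, 2, 1], [0, 1, 0, 0, 1, 0, 0, 2, 1, 0, 0, 2, 0, 0, 0, 0, 2, 0, 0, 0, 0, 0, 0, 0, 2, 0, 0, 0, 2, 2, 0, 0, 1, 0, 0, 0, 0, 0, 0, 0, 2, 0, 0, 0, 0, 0, 0, 0, 2], [1, 0, 0, 0, 0, 0, 0, 0, 1, 0, 0, 0, 0, 0, 0, 0, 1, 0, 0, 0, 0, 0, 0, 0, 1, 0, 0, 0, 0, 0, 0, 0, 1, 0, 0, 0, 0, 0, 0, 0, 1, 0, 0, 0, 0, 0, 0, 0, 1]],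
  [[2, 0, 0, 0, 0, 0, 0, 0, 0, 0, 0, 2, 0, 0, 0, 0, 2, 0, 0, 0, 0, 0, 0, 0, 2, 0, 0, 0, 0, 2, 0, 0, 0, 0, 0, 0, 0, 0, 0, 0, 2, 0, 0, 0, 0, 0, 0, 0, 2], [0, 2, 0, 0, 2, 0, 0, 1, 1, 0, 0, 2, 0, 0, 0, 0, 1, 0, 0, 0, 0, 0, 0, 0, 1, 0, 0, 0, 1, 2, 0, 0, 1, 0, 0, 0, 0, 0, 0, 0, 1, 0, 0, 0, 0, 0, 0, 0, 1], [0, 1, 0, 0, 1, 0, 0, 2, 1, 0, 0, 2, 0, 0, 0, 0, 2, 0, 0, 0, 0, 0, 0, 0, 2, 0, 0, 0, 2, 2, 0, 0, 1, 0, 0, 0, 0, 0, 0, 0, 2, 0, 0, 0, 0, 0, 0, 0, 2], [1, 0, 0, 0, 0, 0, 0, 0, 1, 0, 0, 0, 0, 0, 0, 0, 1, 0, 0, 0, 0, 0, 0, 0, 1, 0, 0, 0, 0, 0, 0, 0, 1, 0, 0, 0, 0, 0, 0, 0, 1, 0, 0, 0, 0, 0, 0, 0, 1]],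
  [[0, 2, 0, 0, 2, 0, 0, 1, 1, 0, 0, 2, 0, 0, 0, 0, 2, 0, 0, 0, 0, 0, 0, 0, 2, 0, 0, 0, 1, 2, 0, 0, 1, 0, 0, 0, 0, 0, 0, 0, 2, 0, 0, 0, 0, 0, 0, 0, 2], [2, 0, 0, 0, 0, 0, 0, 0, 0, 0, 0, 2, 0, 0, 0, 0, 1, 0, 0, 0, 0, 0, 0, 0, 1, 0, 0, 0, 0, 2, 0, 0, 0, 0, 0, 0, 0, 0, 0, 0, 1, 0, 0, 0, 0, 0, 0, 0, 1], [0, 1, 0, 0, 1, 0, 0, 2, 1, 0, 0, 2, 0, 0, 0, 0, 2, 0, 0, 0, 0, 0, 0, 0, 2, 0, 0, 0, 2, 2, 0, 0, 1, 0, 0, 0, 0, 0, 0, 0, 2, 0, 0, 0, 0, 0, 0, 0, 2], [1, 0, 0, 0, 0, 0, 0, 0, 1, 0, 0, 0, 0, 0, 0, 0, 1, 0, 0, 0, 0, 0, 0, 0, 1, 0, 0, 0, 0, 0, 0, 0, 1, 0, 0, 0, 0, 0, 0, 0, 1, 0, 0, 0, 0, 0, 0, 0, 1]],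
  [[0, 2, 1, 1, 2, 2, 1, 1, 1, 1, 1, 2, 2, 1, 1, 2, 0, 1, 2, 2, 1, 2, 1, 2, 1, 1, 1, 2, 1, 2, 1, 1, 1, 2, 1, 2, 1, 2, 2, 1, 0, 2, 2, 1, 2, 2, 1, 1, 1], [2, 0, 2, 2, 0, 1, 2, 0, 0, 2, 2, 2, 1, 2, 2, 1, 0, 2, 1, 1, 2, 1, 2, 1, 2, 2, 2, 1, 0, 2, 2, 2, 0, 1, 2, 1, 2, 1, 1, 2, 0, 1, 1, 2, 1, 1, 2, 2, 2], [0, 1, 0, 0, 1, 0, 0, 2, 1, 0, 0, 2, 0, 0, 0, 0, 2, 0, 0, 0, 0, 0, 0, 0, 2, 0, 0, 0, 2, 2, 0, 0, 1, 0, 0, 0, 0, 0, 0, 0, 2, 0, 0, 0, 0, 0, 0, 0, 2], [1, 0, 0, 0, 0, 0, 0, 0, 1, 0, 0, 0, 0, 0, 0, 0, 1, 0, 0, 0, 0, 0, 0, 0, 1, 0, 0, 0, 0, 0, 0, 0, 1, 0, 0, 0, 0, 0, 0, 0, 1, 0, 0, 0, 0, 0, 0, 0, 1]],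
  [[2, 0, 0, 0, 0, 0, 0, 0, 1, 1, 1, 2, 0, 1, 0, 0, 2, 0, 0, 0, 0, 0, 1, 2, 1, 1, 0, 2, 0, 2, 1, 1, 1, 0, 1, 0, 1, 2, 2, 1, 2, 2, 0, 1, 2, 2, 1, 0, 1], [1, 0, 0, 0, 0, 0, 0, 0, 1, 0, 0, 0, 0, 0, 0, 0, 1, 0, 0, 0, 0, 0, 0, 0, 1, 0, 0, 0, 0, 0, 0, 0, 1, 0, 0, 0, 0, 0, 0, 0, 1, 0, 0, 0, 0, 0, 0, 0, 1]],
  [[2, 0, 0, 0, 0, 0, 0, 0, 2, 0, 0, 0, 0, 0, 0, 0, 0, 2, 0, 2, 0, 0, 0, 0, 2, 0, 0, 0, 0, 0, 0, 0, 2, 0, 0, 0, 0, 2, 1, 0, 0, 0, 0, 0, 1, 2, 0, 2, 2], [1, 0, 0, 0, 0, 0, 0, 0, 2, 1, 0, 1, 1, 2, 0, 0, 0, 1, 0, 1, 0, 0, 2, 2, 1, 2, 2, 1, 0, 1, 1, 0, 2, 1, 2, 0, 2, 0, 2, 2, 2, 1, 0, 2, 1, 1, 2, 0, 2], [2, 0, 0, 0, 0, 0, 0, 0, 1, 2, 0, 2,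 2, 1, 0, 2, 1, 0, 2, 2, 1, 0, 1, 1, 2, 1, 1, 2, 0, 2, 2, 0, 1, 2, 1, 0, 2, 2, 0, 2, 1, 1, 0, 0, 0, 0, 0, 0, 2], [1, 0, 0, 0, 0, 0, 0, 0, 2, 2, 2, 1, 0, 2, 0, 1, 2, 0, 1, 1, 2, 0, 2, 1, 2, 2, 0, 1, 0, 1, 2, 2, 2, 0, 2, 0, 1, 0, 1, 1, 0, 2, 0, 0, 2, 1, 0, 1, 1], [2, 0, 0, 0, 0, 0, 0, 0, 1, 1, 1, 2, 0, 1, 0, 0, 2, 0, 0, 0, 0, 0, 1, 2, 1, 1, 0, 2, 0, 2, 1, 1, 1, 0, 1, 0, 1, 2, 2, 1, 2, 2, 0, 1, 2, 2, 1, 0, 1], [1, 0, 0, 0, 0, 0, 0, 0, 1, 0, 0, 0, 0, 0, 0, 0, 1, 0, 0, 0, 0, 0, 0, 0, 1, 0, 0, 0, 0, 0, 0, 0, 1, 0, 0, 0, 0, 0, 0, 0, 1, 0, 0, 0, 0, 0, 0, 0, 1]],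
  [[2, 0, 0, 0, 0, 0, 0, 0, 0, 0, 1, 2, 2, 0, 0, 1, 2, 1, 2, 2, 0, 0, 0, 0, 2, 0, 0, 0, 0, 2, 0, 2, 0, 1, 0, 0, 0, 0, 0, 0, 2, 0, 0, 2, 0, 2, 1, 1, 2], [1, 0, 0, 0, 0, 0, 0, 0, 1, 2, 1, 2, 1, 2, 0, 2, 1, 2, 1, 1, 0, 0, 2, 1, 2, 2, 0, 1, 0, 2, 2, 0, 1, 2, 2, 0, 2, 1, 1, 2, 1, 1, 0, 0, 1, 2, 1, 2, 2], [2, 0, 0, 0, 0, 0, 0, 0, 1, 1, 1, 2, 0, 1, 0, 0, 2, 0, 0, 0, 0, 0, 1, 2, 1, 1, 0, 2, 0, 2, 1, 1, 1, 0, 1, 0, 1, 2, 2, 1, 2, 2, 0, 1, 2, 2, 1, 0, 1], [1, 0, 0, 0, 0, 0, 0, 0, 1, 0, 0, 0, 0, 0, 0, 0, 1, 0, 0, 0, 0, 0, 0, 0, 1, 0, 0, 0, 0, 0, 0, 0, 1, 0, 0, 0, 0, 0, 0, 0, 1, 0, 0, 0, 0, 0, 0, 0, 1]],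
  [[2, 0, 0, 0, 0, 0, 0, 0, 0, 0, 0, 2, 0, 0, 0, 0, 2, 0, 0, 0, 0, 0, 0, 0, 2, 0, 0, 0, 0, 2, 0, 0, 0, 0, 0, 0, 0, 0, 0, 0, 2, 0, 0, 0, 0, 0, 0, 0, 2], [1, 0, 0, 0, 0, 0, 0, 0, 1, 2, 2, 2, 0, 2, 0, 0, 1, 0, 0, 0, 0, 0, 2, 1, 2, 2, 0, 1, 0, 2, 2, 2, 1, 0, 2, 0, 2, 1, 1, 2, 1, 1, 0, 2, 1, 1, 2, 0, 2], [2, 0, 0, 0, 0, 0, 0, 0, 1, 1, 1, 2, 0, 1, 0, 0, 2, 0, 0, 0, 0, 0, 1, 2, 1, 1, 0, 2, 0, 2, 1, 1, 1, 0, 1, 0, 1, 2, 2, 1, 2, 2, 0, 1, 2, 2, 1, 0, 1], [1, 0, 0, 0, 0, 0, 0, 0, 1, 0, 0, 0, 0, 0, 0, 0, 1, 0, 0, 0, 0, 0, 0, 0, 1, 0, 0, 0, 0, 0, 0, 0, 1, 0, 0, 0, 0, 0, 0, 0, 1, 0, 0, 0, 0, 0, 0, 0, 1]],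
  [[0, 2, 0, 0, 2, 0, 0, 1, 1, 0, 0, 2, 0, 0, 0, 0, 2, 0, 0, 0, 0, 0, 0, 0, 2, 0, 0, 0, 1, 2, 0, 0, 1, 0, 0, 0, 0, 0, 0, 0, 2, 0, 0, 0, 0, 0, 0, 0, 2], [0, 1, 0, 0, 1, 0, 0, 0, 2, 2, 2, 1, 0, 2, 0, 0, 1, 0, 0, 0, 0, 2, 0, 1, 2, 0, 0, 1, 0, 1, 2, 2, 2, 0, 2, 2, 0, 1, 1, 0, 1, 1, 2, 0, 1, 1, 0, 0, 2], [0, 0, 2, 2, 0, 0, 2, 0, 2, 0, 0, 0, 0, 0, 0, 0, 2, 0, 0, 0, 0, 1, 0, 2, 1, 0, 0, 2, 0, 0, 0, 0, 2, 0, 0, 1, 0, 2, 2, 0, 2, 2, 1, 0, 2, 2, 0, 0, 1], [0, 0, 1, 1, 0, 0, 1, 2, 2, 0, 0, 1, 0, 0, 0, 0, 1, 0, 0, 0, 0, 0, 2, 1, 2, 2, 0, 1, 2, 1, 0, 0, 2, 0, 0, 0, 2, 1, 1, 2, 1, 1, 0, 2, 1, 1, 2, 0, 2], [2, 0, 0, 0, 0, 0, 0, 0, 1, 1, 1, 2, 0, 1,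 0, 0, 2, 0, 0, 0, 0, 0, 1, 2, 1, 1, 0, 2, 0, 2, 1, 1, 1, 0, 1, 0, 1, 2, 2, 1, 2, 2, 0, 1, 2, 2, 1, 0, 1], [1, 0, 0, 0, 0, 0, 0, 0, 1, 0, 0, 0, 0, 0, 0, 0, 1, 0, 0, 0, 0, 0, 0, 0, 1, 0, 0, 0, 0, 0, 0, 0, 1, 0, 0, 0, 0, 0, 0, 0, 1, 0, 0, 0, 0, 0, 0, 0, 1]],
  [[0, 2, 1, 1, 2, 2, 1, 1, 1, 1, 1, 2, 2, 1, 1, 2, 0, 1, 2, 2, 1, 2, 1, 2, 1, 1, 1, 2, 1, 2, 1, 1, 1, 2, 1, 2, 1, 2, 2, 1, 0, 2, 2, 1, 2, 2, 1, 1, 1], [0, 1, 2, 2, 1, 1, 2, 2, 0, 1, 1, 2, 1, 1, 2, 1, 0, 2, 1, 1, 2, 1, 1, 2, 0, 1, 2, 2, 2, 2, 1, 1, 0, 1, 1, 1, 1, 2, 2, 1, 0, 2, 1, 1, 2, 2, 1, 2, 0], [2, 0, 0, 0, 0, 0, 0, 0, 1, 1, 1, 2, 0, 1, 0, 0, 2, 0, 0, 0, 0, 0, 1, 2, 1, 1, 0, 2,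 0, 2, 1, 1, 1, 0, 1, 0, 1, 2, 2, 1, 2, 2, 0, 1, 2, 2, 1, 0, 1], [1, 0, 0, 0, 0, 0, 0, 0, 1, 0, 0, 0, 0, 0, 0, 0, 1, 0, 0, 0, 0, 0, 0, 0, 1, 0, 0, 0, 0, 0, 0, 0, 1, 0, 0, 0, 0, 0, 0, 0, 1, 0, 0, 0, 0, 0, 0, 0, 1]],
  [[2, 0, 0, 0, 0, 0, 0, 0, 2, 0, 0, 0, 0, 0, 0, 0, 0, 2, 0, 2, 0, 0, 0, 0, 2, 0, 0, 0, 0, 0, 0, 0, 2, 0, 0, 0, 0, 2, 1, 0, 0, 0, 0, 0, 1, 2, 0, 2, 2], [1, 0, 0, 0, 0, 0, 0, 0, 1, 0, 0, 0, 0, 0, 0, 0, 1, 0, 0, 0, 0, 0, 0, 0, 1, 0, 0, 0, 0, 0, 0, 0, 1, 0, 0, 0, 0, 0, 0, 0, 1, 0, 0, 0, 0, 0, 0, 0, 1]],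
  [[2, 0, 0, 0, 0, 0, 0, 0, 0, 0, 1, 2, 2, 0, 0, 1, 2, 1, 2, 2, 0, 0, 0, 0, 2, 0, 0, 0, 0, 2, 0, 2, 0, 1, 0, 0, 0, 0, 0, 0, 2, 0, 0, 2, 0, 2, 1, 1, 2], [1, 0, 0, 0, 0, 0, 0, 0, 0, 0, 2, 1, 1, 0, 0, 0, 0, 1, 0, 1, 0, 0, 0, 0, 1, 0, 0, 0, 0, 1, 0, 1, 0, 2, 0, 0, 2, 1, 1, 1, 1, 0, 0, 2, 2, 0, 1, 2, 1], [2, 0, 0, 0, 0, 0, 0, 0, 0, 2, 2, 2, 0, 0, 0, 0, 2, 0, 0, 0, 0, 0, 0, 0, 2, 0, 0, 0, 0, 2, 1, 1, 0, 0, 0, 0, 1, 2, 2, 2, 2, 0, 0, 1, 2, 2, 2, 0, 2], [1, 0, 0, 0, 0, 0, 0, 0, 0, 1, 1, 1, 0, 0, 0, 2, 1, 2, 1, 1, 0, 0, 0, 0, 1, 0, 0, 0, 0, 1, 2, 2, 0, 0, 0, 0, 0, 1, 2, 0, 0, 0, 0, 1, 1, 0, 2, 1, 1], [2, 0, 0, 0, 0, 0, 0, 0, 2, 0, 0, 0, 0, 0,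 0, 0, 0, 2, 0, 2, 0, 0, 0, 0, 2, 0, 0, 0, 0, 0, 0, 0, 2, 0, 0, 0, 0, 2, 1, 0, 0, 0, 0, 0, 1, 2, 0, 2, 2], [1, 0, 0, 0, 0, 0, 0, 0, 1, 0, 0, 0, 0, 0, 0, 0, 1, 0, 0, 0, 0, 0, 0, 0, 1, 0, 0, 0, 0, 0, 0, 0, 1, 0, 0, 0, 0, 0, 0, 0, 1, 0, 0, 0, 0, 0, 0, 0, 1]],
  [[2, 0, 0, 0, 0, 0, 0, 0, 0, 0, 0, 2, 0, 0, 0, 0, 2, 0, 0, 0, 0, 0, 0, 0, 2, 0, 0, 0, 0, 2, 0, 0, 0, 0, 0, 0, 0, 0, 0, 0, 2, 0, 0, 0, 0, 0, 0, 0, 2], [1, 0, 0, 0, 0, 0, 0, 0, 0, 0, 0, 1, 0, 0, 0, 0, 0, 1, 0, 1, 0, 0, 0, 0, 1, 0, 0, 0, 0, 1, 0, 0, 0, 0, 0, 0, 0, 1, 2, 0, 0, 0, 0, 0, 2, 1, 0, 1, 1], [2, 0, 0, 0, 0, 0, 0, 0, 2, 0, 0, 0, 0, 0, 0, 0, 0, 2, 0, 2, 0, 0, 0, 0, 2, 0, 0, 0,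 0, 0, 0, 0, 2, 0, 0, 0, 0, 2, 1, 0, 0, 0, 0, 0, 1, 2, 0, 2, 2], [1, 0, 0, 0, 0, 0, 0, 0, 1, 0, 0, 0, 0, 0, 0, 0, 1, 0, 0, 0, 0, 0, 0, 0, 1, 0, 0, 0, 0, 0, 0, 0, 1, 0, 0, 0, 0, 0, 0, 0, 1, 0, 0, 0, 0, 0, 0, 0, 1]],
  [[0, 2, 0, 0, 2, 0, 0, 1, 1, 0, 0, 2, 0, 0, 0, 0, 2, 0, 0, 0, 0, 0, 0, 0, 2, 0, 0, 0, 1, 2, 0, 0, 1, 0, 0, 0, 0, 0, 0, 0, 2, 0, 0, 0, 0, 0, 0, 0, 2], [0, 1, 0, 0, 1, 0, 0, 2, 2, 0, 0, 1, 0, 0, 0, 0, 0, 1, 0, 1, 0, 0, 0, 0, 1, 0, 0, 0, 2, 1, 0, 0, 2, 0, 0, 0, 0, 1, 2, 0, 0, 0, 0, 0, 2, 1, 0, 1, 1], [2, 0, 0, 0, 0, 0, 0, 0, 2, 0, 0, 0, 0, 0, 0, 0, 0, 2, 0, 2, 0, 0, 0, 0, 2, 0, 0, 0, 0, 0, 0, 0, 2, 0, 0, 0, 0, 2, 1, 0, 0, 0,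 0, 0, 1, 2, 0, 2, 2], [1, 0, 0, 0, 0, 0, 0, 0, 1, 0, 0, 0, 0, 0, 0, 0, 1, 0, 0, 0, 0, 0, 0, 0, 1, 0, 0, 0, 0, 0, 0, 0, 1, 0, 0, 0, 0, 0, 0, 0, 1, 0, 0, 0, 0, 0, 0, 0, 1]],
  [[0, 2, 1, 1, 2, 2, 1, 1, 1, 1, 1, 2, 2, 1, 1, 2, 0, 1, 2, 2, 1, 2, 1, 2, 1, 1, 1, 2, 1, 2, 1, 1, 1, 2, 1, 2, 1, 2, 2, 1, 0, 2, 2, 1, 2, 2, 1, 1, 1], [0, 1, 2, 2, 1, 1, 2, 2, 2, 2, 2, 1, 1, 2, 2, 1, 2, 0, 1, 2, 2, 1, 2, 1, 2, 2, 2, 1, 2, 1, 2, 2, 2, 1, 2, 1, 2, 2, 0, 2, 2, 1, 1, 2, 0, 2, 2, 0, 2], [2, 0, 0, 0, 0, 0, 0, 0, 2, 0, 0, 0, 0, 0, 0, 0, 0, 2, 0, 2, 0, 0, 0, 0, 2, 0, 0, 0, 0, 0, 0, 0, 2, 0, 0, 0, 0, 2, 1, 0, 0, 0, 0, 0, 1, 2, 0, 2, 2], [1, 0, 0, 0, 0, 0,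 0, 0, 1, 0, 0, 0, 0, 0, 0, 0, 1, 0, 0, 0, 0, 0, 0, 0, 1, 0, 0, 0, 0, 0, 0, 0, 1, 0, 0, 0, 0, 0, 0, 0, 1, 0, 0, 0, 0, 0, 0, 0, 1]],
  [[2, 0, 0, 0, 0, 0, 0, 0, 0, 0, 1, 2, 2, 0, 0, 1, 2, 1, 2, 2, 0, 0, 0, 0, 2, 0, 0, 0, 0, 2, 0, 2, 0, 1, 0, 0, 0, 0, 0, 0, 2, 0, 0, 2, 0, 2, 1, 1, 2], [1, 0, 0, 0, 0, 0, 0, 0, 1, 0, 0, 0, 0, 0, 0, 0, 1, 0, 0, 0, 0, 0, 0, 0, 1, 0, 0, 0, 0, 0, 0, 0, 1, 0, 0, 0, 0, 0, 0, 0, 1, 0, 0, 0, 0, 0, 0, 0, 1]],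
  [[2, 0, 0, 0, 0, 0, 0, 0, 0, 0, 0, 2, 0, 0, 0, 0, 2, 0, 0, 0, 0, 0, 0, 0, 2, 0, 0, 0, 0, 2, 0, 0, 0, 0, 0, 0, 0, 0, 0, 0, 2, 0, 0, 0, 0, 0, 0, 0, 2], [1, 0, 0, 0, 0, 0, 0, 0, 1, 0, 2, 0, 1, 0, 0, 1, 1, 2, 2, 1, 0, 0, 0, 0, 1, 0, 0, 0, 0, 0, 0, 1, 1, 2, 0, 0, 0, 0, 0, 0, 1, 0, 0, 2, 0, 1, 1, 2, 1], [2, 0, 0, 0, 0, 0, 0, 0, 0, 0, 2, 2, 1, 0, 0, 2, 2, 1, 1, 2, 0, 0, 0, 0, 2, 0, 0, 0, 0, 2, 0, 1, 0, 2, 0, 0, 0, 0, 0, 0, 2, 0, 0, 1, 0, 2, 2, 1, 2], [1, 0, 0, 0, 0, 0, 0, 0, 1, 0, 1, 0, 2, 0, 0, 2, 1, 2, 1, 1, 0, 0, 0, 0, 1, 0, 0, 0, 0, 0, 0, 2, 1, 1, 0, 0, 0, 0, 0, 0, 1, 0, 0, 1, 0, 1, 2, 2, 1], [2, 0, 0, 0, 0, 0, 0, 0, 0, 0, 1, 2, 2, 0,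 0, 1, 2, 1, 2, 2, 0, 0, 0, 0, 2, 0, 0, 0, 0, 2, 0, 2, 0, 1, 0, 0, 0, 0, 0, 0, 2, 0, 0, 2, 0, 2, 1, 1, 2], [1, 0, 0, 0, 0, 0, 0, 0, 1, 0, 0, 0, 0, 0, 0, 0, 1, 0, 0, 0, 0, 0, 0, 0, 1, 0, 0, 0, 0, 0, 0, 0, 1, 0, 0, 0, 0, 0, 0, 0, 1, 0, 0, 0, 0, 0, 0, 0, 1]],
  [[0, 2, 0, 0, 2, 0, 0, 1, 1, 0, 0, 2, 0, 0, 0, 0, 2, 0, 0, 0, 0, 0, 0, 0, 2, 0, 0, 0, 1, 2, 0, 0, 1, 0, 0, 0, 0, 0, 0, 0, 2, 0, 0, 0, 0, 0, 0, 0, 2], [0, 1, 0, 0, 1, 0, 0, 2, 1, 0, 2, 2, 1, 0, 0, 2, 1, 2, 1, 1, 0, 0, 0, 0, 1, 0, 0, 0, 2, 2, 0, 1, 1, 2, 0, 0, 0, 0, 0, 0, 1, 0, 0, 1, 0, 1, 2, 2, 1], [2, 0, 0, 0, 0, 0, 0, 0, 0, 0, 1, 2, 2, 0, 0, 1, 2, 1, 2, 2, 0, 0, 0, 0, 2, 0, 0, 0,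 0, 2, 0, 2, 0, 1, 0, 0, 0, 0, 0, 0, 2, 0, 0, 2, 0, 2, 1, 1, 2], [1, 0, 0, 0, 0, 0, 0, 0, 1, 0, 0, 0, 0, 0, 0, 0, 1, 0, 0, 0, 0, 0, 0, 0, 1, 0, 0, 0, 0, 0, 0, 0, 1, 0, 0, 0, 0, 0, 0, 0, 1, 0, 0, 0, 0, 0, 0, 0, 1]],
  [[0, 2, 1, 1, 2, 2, 1, 1, 1, 1, 1, 2, 2, 1, 1, 2, 0, 1, 2, 2, 1, 2, 1, 2, 1, 1, 1, 2, 1, 2, 1, 1, 1, 2, 1, 2, 1, 2, 2, 1, 0, 2, 2, 1, 2, 2, 1, 1, 1], [0, 1, 2, 2, 1, 1, 2, 2, 1, 2, 1, 2, 2, 2, 2, 0, 0, 1, 2, 2, 2, 1, 2, 1, 2, 2, 2, 1, 2, 2, 2, 0, 1, 0, 2, 1, 2, 1, 1, 2, 0, 1, 1, 0, 1, 2, 1, 1, 2], [2, 0, 0, 0, 0, 0, 0, 0, 0, 0, 1, 2, 2, 0, 0, 1, 2, 1, 2, 2, 0, 0, 0, 0, 2, 0, 0, 0, 0, 2, 0, 2, 0, 1, 0, 0, 0, 0, 0, 0, 2, 0,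 0, 2, 0, 2, 1, 1, 2], [1, 0, 0, 0, 0, 0, 0, 0, 1, 0, 0, 0, 0, 0, 0, 0, 1, 0, 0, 0, 0, 0, 0, 0, 1, 0, 0, 0, 0, 0, 0, 0, 1, 0, 0, 0, 0, 0, 0, 0, 1, 0, 0, 0, 0, 0, 0, 0, 1]],
  [[2, 0, 0, 0, 0, 0, 0, 0, 0, 0, 0, 2, 0, 0, 0, 0, 2, 0, 0, 0, 0, 0, 0, 0, 2, 0, 0, 0, 0, 2, 0, 0, 0, 0, 0, 0, 0, 0, 0, 0, 2, 0, 0, 0, 0, 0, 0, 0, 2], [1, 0, 0, 0, 0, 0, 0, 0, 1, 0, 0, 0, 0, 0, 0, 0, 1, 0, 0, 0, 0, 0, 0, 0, 1, 0, 0, 0, 0, 0, 0, 0, 1, 0, 0, 0, 0, 0, 0, 0, 1, 0, 0, 0, 0, 0, 0, 0, 1]],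
  [[0, 2, 0, 0, 2, 0, 0, 1, 1, 0, 0, 2, 0, 0, 0, 0, 2, 0, 0, 0, 0, 0, 0, 0, 2, 0, 0, 0, 1, 2, 0, 0, 1, 0, 0, 0, 0, 0, 0, 0, 2, 0, 0, 0, 0, 0, 0, 0, 2], [0, 1, 0, 0, 1, 0, 0, 2, 1, 0, 0, 2, 0, 0, 0, 0, 1, 0, 0, 0, 0, 0, 0, 0, 1, 0, 0, 0, 2, 2, 0, 0, 1, 0, 0, 0, 0, 0, 0, 0, 1, 0, 0, 0, 0, 0, 0, 0, 1], [2, 0, 0, 0, 0, 0, 0, 0, 0, 0, 0, 2, 0, 0, 0, 0, 2, 0, 0, 0, 0, 0, 0, 0, 2, 0, 0, 0, 0, 2, 0, 0, 0, 0, 0, 0, 0, 0, 0, 0, 2, 0, 0, 0, 0, 0, 0, 0, 2], [1, 0, 0, 0, 0, 0, 0, 0, 1, 0, 0, 0, 0, 0, 0, 0, 1, 0, 0, 0, 0, 0, 0, 0, 1, 0, 0, 0, 0, 0, 0, 0, 1, 0, 0, 0, 0, 0, 0, 0, 1, 0, 0, 0, 0, 0, 0, 0, 1]],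
  [[0, 2, 1, 1, 2, 2, 1, 1, 1, 1, 1, 2, 2, 1, 1, 2, 0, 1, 2, 2, 1, 2, 1, 2, 1, 1, 1, 2, 1, 2, 1, 1, 1, 2, 1, 2, 1, 2, 2, 1, 0, 2, 2, 1, 2, 2, 1, 1, 1], [0, 1, 2, 2, 1, 1, 2, 2, 1, 2, 2, 2, 1, 2, 2, 1, 0, 2, 1, 1, 2, 1, 2, 1, 2, 2, 2, 1, 2, 2, 2, 2, 1, 1, 2, 1, 2, 1, 1, 2, 0, 1, 1, 2, 1, 1, 2, 2, 2], [2, 0, 0, 0, 0, 0, 0, 0, 0, 0, 0, 2, 0, 0, 0, 0, 2, 0, 0, 0, 0, 0, 0, 0, 2, 0, 0, 0, 0, 2, 0, 0, 0, 0, 0, 0, 0, 0, 0, 0, 2, 0, 0, 0, 0, 0, 0, 0, 2], [1, 0, 0, 0, 0, 0, 0, 0, 1, 0, 0, 0, 0, 0, 0, 0, 1, 0, 0, 0, 0, 0, 0, 0, 1, 0, 0, 0, 0, 0, 0, 0, 1, 0, 0, 0, 0, 0, 0, 0, 1, 0, 0, 0, 0, 0, 0, 0, 1]],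
  [[0, 2, 0, 0, 2, 0, 0, 1, 1, 0, 0, 2, 0, 0, 0, 0, 2, 0, 0, 0, 0, 0, 0, 0, 2, 0, 0, 0, 1, 2, 0, 0, 1, 0, 0, 0, 0, 0, 0, 0, 2, 0, 0, 0, 0, 0, 0, 0, 2], [1, 0, 0, 0, 0, 0, 0, 0, 1, 0, 0, 0, 0, 0, 0, 0, 1, 0, 0, 0, 0, 0, 0, 0, 1, 0, 0, 0, 0, 0, 0, 0, 1, 0, 0, 0, 0, 0, 0, 0, 1, 0, 0, 0, 0, 0, 0, 0, 1]],
  [[0, 2, 1, 1, 2, 2, 1, 1, 1, 1, 1, 2, 2, 1, 1, 2, 0, 1, 2, 2, 1, 2, 1, 2, 1, 1, 1, 2, 1, 2, 1, 1, 1, 2, 1, 2, 1, 2, 2, 1, 0, 2, 2, 1, 2, 2, 1, 1, 1], [1, 0, 1, 1, 0, 2, 1, 0, 1, 1, 1, 0, 2, 1, 2, 1, 0, 2, 1, 1, 2, 1, 2, 1, 2, 2, 2, 1, 0, 0, 1, 1, 1, 2, 1, 1, 2, 1, 1, 2, 0, 1, 1, 2, 1, 1, 2, 2, 2], [0, 2, 2, 2, 2, 1, 2, 1, 1, 2, 2, 2,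 1, 2, 2, 1, 0, 1, 1, 2, 1, 1, 2, 2, 1, 2, 1, 2, 1, 2, 2, 2, 1, 1, 2, 1, 2, 2, 2, 2, 0, 2, 1, 2, 2, 2, 2, 1, 1], [1, 0, 2, 2, 0, 1, 2, 0, 1, 2, 2, 0, 1, 2, 1, 2, 0, 2, 2, 1, 2, 2, 1, 1, 2, 1, 2, 1, 0, 0, 2, 2, 1, 1, 2, 2, 1, 1, 1, 1, 0, 1, 2, 1, 1, 1, 1, 2, 2], [0, 2, 0, 0, 2, 0, 0, 1, 1, 0, 0, 2, 0, 0, 0, 0, 2, 0, 0, 0, 0, 0, 0, 0, 2, 0, 0, 0, 1, 2, 0, 0, 1, 0, 0, 0, 0, 0, 0, 0, 2, 0, 0, 0, 0, 0, 0, 0, 2], [1, 0, 0, 0, 0, 0, 0, 0, 1, 0, 0, 0, 0, 0, 0, 0, 1, 0, 0, 0, 0, 0, 0, 0, 1, 0, 0, 0, 0, 0, 0, 0, 1, 0, 0, 0, 0, 0, 0, 0, 1, 0, 0, 0, 0, 0, 0, 0, 1]],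
  [[0, 2, 1, 1, 2, 2, 1, 1, 1, 1, 1, 2, 2, 1, 1, 2, 0, 1, 2, 2, 1, 2, 1, 2, 1, 1, 1, 2, 1, 2, 1, 1, 1, 2, 1, 2, 1, 2, 2, 1, 0, 2, 2, 1, 2, 2, 1, 1, 1], [1, 0, 0, 0, 0, 0, 0, 0, 1, 0, 0, 0, 0, 0, 0, 0, 1, 0, 0, 0, 0, 0, 0, 0, 1, 0, 0, 0, 0, 0, 0, 0, 1, 0, 0, 0, 0, 0, 0, 0, 1, 0, 0, 0, 0, 0, 0, 0, 1]],
  [[0, 2, 1, 1, 2, 2, 1, 1, 1, 1, 1, 2, 2, 1, 1, 2, 0, 1, 2, 2, 1, 2, 1, 2, 1, 1, 1, 2, 1, 2, 1, 1, 1, 2, 1, 2, 1, 2, 2, 1, 0, 2, 2, 1, 2, 2, 1, 1, 1], [1, 0, 1, 1, 0, 2, 1, 0, 1, 1, 1, 0, 2, 1, 2, 1, 0, 2, 1, 1, 2, 1, 2, 1, 2, 2, 2, 1, 0, 0, 1, 1, 1, 2, 1, 1, 2, 1, 1, 2, 0, 1, 1, 2, 1, 1, 2, 2, 2], [2, 0, 2, 2, 0, 1, 2, 1, 0, 2, 2, 1,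 2, 2, 1, 2, 0, 1, 2, 2, 1, 1, 0, 2, 1, 0, 0, 2, 1, 1, 2, 2, 0, 2, 2, 1, 0, 2, 2, 0, 2, 2, 1, 0, 2, 2, 0, 0, 1], [1, 0, 1, 1, 0, 2, 1, 2, 2, 1, 0, 0, 2, 1, 2, 0, 0, 1, 2, 2, 2, 2, 0, 1, 2, 0, 0, 1, 2, 0, 1, 2, 2, 0, 1, 2, 0, 1, 1, 0, 1, 1, 2, 1, 1, 2, 2, 2, 2], [2, 0, 2, 2, 0, 1, 2, 1, 1, 2, 0, 0, 1, 2, 2, 0, 1, 0, 0, 2, 1, 1, 0, 2, 1, 0, 0, 2, 1, 0, 2, 1, 1, 0, 2, 0, 0, 1, 1, 1, 1, 2, 2, 2, 0, 2, 0, 2, 1], [1, 0, 1, 1, 0, 2, 1, 2, 0, 0, 2, 2, 2, 1, 1, 0, 2, 0, 0, 1, 2, 2, 2, 2, 0, 1, 0, 1, 2, 1, 0, 1, 1, 0, 1, 0, 2, 0, 0, 0, 2, 1, 1, 0, 1, 2, 1, 1, 2], [0, 1, 1, 1, 1, 2, 1, 0, 2, 1, 2, 0, 0, 0, 1, 2, 2, 1, 2, 1, 2, 2, 2, 0, 2, 0, 1,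 1, 0, 1, 1, 0, 1, 2, 0, 1, 2, 2, 2, 1, 2, 1, 0, 1, 1, 0, 0, 0, 0], [0, 0, 2, 2, 1, 2, 0, 0, 0, 2, 1, 1, 2, 2, 2, 1, 1, 2, 1, 2, 1, 1, 1, 0, 1, 0, 2, 2, 0, 1, 2, 0, 0, 0, 2, 2, 1, 1, 1, 2, 1, 2, 0, 2, 2, 0, 0, 0, 0], [0, 0, 1, 1, 2, 1, 0, 0, 0, 0, 1, 2, 0, 0, 1, 2, 2, 1, 2, 1, 2, 2, 2, 1, 0, 0, 2, 2, 0, 2, 0, 2, 0, 2, 0, 1, 2, 0, 0, 1, 0, 2, 0, 1, 2, 1, 0, 1, 1], [2, 1, 2, 2, 2, 2, 0, 2, 1, 0, 2, 2, 0, 0, 1, 2, 1, 2, 2, 2, 1, 2, 0, 2, 0, 2, 1, 1, 2, 2, 0, 1, 1, 1, 0, 0, 0, 0, 0, 1, 0, 1, 1, 1, 1, 2, 2, 2, 2], [2, 0, 0, 0, 0, 2, 0, 2, 0, 2, 0, 0, 1, 0, 2, 1, 2, 1, 1, 1, 2, 1, 0, 1, 0, 1, 2, 2, 2, 2, 2, 1, 1, 0, 0, 0, 0, 0, 0, 2, 0, 2,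 2, 2, 2, 1, 1, 1, 1], [1, 0, 0, 0, 0, 1, 0, 2, 1, 2, 1, 2, 2, 2, 1, 2, 1, 2, 2, 2, 1, 1, 2, 1, 2, 0, 1, 2, 2, 2, 2, 0, 1, 0, 2, 2, 2, 2, 2, 2, 0, 2, 0, 0, 0, 1, 0, 2, 0], [2, 0, 0, 0, 0, 2, 0, 0, 1, 0, 0, 0, 1, 1, 1, 0, 1, 2, 0, 1, 2, 2, 1, 2, 1, 0, 2, 1, 2, 2, 2, 2, 0, 0, 1, 1, 1, 1, 1, 1, 0, 1, 1, 1, 1, 1, 1, 1, 0], [1, 0, 0, 0, 0, 1, 0, 0, 2, 0, 0, 0, 2, 2, 0, 1, 0, 1, 2, 1, 1, 1, 2, 1, 2, 0, 1, 2, 1, 1, 1, 1, 0, 0, 2, 1, 1, 1, 2, 0, 1, 2, 0, 0, 0, 2, 1, 1, 0], [2, 0, 0, 0, 0, 2, 0, 0, 1, 0, 1, 0, 2, 0, 0, 2, 0, 2, 1, 2, 2, 2, 1, 2, 0, 0, 1, 2, 2, 2, 2, 0, 0, 1, 0, 2, 2, 2, 0, 0, 1, 2, 0, 0, 0, 0, 2, 1, 1], [2, 2, 2, 2, 0, 0, 0,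 2, 0, 1, 0, 0, 2, 0, 2, 2, 1, 2, 2, 2, 1, 2, 1, 0, 2, 0, 1, 1, 0, 2, 2, 1, 0, 0, 0, 2, 0, 0, 2, 0, 1, 1, 1, 2, 2, 2, 1, 1, 2], [2, 2, 0, 1, 0, 2, 0, 0, 2, 0, 0, 0, 2, 0, 1, 1, 2, 1, 1, 1, 2, 1, 2, 0, 1, 0, 2, 2, 2, 0, 2, 2, 0, 1, 0, 1, 0, 0, 1, 0, 2, 2, 2, 1, 1, 1, 2, 2, 1], [1, 1, 0, 2, 0, 1, 0, 2, 0, 1, 1, 0, 0, 2, 2, 2, 1, 2, 2, 2, 1, 0, 2, 2, 1, 0, 2, 2, 0, 2, 2, 2, 0, 1, 2, 0, 1, 2, 1, 0, 2, 2, 2, 0, 1, 1, 1, 2, 0], [2, 1, 2, 0, 0, 0, 0, 1, 2, 1, 1, 0, 1, 1, 1, 0, 1, 0, 1, 2, 2, 0, 2, 2, 0, 0, 0, 1, 0, 0, 0, 0, 0, 0, 1, 0, 0, 2, 0, 0, 0, 1, 1, 1, 0, 0, 2, 0, 0], [2, 1, 2, 2, 0, 2, 1, 0, 0, 0, 1, 0, 1, 0, 2, 0, 2, 0, 2, 1, 1, 0,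 1, 1, 0, 0, 0, 2, 1, 2, 1, 2, 0, 2, 0, 0, 0, 1, 0, 0, 0, 2, 2, 2, 0, 0, 1, 0, 0], [1, 2, 1, 1, 0, 1, 2, 0, 1, 2, 2, 0, 0, 0, 1, 0, 1, 0, 1, 2, 2, 0, 1, 0, 0, 0, 2, 1, 2, 2, 1, 1, 0, 2, 0, 0, 2, 0, 0, 0, 2, 1, 1, 0, 1, 0, 2, 2, 0], [2, 1, 2, 2, 0, 2, 1, 1, 0, 2, 2, 0, 1, 0, 0, 1, 0, 1, 2, 2, 1, 0, 2, 0, 0, 0, 1, 2, 0, 0, 1, 1, 0, 0, 0, 0, 1, 0, 0, 0, 1, 2, 1, 2, 1, 2, 1, 0, 0], [1, 2, 1, 1, 0, 1, 2, 2, 0, 1, 1, 0, 2, 0, 0, 0, 0, 0, 0, 1, 2, 0, 1, 0, 0, 0, 2, 1, 0, 0, 2, 2, 0, 0, 0, 0, 1, 0, 2, 1, 2, 1, 2, 2, 2, 2, 1, 0, 0], [2, 1, 2, 2, 0, 2, 1, 1, 0, 1, 1, 1, 2, 0, 0, 0, 0, 0, 0, 2, 1, 0, 2, 1, 1, 2, 0, 2, 0, 0, 0, 0, 1, 1, 0, 0, 2,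 1, 2, 1, 0, 2, 1, 1, 2, 2, 1, 2, 0], [0, 2, 2, 0, 0, 2, 2, 0, 0, 1, 0, 2, 0, 0, 1, 0, 2, 1, 0, 0, 2, 2, 1, 0, 1, 1, 1, 1, 1, 0, 2, 1, 2, 1, 0, 2, 1, 0, 0, 2, 1, 1, 1, 2, 2, 0, 2, 2, 0], [1, 0, 0, 1, 1, 1, 0, 2, 1, 0, 2, 0, 0, 1, 2, 0, 1, 2, 0, 0, 1, 1, 2, 0, 2, 2, 2, 2, 1, 1, 2, 1, 0, 2, 1, 1, 2, 0, 0, 1, 2, 2, 2, 1, 1, 0, 1, 1, 0], [2, 0, 0, 2, 2, 2, 0, 0, 0, 0, 2, 0, 1, 0, 1, 0, 2, 1, 0, 0, 2, 0, 0, 0, 0, 1, 0, 0, 1, 0, 1, 0, 0, 2, 0, 0, 0, 0, 2, 2, 0, 0, 2, 1, 2, 2, 2, 1, 2], [2, 1, 0, 2, 1, 1, 1, 1, 1, 0, 2, 0, 2, 1, 0, 1, 1, 0, 0, 0, 2, 2, 2, 0, 2, 2, 0, 2, 0, 1, 2, 1, 0, 1, 1, 2, 2, 0, 0, 1, 0, 2, 0, 1, 1, 0, 1, 2, 0], [2, 1,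 1, 0, 0, 0, 1, 0, 1, 1, 0, 1, 2, 1, 0, 2, 2, 0, 0, 0, 1, 1, 1, 0, 1, 1, 0, 1, 1, 1, 2, 1, 1, 0, 1, 1, 1, 0, 0, 2, 0, 1, 0, 2, 2, 0, 2, 1, 0], [1, 2, 2, 0, 0, 0, 2, 0, 2, 0, 0, 0, 0, 2, 0, 1, 1, 0, 0, 0, 2, 2, 2, 2, 2, 1, 1, 2, 2, 2, 2, 2, 0, 2, 2, 2, 2, 2, 0, 0, 1, 2, 0, 1, 0, 0, 0, 0, 0], [2, 1, 1, 0, 0, 0, 1, 1, 1, 1, 0, 1, 1, 1, 1, 2, 0, 0, 1, 1, 1, 1, 1, 1, 1, 2, 2, 1, 0, 1, 0, 1, 2, 0, 1, 1, 1, 1, 0, 0, 2, 1, 2, 2, 2, 0, 2, 2, 0], [1, 2, 2, 0, 0, 0, 2, 2, 2, 2, 0, 2, 2, 2, 1, 1, 1, 2, 1, 2, 1, 2, 2, 2, 2, 1, 1, 2, 0, 2, 0, 2, 1, 0, 2, 0, 2, 1, 1, 1, 1, 0, 0, 1, 2, 2, 0, 1, 2], [2, 1, 1, 0, 0, 0, 1, 2, 1, 1, 1, 0, 0, 2, 2, 2, 2,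 1, 2, 1, 2, 0, 1, 1, 0, 0, 0, 0, 1, 1, 0, 2, 1, 2, 2, 2, 1, 2, 1, 0, 0, 2, 2, 2, 1, 0, 1, 0, 0], [1, 1, 2, 0, 1, 1, 1, 1, 0, 2, 2, 2, 2, 2, 1, 2, 1, 2, 0, 1, 2, 0, 1, 2, 0, 1, 1, 2, 2, 0, 0, 1, 1, 0, 2, 1, 1, 1, 2, 1, 1, 0, 1, 0, 2, 0, 0, 1, 2], [0, 0, 2, 0, 0, 2, 1, 1, 2, 0, 1, 0, 1, 2, 2, 1, 2, 1, 0, 2, 1, 0, 2, 1, 0, 2, 2, 1, 0, 2, 2, 2, 1, 0, 2, 2, 2, 2, 1, 2, 2, 0, 2, 0, 1, 0, 0, 2, 1], [0, 0, 1, 0, 0, 1, 2, 2, 0, 2, 0, 1, 1, 0, 1, 2, 1, 2, 0, 1, 2, 0, 2, 0, 2, 0, 2, 0, 0, 0, 0, 2, 0, 2, 0, 1, 2, 2, 1, 0, 2, 1, 1, 1, 0, 2, 2, 2, 0], [2, 0, 0, 0, 1, 0, 1, 0, 0, 2, 0, 0, 0, 0, 1, 1, 0, 1, 1, 0, 1, 1, 1, 2, 1, 2, 0, 0, 2, 0, 1, 1,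 1, 2, 0, 0, 1, 0, 2, 2, 0, 2, 0, 2, 2, 1, 0, 0, 0], [1, 0, 0, 2, 2, 1, 0, 0, 0, 1, 2, 0, 1, 1, 2, 2, 0, 2, 2, 0, 2, 2, 2, 1, 2, 1, 0, 0, 1, 0, 2, 1, 2, 2, 1, 0, 2, 0, 1, 1, 0, 1, 0, 1, 1, 2, 0, 0, 0], [2, 0, 0, 1, 1, 2, 0, 0, 2, 1, 1, 1, 2, 2, 1, 1, 0, 1, 1, 0, 1, 1, 2, 0, 1, 1, 0, 0, 2, 2, 0, 2, 2, 1, 2, 0, 2, 1, 2, 1, 0, 2, 0, 0, 0, 1, 2, 0, 0], [1, 0, 0, 2, 2, 1, 0, 2, 1, 2, 0, 1, 2, 2, 1, 2, 0, 0, 1, 1, 0, 2, 1, 0, 2, 2, 0, 0, 2, 1, 0, 0, 2, 1, 0, 0, 1, 2, 1, 2, 0, 1, 1, 0, 0, 1, 2, 2, 2], [2, 0, 0, 1, 1, 2, 0, 1, 2, 1, 0, 2, 1, 1, 1, 1, 1, 0, 2, 0, 2, 1, 2, 0, 1, 1, 0, 0, 1, 2, 0, 0, 1, 2, 0, 1, 2, 0, 2, 1, 2, 0, 1, 0, 1, 2, 1,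 2, 0], [1, 0, 0, 2, 2, 1, 0, 0, 0, 0, 0, 2, 1, 0, 2, 2, 2, 0, 1, 0, 1, 1, 2, 2, 2, 1, 1, 2, 0, 0, 1, 0, 0, 0, 1, 1, 2, 2, 1, 1, 2, 2, 1, 1, 1, 1, 1, 2, 2], [0, 0, 1, 1, 0, 0, 1, 2, 0, 2, 0, 2, 1, 2, 0, 1, 0, 0, 0, 2, 1, 0, 1, 2, 1, 1, 0, 2, 2, 0, 1, 0, 1, 2, 1, 0, 1, 2, 2, 1, 2, 2, 0, 2, 0, 2, 1, 2, 2], [1, 0, 0, 0, 0, 0, 0, 0, 0, 0, 2, 1, 2, 0, 0, 2, 0, 0, 0, 1, 2, 0, 2, 1, 2, 2, 0, 1, 0, 0, 1, 2, 2, 1, 1, 0, 2, 1, 1, 2, 1, 1, 0, 1, 0, 1, 2, 1, 1], [2, 0, 0, 0, 0, 0, 0, 0, 2, 0, 0, 0, 0, 0, 0, 1, 0, 0, 0, 2, 1, 0, 2, 2, 2, 0, 1, 2, 0, 2, 2, 0, 2, 1, 2, 0, 2, 2, 0, 0, 0, 2, 0, 0, 0, 0, 0, 0, 2], [0, 0, 1, 2, 1, 2, 1, 2, 1, 1, 2, 1,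 2, 1, 2, 2, 1, 2, 1, 0, 0, 1, 1, 0, 2, 2, 0, 0, 2, 1, 2, 2, 2, 1, 2, 1, 1, 0, 1, 2, 1, 0, 1, 0, 2, 1, 2, 1, 0], [2, 1, 0, 2, 0, 0, 0, 0, 0, 0, 2, 0, 0, 0, 1, 1, 2, 1, 2, 0, 0, 2, 2, 0, 1, 1, 0, 0, 0, 0, 2, 2, 2, 1, 2, 2, 2, 0, 2, 1, 2, 0, 2, 0, 1, 2, 1, 2, 0], [1, 2, 0, 1, 0, 0, 0, 2, 0, 1, 1, 2, 1, 1, 2, 2, 1, 2, 1, 0, 0, 2, 1, 2, 2, 0, 2, 2, 2, 0, 2, 1, 0, 0, 2, 2, 1, 2, 1, 0, 0, 2, 2, 0, 1, 1, 0, 0, 2], [2, 1, 0, 2, 0, 0, 0, 1, 0, 1, 0, 0, 2, 1, 1, 1, 1, 2, 1, 0, 2, 1, 2, 1, 1, 0, 1, 1, 1, 0, 2, 1, 1, 0, 2, 1, 2, 1, 2, 0, 0, 1, 1, 0, 0, 1, 1, 0, 2], [1, 2, 0, 1, 0, 0, 0, 2, 0, 2, 0, 0, 1, 2, 1, 2, 1, 0, 0, 2, 1, 2, 1, 2, 2, 0, 2,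 2, 2, 0, 1, 2, 2, 0, 1, 0, 1, 0, 2, 2, 1, 2, 1, 0, 2, 1, 0, 2, 1], [2, 1, 0, 2, 0, 0, 0, 1, 0, 0, 1, 1, 1, 2, 2, 1, 2, 0, 0, 1, 2, 1, 2, 2, 0, 2, 2, 0, 1, 0, 1, 2, 2, 2, 0, 0, 2, 1, 0, 0, 0, 0, 2, 0, 2, 1, 2, 2, 1], [0, 2, 2, 2, 2, 1, 2, 0, 0, 1, 1, 0, 1, 2, 2, 2, 2, 2, 1, 1, 2, 1, 1, 0, 1, 0, 2, 2, 0, 0, 0, 0, 2, 0, 1, 2, 1, 1, 1, 2, 1, 2, 0, 0, 0, 0, 0, 2, 1], [0, 0, 1, 1, 2, 1, 0, 0, 1, 2, 2, 2, 0, 2, 1, 1, 1, 1, 2, 2, 1, 2, 2, 0, 2, 0, 1, 1, 0, 1, 0, 0, 0, 1, 0, 1, 2, 2, 2, 1, 2, 1, 0, 0, 0, 0, 0, 1, 2], [0, 0, 2, 2, 1, 2, 0, 0, 0, 0, 2, 1, 0, 0, 2, 2, 2, 2, 1, 1, 2, 1, 0, 1, 0, 0, 2, 0, 0, 0, 2, 1, 0, 2, 2, 2, 0, 2, 0, 2, 1, 0,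 0, 2, 1, 2, 0, 2, 2], [1, 1, 0, 1, 1, 2, 2, 1, 1, 2, 1, 1, 1, 2, 2, 2, 0, 1, 1, 0, 0, 1, 2, 0, 0, 1, 0, 1, 1, 1, 0, 2, 2, 2, 0, 0, 2, 2, 0, 2, 1, 1, 2, 0, 0, 1, 1, 0, 2], [1, 1, 1, 0, 0, 0, 1, 1, 1, 2, 0, 0, 1, 1, 1, 1, 0, 2, 2, 0, 0, 2, 1, 0, 0, 2, 0, 2, 1, 1, 1, 2, 2, 0, 0, 0, 1, 1, 0, 1, 2, 2, 1, 0, 0, 2, 2, 0, 1], [2, 2, 2, 0, 0, 0, 2, 1, 2, 1, 2, 1, 1, 1, 2, 2, 0, 1, 1, 0, 0, 2, 2, 0, 1, 0, 1, 2, 1, 2, 2, 0, 2, 2, 2, 1, 2, 2, 1, 1, 2, 2, 0, 0, 0, 2, 0, 1, 0], [1, 1, 1, 0, 0, 0, 1, 0, 1, 2, 0, 0, 0, 1, 2, 1, 0, 1, 0, 1, 2, 1, 1, 0, 2, 0, 2, 1, 1, 1, 1, 1, 0, 0, 2, 2, 1, 1, 2, 2, 1, 1, 2, 0, 0, 2, 2, 1, 1], [2, 2, 2, 0, 0, 0, 2,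 0, 2, 1, 0, 0, 0, 2, 0, 1, 2, 2, 1, 0, 1, 2, 2, 0, 1, 0, 1, 2, 2, 2, 2, 2, 0, 0, 1, 2, 0, 0, 1, 0, 1, 2, 0, 2, 2, 1, 2, 0, 2], [1, 1, 1, 0, 0, 0, 1, 0, 2, 0, 2, 0, 1, 0, 0, 2, 1, 1, 2, 0, 2, 1, 0, 2, 0, 0, 1, 2, 1, 2, 2, 0, 0, 1, 1, 1, 2, 2, 0, 0, 1, 2, 0, 0, 0, 0, 1, 2, 2], [1, 1, 1, 1, 0, 0, 0, 1, 2, 1, 0, 0, 2, 2, 1, 2, 0, 1, 1, 0, 0, 1, 2, 0, 1, 0, 2, 2, 0, 2, 2, 2, 0, 2, 1, 1, 0, 0, 1, 0, 2, 2, 2, 2, 2, 1, 2, 1, 2], [1, 1, 0, 2, 0, 1, 0, 0, 2, 1, 0, 0, 0, 1, 2, 1, 0, 2, 2, 0, 0, 2, 1, 0, 2, 0, 1, 1, 1, 2, 0, 1, 0, 0, 2, 2, 0, 0, 2, 0, 1, 1, 1, 1, 1, 2, 1, 2, 1], [2, 2, 0, 1, 0, 2, 0, 1, 0, 2, 2, 0, 0, 1, 1, 2, 0, 1, 1, 0, 0, 0,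 0, 0, 2, 0, 2, 0, 0, 0, 0, 1, 0, 0, 0, 0, 1, 0, 2, 0, 2, 0, 1, 0, 2, 2, 2, 1, 0], [1, 1, 0, 0, 0, 1, 2, 2, 0, 1, 2, 0, 0, 1, 2, 1, 0, 0, 2, 0, 2, 0, 0, 0, 0, 0, 1, 1, 0, 0, 0, 0, 0, 0, 2, 0, 2, 0, 0, 0, 1, 1, 2, 0, 1, 0, 1, 2, 1], [1, 0, 2, 1, 0, 0, 0, 0, 1, 1, 2, 0, 1, 1, 1, 2, 0, 0, 1, 0, 1, 0, 0, 0, 0, 0, 2, 2, 2, 1, 2, 1, 0, 1, 0, 0, 1, 0, 0, 0, 2, 2, 1, 0, 2, 0, 2, 1, 2], [2, 0, 1, 2, 0, 0, 0, 0, 2, 1, 1, 0, 0, 0, 2, 1, 0, 0, 2, 0, 2, 0, 0, 1, 0, 0, 0, 0, 1, 2, 0, 2, 0, 0, 1, 0, 2, 1, 0, 0, 0, 0, 2, 0, 2, 0, 1, 1, 0], [1, 0, 2, 1, 0, 0, 0, 2, 2, 0, 1, 0, 0, 2, 0, 0, 1, 2, 1, 0, 0, 0, 0, 2, 0, 0, 0, 0, 0, 0, 2, 2, 0, 0, 0, 0, 1,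 2, 0, 0, 0, 0, 2, 2, 0, 1, 2, 2, 1], [2, 0, 1, 2, 0, 0, 0, 1, 1, 0, 2, 0, 0, 1, 0, 2, 2, 0, 0, 0, 0, 0, 0, 1, 0, 0, 0, 0, 0, 0, 1, 1, 0, 0, 0, 0, 0, 1, 1, 2, 0, 0, 1, 0, 0, 1, 2, 1, 2], [1, 0, 2, 1, 0, 0, 0, 2, 0, 2, 2, 2, 1, 0, 0, 1, 1, 0, 0, 0, 0, 0, 2, 0, 2, 1, 2, 2, 0, 1, 1, 0, 2, 1, 1, 0, 2, 0, 1, 2, 2, 2, 2, 2, 1, 1, 2, 1, 0], [0, 1, 1, 0, 0, 1, 1, 0, 2, 1, 0, 1, 1, 2, 2, 1, 2, 2, 0, 2, 2, 1, 2, 0, 2, 2, 2, 2, 2, 1, 2, 2, 1, 1, 1, 1, 2, 0, 0, 1, 2, 2, 2, 2, 2, 0, 1, 0, 1], [2, 0, 0, 2, 2, 2, 0, 1, 0, 1, 1, 0, 2, 0, 1, 2, 1, 1, 0, 1, 1, 2, 1, 0, 1, 1, 1, 1, 2, 1, 0, 2, 0, 2, 1, 2, 1, 0, 0, 2, 1, 1, 1, 1, 1, 0, 2, 0, 2], [1, 0,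 0, 1, 1, 1, 0, 0, 0, 0, 1, 0, 2, 0, 2, 1, 2, 2, 0, 2, 2, 0, 2, 2, 0, 2, 1, 2, 2, 2, 1, 0, 0, 2, 2, 0, 2, 2, 1, 1, 1, 2, 1, 2, 1, 1, 1, 2, 1], [1, 1, 2, 1, 2, 0, 1, 2, 1, 2, 1, 0, 2, 1, 0, 0, 0, 0, 0, 2, 2, 1, 0, 2, 1, 1, 1, 0, 0, 2, 1, 2, 0, 2, 2, 1, 0, 2, 0, 2, 1, 0, 0, 0, 0, 0, 2, 0, 1], [1, 0, 0, 0, 0, 2, 0, 0, 0, 0, 0, 2, 0, 0, 0, 0, 0, 0, 0, 1, 1, 2, 0, 1, 2, 2, 2, 0, 2, 2, 1, 2, 2, 0, 2, 2, 0, 1, 0, 1, 2, 0, 0, 0, 0, 0, 1, 0, 2], [2, 0, 0, 0, 0, 1, 0, 0, 1, 0, 0, 0, 0, 1, 0, 0, 0, 0, 0, 2, 2, 1, 2, 2, 1, 2, 1, 2, 1, 2, 2, 1, 0, 0, 2, 1, 2, 2, 0, 0, 1, 2, 0, 2, 0, 0, 0, 0, 0], [1, 0, 0, 0, 0, 2, 0, 2, 1, 1, 0, 2, 0, 1, 2, 2, 1,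 0, 2, 1, 0, 2, 1, 1, 2, 1, 2, 1, 0, 2, 0, 2, 1, 0, 2, 2, 1, 1, 0, 0, 2, 1, 1, 2, 2, 0, 1, 0, 1], [2, 0, 0, 0, 0, 1, 0, 1, 2, 2, 0, 1, 0, 2, 2, 1, 1, 1, 2, 2, 1, 1, 2, 2, 1, 2, 1, 2, 0, 1, 0, 1, 2, 0, 1, 0, 2, 0, 2, 2, 1, 1, 0, 1, 0, 1, 0, 0, 0], [1, 0, 0, 0, 0, 2, 0, 1, 2, 2, 2, 0, 0, 1, 1, 2, 2, 2, 1, 1, 2, 0, 0, 0, 0, 0, 2, 1, 2, 0, 1, 1, 2, 0, 2, 1, 0, 2, 2, 0, 2, 2, 1, 1, 2, 0, 2, 0, 0], [2, 2, 1, 0, 2, 2, 2, 2, 2, 0, 1, 1, 2, 0, 2, 2, 0, 1, 0, 1, 2, 0, 2, 1, 0, 2, 2, 1, 1, 1, 1, 2, 2, 2, 2, 2, 2, 2, 1, 2, 2, 0, 2, 1, 2, 0, 0, 1, 2], [0, 0, 1, 0, 0, 1, 2, 2, 2, 1, 2, 0, 1, 2, 1, 1, 0, 2, 0, 2, 1, 0, 1, 2, 0, 1, 1, 2, 0, 0, 0, 1,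 2, 1, 0, 1, 1, 1, 2, 1, 1, 0, 1, 2, 1, 0, 0, 2, 1], [0, 0, 2, 0, 0, 2, 1, 1, 0, 1, 0, 2, 2, 0, 2, 2, 0, 1, 0, 1, 2, 0, 0, 2, 1, 0, 2, 2, 0, 2, 2, 1, 0, 2, 2, 2, 0, 0, 2, 0, 2, 1, 2, 2, 0, 1, 1, 1, 0], [1, 2, 2, 0, 2, 1, 1, 0, 2, 0, 0, 0, 1, 2, 2, 0, 1, 2, 2, 2, 0, 2, 1, 0, 2, 1, 1, 2, 1, 0, 2, 2, 2, 1, 0, 0, 1, 2, 1, 1, 1, 0, 0, 2, 2, 2, 0, 2, 1], [2, 1, 1, 1, 1, 1, 1, 0, 1, 0, 1, 0, 1, 0, 1, 0, 2, 1, 1, 1, 0, 1, 2, 0, 1, 2, 2, 1, 2, 0, 1, 2, 1, 1, 2, 0, 2, 1, 2, 2, 2, 0, 0, 1, 1, 1, 0, 1, 2], [1, 2, 2, 2, 2, 2, 2, 0, 1, 2, 2, 2, 1, 1, 2, 0, 1, 2, 2, 2, 0, 2, 2, 1, 2, 2, 2, 1, 1, 2, 1, 1, 1, 1, 2, 0, 2, 0, 1, 2, 2, 2, 0, 0, 0, 2, 1,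 0, 0], [2, 1, 1, 1, 1, 1, 1, 1, 1, 0, 0, 2, 2, 0, 2, 2, 1, 0, 2, 1, 1, 1, 1, 2, 1, 1, 1, 2, 1, 2, 0, 0, 1, 2, 0, 0, 1, 0, 2, 1, 1, 1, 2, 1, 1, 2, 1, 0, 2], [1, 2, 2, 2, 2, 2, 2, 2, 2, 0, 0, 1, 1, 0, 2, 1, 1, 0, 1, 1, 0, 2, 2, 1, 2, 2, 2, 1, 2, 1, 0, 0, 2, 1, 0, 2, 2, 1, 1, 2, 0, 1, 2, 2, 1, 1, 2, 2, 2], [2, 1, 1, 1, 1, 1, 1, 0, 0, 0, 0, 1, 2, 0, 1, 2, 2, 0, 2, 2, 0, 2, 2, 2, 1, 2, 1, 2, 0, 1, 0, 0, 0, 2, 0, 2, 2, 2, 2, 2, 0, 2, 2, 2, 2, 2, 2, 1, 1], [0, 0, 2, 2, 0, 0, 2, 1, 2, 0, 0, 1, 0, 0, 0, 0, 1, 0, 0, 0, 0, 0, 2, 1, 2, 2, 0, 1, 1, 1, 0, 0, 2, 0, 0, 0, 2, 1, 1, 2, 1, 1, 0, 2, 1, 1, 2, 0, 2], [2, 0, 0, 0, 0, 0, 0, 0, 1, 1, 1, 2,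 0, 1, 0, 0, 2, 0, 0, 0, 0, 0, 1, 2, 1, 1, 0, 2, 0, 2, 1, 1, 1, 0, 1, 0, 1, 2, 2, 1, 2, 2, 0, 1, 2, 2, 1, 0, 1], [1, 0, 0, 0, 0, 0, 0, 0, 1, 0, 0, 0, 0, 0, 0, 0, 1, 0, 0, 0, 0, 0, 0, 0, 1, 0, 0, 0, 0, 0, 0, 0, 1, 0, 0, 0, 0, 0, 0, 0, 1, 0, 0, 0, 0, 0, 0, 0, 1]],
  [[0, 2, 0, 0, 2, 0, 0, 1, 1, 0, 0, 2, 0, 0, 0, 0, 2, 0, 0, 0, 0, 0, 0, 0, 2, 0, 0, 0, 1, 2, 0, 0, 1, 0, 0, 0, 0, 0, 0, 0, 2, 0, 0, 0, 0, 0, 0, 0, 2], [0, 1, 0, 0, 1, 0, 0, 2, 1, 0, 0, 2, 0, 0, 0, 0, 1, 0, 0, 0, 0, 0, 0, 0, 1, 0, 0, 0, 2, 2, 0, 0, 1, 0, 0, 0, 0, 0, 0, 0, 1, 0, 0, 0, 0, 0, 0, 0, 1], [0, 2, 0, 0, 2, 0, 0, 1, 1, 0, 1, 2, 2, 0, 0, 2, 2, 1, 1, 2, 0, 0, 0, 0, 2, 0,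 0, 0, 1, 2, 0, 2, 1, 1, 0, 0, 0, 0, 0, 0, 2, 0, 0, 1, 0, 2, 2, 1, 2], [0, 1, 0, 0, 1, 0, 0, 2, 2, 0, 2, 1, 1, 0, 0, 0, 0, 1, 0, 1, 0, 0, 0, 0, 1, 0, 0, 0, 2, 1, 0, 1, 2, 2, 0, 0, 1, 1, 1, 2, 1, 0, 0, 1, 2, 0, 2, 2, 1], [0, 2, 0, 0, 2, 0, 0, 0, 2, 2, 0, 1, 2, 1, 0, 0, 0, 2, 0, 2, 0, 1, 2, 1, 0, 1, 0, 2, 0, 0, 2, 1, 0, 1, 1, 1, 1, 0, 0, 2, 2, 2, 1, 1, 2, 1, 2, 1, 1], [0, 2, 1, 1, 1, 0, 2, 0, 0, 0, 2, 2, 1, 0, 0, 0, 0, 1, 0, 1, 0, 2, 1, 2, 0, 2, 0, 1, 0, 2, 0, 1, 0, 2, 0, 2, 2, 0, 0, 1, 1, 1, 2, 2, 1, 2, 1, 2, 2], [1, 1, 0, 0, 0, 1, 1, 2, 0, 2, 0, 0, 1, 0, 2, 0, 2, 1, 2, 1, 0, 2, 2, 2, 1, 2, 1, 2, 2, 1, 2, 1, 2, 0, 0, 2, 1, 1, 1, 0, 0,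 2, 2, 1, 0, 2, 0, 2, 1], [2, 2, 2, 2, 1, 2, 0, 1, 0, 0, 2, 1, 2, 1, 1, 0, 1, 2, 1, 2, 0, 1, 1, 1, 2, 1, 2, 1, 1, 2, 0, 1, 2, 0, 1, 1, 2, 2, 2, 0, 0, 1, 1, 2, 0, 1, 0, 1, 2], [1, 1, 1, 1, 2, 1, 0, 2, 1, 0, 2, 1, 0, 2, 2, 0, 2, 1, 2, 1, 0, 2, 2, 2, 1, 2, 1, 2, 2, 0, 0, 1, 2, 1, 2, 2, 1, 1, 1, 0, 0, 2, 2, 1, 0, 2, 0, 2, 1], [2, 2, 2, 2, 1, 2, 0, 1, 1, 1, 2, 0, 0, 1, 1, 2, 2, 0, 2, 2, 0, 1, 1, 1, 2, 1, 2, 1, 1, 1, 2, 1, 0, 2, 1, 1, 2, 2, 2, 0, 0, 1, 1, 0, 2, 0, 2, 1, 2], [1, 1, 1, 1, 2, 1, 0, 2, 2, 2, 1, 0, 0, 2, 1, 0, 0, 2, 2, 1, 1, 2, 2, 2, 1, 2, 1, 2, 2, 2, 1, 2, 0, 1, 2, 0, 2, 2, 2, 2, 0, 1, 1, 2, 0, 2, 2, 2, 2], [2, 2, 2, 2, 1, 2,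 0, 1, 1, 0, 1, 0, 0, 2, 2, 0, 0, 1, 1, 2, 2, 1, 1, 2, 0, 1, 2, 0, 1, 1, 1, 0, 0, 2, 2, 0, 1, 2, 2, 1, 0, 1, 2, 1, 1, 2, 1, 1, 0], [2, 2, 1, 1, 0, 2, 1, 1, 1, 0, 2, 2, 2, 0, 1, 0, 0, 2, 2, 1, 1, 2, 2, 1, 0, 2, 1, 0, 1, 1, 2, 0, 2, 0, 0, 0, 2, 1, 1, 2, 0, 2, 1, 2, 2, 1, 2, 2, 0], [1, 0, 0, 0, 0, 1, 1, 2, 0, 2, 0, 1, 1, 1, 2, 1, 2, 0, 1, 2, 0, 1, 0, 0, 1, 1, 2, 2, 2, 0, 0, 2, 1, 0, 1, 0, 0, 0, 0, 1, 0, 0, 2, 0, 2, 0, 1, 1, 2], [2, 0, 1, 1, 1, 2, 1, 1, 0, 2, 1, 0, 2, 1, 1, 2, 1, 0, 2, 1, 0, 2, 0, 0, 2, 2, 1, 1, 1, 0, 1, 2, 0, 0, 1, 0, 0, 0, 0, 2, 0, 0, 1, 0, 1, 0, 2, 2, 1], [1, 0, 2, 2, 2, 1, 2, 2, 0, 2, 1, 0, 0, 2, 2, 1, 2, 0, 1, 2, 0,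 1, 0, 0, 1, 1, 2, 2, 2, 0, 1, 2, 0, 1, 2, 0, 0, 0, 0, 1, 0, 0, 2, 0, 2, 0, 1, 1, 2], [2, 0, 1, 1, 1, 2, 1, 2, 0, 2, 2, 0, 1, 0, 2, 2, 2, 0, 2, 2, 2, 2, 0, 0, 2, 2, 1, 1, 0, 0, 1, 1, 0, 1, 2, 0, 0, 0, 0, 2, 0, 0, 0, 0, 0, 0, 2, 1, 2], [1, 0, 2, 2, 2, 1, 2, 1, 0, 1, 1, 0, 2, 0, 1, 0, 0, 1, 2, 2, 2, 1, 0, 0, 1, 1, 2, 2, 0, 0, 2, 2, 0, 2, 1, 0, 1, 1, 2, 0, 2, 2, 0, 2, 2, 1, 2, 0, 2], [2, 0, 1, 1, 1, 2, 1, 0, 2, 1, 2, 2, 1, 2, 2, 0, 0, 2, 1, 1, 1, 1, 1, 1, 2, 0, 1, 2, 1, 2, 0, 1, 2, 1, 1, 2, 0, 0, 1, 1, 1, 2, 2, 2, 2, 2, 2, 0, 2], [1, 1, 1, 0, 1, 2, 0, 0, 0, 0, 0, 2, 1, 0, 1, 0, 0, 1, 2, 2, 2, 2, 2, 2, 1, 0, 2, 1, 2, 0, 1, 1, 2, 1, 1, 1,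 0, 0, 2, 2, 2, 1, 1, 1, 1, 1, 1, 0, 1], [2, 0, 1, 0, 0, 0, 1, 0, 2, 1, 0, 0, 0, 2, 2, 2, 1, 2, 0, 2, 0, 1, 2, 0, 2, 1, 0, 0, 1, 2, 0, 2, 0, 0, 1, 2, 1, 2, 1, 2, 0, 0, 2, 0, 1, 2, 0, 2, 0], [2, 2, 2, 1, 0, 0, 0, 1, 0, 2, 1, 0, 0, 2, 1, 1, 2, 1, 0, 1, 0, 2, 1, 0, 1, 2, 0, 0, 0, 0, 0, 2, 0, 0, 0, 1, 2, 1, 2, 1, 0, 0, 1, 0, 2, 1, 0, 1, 0], [1, 1, 1, 2, 0, 0, 0, 0, 0, 0, 1, 0, 0, 0, 2, 2, 1, 2, 0, 2, 0, 1, 2, 0, 2, 1, 0, 0, 2, 0, 1, 2, 0, 0, 1, 2, 1, 2, 1, 2, 0, 0, 2, 0, 1, 2, 0, 2, 0], [2, 2, 2, 1, 0, 0, 0, 0, 1, 0, 2, 2, 0, 2, 1, 2, 2, 1, 2, 1, 2, 2, 1, 0, 1, 2, 0, 0, 1, 2, 2, 1, 1, 0, 0, 1, 2, 1, 2, 1, 0, 0, 1, 2, 2, 1, 1, 1, 1], [1,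 1, 1, 2, 0, 0, 0, 0, 2, 0, 1, 1, 0, 1, 0, 0, 2, 0, 0, 0, 0, 1, 2, 0, 2, 1, 0, 0, 2, 1, 1, 2, 2, 0, 0, 1, 2, 1, 0, 0, 2, 1, 0, 0, 2, 0, 1, 0, 1], [2, 2, 2, 1, 0, 0, 0, 2, 0, 0, 1, 1, 0, 2, 0, 0, 1, 0, 0, 0, 0, 0, 2, 0, 2, 0, 0, 0, 0, 1, 2, 0, 0, 0, 0, 0, 2, 2, 1, 1, 1, 2, 1, 1, 1, 1, 0, 0, 2], [2, 1, 2, 1, 1, 0, 2, 0, 0, 2, 0, 1, 0, 2, 0, 0, 2, 0, 0, 0, 0, 0, 1, 0, 1, 0, 0, 0, 2, 2, 0, 1, 2, 0, 1, 0, 1, 1, 2, 2, 2, 1, 2, 2, 2, 2, 0, 0, 1], [0, 0, 2, 0, 2, 2, 0, 1, 2, 0, 2, 2, 1, 2, 1, 2, 0, 2, 0, 1, 1, 2, 0, 1, 0, 0, 2, 2, 2, 0, 2, 1, 1, 1, 0, 2, 0, 0, 2, 1, 0, 1, 0, 2, 2, 2, 0, 2, 1], [0, 1, 1, 0, 0, 1, 1, 2, 2, 0, 1, 0, 2, 2, 2, 1,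 0, 1, 0, 2, 2, 1, 0, 2, 0, 0, 1, 1, 1, 1, 1, 2, 1, 2, 1, 1, 0, 0, 1, 2, 0, 2, 0, 1, 1, 1, 0, 1, 2], [0, 2, 2, 0, 0, 2, 2, 2, 2, 2, 1, 2, 1, 2, 1, 2, 0, 2, 0, 1, 1, 2, 0, 1, 0, 0, 2, 2, 1, 1, 0, 2, 0, 1, 1, 2, 0, 0, 2, 1, 0, 1, 0, 2, 2, 2, 0, 2, 1], [0, 1, 1, 0, 0, 1, 1, 2, 2, 1, 2, 2, 1, 0, 0, 2, 0, 1, 1, 1, 1, 1, 0, 2, 0, 0, 1, 1, 1, 1, 0, 1, 2, 0, 0, 1, 0, 0, 1, 2, 0, 2, 2, 0, 1, 1, 2, 2, 0], [0, 2, 2, 0, 0, 2, 2, 1, 1, 2, 1, 1, 2, 0, 1, 0, 1, 2, 1, 2, 0, 2, 0, 1, 0, 0, 2, 2, 2, 2, 0, 2, 1, 0, 0, 1, 1, 2, 2, 2, 0, 0, 2, 2, 0, 2, 0, 1, 1], [0, 1, 1, 0, 0, 1, 1, 1, 1, 1, 0, 1, 1, 0, 2, 0, 2, 1, 2, 1, 0, 2, 1, 2, 2, 1, 1, 1, 0, 0, 0,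 2, 1, 0, 0, 0, 0, 1, 0, 2, 0, 0, 2, 2, 0, 0, 1, 2, 2], [1, 1, 1, 2, 2, 1, 0, 1, 0, 0, 1, 0, 0, 2, 1, 0, 1, 2, 1, 2, 0, 1, 2, 1, 1, 2, 2, 2, 2, 1, 1, 2, 0, 1, 2, 0, 0, 2, 0, 1, 0, 0, 1, 1, 0, 0, 2, 1, 1], [0, 1, 1, 0, 2, 2, 1, 1, 1, 1, 0, 2, 0, 0, 1, 1, 0, 2, 1, 1, 2, 0, 0, 1, 1, 2, 1, 2, 0, 0, 0, 2, 2, 2, 0, 1, 2, 0, 2, 0, 0, 1, 0, 1, 2, 2, 2, 2, 0], [2, 2, 2, 1, 2, 1, 0, 1, 2, 2, 1, 2, 0, 1, 2, 2, 0, 1, 2, 2, 1, 0, 0, 2, 2, 1, 2, 1, 2, 0, 0, 2, 2, 1, 1, 2, 1, 0, 1, 0, 0, 2, 0, 2, 1, 1, 1, 1, 0], [1, 1, 1, 2, 1, 2, 0, 1, 0, 0, 1, 1, 2, 2, 1, 1, 0, 2, 1, 1, 2, 0, 0, 1, 1, 2, 1, 2, 2, 1, 1, 2, 1, 0, 2, 1, 2, 0, 2, 0, 0, 1, 0, 1, 2, 2,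 2, 2, 0], [2, 2, 2, 1, 2, 1, 0, 0, 0, 0, 0, 1, 1, 2, 0, 2, 0, 2, 1, 2, 2, 0, 0, 2, 2, 1, 2, 1, 0, 2, 2, 0, 0, 0, 0, 2, 1, 0, 1, 0, 0, 2, 2, 2, 1, 0, 2, 1, 2], [1, 1, 1, 2, 1, 2, 0, 0, 0, 0, 0, 2, 2, 1, 1, 2, 1, 0, 2, 1, 0, 0, 0, 1, 1, 2, 1, 2, 0, 1, 1, 0, 0, 0, 0, 0, 1, 2, 0, 0, 0, 2, 2, 2, 0, 2, 1, 2, 0], [2, 2, 2, 1, 2, 1, 0, 0, 0, 1, 0, 1, 0, 0, 2, 1, 2, 0, 1, 2, 0, 0, 0, 1, 2, 1, 0, 0, 0, 2, 0, 0, 0, 2, 1, 0, 2, 0, 0, 0, 1, 0, 1, 1, 2, 1, 2, 2, 2], [0, 2, 1, 0, 1, 2, 1, 1, 2, 2, 2, 2, 0, 2, 1, 2, 1, 0, 2, 1, 0, 0, 0, 2, 1, 2, 0, 0, 1, 0, 0, 2, 0, 1, 1, 0, 1, 0, 0, 0, 2, 0, 2, 2, 1, 2, 1, 1, 1], [2, 2, 1, 1, 0, 1, 2, 0, 0, 2, 0,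 0, 0, 1, 0, 0, 0, 2, 0, 2, 0, 2, 1, 0, 0, 2, 0, 0, 0, 2, 1, 0, 2, 2, 2, 2, 0, 2, 1, 1, 1, 0, 0, 2, 1, 2, 0, 2, 2], [0, 1, 0, 0, 1, 1, 0, 2, 0, 2, 1, 1, 2, 1, 0, 0, 0, 1, 0, 1, 0, 1, 2, 0, 0, 1, 0, 0, 2, 1, 0, 1, 2, 0, 0, 1, 0, 1, 2, 2, 2, 0, 0, 1, 2, 1, 0, 1, 1], [0, 2, 0, 0, 2, 2, 0, 1, 2, 0, 2, 1, 0, 0, 0, 0, 0, 2, 0, 2, 0, 2, 1, 0, 0, 2, 0, 0, 1, 0, 1, 2, 2, 1, 2, 2, 0, 2, 1, 1, 1, 0, 0, 2, 1, 2, 0, 2, 2], [0, 1, 0, 0, 1, 1, 0, 2, 1, 0, 0, 2, 1, 1, 0, 0, 0, 0, 0, 2, 1, 1, 2, 0, 0, 1, 0, 0, 2, 0, 2, 2, 1, 1, 0, 1, 0, 1, 2, 2, 2, 0, 0, 1, 2, 2, 0, 0, 0], [0, 2, 0, 0, 2, 2, 0, 1, 2, 0, 0, 1, 2, 2, 1, 1, 2, 1, 0, 1, 0, 2, 1, 0, 0, 2,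 0, 0, 1, 0, 1, 1, 2, 2, 0, 1, 2, 0, 0, 1, 1, 2, 1, 0, 0, 2, 0, 0, 1], [0, 1, 0, 0, 1, 1, 0, 1, 1, 1, 2, 1, 1, 0, 2, 2, 1, 2, 0, 2, 0, 2, 2, 2, 1, 2, 0, 1, 1, 0, 0, 1, 0, 1, 2, 0, 1, 2, 1, 0, 2, 2, 0, 0, 2, 2, 1, 0, 0], [2, 1, 1, 0, 1, 2, 2, 0, 0, 1, 1, 0, 2, 1, 1, 1, 2, 1, 0, 1, 0, 1, 1, 1, 2, 1, 0, 2, 0, 1, 2, 2, 1, 2, 2, 0, 2, 1, 2, 0, 1, 1, 0, 0, 1, 1, 2, 0, 0], [1, 1, 0, 1, 1, 1, 2, 0, 1, 1, 1, 1, 1, 1, 2, 0, 0, 1, 1, 2, 2, 2, 1, 0, 2, 1, 0, 2, 0, 0, 0, 0, 0, 1, 0, 0, 0, 0, 2, 2, 2, 0, 0, 2, 0, 0, 0, 0, 1], [0, 2, 2, 2, 2, 1, 2, 1, 2, 1, 2, 2, 1, 0, 1, 0, 0, 2, 2, 1, 1, 1, 2, 0, 1, 2, 0, 1, 1, 0, 2, 0, 0, 1, 1, 0, 0, 0, 1, 1, 1,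 0, 0, 1, 0, 0, 0, 0, 2], [0, 1, 1, 1, 1, 2, 1, 2, 0, 1, 0, 0, 2, 2, 2, 0, 0, 1, 1, 2, 2, 2, 1, 0, 2, 1, 0, 2, 2, 1, 2, 1, 1, 2, 0, 0, 0, 0, 2, 2, 2, 0, 0, 2, 0, 0, 0, 0, 1], [0, 2, 2, 2, 2, 1, 2, 0, 0, 1, 2, 1, 2, 2, 0, 0, 2, 1, 0, 2, 2, 1, 2, 0, 1, 2, 0, 1, 2, 2, 2, 0, 1, 0, 2, 0, 0, 0, 1, 1, 1, 0, 1, 1, 1, 1, 2, 2, 1], [0, 1, 1, 1, 1, 2, 1, 0, 0, 2, 1, 2, 1, 1, 2, 1, 0, 1, 0, 2, 2, 2, 1, 0, 2, 1, 0, 2, 1, 1, 1, 0, 2, 0, 1, 1, 2, 1, 0, 2, 1, 2, 1, 0, 1, 1, 1, 2, 0], [0, 2, 2, 2, 2, 1, 2, 1, 1, 2, 2, 2, 2, 1, 1, 2, 0, 2, 0, 1, 1, 0, 1, 2, 1, 1, 0, 2, 0, 0, 0, 0, 2, 0, 1, 1, 0, 1, 0, 0, 2, 2, 1, 2, 1, 2, 1, 1, 1], [1, 1, 2, 2, 1, 2,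 2, 1, 2, 0, 0, 1, 1, 1, 2, 1, 0, 1, 0, 2, 2, 0, 2, 1, 2, 2, 0, 1, 2, 0, 2, 2, 1, 0, 1, 2, 0, 2, 0, 0, 1, 1, 2, 1, 2, 1, 2, 2, 2], [1, 1, 1, 1, 1, 1, 1, 0, 2, 0, 0, 0, 2, 2, 2, 0, 0, 2, 1, 1, 1, 2, 0, 2, 1, 0, 0, 2, 2, 1, 1, 1, 0, 0, 2, 0, 2, 1, 0, 2, 2, 2, 0, 1, 1, 2, 0, 1, 1], [1, 0, 2, 2, 0, 1, 2, 2, 2, 0, 0, 1, 0, 1, 1, 0, 0, 1, 2, 2, 2, 1, 0, 1, 2, 0, 0, 1, 0, 0, 2, 2, 1, 2, 1, 0, 1, 2, 0, 1, 1, 1, 0, 2, 2, 1, 0, 2, 2], [2, 0, 1, 1, 0, 2, 1, 0, 0, 1, 1, 2, 1, 2, 2, 0, 0, 2, 1, 1, 1, 2, 0, 2, 1, 0, 0, 2, 1, 1, 0, 0, 2, 0, 2, 0, 2, 1, 0, 2, 2, 2, 0, 1, 1, 2, 0, 1, 1], [1, 0, 2, 2, 0, 1, 2, 1, 0, 1, 1, 2, 1, 1, 2, 0, 2, 0, 0, 1, 2,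 1, 0, 1, 2, 0, 0, 1, 1, 2, 1, 1, 0, 1, 1, 0, 1, 2, 0, 1, 1, 1, 2, 2, 0, 2, 2, 0, 2], [2, 0, 1, 1, 0, 2, 1, 2, 0, 2, 2, 1, 2, 2, 2, 2, 0, 1, 2, 2, 1, 2, 0, 2, 1, 0, 0, 2, 2, 1, 2, 2, 0, 2, 2, 2, 0, 2, 2, 0, 2, 2, 2, 0, 2, 2, 0, 0, 1], [1, 0, 2, 2, 0, 1, 2, 0, 1, 1, 1, 0, 2, 1, 1, 1, 0, 2, 1, 1, 2, 2, 2, 1, 2, 2, 2, 1, 0, 0, 1, 1, 1, 2, 1, 2, 2, 1, 1, 2, 0, 1, 2, 2, 1, 1, 2, 2, 2], [0, 1, 2, 2, 1, 1, 2, 2, 1, 1, 1, 2, 2, 1, 2, 2, 0, 1, 2, 2, 1, 1, 1, 2, 1, 1, 1, 2, 2, 2, 1, 1, 1, 2, 1, 1, 1, 2, 2, 1, 0, 2, 1, 1, 2, 2, 1, 1, 1], [1, 0, 0, 0, 0, 0, 0, 0, 1, 0, 0, 0, 0, 0, 0, 0, 1, 0, 0, 0, 0, 0, 0, 0, 1, 0, 0, 0, 0, 0, 0, 0, 1, 0, 0, 0,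 0, 0, 0, 0, 1, 0, 0, 0, 0, 0, 0, 0, 1]]]

theorem ck_certs : ckAll FO7_364.relWords certs = true := by decide +kernel

theorem fO_rel : ∀ w ∈ coxWords 8 FO7_364.L ++ FO7_364.extraW, evr fO w = 1 := by
  rw [FO7_364.relWords_eq]
  exact ckAll_sound _ _ ck_certs

theorem gm_ncomm : gm 0 * gm 1 ≠ gm 1 * gm 0 := by decide +kernel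

/-- a homomorphism from the presented group `O₇(3)` to the orthogonal group with non-commuting images -/
theorem exists_psi : ∃ ψ : CoxPresented FO7.Gen FO7.edges FO7.extra →* GO,
    ∃ x y : CoxPresented FO7.Gen FO7.edges FO7.extra, ψ x * ψ y ≠ ψ y * ψ x := by
  obtain ⟨ψ, hψ⟩ := exists_hom_of_words FO7_364.setup fO fO_sq fO_rel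
  refine ⟨ψ, cgen FO7.edges FO7.extra 8 FO7_364.ofIdx 0, cgen FO7.edges FO7.extra 8 FO7_364.ofIdx 1, ?_⟩
  rw [hψ 0 (by decide), hψ 1 (by decide)]
  intro h
  apply gm_ncomm
  have := congrArg (fun g : GO => ((g : GL I7 (ZMod 3)).val)) h
  simpa only [Subgroup.coe_mul, Units.val_mul, fO_val] using this

end Cfsg.Agent.Lib.Helper25.TC.O7Mat
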