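import Cfsg.Agent.Lib.Helper25.TCFO7XMain
import Cfsg.Agent.Lib.Helper25.TCFi22XMain
import Cfsg.Agent.Lib.Helper25.TCO7Mat
import Cfsg.Agent.Lib.Helper25.TCExistF
import Cfsg.Agent.S0292

set_option autoImplicit false
set_option maxRecDepth 1000000
set_option linter.unusedVariables false
set_option linter.unusedSimpArgs false
set_option linter.constructorNameAsVariable false

/-! The subgroup of the presented Fischer group `Fi₂₂` generated by `b, …, i` is isomorphic to `PΩ(7, 3)`. -/

namespace Cfsg.Agent.Lib.Helper25.TC.O7Iso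

open Cfsg.Spor Cfsg.Agent.Lib.Helper25.TC Cfsg.Agent.Lib.Helper25.Pres

/-- the group given by the sub-presentation on `b, …, i` -/
abbrev PP := CoxPresented FO7.Gen FO7.edges FO7.extra

/-- the subgroup of `Fi₂₂` generated by `b, …, i` -/
abbrev HH : Subgroup Cfsg.Spor.Fi22 := subH Fi22.edges Fi22.extra 9 Fi22_14080.ofIdx Fi22_14080.sw

/-- the simple orthogonal group -/
abbrev PO := Cfsg.POmega (ZMod 3) (Cfsg.quadFormOdd 3 (ZMod 3))

theorem exists_f : ∃ f : PP →* Cfsg.Spor.Fi22,
    ∀ a, f (PresentedGroup.of a) = PresentedGroup.of (FO7.embFi22 a) :=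
  exists_hom_of_emb (edges₁ := FO7.edges) (extra₁ := FO7.extra) (edges := Fi22.edges) (extra := Fi22.extra)
    FO7.embFi22
    (by intro a _ b _; cases a <;> cases b <;> decide)
    (by
      intro r hr
      simp only [FO7.extra, List.mem_cons, List.not_mem_nil, or_false] at hr
      rcases hr with rfl | rfl <;>
        simp [Fi22.extra, FO7.embFi22, map_mul, map_inv, map_pow, FreeGroup.map.of])

theorem card_PP : Nat.card PP = 4585351680 := FO7X.simple_card.2.2.1

theorem simple_PP : IsSimpleGroup PP := FO7X.simple_card.2.1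

theorem finite_PP : Finite PP := Nat.finite_of_card_ne_zero (by rw [card_PP]; decide)

theorem card_HH : Nat.card HH = 4585351680 := by
  have h1 := (HH).index_mul_card
  have h2 : (HH).index = 14080 := Fi22_14080.checks.index_eq Fi22_14080.setup
  have h3 : Nat.card Cfsg.Spor.Fi22 = 64561751654400 := Fi22X.simple_card.2.2.1
  rw [h2, h3] at h1
  have : 14080 * Nat.card HH = 14080 * 4585351680 := by rw [h1]
  exact Nat.eq_of_mul_eq_mul_left (by decide) this

/-- the presented group `O₇(3)` is isomorphic to the subgroup generated by `b, …, i` -/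
theorem equiv_HH : Nonempty (PP ≃* HH) := by
  obtain ⟨f, hf⟩ := exists_f
  have hs := Fi22_14080.setup
  have hPfin := finite_PP
  have hge : HH ≤ f.range := by
    unfold HH subH
    rw [Subgroup.closure_le]
    rintro g ⟨w, hw, rfl⟩
    simp only [Fi22_14080.sw, List.mem_cons, List.not_mem_nil, or_false] at hw
    rcases hw with rfl | rfl | rfl | rfl | rfl | rfl | rfl | rfl
    · exact ⟨PresentedGroup.of .b, by rw [hf, evr_singleton, ← cgen_idx hs]; rfl⟩
    · exact ⟨PresentedGroup.of .c, by rw [hf, evr_singleton, ← cgen_idx hs]; rfl⟩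
    · exact ⟨PresentedGroup.of .d, by rw [hf, evr_singleton, ← cgen_idx hs]; rfl⟩
    · exact ⟨PresentedGroup.of .e, by rw [hf, evr_singleton, ← cgen_idx hs]; rfl⟩
    · exact ⟨PresentedGroup.of .f, by rw [hf, evr_singleton, ← cgen_idx hs]; rfl⟩
    · exact ⟨PresentedGroup.of .g, by rw [hf, evr_singleton, ← cgen_idx hs]; rfl⟩
    · exact ⟨PresentedGroup.of .h, by rw [hf, evr_singleton, ← cgen_idx hs]; rfl⟩
    · exact ⟨PresentedGroup.of .i, by rw [hf, evr_singleton, ← cgen_idx hs]; rfl⟩
  have hle : f.range ≤ HH := by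
    rw [MonoidHom.range_eq_map, ← PresentedGroup.closure_range_of, MonoidHom.map_closure, Subgroup.closure_le]
    rintro g ⟨_, ⟨a, rfl⟩, rfl⟩
    rw [hf, ← cgen_idx hs, ← evr_singleton (cgen Fi22.edges Fi22.extra 9 Fi22_14080.ofIdx)]
    apply Subgroup.subset_closure
    refine ⟨_, ?_, rfl⟩
    cases a <;> simp [Fi22_14080.sw, Fi22_14080.idx, FO7.embFi22]
  let f' : PP →* HH := f.codRestrict HH (fun p => hle ⟨p, rfl⟩)
  have hsurj : Function.Surjective f' := by
    rintro ⟨h, hh⟩
    obtain ⟨p, rfl⟩ := hge hh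
    exact ⟨p, rfl⟩
  have hbij : Function.Bijective f' :=
    hsurj.bijective_of_nat_card_le (by rw [card_PP, card_HH])
  exact ⟨MulEquiv.ofBijective f' hbij⟩

theorem card_PO : Nat.card PO = 4585351680 := by
  have h : 2 * Nat.card PO = 3 ^ (3 ^ 2) * ∏ i ∈ Finset.range 3, (3 ^ (2 * (i + 1)) - 1) :=
    Cfsg.Agent.S0292.result (F := ZMod 3) (q := 3) (ZMod.card 3) (by decide) 3 (le_refl 3)
  have h2 : 3 ^ (3 ^ 2) * ∏ i ∈ Finset.range 3, (3 ^ (2 * (i + 1)) - 1) = 9170703360 := by
    norm_num [Finset.prod_range_succ]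
  rw [h2] at h
  omega

/-- the presented group `O₇(3)` is isomorphic to `PΩ(7, 3)` -/
theorem equiv_PO : Nonempty (PP ≃* PO) := by
  obtain ⟨ψ, x, y, hxy⟩ := O7Mat.exists_psi
  have hs := simple_PP
  have hPfin := finite_PP
  -- the presented group is perfect
  have hperf : commutator PP = ⊤ := by
    rcases (inferInstance : (commutator PP).Normal).eq_bot_or_eq_top with h | h
    · exfalso
      apply hxy
      rw [commutator_def, Subgroup.commutator_eq_bot_iff_le_centralizer] at h
      have hx : x ∈ Subgroup.centralizer ((⊤ : Subgroup PP) : Set PP) := h (Subgroup.mem_top x)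
      have hm : y * x = x * y := Subgroup.mem_centralizer_iff.mp hx y (Subgroup.mem_top y)
      rw [← map_mul, ← map_mul, hm]
    · exact h
  -- the image lies in the commutator subgroup
  have himg : ∀ g : PP, ψ g ∈ commutator O7Mat.GO := by
    intro g
    have hg : g ∈ commutator PP := by rw [hperf]; trivial
    rw [commutator_def] at hg ⊢
    have h1 : ψ g ∈ Subgroup.map ψ ⁅(⊤ : Subgroup PP), (⊤ : Subgroup PP)⁆ := ⟨g, hg, rfl⟩
    rw [Subgroup.map_commutator] at h1
    exact Subgroup.commutator_mono le_top le_top h1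
  let ψ' : PP →* Cfsg.Omega (ZMod 3) (Cfsg.quadFormOdd 3 (ZMod 3)) := ψ.codRestrict _ himg
  let Ψ : PP →* PO := (QuotientGroup.mk' (Subgroup.center (Cfsg.Omega (ZMod 3) (Cfsg.quadFormOdd 3 (ZMod 3))))).comp ψ'
  have hker : Ψ.ker = ⊥ := by
    rcases (inferInstance : Ψ.ker.Normal).eq_bot_or_eq_top with h | h
    · exact h
    · exfalso
      apply hxy
      have hx : x ∈ Ψ.ker := by rw [h]; trivial
      rw [MonoidHom.mem_ker] at hx
      have hx' : ψ' x ∈ Subgroup.center (Cfsg.Omega (ZMod 3) (Cfsg.quadFormOdd 3 (ZMod 3))) := by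
        have : (QuotientGroup.mk' _) (ψ' x) = 1 := hx
        exact (QuotientGroup.eq_one_iff _).mp this
      have hc := (Subgroup.mem_center_iff.mp hx') (ψ' y)
      have hc' := congrArg Subtype.val hc
      exact hc'.symm
  have hinj : Function.Injective Ψ := (MonoidHom.ker_eq_bot_iff Ψ).mp hker
  have hfinPO : Finite PO := Nat.finite_of_card_ne_zero (by rw [card_PO]; decide)
  have hbij : Function.Bijective Ψ :=
    hinj.bijective_of_nat_card_le (by rw [card_PP, card_PO])
  exact ⟨MulEquiv.ofBijective Ψ hbij⟩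

/-- the subgroup of the presented `Fi₂₂` generated by `b, …, i` is isomorphic to `PΩ(7, 3)` -/
theorem equiv_main : Nonempty (HH ≃* PO) := by
  obtain ⟨e1⟩ := equiv_HH
  obtain ⟨e2⟩ := equiv_PO
  exact ⟨e1.symm.trans e2⟩

end Cfsg.Agent.Lib.Helper25.TC.O7Iso
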