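import Cfsg.Agent.Lib.Helper25.TCSG24_416I

set_option autoImplicit false
set_option maxRecDepth 1000000
set_option linter.unusedVariables false

/-! Orbit checks for the coset table of the presented group `G₂(4)` on 416 points. -/

namespace Cfsg.Agent.Lib.Helper25.TC.SG24_416

open Cfsg.Agent.Lib.Helper25.TC

theorem k_oinv : allR (ckOrbInv nn T sw ol) 9 0 = true := by decide +kernel
theorem k_otree : allR (ckOrbTree nn T sw roots ol op ow od) 9 0 = true := by decide +kernel

theorem orbChecks : OrbChecks nn T sw roots ol op ow od where
  cInv := all_lt_pow _ nn 9 (by decide) k_oinv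
  cTree := all_lt_pow _ nn 9 (by decide) k_otree

end Cfsg.Agent.Lib.Helper25.TC.SG24_416
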