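import Cfsg.Agent.Lib.Helper25.TCSJ2_100I
import Cfsg.Agent.Lib.Helper25.TCExistD


set_option autoImplicit false
set_option maxRecDepth 1000000
set_option linter.unusedVariables false

namespace Cfsg.Agent.Lib.Helper25.TC.SJ2X

open Cfsg.Spor Cfsg.Agent.Lib.Helper25.TC Cfsg.Agent.Lib.Helper25.Pres Cfsg.Agent.Lib.Helper25.TC.SJ2_100

/-- a word whose normal closure is everything -/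
def wg : List Nat := [0, 1]
def wu : List Nat := [2, 3, 2]
def wy : List Nat := [2, 1]
/-- a conjugate of an involution in the normal closure of `wg`, equal to the generator 0 -/
def fullW : List Nat := ncFull wg wu true 2 wy 1 0
def gpow : List Nat := (List.replicate 5 wg).flatten
/-- the stabilizer chain below the second base point -/
def levels : List (Nat × List (List Nat)) := [(2, [[], [0, 2, 1, 3, 1, 2, 1, 3, 1, 2, 0], [1, 2, 1, 0, 2, 1, 3, 0, 2, 1, 3], [0, 2, 1, 3, 0, 2, 1, 3, 1, 2, 1, 0, 2, 1, 3], [0, 2, 1, 3, 0, 2, 1, 3, 0, 1, 4, 3, 2, 3, 4, 1, 0, 3, 1, 2, 0, 3, 1, 2, 0], [3, 1, 2, 0, 3, 1, 2, 0, 1, 2, 1], [3, 1, 2, 0, 1, 2, 1, 3, 1, 2, 0, 3, 1, 2, 0], [0, 2, 1,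 3, 1, 2, 1, 0, 2, 1, 3, 1, 2, 1, 0, 2, 1, 3], [0, 2, 1, 3, 1, 2, 1, 0, 2, 1, 3, 0, 1, 4, 3, 2, 3, 4, 1, 0, 3, 1, 2, 0, 3, 1, 2, 0], [0, 2, 1, 3, 1, 2, 1, 3, 1, 2, 0, 3, 1, 2, 0, 1, 2, 1, 3, 1, 2, 0, 3, 1, 2, 0], [1, 2, 1, 0, 2, 1, 3, 0, 2, 1, 3, 0, 2, 1, 3, 0, 2, 1, 3, 0, 1, 4, 3, 2, 3, 4, 1, 0, 3, 1, 2, 0, 3, 1, 2, 0], [0, 2, 1, 3, 0, 2, 1, 3, 1, 2, 1, 0, 2, 1, 3, 0, 2, 1, 3, 0, 2, 1, 3, 0, 1, 4, 3, 2, 3, 4, 1, 0, 3, 1, 2, 0, 3, 1, 2, 0], [0, 2, 1, 3, 0, 2, 1, 3, 0, 1, 4, 3, 2, 3, 4, 1, 0, 3, 1, 2, 0, 3, 1, 2, 0, 1, 2, 1, 0, 2, 1, 3, 0, 2, 1, 3], [0, 2, 1, 3, 0, 2, 1, 3, 0, 1, 4, 3, 2, 3, 4, 1, 0, 1, 2, 1, 0, 2, 1, 3], [0, 2, 1, 3, 0, 2, 1, 3, 0, 1, 4, 3, 2, 3, 4, 1, 0,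 3, 1, 2, 0, 3, 1, 2, 0, 3, 1, 2, 0, 3, 1, 2, 0, 1, 2, 1], [0, 2, 1, 3, 0, 2, 1, 3, 0, 1, 4, 3, 2, 3, 4, 1, 0, 3, 1, 2, 0, 3, 1, 2, 0, 3, 1, 2, 0, 1, 2, 1, 3, 1, 2, 0, 3, 1, 2, 0], [3, 1, 2, 0, 3, 1, 2, 0, 1, 2, 1, 0, 2, 1, 3, 0, 2, 1, 3, 0, 1, 4, 3, 2, 3, 4, 1, 0, 3, 1, 2, 0, 3, 1, 2, 0], [3, 1, 2, 0, 1, 2, 1, 0, 1, 4, 3, 2, 3, 4, 1, 0, 3, 1, 2, 0, 3, 1, 2, 0], [0, 2, 1, 3, 1, 2, 1, 0, 2, 1, 3, 1, 2, 1, 0, 2, 1, 3, 0, 2, 1, 3, 0, 2, 1, 3, 0, 1, 4, 3, 2, 3, 4, 1, 0, 3, 1, 2, 0, 3, 1, 2, 0], [0, 2, 1, 3, 1, 2, 1, 0, 2, 1, 3, 0, 1, 4, 3, 2, 3, 4, 1, 0, 3, 1, 2, 0, 3, 1, 2, 0, 1, 2, 1, 0, 2, 1, 3, 0, 2, 1, 3], [0, 2, 1, 3, 1, 2, 1, 0, 2, 1, 3, 0, 1, 4, 3, 2, 3, 4, 1, 0, 1, 2,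 1, 0, 2, 1, 3], [0, 2, 1, 3, 1, 2, 1, 0, 2, 1, 3, 0, 1, 4, 3, 2, 3, 4, 1, 0, 3, 1, 2, 0, 3, 1, 2, 0, 3, 1, 2, 0, 3, 1, 2, 0, 1, 2, 1], [0, 2, 1, 3, 1, 2, 1, 0, 2, 1, 3, 0, 1, 4, 3, 2, 3, 4, 1, 0, 3, 1, 2, 0, 3, 1, 2, 0, 3, 1, 2, 0, 1, 2, 1, 3, 1, 2, 0, 3, 1, 2, 0], [0, 2, 1, 3, 1, 2, 1, 3, 1, 2, 0, 3, 1, 2, 0, 1, 2, 1, 0, 1, 4, 3, 2, 3, 4, 1, 0, 3, 1, 2, 0, 3, 1, 2, 0], [1, 2, 1, 0, 2, 1, 3, 0, 2, 1, 3, 0, 2, 1, 3, 0, 2, 1, 3, 0, 1, 4, 3, 2, 3, 4, 1, 0, 3, 1, 2, 0, 3, 1, 2, 0, 1, 2, 1, 0, 2, 1, 3, 0, 2, 1, 3], [1, 2, 1, 0, 2, 1, 3, 0, 2, 1, 3, 0, 2, 1, 3, 0, 2, 1, 3, 0, 1, 4, 3, 2, 3, 4, 1, 0, 3, 1, 2, 0, 3, 1, 2, 0, 3, 1, 2, 0, 3, 1, 2, 0, 1, 2, 1], [0, 2, 1, 3, 0, 2, 1,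 3, 1, 2, 1, 0, 2, 1, 3, 0, 2, 1, 3, 0, 2, 1, 3, 0, 1, 4, 3, 2, 3, 4, 1, 0, 3, 1, 2, 0, 3, 1, 2, 0, 3, 1, 2, 0, 3, 1, 2, 0, 1, 2, 1], [0, 2, 1, 3, 0, 2, 1, 3, 0, 1, 4, 3, 2, 3, 4, 1, 0, 3, 1, 2, 0, 3, 1, 2, 0, 1, 2, 1, 0, 2, 1, 3, 0, 2, 1, 3, 1, 2, 1, 0, 2, 1, 3, 0, 2, 1, 3], [0, 2, 1, 3, 0, 2, 1, 3, 0, 1, 4, 3, 2, 3, 4, 1, 0, 1, 2, 1, 0, 2, 1, 3, 0, 2, 1, 3, 0, 2, 1, 3, 0, 1, 4, 3, 2, 3, 4, 1, 0, 3, 1, 2, 0, 3, 1, 2, 0], [0, 2, 1, 3, 0, 2, 1, 3, 0, 1, 4, 3, 2, 3, 4, 1, 0, 3, 1, 2, 0, 3, 1, 2, 0, 3, 1, 2, 0, 3, 1, 2, 0, 1, 2, 1, 0, 2, 1, 3, 0, 2, 1, 3, 0, 1, 4, 3, 2, 3, 4, 1, 0, 3, 1, 2, 0, 3, 1, 2, 0], [0, 2, 1, 3, 0, 2, 1, 3, 0, 1, 4, 3, 2, 3, 4, 1, 0, 3, 1, 2, 0, 3, 1,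 2, 0, 3, 1, 2, 0, 3, 1, 2, 0, 1, 2, 1, 3, 1, 2, 0, 1, 2, 1, 3, 1, 2, 0, 3, 1, 2, 0], [0, 2, 1, 3, 0, 2, 1, 3, 0, 1, 4, 3, 2, 3, 4, 1, 0, 3, 1, 2, 0, 3, 1, 2, 0, 3, 1, 2, 0, 1, 2, 1, 3, 1, 2, 0, 3, 1, 2, 0, 1, 2, 1, 0, 2, 1, 3, 0, 2, 1, 3]]), (5, [[], [0, 2, 1, 3, 0, 2, 1, 3, 1, 2, 1, 0, 2, 1, 3, 0, 2, 1, 3, 0, 2, 1, 3, 1, 2, 1, 3, 1, 2, 0, 1, 2, 1], [1, 2, 1, 0, 2, 1, 3, 1, 2, 1, 3, 1, 2, 0, 3, 1, 2, 0, 3, 1, 2, 0, 1, 2, 1, 3, 1, 2, 0, 3, 1, 2, 0]])]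
def szl : List Nat := [1, 63, 36]

def fullL : List Nat := [0, 1, 2, 2, 3, 2, 1, 0, 2, 3, 2, 0, 1, 2, 3, 2, 1, 0, 2, 3, 2, 0, 1, 2, 1, 1, 2, 1, 0, 2, 3, 2, 0, 1, 2, 3, 2, 1, 0, 2, 3, 2, 0, 1, 2, 3, 2, 2, 1, 1, 2, 1, 0, 2, 3, 2, 0, 1, 2, 3, 2, 1, 0, 2, 3, 2, 0, 1, 2, 3, 2, 2, 1, 0]
def fw (i : Nat) : Nat := T0 (T1 (T2 (T2 (T3 (T2 (T1 (T0 (T2 (T3 (T2 (T0 (T1 (T2 (T3 (T2 (T1 (T0 (T2 (T3 (T2 (T0 (T1 (T2 (T1 (T1 (T2 (T2 (T3 (T2 (T1 (T0 (T2 (T3 (T2 (T0 (T1 (T2 (T3 (T2 (T1 (T0 (T2 (T3 (T2 (T0 (T1 (T2 (T1 (T1 (T2 (T1 (T0 (T2 (T3 (T2 (T0 (T1 (T2 (T3 (T2 (T1 (T0 (T2 (T3 (T2 (T0 (T1 (T2 (T3 (T2 (T2 (T1 (T0 i)))))))))))))))))))))))))))))))))))))))))))))))))))))))))))))))))))))))))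
def gpowL : List Nat := [0, 1, 0, 1, 0, 1, 0, 1, 0, 1]
def fg (i : Nat) : Nat := T1 (T0 (T1 (T0 (T1 (T0 (T1 (T0 (T1 (T0 i)))))))))
def ckX (i : Nat) : Bool := Nat.ble nn i || (Nat.beq (fw i) (T0 i) && Nat.beq (fg i) i)
def ckOl (i : Nat) : Bool := Nat.ble nn i || (Nat.blt (ol i) 3 && (Nat.beq i 0 || !(Nat.beq (ol i) (ol 0))))

end Cfsg.Agent.Lib.Helper25.TC.SJ2X
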