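import Cfsg.Agent.Lib.Helper25.TCSJ2X

set_option autoImplicit false
set_option maxRecDepth 1000000
set_option linter.unusedVariables false
set_option Elab.async false

namespace Cfsg.Agent.Lib.Helper25.TC.SJ2X

open Cfsg.Agent.Lib.Helper25.TC Cfsg.Agent.Lib.Helper25.TC.SJ2_100

theorem k_xp_0 : allR ckX 7 0 = true := by decide +kernel

end Cfsg.Agent.Lib.Helper25.TC.SJ2X
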