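import Cfsg.Agent.Lib.Helper25.TCSJ2X
import Cfsg.Agent.Lib.Helper25.TCSJ2XP0
import Cfsg.Agent.Lib.Helper25.TCSuzChainLe

set_option autoImplicit false
set_option maxRecDepth 1000000
set_option linter.unusedVariables false
set_option linter.unusedSimpArgs false

namespace Cfsg.Agent.Lib.Helper25.TC.SJ2X

open Cfsg.Spor Cfsg.Agent.Lib.Helper25.TC Cfsg.Agent.Lib.Helper25.Pres

abbrev KG := CoxPresented SJ2.Gen SJ2.edges SJ2.extra

theorem k_x : allR ckX 7 0 = true := k_xp_0

theorem k_ol : allR ckOl 7 0 = true := by decide +kernel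

theorem ckX_spec : ∀ i < SJ2_100.nn, ckX i = true := all_lt_pow _ SJ2_100.nn 7 (by decide) k_x

theorem ckOl_spec : ∀ i < SJ2_100.nn, ckOl i = true := all_lt_pow _ SJ2_100.nn 7 (by decide) k_ol

theorem full_eq : fullW = fullL := by decide +kernel
theorem fw_eq (i : Nat) : tr SJ2_100.T fullL i = fw i := rfl
theorem gpow_eq : gpow = gpowL := by decide +kernel
theorem fg_eq (i : Nat) : tr SJ2_100.T gpowL i = fg i := rfl

theorem tr_full : ∀ i < SJ2_100.nn, tr SJ2_100.T [0] i = tr SJ2_100.T fullW i := by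
  intro i hi
  have h := ckX_spec i hi
  simp only [ckX, Bool.or_eq_true, Bool.and_eq_true] at h
  rcases h with h | h
  · have := Nat.le_of_ble_eq_true h; omega
  · rw [full_eq, fw_eq]; exact (Nat.eq_of_beq_eq_true h.1).symm

theorem tr_gpow : ∀ i < SJ2_100.nn, tr SJ2_100.T gpow i = tr SJ2_100.T [] i := by
  intro i hi
  have h := ckX_spec i hi
  simp only [ckX, Bool.or_eq_true, Bool.and_eq_true] at h
  rcases h with h | h
  · have := Nat.le_of_ble_eq_true h; omega
  · rw [gpow_eq, fg_eq]; exact Nat.eq_of_beq_eq_true h.2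

theorem letters_lt : (∀ x ∈ wg, x < 5) ∧ (∀ x ∈ gpow, x < 5) ∧ (∀ x ∈ fullW, x < 5) := by
  decide +kernel

/-- upper bound for the order of the presented group -/
theorem card_le : Finite KG ∧ Nat.card KG ≤ 604800 := SuzChain.card_le_J2

instance fact_p : Fact (Nat.Prime 5) := ⟨by norm_num⟩

theorem sizes_eq : ∀ j < 3, (fun j => if j = SJ2_100.ol 0 then 0 else cnt (fun i => Nat.beq (SJ2_100.ol i) j) SJ2_100.nn) j =
    (fun j => if j = 0 then 0 else szl.getD j 0) j := by
  intro j hj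
  interval_cases j <;> decide +kernel

theorem hol_all : (∀ i < SJ2_100.nn, SJ2_100.ol i < 3) ∧ (∀ i < SJ2_100.nn, SJ2_100.ol i = SJ2_100.ol 0 → i = 0) := by
  constructor
  · intro i hi
    have h := ckOl_spec i hi
    simp only [ckOl, Bool.or_eq_true, Bool.and_eq_true] at h
    rcases h with h | h
    · have := Nat.le_of_ble_eq_true h; omega
    · exact Nat.le_of_ble_eq_true h.1
  · intro i hi h0
    have h := ckOl_spec i hi
    simp only [ckOl, Bool.or_eq_true, Bool.and_eq_true] at h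
    rcases h with h | h
    · have := Nat.le_of_ble_eq_true h; omega
    · rcases h.2 with h2 | h2
      · exact Nat.eq_of_beq_eq_true h2
      · rw [h0, Nat.beq_refl] at h2; simp at h2

theorem normalClosure_top (hinj : Function.Injective (SJ2_100.checks.phi SJ2_100.setup)) :
    Subgroup.normalClosure {evr (cgen SJ2.edges SJ2.extra 5 SJ2_100.ofIdx) wg} = (⊤ : Subgroup KG) := by
  set gen := cgen SJ2.edges SJ2.extra 5 SJ2_100.ofIdx with hgen
  set N : Subgroup KG := Subgroup.normalClosure {evr gen wg} with hN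
  have hinv := cgen_mul_self SJ2_100.setup
  have h0 : evr gen wg ∈ N := Subgroup.subset_normalClosure (Set.mem_singleton _)
  have hm0 : gen 0 ∈ N := by
    have e1 : evr gen [0] = evr gen fullW :=
      SJ2_100.checks.evr_eq_of_tr SJ2_100.setup hinj [0] fullW (by decide) letters_lt.2.2 tr_full
    rw [← evr_singleton gen 0, e1]
    exact ncFull_mem gen hinv N wg wu _ _ wy _ 0 h0
  have hm1 : gen 1 ∈ N := mem_of_relator gen hinv N [0]
    (by intro x hx; simp only [List.mem_cons, List.not_mem_nil, or_false] at hx; rcases hx with rfl <;> assumption)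
    [1, 0, 1, 0, 1, 0, 1, 0, 1, 0] (evr_cgen_rel SJ2_100.setup _ (by rw [SJ2_100.relWords_eq]; decide +kernel)) 1 (by decide +kernel)
  have hm2 : gen 2 ∈ N := mem_of_relator gen hinv N [0, 1]
    (by intro x hx; simp only [List.mem_cons, List.not_mem_nil, or_false] at hx; rcases hx with rfl | rfl <;> assumption)
    [2, 1, 2, 1, 2, 1] (evr_cgen_rel SJ2_100.setup _ (by rw [SJ2_100.relWords_eq]; decide +kernel)) 2 (by decide +kernel)
  have hm4 : gen 4 ∈ N := mem_of_relator gen hinv N [0, 1, 2]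
    (by intro x hx; simp only [List.mem_cons, List.not_mem_nil, or_false] at hx; rcases hx with rfl | rfl | rfl <;> assumption)
    [4, 3, 2, 3, 2, 1, 3, 2, 3, 2, 1, 3, 2, 3, 2, 1, 3, 2, 3, 2, 1, 3, 2, 3, 2, 1, 4, 3, 2, 3, 2, 1, 3, 2, 3, 2, 1, 3, 2, 3, 2, 1, 3, 2, 3, 2, 1, 3, 2, 3, 2, 1, 4, 3, 2, 3, 2, 1, 3, 2, 3, 2, 1, 3, 2, 3, 2, 1, 3, 2, 3, 2, 1, 3, 2, 3, 2, 1] (evr_cgen_rel SJ2_100.setup _ (by rw [SJ2_100.relWords_eq]; decide +kernel)) 4 (by decide +kernel)
  have hm3 : gen 3 ∈ N := mem_of_relator gen hinv N [0, 1, 2, 4]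
    (by intro x hx; simp only [List.mem_cons, List.not_mem_nil, or_false] at hx; rcases hx with rfl | rfl | rfl | rfl <;> assumption)
    [4, 3, 4, 3, 4, 3] (evr_cgen_rel SJ2_100.setup _ (by rw [SJ2_100.relWords_eq]; decide +kernel)) 3 (by decide +kernel)
  rw [eq_top_iff, ← cgen_closure SJ2_100.setup, Subgroup.closure_le]
  rintro g ⟨x, hx, rfl⟩
  interval_cases x <;> assumption

theorem pow_eq_one (hinj : Function.Injective (SJ2_100.checks.phi SJ2_100.setup)) :
    (evr (cgen SJ2.edges SJ2.extra 5 SJ2_100.ofIdx) wg) ^ (5 ^ 2) = (1 : KG) := by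
  have h1 : (evr (cgen SJ2.edges SJ2.extra 5 SJ2_100.ofIdx) wg) ^ 5 = (1 : KG) := by
    rw [← evr_flatten_replicate]
    have := SJ2_100.checks.evr_eq_of_tr SJ2_100.setup hinj gpow [] letters_lt.2.1 (by simp) tr_gpow
    simpa [gpow, evr] using this
  rw [show (5 : ℕ) ^ 2 = 5 * 5 from by norm_num, pow_mul, h1, one_pow]

theorem harith : ∀ s ∈ sumsBelow (fun j => if j = SJ2_100.ol 0 then 0 else cnt (fun i => Nat.beq (SJ2_100.ol i) j) SJ2_100.nn) 3,
    (1 + s) ∣ SJ2_100.nn → s = 0 ∨ 1 + s = SJ2_100.nn := by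
  rw [sumsBelow_congr _ _ 3 sizes_eq]
  decide +kernel

/-- the presented group is simple of order 604800, and acts faithfully on the 100 cosets -/
theorem simple_card : Function.Injective (SJ2_100.checks.phi SJ2_100.setup) ∧ IsSimpleGroup KG ∧
    Nat.card KG = 604800 ∧ Nat.card (SJ2_100.checks.phi SJ2_100.setup).range = 604800 := by
  obtain ⟨hfin, hle⟩ := card_le
  exact simple_card_of_table SJ2_100.setup SJ2_100.checks SJ2_100.orbChecks 604800 hfin hle
    1 (by decide) (by decide +kernel) levels (by decide +kernel) (by decide +kernel)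
    3 hol_all.1 hol_all.2 harith 5 2 24192 (by norm_num) (by norm_num) (by decide)
    (evr (cgen SJ2.edges SJ2.extra 5 SJ2_100.ofIdx) wg) pow_eq_one normalClosure_top (by decide)

end Cfsg.Agent.Lib.Helper25.TC.SJ2X
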