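import Cfsg.Agent.Lib.Helper25.TCSK0_270T

set_option autoImplicit false
set_option maxRecDepth 1000000
set_option linter.unusedVariables false
set_option Elab.async false

namespace Cfsg.Agent.Lib.Helper25.TC.SK0_270

open Cfsg.Agent.Lib.Helper25.TC

theorem k_relp_0 : allR fastRel 9 0 = true := by decide +kernel
theorem k_certp_0 : allR (ckCert C nF) 9 0 = true := by decide +kernel
theorem k_certp_1 : allR (ckCert C nF) 9 512 = true := by decide +kernel
theorem k_certp_2 : allR (ckCert C nF) 9 1024 = true := by decide +kernel
theorem k_certp_3 : allR (ckCert C nF) 9 1536 = true := by decide +kernel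
theorem k_certp_4 : allR (ckCert C nF) 9 2048 = true := by decide +kernel
theorem k_certp_5 : allR (ckCert C nF) 9 2560 = true := by decide +kernel
theorem k_certp_6 : allR (ckCert C nF) 9 3072 = true := by decide +kernel
theorem k_certp_7 : allR (ckCert C nF) 9 3584 = true := by decide +kernel
theorem k_certp_8 : allR (ckCert C nF) 9 4096 = true := by decide +kernel
theorem k_certp_9 : allR (ckCert C nF) 9 4608 = true := by decide +kernel
theorem k_certp_10 : allR (ckCert C nF) 9 5120 = true := by decide +kernel
theorem k_certp_11 : allR (ckCert C nF) 9 5632 = true := by decide +kernel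
theorem k_certp_12 : allR (ckCert C nF) 9 6144 = true := by decide +kernel
theorem k_certp_13 : allR (ckCert C nF) 9 6656 = true := by decide +kernel
theorem k_certp_14 : allR (ckCert C nF) 9 7168 = true := by decide +kernel
theorem k_certp_15 : allR (ckCert C nF) 9 7680 = true := by decide +kernel
theorem k_finp_0 : allR (ckFin C 4 nn nF can fin T) 9 0 = true := by decide +kernel
theorem k_tblp_0 : allR (ckTbl 4 nn T) 9 0 = true := by decide +kernel
theorem k_treep_0 : allR (ckTree 4 nn T bp bg) 9 0 = true := by decide +kernel

end Cfsg.Agent.Lib.Helper25.TC.SK0_270
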