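import Cfsg.Agent.Lib.Helper25.TCSK0_270D0
import Cfsg.Agent.Lib.Helper25.TCMain

set_option autoImplicit false
set_option maxRecDepth 1000000
set_option linter.unusedVariables false

namespace Cfsg.Agent.Lib.Helper25.TC.SK0_270

def sFP (c : Nat) : Nat := (bif Nat.ble 6 c then (bif Nat.ble 9 c then (bif Nat.ble 10 c then cFP_10 else cFP_9) else (bif Nat.ble 8 c then cFP_8 else (bif Nat.ble 7 c then cFP_7 else cFP_6))) else (bif Nat.ble 3 c then (bif Nat.ble 5 c then cFP_5 else (bif Nat.ble 4 c then cFP_4 else cFP_3)) else (bif Nat.ble 2 c then cFP_2 else (bif Nat.ble 1 c then cFP_1 else cFP_0))))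
def gFP (i : Nat) : Nat := Nat.land (Nat.shiftRight (sFP (Nat.shiftRight i 9)) (Nat.mul 29 (Nat.land i 511))) 536870911
def sFJ_0_0 (c : Nat) : Nat := (bif Nat.ble 8 c then (bif Nat.ble 12 c then (bif Nat.ble 14 c then (bif Nat.ble 15 c then cFJ_15 else cFJ_14) else (bif Nat.ble 13 c then cFJ_13 else cFJ_12)) else (bif Nat.ble 10 c then (bif Nat.ble 11 c then cFJ_11 else cFJ_10) else (bif Nat.ble 9 c then cFJ_9 else cFJ_8))) else (bif Nat.ble 4 c then (bif Nat.ble 6 c then (bif Nat.ble 7 c then cFJ_7 else cFJ_6) else (bif Nat.ble 5 c then cFJ_5 else cFJ_4)) else (bif Nat.ble 2 c then (bif Nat.ble 3 c then cFJ_3 else cFJ_2) else (bif Nat.ble 1 c then cFJ_1 else cFJ_0))))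
def sFJ_0_1 (c : Nat) : Nat := (bif Nat.ble 19 c then (bif Nat.ble 20 c then cFJ_20 else cFJ_19) else (bif Nat.ble 18 c then cFJ_18 else (bif Nat.ble 17 c then cFJ_17 else cFJ_16)))
def sFJ (c : Nat) : Nat := (bif Nat.ble 16 c then sFJ_0_1 c else sFJ_0_0 c)
def gFJ (i : Nat) : Nat := Nat.land (Nat.shiftRight (sFJ (Nat.shiftRight i 8)) (Nat.mul 38 (Nat.land i 255))) 274877906943
def sST (c : Nat) : Nat := (bif Nat.ble 6 c then (bif Nat.ble 9 c then (bif Nat.ble 10 c then cST_10 else cST_9) else (bif Nat.ble 8 c then cST_8 else (bif Nat.ble 7 c then cST_7 else cST_6))) else (bif Nat.ble 3 c then (bif Nat.ble 5 c then cST_5 else (bif Nat.ble 4 c then cST_4 else cST_3)) else (bif Nat.ble 2 c then cST_2 else (bif Nat.ble 1 c then cST_1 else cST_0))))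
def gST (i : Nat) : Nat := Nat.land (Nat.shiftRight (sST (Nat.shiftRight i 10)) (Nat.mul 14 (Nat.land i 1023))) 16383
def sND (c : Nat) : Nat := (bif Nat.ble 2 c then cND_2 else (bif Nat.ble 1 c then cND_1 else cND_0))
def gND (i : Nat) : Nat := Nat.land (Nat.shiftRight (sND (Nat.shiftRight i 10)) (Nat.mul 16 (Nat.land i 1023))) 65535
def sFIN (c : Nat) : Nat := (bif Nat.ble 1 c then cFIN_1 else cFIN_0)
def gFIN (i : Nat) : Nat := Nat.land (Nat.shiftRight (sFIN (Nat.shiftRight i 10)) (Nat.mul 14 (Nat.land i 1023))) 16383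
def sCAN (c : Nat) : Nat := cCAN_0
def gCAN (i : Nat) : Nat := Nat.land (Nat.shiftRight (sCAN (Nat.shiftRight i 10)) (Nat.mul 12 (Nat.land i 1023))) 4095
def sBPG (c : Nat) : Nat := cBPG_0
def gBPG (i : Nat) : Nat := Nat.land (Nat.shiftRight (sBPG (Nat.shiftRight i 10)) (Nat.mul 13 (Nat.land i 1023))) 8191
def sORB (c : Nat) : Nat := cORB_0
def gORB (i : Nat) : Nat := Nat.land (Nat.shiftRight (sORB (Nat.shiftRight i 9)) (Nat.mul 19 (Nat.land i 511))) 524287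
def sTT0 (c : Nat) : Nat := cTT0_0
def T0 (i : Nat) : Nat := Nat.land (Nat.shiftRight (sTT0 (Nat.shiftRight i 11)) (Nat.mul 9 (Nat.land i 2047))) 511
def sTT1 (c : Nat) : Nat := cTT1_0
def T1 (i : Nat) : Nat := Nat.land (Nat.shiftRight (sTT1 (Nat.shiftRight i 11)) (Nat.mul 9 (Nat.land i 2047))) 511
def sTT2 (c : Nat) : Nat := cTT2_0
def T2 (i : Nat) : Nat := Nat.land (Nat.shiftRight (sTT2 (Nat.shiftRight i 11)) (Nat.mul 9 (Nat.land i 2047))) 511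
def sTT3 (c : Nat) : Nat := cTT3_0
def T3 (i : Nat) : Nat := Nat.land (Nat.shiftRight (sTT3 (Nat.shiftRight i 11)) (Nat.mul 9 (Nat.land i 2047))) 511

def nn : Nat := 270
def kk : Nat := 4
def nF : Nat := 5192
def cycW : List (List Nat) := [[3, 2], [0, 0], [1, 1], [2, 2], [3, 3], [1, 0, 1, 0, 1, 0, 1, 0, 1, 0], [2, 0, 2, 0], [3, 0, 3, 0], [2, 1, 2, 1, 2, 1], [3, 1, 3, 1], [3, 2, 3, 2, 3, 2, 3, 2, 3, 2, 3, 2, 3, 2, 3, 2], [2, 3, 2, 3, 2, 3, 2, 3, 0]]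
def T (x i : Nat) : Nat :=
  match x with
  | 0 => T0 i
  | 1 => T1 i
  | 2 => T2 i
  | 3 => T3 i
  | _ => 0
def fin (x i : Nat) : Nat := gFIN (Nat.add (Nat.shiftLeft i 2) x)
def can (i : Nat) : Nat := gCAN i
def bp (i : Nat) : Nat := fld (gBPG i) 0 511
def bg (i : Nat) : Nat := fld (gBPG i) 9 15
def ol (i : Nat) : Nat := fld (gORB i) 0 63
def op (i : Nat) : Nat := fld (gORB i) 6 511
def ow (i : Nat) : Nat := fld (gORB i) 15 1
def od (i : Nat) : Nat := fld (gORB i) 16 7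
def C : Cert where
  cyc := cycW
  ns := 1
  nd := gND
  fp := gFP
  fj := gFJ
  st := gST
  wN := 12
  wR := 4
  wL := 4
  wO := 14


def LL : List (List Nat) := [[1, 5, 2, 2], [5, 1, 3, 2], [2, 3, 1, 8], [2, 2, 8, 1]]
def L (x y : Nat) : Nat := (LL.getD x []).getD y 0
def extraW : List (List Nat) := [[2, 3, 2, 3, 2, 3, 2, 3, 0]]
def sw : List (List Nat) := [[3, 2]]
def roots : List Nat := [0, 1, 2, 4, 6, 12, 14, 21, 27, 30, 32, 38, 40, 46, 56, 69, 74, 77, 82, 85, 90, 93, 95, 104, 107, 114, 121, 124, 144, 151, 174, 180, 186, 210, 214, 266, 267]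
def relWords : List (List Nat) := [[0, 0], [1, 0, 1, 0, 1, 0, 1, 0, 1, 0], [2, 0, 2, 0], [3, 0, 3, 0], [1, 1], [2, 1, 2, 1, 2, 1], [3, 1, 3, 1], [2, 2], [3, 2, 3, 2, 3, 2, 3, 2, 3, 2, 3, 2, 3, 2, 3, 2], [3, 3], [2, 3, 2, 3, 2, 3, 2, 3, 0]]
def fr_0 (i : Nat) : Nat := T0 (T0 i)
def fr_1 (i : Nat) : Nat := T0 (T1 (T0 (T1 (T0 (T1 (T0 (T1 (T0 (T1 i)))))))))
def fr_2 (i : Nat) : Nat := T0 (T2 (T0 (T2 i)))
def fr_3 (i : Nat) : Nat := T0 (T3 (T0 (T3 i)))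
def fr_4 (i : Nat) : Nat := T1 (T1 i)
def fr_5 (i : Nat) : Nat := T1 (T2 (T1 (T2 (T1 (T2 i)))))
def fr_6 (i : Nat) : Nat := T1 (T3 (T1 (T3 i)))
def fr_7 (i : Nat) : Nat := T2 (T2 i)
def fr_8 (i : Nat) : Nat := T2 (T3 (T2 (T3 (T2 (T3 (T2 (T3 (T2 (T3 (T2 (T3 (T2 (T3 (T2 (T3 i)))))))))))))))
def fr_9 (i : Nat) : Nat := T3 (T3 i)
def fr_10 (i : Nat) : Nat := T0 (T3 (T2 (T3 (T2 (T3 (T2 (T3 (T2 i))))))))
def fastRel (i : Nat) : Bool := Nat.ble nn i || (Nat.beq (fr_0 i) i && (Nat.beq (fr_1 i) i && (Nat.beq (fr_2 i) i && (Nat.beq (fr_3 i) i && (Nat.beq (fr_4 i) i && (Nat.beq (fr_5 i) i && (Nat.beq (fr_6 i) i && (Nat.beq (fr_7 i) i && (Nat.beq (fr_8 i) i && (Nat.beq (fr_9 i) i && (Nat.beq (fr_10 i) i && true)))))))))))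

end Cfsg.Agent.Lib.Helper25.TC.SK0_270
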