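import Cfsg.Agent.Lib.Helper25.TCSuz1782T

set_option autoImplicit false
set_option maxRecDepth 1000000
set_option linter.unusedVariables false

namespace Cfsg.Agent.Lib.Helper25.TC.Suz1782

open Cfsg.Agent.Lib.Helper25.TC

theorem k_certp_0 : allR (ckCert C nF) 15 0 = true := by decide +kernel

end Cfsg.Agent.Lib.Helper25.TC.Suz1782
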