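import Cfsg.Agent.Lib.Helper25.TCSuz1782T

set_option autoImplicit false
set_option maxRecDepth 1000000
set_option linter.unusedVariables false

namespace Cfsg.Agent.Lib.Helper25.TC.Suz1782

open Cfsg.Agent.Lib.Helper25.TC

theorem k_fin : allR (ckFin C 7 nn nF can fin T) 11 0 = true := by decide +kernel
theorem k_tbl : allR (ckTbl 7 nn T) 11 0 = true := by decide +kernel
theorem k_tree : allR (ckTree 7 nn T bp bg) 11 0 = true := by decide +kernel
theorem k_oinv : allR (ckOrbInv nn T sw ol) 11 0 = true := by decide +kernel
theorem k_otree : allR (ckOrbTree nn T sw roots ol op ow od) 11 0 = true := by decide +kernel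

end Cfsg.Agent.Lib.Helper25.TC.Suz1782
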