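import Cfsg.Agent.Lib.Helper25.TCSuz22880T

set_option autoImplicit false
set_option maxRecDepth 1000000
set_option linter.unusedVariables false
set_option Elab.async false

namespace Cfsg.Agent.Lib.Helper25.TC.Suz22880

open Cfsg.Agent.Lib.Helper25.TC

theorem k_relp_20 : allR fastRel 8 5120 = true := by decide +kernel
theorem k_relp_21 : allR fastRel 8 5376 = true := by decide +kernel
theorem k_relp_22 : allR fastRel 8 5632 = true := by decide +kernel
theorem k_relp_23 : allR fastRel 8 5888 = true := by decide +kernel
theorem k_relp_24 : allR fastRel 8 6144 = true := by decide +kernel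
theorem k_relp_25 : allR fastRel 8 6400 = true := by decide +kernel
theorem k_relp_26 : allR fastRel 8 6656 = true := by decide +kernel
theorem k_relp_27 : allR fastRel 8 6912 = true := by decide +kernel
theorem k_relp_28 : allR fastRel 8 7168 = true := by decide +kernel
theorem k_relp_29 : allR fastRel 8 7424 = true := by decide +kernel
theorem k_relp_30 : allR fastRel 8 7680 = true := by decide +kernel
theorem k_relp_31 : allR fastRel 8 7936 = true := by decide +kernel
theorem k_relp_32 : allR fastRel 8 8192 = true := by decide +kernel
theorem k_relp_33 : allR fastRel 8 8448 = true := by decide +kernel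
theorem k_relp_34 : allR fastRel 8 8704 = true := by decide +kernel
theorem k_relp_35 : allR fastRel 8 8960 = true := by decide +kernel
theorem k_relp_36 : allR fastRel 8 9216 = true := by decide +kernel
theorem k_relp_37 : allR fastRel 8 9472 = true := by decide +kernel
theorem k_relp_38 : allR fastRel 8 9728 = true := by decide +kernel
theorem k_relp_39 : allR fastRel 8 9984 = true := by decide +kernel

end Cfsg.Agent.Lib.Helper25.TC.Suz22880
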