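import Cfsg.Agent.Lib.Helper25.TCSuz22880T

set_option autoImplicit false
set_option maxRecDepth 1000000
set_option linter.unusedVariables false
set_option Elab.async false

namespace Cfsg.Agent.Lib.Helper25.TC.Suz22880

open Cfsg.Agent.Lib.Helper25.TC

theorem k_certp_188 : allR (ckCert C nF) 9 96256 = true := by decide +kernel
theorem k_certp_189 : allR (ckCert C nF) 9 96768 = true := by decide +kernel
theorem k_certp_190 : allR (ckCert C nF) 9 97280 = true := by decide +kernel
theorem k_certp_191 : allR (ckCert C nF) 9 97792 = true := by decide +kernel
theorem k_certp_192 : allR (ckCert C nF) 9 98304 = true := by decide +kernel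
theorem k_certp_193 : allR (ckCert C nF) 9 98816 = true := by decide +kernel
theorem k_certp_194 : allR (ckCert C nF) 9 99328 = true := by decide +kernel
theorem k_certp_195 : allR (ckCert C nF) 9 99840 = true := by decide +kernel
theorem k_certp_196 : allR (ckCert C nF) 9 100352 = true := by decide +kernel
theorem k_certp_197 : allR (ckCert C nF) 9 100864 = true := by decide +kernel
theorem k_certp_198 : allR (ckCert C nF) 9 101376 = true := by decide +kernel
theorem k_certp_199 : allR (ckCert C nF) 9 101888 = true := by decide +kernel
theorem k_certp_200 : allR (ckCert C nF) 9 102400 = true := by decide +kernel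
theorem k_certp_201 : allR (ckCert C nF) 9 102912 = true := by decide +kernel
theorem k_certp_202 : allR (ckCert C nF) 9 103424 = true := by decide +kernel
theorem k_certp_203 : allR (ckCert C nF) 9 103936 = true := by decide +kernel
theorem k_certp_204 : allR (ckCert C nF) 9 104448 = true := by decide +kernel
theorem k_certp_205 : allR (ckCert C nF) 9 104960 = true := by decide +kernel
theorem k_certp_206 : allR (ckCert C nF) 9 105472 = true := by decide +kernel
theorem k_certp_207 : allR (ckCert C nF) 9 105984 = true := by decide +kernel
theorem k_certp_208 : allR (ckCert C nF) 9 106496 = true := by decide +kernel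
theorem k_certp_209 : allR (ckCert C nF) 9 107008 = true := by decide +kernel
theorem k_certp_210 : allR (ckCert C nF) 9 107520 = true := by decide +kernel
theorem k_certp_211 : allR (ckCert C nF) 9 108032 = true := by decide +kernel
theorem k_certp_212 : allR (ckCert C nF) 9 108544 = true := by decide +kernel
theorem k_certp_213 : allR (ckCert C nF) 9 109056 = true := by decide +kernel
theorem k_certp_214 : allR (ckCert C nF) 9 109568 = true := by decide +kernel
theorem k_certp_215 : allR (ckCert C nF) 9 110080 = true := by decide +kernel
theorem k_certp_216 : allR (ckCert C nF) 9 110592 = true := by decide +kernel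
theorem k_certp_217 : allR (ckCert C nF) 9 111104 = true := by decide +kernel
theorem k_certp_218 : allR (ckCert C nF) 9 111616 = true := by decide +kernel
theorem k_certp_219 : allR (ckCert C nF) 9 112128 = true := by decide +kernel
theorem k_certp_220 : allR (ckCert C nF) 9 112640 = true := by decide +kernel
theorem k_certp_221 : allR (ckCert C nF) 9 113152 = true := by decide +kernel
theorem k_certp_222 : allR (ckCert C nF) 9 113664 = true := by decide +kernel
theorem k_certp_223 : allR (ckCert C nF) 9 114176 = true := by decide +kernel
theorem k_certp_224 : allR (ckCert C nF) 9 114688 = true := by decide +kernel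
theorem k_certp_225 : allR (ckCert C nF) 9 115200 = true := by decide +kernel
theorem k_certp_226 : allR (ckCert C nF) 9 115712 = true := by decide +kernel
theorem k_certp_227 : allR (ckCert C nF) 9 116224 = true := by decide +kernel
theorem k_certp_228 : allR (ckCert C nF) 9 116736 = true := by decide +kernel
theorem k_certp_229 : allR (ckCert C nF) 9 117248 = true := by decide +kernel
theorem k_certp_230 : allR (ckCert C nF) 9 117760 = true := by decide +kernel
theorem k_certp_231 : allR (ckCert C nF) 9 118272 = true := by decide +kernel
theorem k_certp_232 : allR (ckCert C nF) 9 118784 = true := by decide +kernel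
theorem k_certp_233 : allR (ckCert C nF) 9 119296 = true := by decide +kernel
theorem k_certp_234 : allR (ckCert C nF) 9 119808 = true := by decide +kernel
theorem k_certp_235 : allR (ckCert C nF) 9 120320 = true := by decide +kernel
theorem k_certp_236 : allR (ckCert C nF) 9 120832 = true := by decide +kernel
theorem k_certp_237 : allR (ckCert C nF) 9 121344 = true := by decide +kernel
theorem k_certp_238 : allR (ckCert C nF) 9 121856 = true := by decide +kernel
theorem k_certp_239 : allR (ckCert C nF) 9 122368 = true := by decide +kernel
theorem k_certp_240 : allR (ckCert C nF) 9 122880 = true := by decide +kernel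
theorem k_certp_241 : allR (ckCert C nF) 9 123392 = true := by decide +kernel
theorem k_certp_242 : allR (ckCert C nF) 9 123904 = true := by decide +kernel
theorem k_certp_243 : allR (ckCert C nF) 9 124416 = true := by decide +kernel
theorem k_certp_244 : allR (ckCert C nF) 9 124928 = true := by decide +kernel
theorem k_certp_245 : allR (ckCert C nF) 9 125440 = true := by decide +kernel
theorem k_certp_246 : allR (ckCert C nF) 9 125952 = true := by decide +kernel
theorem k_certp_247 : allR (ckCert C nF) 9 126464 = true := by decide +kernel
theorem k_certp_248 : allR (ckCert C nF) 9 126976 = true := by decide +kernel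
theorem k_certp_249 : allR (ckCert C nF) 9 127488 = true := by decide +kernel
theorem k_certp_250 : allR (ckCert C nF) 9 128000 = true := by decide +kernel
theorem k_certp_251 : allR (ckCert C nF) 9 128512 = true := by decide +kernel
theorem k_certp_252 : allR (ckCert C nF) 9 129024 = true := by decide +kernel
theorem k_certp_253 : allR (ckCert C nF) 9 129536 = true := by decide +kernel
theorem k_certp_254 : allR (ckCert C nF) 9 130048 = true := by decide +kernel
theorem k_certp_255 : allR (ckCert C nF) 9 130560 = true := by decide +kernel
theorem k_finp_0 : allR (ckFin C 7 nn nF can fin T) 9 0 = true := by decide +kernel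
theorem k_finp_1 : allR (ckFin C 7 nn nF can fin T) 9 512 = true := by decide +kernel
theorem k_finp_2 : allR (ckFin C 7 nn nF can fin T) 9 1024 = true := by decide +kernel
theorem k_finp_3 : allR (ckFin C 7 nn nF can fin T) 9 1536 = true := by decide +kernel
theorem k_finp_4 : allR (ckFin C 7 nn nF can fin T) 9 2048 = true := by decide +kernel
theorem k_finp_5 : allR (ckFin C 7 nn nF can fin T) 9 2560 = true := by decide +kernel
theorem k_finp_6 : allR (ckFin C 7 nn nF can fin T) 9 3072 = true := by decide +kernel
theorem k_finp_7 : allR (ckFin C 7 nn nF can fin T) 9 3584 = true := by decide +kernel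
theorem k_finp_8 : allR (ckFin C 7 nn nF can fin T) 9 4096 = true := by decide +kernel
theorem k_finp_9 : allR (ckFin C 7 nn nF can fin T) 9 4608 = true := by decide +kernel
theorem k_finp_10 : allR (ckFin C 7 nn nF can fin T) 9 5120 = true := by decide +kernel
theorem k_finp_11 : allR (ckFin C 7 nn nF can fin T) 9 5632 = true := by decide +kernel
theorem k_finp_12 : allR (ckFin C 7 nn nF can fin T) 9 6144 = true := by decide +kernel
theorem k_finp_13 : allR (ckFin C 7 nn nF can fin T) 9 6656 = true := by decide +kernel
theorem k_finp_14 : allR (ckFin C 7 nn nF can fin T) 9 7168 = true := by decide +kernel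
theorem k_finp_15 : allR (ckFin C 7 nn nF can fin T) 9 7680 = true := by decide +kernel
theorem k_finp_16 : allR (ckFin C 7 nn nF can fin T) 9 8192 = true := by decide +kernel
theorem k_finp_17 : allR (ckFin C 7 nn nF can fin T) 9 8704 = true := by decide +kernel
theorem k_finp_18 : allR (ckFin C 7 nn nF can fin T) 9 9216 = true := by decide +kernel
theorem k_finp_19 : allR (ckFin C 7 nn nF can fin T) 9 9728 = true := by decide +kernel

end Cfsg.Agent.Lib.Helper25.TC.Suz22880
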