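import Cfsg.Agent.Lib.Helper25.TCSuz22880T

set_option autoImplicit false
set_option maxRecDepth 1000000
set_option linter.unusedVariables false
set_option Elab.async false

namespace Cfsg.Agent.Lib.Helper25.TC.Suz22880

open Cfsg.Agent.Lib.Helper25.TC

theorem k_finp_43 : allR (ckFin C 7 nn nF can fin T) 9 22016 = true := by decide +kernel
theorem k_finp_44 : allR (ckFin C 7 nn nF can fin T) 9 22528 = true := by decide +kernel
theorem k_finp_45 : allR (ckFin C 7 nn nF can fin T) 9 23040 = true := by decide +kernel
theorem k_finp_46 : allR (ckFin C 7 nn nF can fin T) 9 23552 = true := by decide +kernel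
theorem k_finp_47 : allR (ckFin C 7 nn nF can fin T) 9 24064 = true := by decide +kernel
theorem k_finp_48 : allR (ckFin C 7 nn nF can fin T) 9 24576 = true := by decide +kernel
theorem k_finp_49 : allR (ckFin C 7 nn nF can fin T) 9 25088 = true := by decide +kernel
theorem k_finp_50 : allR (ckFin C 7 nn nF can fin T) 9 25600 = true := by decide +kernel
theorem k_finp_51 : allR (ckFin C 7 nn nF can fin T) 9 26112 = true := by decide +kernel
theorem k_finp_52 : allR (ckFin C 7 nn nF can fin T) 9 26624 = true := by decide +kernel
theorem k_finp_53 : allR (ckFin C 7 nn nF can fin T) 9 27136 = true := by decide +kernel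
theorem k_finp_54 : allR (ckFin C 7 nn nF can fin T) 9 27648 = true := by decide +kernel
theorem k_finp_55 : allR (ckFin C 7 nn nF can fin T) 9 28160 = true := by decide +kernel
theorem k_finp_56 : allR (ckFin C 7 nn nF can fin T) 9 28672 = true := by decide +kernel
theorem k_finp_57 : allR (ckFin C 7 nn nF can fin T) 9 29184 = true := by decide +kernel
theorem k_finp_58 : allR (ckFin C 7 nn nF can fin T) 9 29696 = true := by decide +kernel
theorem k_finp_59 : allR (ckFin C 7 nn nF can fin T) 9 30208 = true := by decide +kernel
theorem k_finp_60 : allR (ckFin C 7 nn nF can fin T) 9 30720 = true := by decide +kernel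
theorem k_finp_61 : allR (ckFin C 7 nn nF can fin T) 9 31232 = true := by decide +kernel
theorem k_finp_62 : allR (ckFin C 7 nn nF can fin T) 9 31744 = true := by decide +kernel
theorem k_finp_63 : allR (ckFin C 7 nn nF can fin T) 9 32256 = true := by decide +kernel
theorem k_tblp_0 : allR (ckTbl 7 nn T) 10 0 = true := by decide +kernel
theorem k_tblp_1 : allR (ckTbl 7 nn T) 10 1024 = true := by decide +kernel
theorem k_tblp_2 : allR (ckTbl 7 nn T) 10 2048 = true := by decide +kernel
theorem k_tblp_3 : allR (ckTbl 7 nn T) 10 3072 = true := by decide +kernel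
theorem k_tblp_4 : allR (ckTbl 7 nn T) 10 4096 = true := by decide +kernel
theorem k_tblp_5 : allR (ckTbl 7 nn T) 10 5120 = true := by decide +kernel
theorem k_tblp_6 : allR (ckTbl 7 nn T) 10 6144 = true := by decide +kernel
theorem k_tblp_7 : allR (ckTbl 7 nn T) 10 7168 = true := by decide +kernel
theorem k_tblp_8 : allR (ckTbl 7 nn T) 10 8192 = true := by decide +kernel
theorem k_tblp_9 : allR (ckTbl 7 nn T) 10 9216 = true := by decide +kernel
theorem k_tblp_10 : allR (ckTbl 7 nn T) 10 10240 = true := by decide +kernel
theorem k_tblp_11 : allR (ckTbl 7 nn T) 10 11264 = true := by decide +kernel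
theorem k_tblp_12 : allR (ckTbl 7 nn T) 10 12288 = true := by decide +kernel
theorem k_tblp_13 : allR (ckTbl 7 nn T) 10 13312 = true := by decide +kernel
theorem k_tblp_14 : allR (ckTbl 7 nn T) 10 14336 = true := by decide +kernel
theorem k_tblp_15 : allR (ckTbl 7 nn T) 10 15360 = true := by decide +kernel
theorem k_tblp_16 : allR (ckTbl 7 nn T) 10 16384 = true := by decide +kernel
theorem k_tblp_17 : allR (ckTbl 7 nn T) 10 17408 = true := by decide +kernel

end Cfsg.Agent.Lib.Helper25.TC.Suz22880
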