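import Cfsg.Agent.Lib.Helper25.TCSuz22880T

set_option autoImplicit false
set_option maxRecDepth 1000000
set_option linter.unusedVariables false
set_option Elab.async false

namespace Cfsg.Agent.Lib.Helper25.TC.Suz22880

open Cfsg.Agent.Lib.Helper25.TC

theorem k_tblp_18 : allR (ckTbl 7 nn T) 10 18432 = true := by decide +kernel
theorem k_tblp_19 : allR (ckTbl 7 nn T) 10 19456 = true := by decide +kernel
theorem k_tblp_20 : allR (ckTbl 7 nn T) 10 20480 = true := by decide +kernel
theorem k_tblp_21 : allR (ckTbl 7 nn T) 10 21504 = true := by decide +kernel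
theorem k_tblp_22 : allR (ckTbl 7 nn T) 10 22528 = true := by decide +kernel
theorem k_tblp_23 : allR (ckTbl 7 nn T) 10 23552 = true := by decide +kernel
theorem k_tblp_24 : allR (ckTbl 7 nn T) 10 24576 = true := by decide +kernel
theorem k_tblp_25 : allR (ckTbl 7 nn T) 10 25600 = true := by decide +kernel
theorem k_tblp_26 : allR (ckTbl 7 nn T) 10 26624 = true := by decide +kernel
theorem k_tblp_27 : allR (ckTbl 7 nn T) 10 27648 = true := by decide +kernel
theorem k_tblp_28 : allR (ckTbl 7 nn T) 10 28672 = true := by decide +kernel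
theorem k_tblp_29 : allR (ckTbl 7 nn T) 10 29696 = true := by decide +kernel
theorem k_tblp_30 : allR (ckTbl 7 nn T) 10 30720 = true := by decide +kernel
theorem k_tblp_31 : allR (ckTbl 7 nn T) 10 31744 = true := by decide +kernel
theorem k_treep_0 : allR (ckTree 7 nn T bp bg) 12 0 = true := by decide +kernel
theorem k_treep_1 : allR (ckTree 7 nn T bp bg) 12 4096 = true := by decide +kernel
theorem k_treep_2 : allR (ckTree 7 nn T bp bg) 12 8192 = true := by decide +kernel
theorem k_treep_3 : allR (ckTree 7 nn T bp bg) 12 12288 = true := by decide +kernel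
theorem k_treep_4 : allR (ckTree 7 nn T bp bg) 12 16384 = true := by decide +kernel
theorem k_treep_5 : allR (ckTree 7 nn T bp bg) 12 20480 = true := by decide +kernel
theorem k_treep_6 : allR (ckTree 7 nn T bp bg) 12 24576 = true := by decide +kernel
theorem k_treep_7 : allR (ckTree 7 nn T bp bg) 12 28672 = true := by decide +kernel

end Cfsg.Agent.Lib.Helper25.TC.Suz22880
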