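import Cfsg.Agent.Lib.Helper25.TCSuz22880T

set_option autoImplicit false
set_option maxRecDepth 1000000
set_option linter.unusedVariables false
set_option Elab.async false

namespace Cfsg.Agent.Lib.Helper25.TC.Suz22880

open Cfsg.Agent.Lib.Helper25.TC

theorem k_relp_40 : allR fastRel 8 10240 = true := by decide +kernel
theorem k_relp_41 : allR fastRel 8 10496 = true := by decide +kernel
theorem k_relp_42 : allR fastRel 8 10752 = true := by decide +kernel
theorem k_relp_43 : allR fastRel 8 11008 = true := by decide +kernel
theorem k_relp_44 : allR fastRel 8 11264 = true := by decide +kernel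
theorem k_relp_45 : allR fastRel 8 11520 = true := by decide +kernel
theorem k_relp_46 : allR fastRel 8 11776 = true := by decide +kernel
theorem k_relp_47 : allR fastRel 8 12032 = true := by decide +kernel
theorem k_relp_48 : allR fastRel 8 12288 = true := by decide +kernel
theorem k_relp_49 : allR fastRel 8 12544 = true := by decide +kernel
theorem k_relp_50 : allR fastRel 8 12800 = true := by decide +kernel
theorem k_relp_51 : allR fastRel 8 13056 = true := by decide +kernel
theorem k_relp_52 : allR fastRel 8 13312 = true := by decide +kernel
theorem k_relp_53 : allR fastRel 8 13568 = true := by decide +kernel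
theorem k_relp_54 : allR fastRel 8 13824 = true := by decide +kernel
theorem k_relp_55 : allR fastRel 8 14080 = true := by decide +kernel
theorem k_relp_56 : allR fastRel 8 14336 = true := by decide +kernel
theorem k_relp_57 : allR fastRel 8 14592 = true := by decide +kernel
theorem k_relp_58 : allR fastRel 8 14848 = true := by decide +kernel
theorem k_relp_59 : allR fastRel 8 15104 = true := by decide +kernel

end Cfsg.Agent.Lib.Helper25.TC.Suz22880
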