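import Cfsg.Agent.Lib.Helper25.TCSuz22880T

set_option autoImplicit false
set_option maxRecDepth 1000000
set_option linter.unusedVariables false
set_option Elab.async false

namespace Cfsg.Agent.Lib.Helper25.TC.Suz22880

open Cfsg.Agent.Lib.Helper25.TC

theorem k_relp_60 : allR fastRel 8 15360 = true := by decide +kernel
theorem k_relp_61 : allR fastRel 8 15616 = true := by decide +kernel
theorem k_relp_62 : allR fastRel 8 15872 = true := by decide +kernel
theorem k_relp_63 : allR fastRel 8 16128 = true := by decide +kernel
theorem k_relp_64 : allR fastRel 8 16384 = true := by decide +kernel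
theorem k_relp_65 : allR fastRel 8 16640 = true := by decide +kernel
theorem k_relp_66 : allR fastRel 8 16896 = true := by decide +kernel
theorem k_relp_67 : allR fastRel 8 17152 = true := by decide +kernel
theorem k_relp_68 : allR fastRel 8 17408 = true := by decide +kernel
theorem k_relp_69 : allR fastRel 8 17664 = true := by decide +kernel
theorem k_relp_70 : allR fastRel 8 17920 = true := by decide +kernel
theorem k_relp_71 : allR fastRel 8 18176 = true := by decide +kernel
theorem k_relp_72 : allR fastRel 8 18432 = true := by decide +kernel
theorem k_relp_73 : allR fastRel 8 18688 = true := by decide +kernel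
theorem k_relp_74 : allR fastRel 8 18944 = true := by decide +kernel
theorem k_relp_75 : allR fastRel 8 19200 = true := by decide +kernel
theorem k_relp_76 : allR fastRel 8 19456 = true := by decide +kernel
theorem k_relp_77 : allR fastRel 8 19712 = true := by decide +kernel
theorem k_relp_78 : allR fastRel 8 19968 = true := by decide +kernel
theorem k_relp_79 : allR fastRel 8 20224 = true := by decide +kernel

end Cfsg.Agent.Lib.Helper25.TC.Suz22880
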