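import Cfsg.Agent.Lib.Helper25.TCSuz22880T

set_option autoImplicit false
set_option maxRecDepth 1000000
set_option linter.unusedVariables false
set_option Elab.async false

namespace Cfsg.Agent.Lib.Helper25.TC.Suz22880

open Cfsg.Agent.Lib.Helper25.TC

theorem k_relp_80 : allR fastRel 8 20480 = true := by decide +kernel
theorem k_relp_81 : allR fastRel 8 20736 = true := by decide +kernel
theorem k_relp_82 : allR fastRel 8 20992 = true := by decide +kernel
theorem k_relp_83 : allR fastRel 8 21248 = true := by decide +kernel
theorem k_relp_84 : allR fastRel 8 21504 = true := by decide +kernel
theorem k_relp_85 : allR fastRel 8 21760 = true := by decide +kernel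
theorem k_relp_86 : allR fastRel 8 22016 = true := by decide +kernel
theorem k_relp_87 : allR fastRel 8 22272 = true := by decide +kernel
theorem k_relp_88 : allR fastRel 8 22528 = true := by decide +kernel
theorem k_relp_89 : allR fastRel 8 22784 = true := by decide +kernel
theorem k_relp_90 : allR fastRel 8 23040 = true := by decide +kernel
theorem k_relp_91 : allR fastRel 8 23296 = true := by decide +kernel
theorem k_relp_92 : allR fastRel 8 23552 = true := by decide +kernel
theorem k_relp_93 : allR fastRel 8 23808 = true := by decide +kernel
theorem k_relp_94 : allR fastRel 8 24064 = true := by decide +kernel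
theorem k_relp_95 : allR fastRel 8 24320 = true := by decide +kernel
theorem k_relp_96 : allR fastRel 8 24576 = true := by decide +kernel
theorem k_relp_97 : allR fastRel 8 24832 = true := by decide +kernel
theorem k_relp_98 : allR fastRel 8 25088 = true := by decide +kernel
theorem k_relp_99 : allR fastRel 8 25344 = true := by decide +kernel
theorem k_relp_100 : allR fastRel 8 25600 = true := by decide +kernel
theorem k_relp_101 : allR fastRel 8 25856 = true := by decide +kernel
theorem k_relp_102 : allR fastRel 8 26112 = true := by decide +kernel
theorem k_relp_103 : allR fastRel 8 26368 = true := by decide +kernel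
theorem k_relp_104 : allR fastRel 8 26624 = true := by decide +kernel
theorem k_relp_105 : allR fastRel 8 26880 = true := by decide +kernel
theorem k_relp_106 : allR fastRel 8 27136 = true := by decide +kernel
theorem k_relp_107 : allR fastRel 8 27392 = true := by decide +kernel
theorem k_relp_108 : allR fastRel 8 27648 = true := by decide +kernel
theorem k_relp_109 : allR fastRel 8 27904 = true := by decide +kernel
theorem k_relp_110 : allR fastRel 8 28160 = true := by decide +kernel
theorem k_relp_111 : allR fastRel 8 28416 = true := by decide +kernel
theorem k_relp_112 : allR fastRel 8 28672 = true := by decide +kernel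
theorem k_relp_113 : allR fastRel 8 28928 = true := by decide +kernel
theorem k_relp_114 : allR fastRel 8 29184 = true := by decide +kernel
theorem k_relp_115 : allR fastRel 8 29440 = true := by decide +kernel
theorem k_relp_116 : allR fastRel 8 29696 = true := by decide +kernel
theorem k_relp_117 : allR fastRel 8 29952 = true := by decide +kernel
theorem k_relp_118 : allR fastRel 8 30208 = true := by decide +kernel
theorem k_relp_119 : allR fastRel 8 30464 = true := by decide +kernel
theorem k_relp_120 : allR fastRel 8 30720 = true := by decide +kernel
theorem k_relp_121 : allR fastRel 8 30976 = true := by decide +kernel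
theorem k_relp_122 : allR fastRel 8 31232 = true := by decide +kernel
theorem k_relp_123 : allR fastRel 8 31488 = true := by decide +kernel
theorem k_relp_124 : allR fastRel 8 31744 = true := by decide +kernel
theorem k_relp_125 : allR fastRel 8 32000 = true := by decide +kernel
theorem k_relp_126 : allR fastRel 8 32256 = true := by decide +kernel
theorem k_relp_127 : allR fastRel 8 32512 = true := by decide +kernel
theorem k_certp_0 : allR (ckCert C nF) 9 0 = true := by decide +kernel
theorem k_certp_1 : allR (ckCert C nF) 9 512 = true := by decide +kernel
theorem k_certp_2 : allR (ckCert C nF) 9 1024 = true := by decide +kernel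
theorem k_certp_3 : allR (ckCert C nF) 9 1536 = true := by decide +kernel
theorem k_certp_4 : allR (ckCert C nF) 9 2048 = true := by decide +kernel
theorem k_certp_5 : allR (ckCert C nF) 9 2560 = true := by decide +kernel
theorem k_certp_6 : allR (ckCert C nF) 9 3072 = true := by decide +kernel
theorem k_certp_7 : allR (ckCert C nF) 9 3584 = true := by decide +kernel
theorem k_certp_8 : allR (ckCert C nF) 9 4096 = true := by decide +kernel
theorem k_certp_9 : allR (ckCert C nF) 9 4608 = true := by decide +kernel
theorem k_certp_10 : allR (ckCert C nF) 9 5120 = true := by decide +kernel
theorem k_certp_11 : allR (ckCert C nF) 9 5632 = true := by decide +kernel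
theorem k_certp_12 : allR (ckCert C nF) 9 6144 = true := by decide +kernel
theorem k_certp_13 : allR (ckCert C nF) 9 6656 = true := by decide +kernel

end Cfsg.Agent.Lib.Helper25.TC.Suz22880
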