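import Cfsg.Agent.Lib.Helper25.TCSuz22880T

set_option autoImplicit false
set_option maxRecDepth 1000000
set_option linter.unusedVariables false
set_option Elab.async false

namespace Cfsg.Agent.Lib.Helper25.TC.Suz22880

open Cfsg.Agent.Lib.Helper25.TC

theorem k_certp_14 : allR (ckCert C nF) 9 7168 = true := by decide +kernel
theorem k_certp_15 : allR (ckCert C nF) 9 7680 = true := by decide +kernel
theorem k_certp_16 : allR (ckCert C nF) 9 8192 = true := by decide +kernel
theorem k_certp_17 : allR (ckCert C nF) 9 8704 = true := by decide +kernel
theorem k_certp_18 : allR (ckCert C nF) 9 9216 = true := by decide +kernel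
theorem k_certp_19 : allR (ckCert C nF) 9 9728 = true := by decide +kernel
theorem k_certp_20 : allR (ckCert C nF) 9 10240 = true := by decide +kernel
theorem k_certp_21 : allR (ckCert C nF) 9 10752 = true := by decide +kernel
theorem k_certp_22 : allR (ckCert C nF) 9 11264 = true := by decide +kernel
theorem k_certp_23 : allR (ckCert C nF) 9 11776 = true := by decide +kernel
theorem k_certp_24 : allR (ckCert C nF) 9 12288 = true := by decide +kernel
theorem k_certp_25 : allR (ckCert C nF) 9 12800 = true := by decide +kernel
theorem k_certp_26 : allR (ckCert C nF) 9 13312 = true := by decide +kernel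
theorem k_certp_27 : allR (ckCert C nF) 9 13824 = true := by decide +kernel
theorem k_certp_28 : allR (ckCert C nF) 9 14336 = true := by decide +kernel
theorem k_certp_29 : allR (ckCert C nF) 9 14848 = true := by decide +kernel
theorem k_certp_30 : allR (ckCert C nF) 9 15360 = true := by decide +kernel
theorem k_certp_31 : allR (ckCert C nF) 9 15872 = true := by decide +kernel
theorem k_certp_32 : allR (ckCert C nF) 9 16384 = true := by decide +kernel
theorem k_certp_33 : allR (ckCert C nF) 9 16896 = true := by decide +kernel
theorem k_certp_34 : allR (ckCert C nF) 9 17408 = true := by decide +kernel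
theorem k_certp_35 : allR (ckCert C nF) 9 17920 = true := by decide +kernel
theorem k_certp_36 : allR (ckCert C nF) 9 18432 = true := by decide +kernel
theorem k_certp_37 : allR (ckCert C nF) 9 18944 = true := by decide +kernel
theorem k_certp_38 : allR (ckCert C nF) 9 19456 = true := by decide +kernel
theorem k_certp_39 : allR (ckCert C nF) 9 19968 = true := by decide +kernel
theorem k_certp_40 : allR (ckCert C nF) 9 20480 = true := by decide +kernel
theorem k_certp_41 : allR (ckCert C nF) 9 20992 = true := by decide +kernel
theorem k_certp_42 : allR (ckCert C nF) 9 21504 = true := by decide +kernel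

end Cfsg.Agent.Lib.Helper25.TC.Suz22880
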