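import Cfsg.Agent.Lib.Helper25.TCSuz22880T

set_option autoImplicit false
set_option maxRecDepth 1000000
set_option linter.unusedVariables false
set_option Elab.async false

namespace Cfsg.Agent.Lib.Helper25.TC.Suz22880

open Cfsg.Agent.Lib.Helper25.TC

theorem k_certp_43 : allR (ckCert C nF) 9 22016 = true := by decide +kernel
theorem k_certp_44 : allR (ckCert C nF) 9 22528 = true := by decide +kernel
theorem k_certp_45 : allR (ckCert C nF) 9 23040 = true := by decide +kernel
theorem k_certp_46 : allR (ckCert C nF) 9 23552 = true := by decide +kernel
theorem k_certp_47 : allR (ckCert C nF) 9 24064 = true := by decide +kernel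
theorem k_certp_48 : allR (ckCert C nF) 9 24576 = true := by decide +kernel
theorem k_certp_49 : allR (ckCert C nF) 9 25088 = true := by decide +kernel
theorem k_certp_50 : allR (ckCert C nF) 9 25600 = true := by decide +kernel
theorem k_certp_51 : allR (ckCert C nF) 9 26112 = true := by decide +kernel
theorem k_certp_52 : allR (ckCert C nF) 9 26624 = true := by decide +kernel
theorem k_certp_53 : allR (ckCert C nF) 9 27136 = true := by decide +kernel
theorem k_certp_54 : allR (ckCert C nF) 9 27648 = true := by decide +kernel
theorem k_certp_55 : allR (ckCert C nF) 9 28160 = true := by decide +kernel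
theorem k_certp_56 : allR (ckCert C nF) 9 28672 = true := by decide +kernel
theorem k_certp_57 : allR (ckCert C nF) 9 29184 = true := by decide +kernel
theorem k_certp_58 : allR (ckCert C nF) 9 29696 = true := by decide +kernel
theorem k_certp_59 : allR (ckCert C nF) 9 30208 = true := by decide +kernel
theorem k_certp_60 : allR (ckCert C nF) 9 30720 = true := by decide +kernel
theorem k_certp_61 : allR (ckCert C nF) 9 31232 = true := by decide +kernel
theorem k_certp_62 : allR (ckCert C nF) 9 31744 = true := by decide +kernel
theorem k_certp_63 : allR (ckCert C nF) 9 32256 = true := by decide +kernel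
theorem k_certp_64 : allR (ckCert C nF) 9 32768 = true := by decide +kernel
theorem k_certp_65 : allR (ckCert C nF) 9 33280 = true := by decide +kernel
theorem k_certp_66 : allR (ckCert C nF) 9 33792 = true := by decide +kernel
theorem k_certp_67 : allR (ckCert C nF) 9 34304 = true := by decide +kernel
theorem k_certp_68 : allR (ckCert C nF) 9 34816 = true := by decide +kernel
theorem k_certp_69 : allR (ckCert C nF) 9 35328 = true := by decide +kernel
theorem k_certp_70 : allR (ckCert C nF) 9 35840 = true := by decide +kernel
theorem k_certp_71 : allR (ckCert C nF) 9 36352 = true := by decide +kernel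

end Cfsg.Agent.Lib.Helper25.TC.Suz22880
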