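import Cfsg.Agent.Lib.Helper25.TCSuz22880D0
import Cfsg.Agent.Lib.Helper25.TCSuz22880D1
import Cfsg.Agent.Lib.Helper25.TCSuz22880D2
import Cfsg.Agent.Lib.Helper25.TCSuz22880D3
import Cfsg.Agent.Lib.Helper25.TCSuz22880D4
import Cfsg.Agent.Lib.Helper25.TCMain

set_option autoImplicit false
set_option maxRecDepth 1000000
set_option linter.unusedVariables false

namespace Cfsg.Agent.Lib.Helper25.TC.Suz22880

def sFP_0_0 (c : Nat) : Nat := (bif Nat.ble 8 c then (bif Nat.ble 12 c then (bif Nat.ble 14 c then (bif Nat.ble 15 c then cFP_15 else cFP_14) else (bif Nat.ble 13 c then cFP_13 else cFP_12)) else (bif Nat.ble 10 c then (bif Nat.ble 11 c then cFP_11 else cFP_10) else (bif Nat.ble 9 c then cFP_9 else cFP_8))) else (bif Nat.ble 4 c then (bif Nat.ble 6 c then (bif Nat.ble 7 c then cFP_7 else cFP_6) else (bif Nat.ble 5 c then cFP_5 else cFP_4)) else (bif Nat.ble 2 c then (bif Nat.ble 3 c then cFP_3 else cFP_2) else (bif Nat.ble 1 c then cFP_1 else cFP_0))))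
def sFP_0_1 (c : Nat) : Nat := (bif Nat.ble 24 c then (bif Nat.ble 28 c then (bif Nat.ble 30 c then (bif Nat.ble 31 c then cFP_31 else cFP_30) else (bif Nat.ble 29 c then cFP_29 else cFP_28)) else (bif Nat.ble 26 c then (bif Nat.ble 27 c then cFP_27 else cFP_26) else (bif Nat.ble 25 c then cFP_25 else cFP_24))) else (bif Nat.ble 20 c then (bif Nat.ble 22 c then (bif Nat.ble 23 c then cFP_23 else cFP_22) else (bif Nat.ble 21 c then cFP_21 else cFP_20)) else (bif Nat.ble 18 c then (bif Nat.ble 19 c then cFP_19 else cFP_18) else (bif Nat.ble 17 c then cFP_17 else cFP_16))))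
def sFP_0_2 (c : Nat) : Nat := (bif Nat.ble 40 c then (bif Nat.ble 44 c then (bif Nat.ble 46 c then (bif Nat.ble 47 c then cFP_47 else cFP_46) else (bif Nat.ble 45 c then cFP_45 else cFP_44)) else (bif Nat.ble 42 c then (bif Nat.ble 43 c then cFP_43 else cFP_42) else (bif Nat.ble 41 c then cFP_41 else cFP_40))) else (bif Nat.ble 36 c then (bif Nat.ble 38 c then (bif Nat.ble 39 c then cFP_39 else cFP_38) else (bif Nat.ble 37 c then cFP_37 else cFP_36)) else (bif Nat.ble 34 c then (bif Nat.ble 35 c then cFP_35 else cFP_34) else (bif Nat.ble 33 c then cFP_33 else cFP_32))))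
def sFP_0_3 (c : Nat) : Nat := (bif Nat.ble 56 c then (bif Nat.ble 60 c then (bif Nat.ble 62 c then (bif Nat.ble 63 c then cFP_63 else cFP_62) else (bif Nat.ble 61 c then cFP_61 else cFP_60)) else (bif Nat.ble 58 c then (bif Nat.ble 59 c then cFP_59 else cFP_58) else (bif Nat.ble 57 c then cFP_57 else cFP_56))) else (bif Nat.ble 52 c then (bif Nat.ble 54 c then (bif Nat.ble 55 c then cFP_55 else cFP_54) else (bif Nat.ble 53 c then cFP_53 else cFP_52)) else (bif Nat.ble 50 c then (bif Nat.ble 51 c then cFP_51 else cFP_50) else (bif Nat.ble 49 c then cFP_49 else cFP_48))))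
def sFP_0_4 (c : Nat) : Nat := (bif Nat.ble 72 c then (bif Nat.ble 76 c then (bif Nat.ble 78 c then (bif Nat.ble 79 c then cFP_79 else cFP_78) else (bif Nat.ble 77 c then cFP_77 else cFP_76)) else (bif Nat.ble 74 c then (bif Nat.ble 75 c then cFP_75 else cFP_74) else (bif Nat.ble 73 c then cFP_73 else cFP_72))) else (bif Nat.ble 68 c then (bif Nat.ble 70 c then (bif Nat.ble 71 c then cFP_71 else cFP_70) else (bif Nat.ble 69 c then cFP_69 else cFP_68)) else (bif Nat.ble 66 c then (bif Nat.ble 67 c then cFP_67 else cFP_66) else (bif Nat.ble 65 c then cFP_65 else cFP_64))))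
def sFP_0_5 (c : Nat) : Nat := (bif Nat.ble 88 c then (bif Nat.ble 92 c then (bif Nat.ble 94 c then (bif Nat.ble 95 c then cFP_95 else cFP_94) else (bif Nat.ble 93 c then cFP_93 else cFP_92)) else (bif Nat.ble 90 c then (bif Nat.ble 91 c then cFP_91 else cFP_90) else (bif Nat.ble 89 c then cFP_89 else cFP_88))) else (bif Nat.ble 84 c then (bif Nat.ble 86 c then (bif Nat.ble 87 c then cFP_87 else cFP_86) else (bif Nat.ble 85 c then cFP_85 else cFP_84)) else (bif Nat.ble 82 c then (bif Nat.ble 83 c then cFP_83 else cFP_82) else (bif Nat.ble 81 c then cFP_81 else cFP_80))))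
def sFP_0_6 (c : Nat) : Nat := (bif Nat.ble 104 c then (bif Nat.ble 108 c then (bif Nat.ble 110 c then (bif Nat.ble 111 c then cFP_111 else cFP_110) else (bif Nat.ble 109 c then cFP_109 else cFP_108)) else (bif Nat.ble 106 c then (bif Nat.ble 107 c then cFP_107 else cFP_106) else (bif Nat.ble 105 c then cFP_105 else cFP_104))) else (bif Nat.ble 100 c then (bif Nat.ble 102 c then (bif Nat.ble 103 c then cFP_103 else cFP_102) else (bif Nat.ble 101 c then cFP_101 else cFP_100)) else (bif Nat.ble 98 c then (bif Nat.ble 99 c then cFP_99 else cFP_98) else (bif Nat.ble 97 c then cFP_97 else cFP_96))))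
def sFP_0_7 (c : Nat) : Nat := (bif Nat.ble 120 c then (bif Nat.ble 124 c then (bif Nat.ble 126 c then (bif Nat.ble 127 c then cFP_127 else cFP_126) else (bif Nat.ble 125 c then cFP_125 else cFP_124)) else (bif Nat.ble 122 c then (bif Nat.ble 123 c then cFP_123 else cFP_122) else (bif Nat.ble 121 c then cFP_121 else cFP_120))) else (bif Nat.ble 116 c then (bif Nat.ble 118 c then (bif Nat.ble 119 c then cFP_119 else cFP_118) else (bif Nat.ble 117 c then cFP_117 else cFP_116)) else (bif Nat.ble 114 c then (bif Nat.ble 115 c then cFP_115 else cFP_114) else (bif Nat.ble 113 c then cFP_113 else cFP_112))))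
def sFP_0_8 (c : Nat) : Nat := (bif Nat.ble 136 c then (bif Nat.ble 140 c then (bif Nat.ble 142 c then (bif Nat.ble 143 c then cFP_143 else cFP_142) else (bif Nat.ble 141 c then cFP_141 else cFP_140)) else (bif Nat.ble 138 c then (bif Nat.ble 139 c then cFP_139 else cFP_138) else (bif Nat.ble 137 c then cFP_137 else cFP_136))) else (bif Nat.ble 132 c then (bif Nat.ble 134 c then (bif Nat.ble 135 c then cFP_135 else cFP_134) else (bif Nat.ble 133 c then cFP_133 else cFP_132)) else (bif Nat.ble 130 c then (bif Nat.ble 131 c then cFP_131 else cFP_130) else (bif Nat.ble 129 c then cFP_129 else cFP_128))))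
def sFP_0_9 (c : Nat) : Nat := (bif Nat.ble 152 c then (bif Nat.ble 156 c then (bif Nat.ble 158 c then (bif Nat.ble 159 c then cFP_159 else cFP_158) else (bif Nat.ble 157 c then cFP_157 else cFP_156)) else (bif Nat.ble 154 c then (bif Nat.ble 155 c then cFP_155 else cFP_154) else (bif Nat.ble 153 c then cFP_153 else cFP_152))) else (bif Nat.ble 148 c then (bif Nat.ble 150 c then (bif Nat.ble 151 c then cFP_151 else cFP_150) else (bif Nat.ble 149 c then cFP_149 else cFP_148)) else (bif Nat.ble 146 c then (bif Nat.ble 147 c then cFP_147 else cFP_146) else (bif Nat.ble 145 c then cFP_145 else cFP_144))))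
def sFP_0_10 (c : Nat) : Nat := (bif Nat.ble 168 c then (bif Nat.ble 172 c then (bif Nat.ble 174 c then (bif Nat.ble 175 c then cFP_175 else cFP_174) else (bif Nat.ble 173 c then cFP_173 else cFP_172)) else (bif Nat.ble 170 c then (bif Nat.ble 171 c then cFP_171 else cFP_170) else (bif Nat.ble 169 c then cFP_169 else cFP_168))) else (bif Nat.ble 164 c then (bif Nat.ble 166 c then (bif Nat.ble 167 c then cFP_167 else cFP_166) else (bif Nat.ble 165 c then cFP_165 else cFP_164)) else (bif Nat.ble 162 c then (bif Nat.ble 163 c then cFP_163 else cFP_162) else (bif Nat.ble 161 c then cFP_161 else cFP_160))))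
def sFP_0_11 (c : Nat) : Nat := (bif Nat.ble 184 c then (bif Nat.ble 188 c then (bif Nat.ble 190 c then (bif Nat.ble 191 c then cFP_191 else cFP_190) else (bif Nat.ble 189 c then cFP_189 else cFP_188)) else (bif Nat.ble 186 c then (bif Nat.ble 187 c then cFP_187 else cFP_186) else (bif Nat.ble 185 c then cFP_185 else cFP_184))) else (bif Nat.ble 180 c then (bif Nat.ble 182 c then (bif Nat.ble 183 c then cFP_183 else cFP_182) else (bif Nat.ble 181 c then cFP_181 else cFP_180)) else (bif Nat.ble 178 c then (bif Nat.ble 179 c then cFP_179 else cFP_178) else (bif Nat.ble 177 c then cFP_177 else cFP_176))))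
def sFP_0_12 (c : Nat) : Nat := (bif Nat.ble 200 c then (bif Nat.ble 204 c then (bif Nat.ble 206 c then (bif Nat.ble 207 c then cFP_207 else cFP_206) else (bif Nat.ble 205 c then cFP_205 else cFP_204)) else (bif Nat.ble 202 c then (bif Nat.ble 203 c then cFP_203 else cFP_202) else (bif Nat.ble 201 c then cFP_201 else cFP_200))) else (bif Nat.ble 196 c then (bif Nat.ble 198 c then (bif Nat.ble 199 c then cFP_199 else cFP_198) else (bif Nat.ble 197 c then cFP_197 else cFP_196)) else (bif Nat.ble 194 c then (bif Nat.ble 195 c then cFP_195 else cFP_194) else (bif Nat.ble 193 c then cFP_193 else cFP_192))))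
def sFP_0_13 (c : Nat) : Nat := (bif Nat.ble 216 c then (bif Nat.ble 220 c then (bif Nat.ble 222 c then (bif Nat.ble 223 c then cFP_223 else cFP_222) else (bif Nat.ble 221 c then cFP_221 else cFP_220)) else (bif Nat.ble 218 c then (bif Nat.ble 219 c then cFP_219 else cFP_218) else (bif Nat.ble 217 c then cFP_217 else cFP_216))) else (bif Nat.ble 212 c then (bif Nat.ble 214 c then (bif Nat.ble 215 c then cFP_215 else cFP_214) else (bif Nat.ble 213 c then cFP_213 else cFP_212)) else (bif Nat.ble 210 c then (bif Nat.ble 211 c then cFP_211 else cFP_210) else (bif Nat.ble 209 c then cFP_209 else cFP_208))))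
def sFP_0_14 (c : Nat) : Nat := (bif Nat.ble 232 c then (bif Nat.ble 236 c then (bif Nat.ble 238 c then (bif Nat.ble 239 c then cFP_239 else cFP_238) else (bif Nat.ble 237 c then cFP_237 else cFP_236)) else (bif Nat.ble 234 c then (bif Nat.ble 235 c then cFP_235 else cFP_234) else (bif Nat.ble 233 c then cFP_233 else cFP_232))) else (bif Nat.ble 228 c then (bif Nat.ble 230 c then (bif Nat.ble 231 c then cFP_231 else cFP_230) else (bif Nat.ble 229 c then cFP_229 else cFP_228)) else (bif Nat.ble 226 c then (bif Nat.ble 227 c then cFP_227 else cFP_226) else (bif Nat.ble 225 c then cFP_225 else cFP_224))))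
def sFP_0_15 (c : Nat) : Nat := (bif Nat.ble 248 c then (bif Nat.ble 252 c then (bif Nat.ble 254 c then (bif Nat.ble 255 c then cFP_255 else cFP_254) else (bif Nat.ble 253 c then cFP_253 else cFP_252)) else (bif Nat.ble 250 c then (bif Nat.ble 251 c then cFP_251 else cFP_250) else (bif Nat.ble 249 c then cFP_249 else cFP_248))) else (bif Nat.ble 244 c then (bif Nat.ble 246 c then (bif Nat.ble 247 c then cFP_247 else cFP_246) else (bif Nat.ble 245 c then cFP_245 else cFP_244)) else (bif Nat.ble 242 c then (bif Nat.ble 243 c then cFP_243 else cFP_242) else (bif Nat.ble 241 c then cFP_241 else cFP_240))))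
def sFP_0_16 (c : Nat) : Nat := (bif Nat.ble 264 c then (bif Nat.ble 268 c then (bif Nat.ble 270 c then (bif Nat.ble 271 c then cFP_271 else cFP_270) else (bif Nat.ble 269 c then cFP_269 else cFP_268)) else (bif Nat.ble 266 c then (bif Nat.ble 267 c then cFP_267 else cFP_266) else (bif Nat.ble 265 c then cFP_265 else cFP_264))) else (bif Nat.ble 260 c then (bif Nat.ble 262 c then (bif Nat.ble 263 c then cFP_263 else cFP_262) else (bif Nat.ble 261 c then cFP_261 else cFP_260)) else (bif Nat.ble 258 c then (bif Nat.ble 259 c then cFP_259 else cFP_258) else (bif Nat.ble 257 c then cFP_257 else cFP_256))))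
def sFP_0_17 (c : Nat) : Nat := (bif Nat.ble 280 c then (bif Nat.ble 284 c then (bif Nat.ble 286 c then (bif Nat.ble 287 c then cFP_287 else cFP_286) else (bif Nat.ble 285 c then cFP_285 else cFP_284)) else (bif Nat.ble 282 c then (bif Nat.ble 283 c then cFP_283 else cFP_282) else (bif Nat.ble 281 c then cFP_281 else cFP_280))) else (bif Nat.ble 276 c then (bif Nat.ble 278 c then (bif Nat.ble 279 c then cFP_279 else cFP_278) else (bif Nat.ble 277 c then cFP_277 else cFP_276)) else (bif Nat.ble 274 c then (bif Nat.ble 275 c then cFP_275 else cFP_274) else (bif Nat.ble 273 c then cFP_273 else cFP_272))))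
def sFP_0_18 (c : Nat) : Nat := (bif Nat.ble 296 c then (bif Nat.ble 300 c then (bif Nat.ble 302 c then (bif Nat.ble 303 c then cFP_303 else cFP_302) else (bif Nat.ble 301 c then cFP_301 else cFP_300)) else (bif Nat.ble 298 c then (bif Nat.ble 299 c then cFP_299 else cFP_298) else (bif Nat.ble 297 c then cFP_297 else cFP_296))) else (bif Nat.ble 292 c then (bif Nat.ble 294 c then (bif Nat.ble 295 c then cFP_295 else cFP_294) else (bif Nat.ble 293 c then cFP_293 else cFP_292)) else (bif Nat.ble 290 c then (bif Nat.ble 291 c then cFP_291 else cFP_290) else (bif Nat.ble 289 c then cFP_289 else cFP_288))))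
def sFP_0_19 (c : Nat) : Nat := (bif Nat.ble 312 c then (bif Nat.ble 316 c then (bif Nat.ble 318 c then (bif Nat.ble 319 c then cFP_319 else cFP_318) else (bif Nat.ble 317 c then cFP_317 else cFP_316)) else (bif Nat.ble 314 c then (bif Nat.ble 315 c then cFP_315 else cFP_314) else (bif Nat.ble 313 c then cFP_313 else cFP_312))) else (bif Nat.ble 308 c then (bif Nat.ble 310 c then (bif Nat.ble 311 c then cFP_311 else cFP_310) else (bif Nat.ble 309 c then cFP_309 else cFP_308)) else (bif Nat.ble 306 c then (bif Nat.ble 307 c then cFP_307 else cFP_306) else (bif Nat.ble 305 c then cFP_305 else cFP_304))))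
def sFP_0_20 (c : Nat) : Nat := (bif Nat.ble 328 c then (bif Nat.ble 332 c then (bif Nat.ble 334 c then (bif Nat.ble 335 c then cFP_335 else cFP_334) else (bif Nat.ble 333 c then cFP_333 else cFP_332)) else (bif Nat.ble 330 c then (bif Nat.ble 331 c then cFP_331 else cFP_330) else (bif Nat.ble 329 c then cFP_329 else cFP_328))) else (bif Nat.ble 324 c then (bif Nat.ble 326 c then (bif Nat.ble 327 c then cFP_327 else cFP_326) else (bif Nat.ble 325 c then cFP_325 else cFP_324)) else (bif Nat.ble 322 c then (bif Nat.ble 323 c then cFP_323 else cFP_322) else (bif Nat.ble 321 c then cFP_321 else cFP_320))))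
def sFP_0_21 (c : Nat) : Nat := (bif Nat.ble 344 c then (bif Nat.ble 348 c then (bif Nat.ble 350 c then (bif Nat.ble 351 c then cFP_351 else cFP_350) else (bif Nat.ble 349 c then cFP_349 else cFP_348)) else (bif Nat.ble 346 c then (bif Nat.ble 347 c then cFP_347 else cFP_346) else (bif Nat.ble 345 c then cFP_345 else cFP_344))) else (bif Nat.ble 340 c then (bif Nat.ble 342 c then (bif Nat.ble 343 c then cFP_343 else cFP_342) else (bif Nat.ble 341 c then cFP_341 else cFP_340)) else (bif Nat.ble 338 c then (bif Nat.ble 339 c then cFP_339 else cFP_338) else (bif Nat.ble 337 c then cFP_337 else cFP_336))))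
def sFP_0_22 (c : Nat) : Nat := (bif Nat.ble 360 c then (bif Nat.ble 364 c then (bif Nat.ble 366 c then (bif Nat.ble 367 c then cFP_367 else cFP_366) else (bif Nat.ble 365 c then cFP_365 else cFP_364)) else (bif Nat.ble 362 c then (bif Nat.ble 363 c then cFP_363 else cFP_362) else (bif Nat.ble 361 c then cFP_361 else cFP_360))) else (bif Nat.ble 356 c then (bif Nat.ble 358 c then (bif Nat.ble 359 c then cFP_359 else cFP_358) else (bif Nat.ble 357 c then cFP_357 else cFP_356)) else (bif Nat.ble 354 c then (bif Nat.ble 355 c then cFP_355 else cFP_354) else (bif Nat.ble 353 c then cFP_353 else cFP_352))))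
def sFP_0_23 (c : Nat) : Nat := (bif Nat.ble 374 c then (bif Nat.ble 377 c then (bif Nat.ble 378 c then cFP_378 else cFP_377) else (bif Nat.ble 376 c then cFP_376 else (bif Nat.ble 375 c then cFP_375 else cFP_374))) else (bif Nat.ble 371 c then (bif Nat.ble 373 c then cFP_373 else (bif Nat.ble 372 c then cFP_372 else cFP_371)) else (bif Nat.ble 370 c then cFP_370 else (bif Nat.ble 369 c then cFP_369 else cFP_368))))
def sFP_1_0 (c : Nat) : Nat := (bif Nat.ble 128 c then (bif Nat.ble 192 c then (bif Nat.ble 224 c then (bif Nat.ble 240 c then sFP_0_15 c else sFP_0_14 c) else (bif Nat.ble 208 c then sFP_0_13 c else sFP_0_12 c)) else (bif Nat.ble 160 c then (bif Nat.ble 176 c then sFP_0_11 c else sFP_0_10 c) else (bif Nat.ble 144 c then sFP_0_9 c else sFP_0_8 c))) else (bif Nat.ble 64 c then (bif Nat.ble 96 c then (bif Nat.ble 112 c then sFP_0_7 c else sFP_0_6 c) else (bif Nat.ble 80 c then sFP_0_5 c else sFP_0_4 c)) else (bif Nat.ble 32 c then (bif Nat.ble 48 c then sFP_0_3 c else sFP_0_2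 c) else (bif Nat.ble 16 c then sFP_0_1 c else sFP_0_0 c))))
def sFP_1_1 (c : Nat) : Nat := (bif Nat.ble 320 c then (bif Nat.ble 352 c then (bif Nat.ble 368 c then sFP_0_23 c else sFP_0_22 c) else (bif Nat.ble 336 c then sFP_0_21 c else sFP_0_20 c)) else (bif Nat.ble 288 c then (bif Nat.ble 304 c then sFP_0_19 c else sFP_0_18 c) else (bif Nat.ble 272 c then sFP_0_17 c else sFP_0_16 c)))
def sFP (c : Nat) : Nat := (bif Nat.ble 256 c then sFP_1_1 c else sFP_1_0 c)
def gFP (i : Nat) : Nat := Nat.land (Nat.shiftRight (sFP (Nat.shiftRight i 8)) (Nat.mul 35 (Nat.land i 255))) 34359738367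
def sFJ_0_0 (c : Nat) : Nat := (bif Nat.ble 8 c then (bif Nat.ble 12 c then (bif Nat.ble 14 c then (bif Nat.ble 15 c then cFJ_15 else cFJ_14) else (bif Nat.ble 13 c then cFJ_13 else cFJ_12)) else (bif Nat.ble 10 c then (bif Nat.ble 11 c then cFJ_11 else cFJ_10) else (bif Nat.ble 9 c then cFJ_9 else cFJ_8))) else (bif Nat.ble 4 c then (bif Nat.ble 6 c then (bif Nat.ble 7 c then cFJ_7 else cFJ_6) else (bif Nat.ble 5 c then cFJ_5 else cFJ_4)) else (bif Nat.ble 2 c then (bif Nat.ble 3 c then cFJ_3 else cFJ_2) else (bif Nat.ble 1 c then cFJ_1 else cFJ_0))))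
def sFJ_0_1 (c : Nat) : Nat := (bif Nat.ble 24 c then (bif Nat.ble 28 c then (bif Nat.ble 30 c then (bif Nat.ble 31 c then cFJ_31 else cFJ_30) else (bif Nat.ble 29 c then cFJ_29 else cFJ_28)) else (bif Nat.ble 26 c then (bif Nat.ble 27 c then cFJ_27 else cFJ_26) else (bif Nat.ble 25 c then cFJ_25 else cFJ_24))) else (bif Nat.ble 20 c then (bif Nat.ble 22 c then (bif Nat.ble 23 c then cFJ_23 else cFJ_22) else (bif Nat.ble 21 c then cFJ_21 else cFJ_20)) else (bif Nat.ble 18 c then (bif Nat.ble 19 c then cFJ_19 else cFJ_18) else (bif Nat.ble 17 c then cFJ_17 else cFJ_16))))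
def sFJ_0_2 (c : Nat) : Nat := (bif Nat.ble 40 c then (bif Nat.ble 44 c then (bif Nat.ble 46 c then (bif Nat.ble 47 c then cFJ_47 else cFJ_46) else (bif Nat.ble 45 c then cFJ_45 else cFJ_44)) else (bif Nat.ble 42 c then (bif Nat.ble 43 c then cFJ_43 else cFJ_42) else (bif Nat.ble 41 c then cFJ_41 else cFJ_40))) else (bif Nat.ble 36 c then (bif Nat.ble 38 c then (bif Nat.ble 39 c then cFJ_39 else cFJ_38) else (bif Nat.ble 37 c then cFJ_37 else cFJ_36)) else (bif Nat.ble 34 c then (bif Nat.ble 35 c then cFJ_35 else cFJ_34) else (bif Nat.ble 33 c then cFJ_33 else cFJ_32))))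
def sFJ_0_3 (c : Nat) : Nat := (bif Nat.ble 56 c then (bif Nat.ble 60 c then (bif Nat.ble 62 c then (bif Nat.ble 63 c then cFJ_63 else cFJ_62) else (bif Nat.ble 61 c then cFJ_61 else cFJ_60)) else (bif Nat.ble 58 c then (bif Nat.ble 59 c then cFJ_59 else cFJ_58) else (bif Nat.ble 57 c then cFJ_57 else cFJ_56))) else (bif Nat.ble 52 c then (bif Nat.ble 54 c then (bif Nat.ble 55 c then cFJ_55 else cFJ_54) else (bif Nat.ble 53 c then cFJ_53 else cFJ_52)) else (bif Nat.ble 50 c then (bif Nat.ble 51 c then cFJ_51 else cFJ_50) else (bif Nat.ble 49 c then cFJ_49 else cFJ_48))))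
def sFJ_0_4 (c : Nat) : Nat := (bif Nat.ble 72 c then (bif Nat.ble 76 c then (bif Nat.ble 78 c then (bif Nat.ble 79 c then cFJ_79 else cFJ_78) else (bif Nat.ble 77 c then cFJ_77 else cFJ_76)) else (bif Nat.ble 74 c then (bif Nat.ble 75 c then cFJ_75 else cFJ_74) else (bif Nat.ble 73 c then cFJ_73 else cFJ_72))) else (bif Nat.ble 68 c then (bif Nat.ble 70 c then (bif Nat.ble 71 c then cFJ_71 else cFJ_70) else (bif Nat.ble 69 c then cFJ_69 else cFJ_68)) else (bif Nat.ble 66 c then (bif Nat.ble 67 c then cFJ_67 else cFJ_66) else (bif Nat.ble 65 c then cFJ_65 else cFJ_64))))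
def sFJ_0_5 (c : Nat) : Nat := (bif Nat.ble 88 c then (bif Nat.ble 92 c then (bif Nat.ble 94 c then (bif Nat.ble 95 c then cFJ_95 else cFJ_94) else (bif Nat.ble 93 c then cFJ_93 else cFJ_92)) else (bif Nat.ble 90 c then (bif Nat.ble 91 c then cFJ_91 else cFJ_90) else (bif Nat.ble 89 c then cFJ_89 else cFJ_88))) else (bif Nat.ble 84 c then (bif Nat.ble 86 c then (bif Nat.ble 87 c then cFJ_87 else cFJ_86) else (bif Nat.ble 85 c then cFJ_85 else cFJ_84)) else (bif Nat.ble 82 c then (bif Nat.ble 83 c then cFJ_83 else cFJ_82) else (bif Nat.ble 81 c then cFJ_81 else cFJ_80))))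
def sFJ_0_6 (c : Nat) : Nat := (bif Nat.ble 104 c then (bif Nat.ble 108 c then (bif Nat.ble 110 c then (bif Nat.ble 111 c then cFJ_111 else cFJ_110) else (bif Nat.ble 109 c then cFJ_109 else cFJ_108)) else (bif Nat.ble 106 c then (bif Nat.ble 107 c then cFJ_107 else cFJ_106) else (bif Nat.ble 105 c then cFJ_105 else cFJ_104))) else (bif Nat.ble 100 c then (bif Nat.ble 102 c then (bif Nat.ble 103 c then cFJ_103 else cFJ_102) else (bif Nat.ble 101 c then cFJ_101 else cFJ_100)) else (bif Nat.ble 98 c then (bif Nat.ble 99 c then cFJ_99 else cFJ_98) else (bif Nat.ble 97 c then cFJ_97 else cFJ_96))))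
def sFJ_0_7 (c : Nat) : Nat := (bif Nat.ble 120 c then (bif Nat.ble 124 c then (bif Nat.ble 126 c then (bif Nat.ble 127 c then cFJ_127 else cFJ_126) else (bif Nat.ble 125 c then cFJ_125 else cFJ_124)) else (bif Nat.ble 122 c then (bif Nat.ble 123 c then cFJ_123 else cFJ_122) else (bif Nat.ble 121 c then cFJ_121 else cFJ_120))) else (bif Nat.ble 116 c then (bif Nat.ble 118 c then (bif Nat.ble 119 c then cFJ_119 else cFJ_118) else (bif Nat.ble 117 c then cFJ_117 else cFJ_116)) else (bif Nat.ble 114 c then (bif Nat.ble 115 c then cFJ_115 else cFJ_114) else (bif Nat.ble 113 c then cFJ_113 else cFJ_112))))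
def sFJ_0_8 (c : Nat) : Nat := (bif Nat.ble 136 c then (bif Nat.ble 140 c then (bif Nat.ble 142 c then (bif Nat.ble 143 c then cFJ_143 else cFJ_142) else (bif Nat.ble 141 c then cFJ_141 else cFJ_140)) else (bif Nat.ble 138 c then (bif Nat.ble 139 c then cFJ_139 else cFJ_138) else (bif Nat.ble 137 c then cFJ_137 else cFJ_136))) else (bif Nat.ble 132 c then (bif Nat.ble 134 c then (bif Nat.ble 135 c then cFJ_135 else cFJ_134) else (bif Nat.ble 133 c then cFJ_133 else cFJ_132)) else (bif Nat.ble 130 c then (bif Nat.ble 131 c then cFJ_131 else cFJ_130) else (bif Nat.ble 129 c then cFJ_129 else cFJ_128))))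
def sFJ_0_9 (c : Nat) : Nat := (bif Nat.ble 152 c then (bif Nat.ble 156 c then (bif Nat.ble 158 c then (bif Nat.ble 159 c then cFJ_159 else cFJ_158) else (bif Nat.ble 157 c then cFJ_157 else cFJ_156)) else (bif Nat.ble 154 c then (bif Nat.ble 155 c then cFJ_155 else cFJ_154) else (bif Nat.ble 153 c then cFJ_153 else cFJ_152))) else (bif Nat.ble 148 c then (bif Nat.ble 150 c then (bif Nat.ble 151 c then cFJ_151 else cFJ_150) else (bif Nat.ble 149 c then cFJ_149 else cFJ_148)) else (bif Nat.ble 146 c then (bif Nat.ble 147 c then cFJ_147 else cFJ_146) else (bif Nat.ble 145 c then cFJ_145 else cFJ_144))))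
def sFJ_0_10 (c : Nat) : Nat := (bif Nat.ble 168 c then (bif Nat.ble 172 c then (bif Nat.ble 174 c then (bif Nat.ble 175 c then cFJ_175 else cFJ_174) else (bif Nat.ble 173 c then cFJ_173 else cFJ_172)) else (bif Nat.ble 170 c then (bif Nat.ble 171 c then cFJ_171 else cFJ_170) else (bif Nat.ble 169 c then cFJ_169 else cFJ_168))) else (bif Nat.ble 164 c then (bif Nat.ble 166 c then (bif Nat.ble 167 c then cFJ_167 else cFJ_166) else (bif Nat.ble 165 c then cFJ_165 else cFJ_164)) else (bif Nat.ble 162 c then (bif Nat.ble 163 c then cFJ_163 else cFJ_162) else (bif Nat.ble 161 c then cFJ_161 else cFJ_160))))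
def sFJ_0_11 (c : Nat) : Nat := (bif Nat.ble 184 c then (bif Nat.ble 188 c then (bif Nat.ble 190 c then (bif Nat.ble 191 c then cFJ_191 else cFJ_190) else (bif Nat.ble 189 c then cFJ_189 else cFJ_188)) else (bif Nat.ble 186 c then (bif Nat.ble 187 c then cFJ_187 else cFJ_186) else (bif Nat.ble 185 c then cFJ_185 else cFJ_184))) else (bif Nat.ble 180 c then (bif Nat.ble 182 c then (bif Nat.ble 183 c then cFJ_183 else cFJ_182) else (bif Nat.ble 181 c then cFJ_181 else cFJ_180)) else (bif Nat.ble 178 c then (bif Nat.ble 179 c then cFJ_179 else cFJ_178) else (bif Nat.ble 177 c then cFJ_177 else cFJ_176))))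
def sFJ_0_12 (c : Nat) : Nat := (bif Nat.ble 200 c then (bif Nat.ble 204 c then (bif Nat.ble 206 c then (bif Nat.ble 207 c then cFJ_207 else cFJ_206) else (bif Nat.ble 205 c then cFJ_205 else cFJ_204)) else (bif Nat.ble 202 c then (bif Nat.ble 203 c then cFJ_203 else cFJ_202) else (bif Nat.ble 201 c then cFJ_201 else cFJ_200))) else (bif Nat.ble 196 c then (bif Nat.ble 198 c then (bif Nat.ble 199 c then cFJ_199 else cFJ_198) else (bif Nat.ble 197 c then cFJ_197 else cFJ_196)) else (bif Nat.ble 194 c then (bif Nat.ble 195 c then cFJ_195 else cFJ_194) else (bif Nat.ble 193 c then cFJ_193 else cFJ_192))))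
def sFJ_0_13 (c : Nat) : Nat := (bif Nat.ble 216 c then (bif Nat.ble 220 c then (bif Nat.ble 222 c then (bif Nat.ble 223 c then cFJ_223 else cFJ_222) else (bif Nat.ble 221 c then cFJ_221 else cFJ_220)) else (bif Nat.ble 218 c then (bif Nat.ble 219 c then cFJ_219 else cFJ_218) else (bif Nat.ble 217 c then cFJ_217 else cFJ_216))) else (bif Nat.ble 212 c then (bif Nat.ble 214 c then (bif Nat.ble 215 c then cFJ_215 else cFJ_214) else (bif Nat.ble 213 c then cFJ_213 else cFJ_212)) else (bif Nat.ble 210 c then (bif Nat.ble 211 c then cFJ_211 else cFJ_210) else (bif Nat.ble 209 c then cFJ_209 else cFJ_208))))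
def sFJ_0_14 (c : Nat) : Nat := (bif Nat.ble 232 c then (bif Nat.ble 236 c then (bif Nat.ble 238 c then (bif Nat.ble 239 c then cFJ_239 else cFJ_238) else (bif Nat.ble 237 c then cFJ_237 else cFJ_236)) else (bif Nat.ble 234 c then (bif Nat.ble 235 c then cFJ_235 else cFJ_234) else (bif Nat.ble 233 c then cFJ_233 else cFJ_232))) else (bif Nat.ble 228 c then (bif Nat.ble 230 c then (bif Nat.ble 231 c then cFJ_231 else cFJ_230) else (bif Nat.ble 229 c then cFJ_229 else cFJ_228)) else (bif Nat.ble 226 c then (bif Nat.ble 227 c then cFJ_227 else cFJ_226) else (bif Nat.ble 225 c then cFJ_225 else cFJ_224))))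
def sFJ_0_15 (c : Nat) : Nat := (bif Nat.ble 248 c then (bif Nat.ble 252 c then (bif Nat.ble 254 c then (bif Nat.ble 255 c then cFJ_255 else cFJ_254) else (bif Nat.ble 253 c then cFJ_253 else cFJ_252)) else (bif Nat.ble 250 c then (bif Nat.ble 251 c then cFJ_251 else cFJ_250) else (bif Nat.ble 249 c then cFJ_249 else cFJ_248))) else (bif Nat.ble 244 c then (bif Nat.ble 246 c then (bif Nat.ble 247 c then cFJ_247 else cFJ_246) else (bif Nat.ble 245 c then cFJ_245 else cFJ_244)) else (bif Nat.ble 242 c then (bif Nat.ble 243 c then cFJ_243 else cFJ_242) else (bif Nat.ble 241 c then cFJ_241 else cFJ_240))))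
def sFJ_0_16 (c : Nat) : Nat := (bif Nat.ble 264 c then (bif Nat.ble 268 c then (bif Nat.ble 270 c then (bif Nat.ble 271 c then cFJ_271 else cFJ_270) else (bif Nat.ble 269 c then cFJ_269 else cFJ_268)) else (bif Nat.ble 266 c then (bif Nat.ble 267 c then cFJ_267 else cFJ_266) else (bif Nat.ble 265 c then cFJ_265 else cFJ_264))) else (bif Nat.ble 260 c then (bif Nat.ble 262 c then (bif Nat.ble 263 c then cFJ_263 else cFJ_262) else (bif Nat.ble 261 c then cFJ_261 else cFJ_260)) else (bif Nat.ble 258 c then (bif Nat.ble 259 c then cFJ_259 else cFJ_258) else (bif Nat.ble 257 c then cFJ_257 else cFJ_256))))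
def sFJ_0_17 (c : Nat) : Nat := (bif Nat.ble 280 c then (bif Nat.ble 284 c then (bif Nat.ble 286 c then (bif Nat.ble 287 c then cFJ_287 else cFJ_286) else (bif Nat.ble 285 c then cFJ_285 else cFJ_284)) else (bif Nat.ble 282 c then (bif Nat.ble 283 c then cFJ_283 else cFJ_282) else (bif Nat.ble 281 c then cFJ_281 else cFJ_280))) else (bif Nat.ble 276 c then (bif Nat.ble 278 c then (bif Nat.ble 279 c then cFJ_279 else cFJ_278) else (bif Nat.ble 277 c then cFJ_277 else cFJ_276)) else (bif Nat.ble 274 c then (bif Nat.ble 275 c then cFJ_275 else cFJ_274) else (bif Nat.ble 273 c then cFJ_273 else cFJ_272))))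
def sFJ_0_18 (c : Nat) : Nat := (bif Nat.ble 296 c then (bif Nat.ble 300 c then (bif Nat.ble 302 c then (bif Nat.ble 303 c then cFJ_303 else cFJ_302) else (bif Nat.ble 301 c then cFJ_301 else cFJ_300)) else (bif Nat.ble 298 c then (bif Nat.ble 299 c then cFJ_299 else cFJ_298) else (bif Nat.ble 297 c then cFJ_297 else cFJ_296))) else (bif Nat.ble 292 c then (bif Nat.ble 294 c then (bif Nat.ble 295 c then cFJ_295 else cFJ_294) else (bif Nat.ble 293 c then cFJ_293 else cFJ_292)) else (bif Nat.ble 290 c then (bif Nat.ble 291 c then cFJ_291 else cFJ_290) else (bif Nat.ble 289 c then cFJ_289 else cFJ_288))))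
def sFJ_0_19 (c : Nat) : Nat := (bif Nat.ble 312 c then (bif Nat.ble 316 c then (bif Nat.ble 318 c then (bif Nat.ble 319 c then cFJ_319 else cFJ_318) else (bif Nat.ble 317 c then cFJ_317 else cFJ_316)) else (bif Nat.ble 314 c then (bif Nat.ble 315 c then cFJ_315 else cFJ_314) else (bif Nat.ble 313 c then cFJ_313 else cFJ_312))) else (bif Nat.ble 308 c then (bif Nat.ble 310 c then (bif Nat.ble 311 c then cFJ_311 else cFJ_310) else (bif Nat.ble 309 c then cFJ_309 else cFJ_308)) else (bif Nat.ble 306 c then (bif Nat.ble 307 c then cFJ_307 else cFJ_306) else (bif Nat.ble 305 c then cFJ_305 else cFJ_304))))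
def sFJ_0_20 (c : Nat) : Nat := (bif Nat.ble 328 c then (bif Nat.ble 332 c then (bif Nat.ble 334 c then (bif Nat.ble 335 c then cFJ_335 else cFJ_334) else (bif Nat.ble 333 c then cFJ_333 else cFJ_332)) else (bif Nat.ble 330 c then (bif Nat.ble 331 c then cFJ_331 else cFJ_330) else (bif Nat.ble 329 c then cFJ_329 else cFJ_328))) else (bif Nat.ble 324 c then (bif Nat.ble 326 c then (bif Nat.ble 327 c then cFJ_327 else cFJ_326) else (bif Nat.ble 325 c then cFJ_325 else cFJ_324)) else (bif Nat.ble 322 c then (bif Nat.ble 323 c then cFJ_323 else cFJ_322) else (bif Nat.ble 321 c then cFJ_321 else cFJ_320))))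
def sFJ_0_21 (c : Nat) : Nat := (bif Nat.ble 344 c then (bif Nat.ble 348 c then (bif Nat.ble 350 c then (bif Nat.ble 351 c then cFJ_351 else cFJ_350) else (bif Nat.ble 349 c then cFJ_349 else cFJ_348)) else (bif Nat.ble 346 c then (bif Nat.ble 347 c then cFJ_347 else cFJ_346) else (bif Nat.ble 345 c then cFJ_345 else cFJ_344))) else (bif Nat.ble 340 c then (bif Nat.ble 342 c then (bif Nat.ble 343 c then cFJ_343 else cFJ_342) else (bif Nat.ble 341 c then cFJ_341 else cFJ_340)) else (bif Nat.ble 338 c then (bif Nat.ble 339 c then cFJ_339 else cFJ_338) else (bif Nat.ble 337 c then cFJ_337 else cFJ_336))))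
def sFJ_0_22 (c : Nat) : Nat := (bif Nat.ble 360 c then (bif Nat.ble 364 c then (bif Nat.ble 366 c then (bif Nat.ble 367 c then cFJ_367 else cFJ_366) else (bif Nat.ble 365 c then cFJ_365 else cFJ_364)) else (bif Nat.ble 362 c then (bif Nat.ble 363 c then cFJ_363 else cFJ_362) else (bif Nat.ble 361 c then cFJ_361 else cFJ_360))) else (bif Nat.ble 356 c then (bif Nat.ble 358 c then (bif Nat.ble 359 c then cFJ_359 else cFJ_358) else (bif Nat.ble 357 c then cFJ_357 else cFJ_356)) else (bif Nat.ble 354 c then (bif Nat.ble 355 c then cFJ_355 else cFJ_354) else (bif Nat.ble 353 c then cFJ_353 else cFJ_352))))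
def sFJ_0_23 (c : Nat) : Nat := (bif Nat.ble 374 c then (bif Nat.ble 377 c then (bif Nat.ble 378 c then cFJ_378 else cFJ_377) else (bif Nat.ble 376 c then cFJ_376 else (bif Nat.ble 375 c then cFJ_375 else cFJ_374))) else (bif Nat.ble 371 c then (bif Nat.ble 373 c then cFJ_373 else (bif Nat.ble 372 c then cFJ_372 else cFJ_371)) else (bif Nat.ble 370 c then cFJ_370 else (bif Nat.ble 369 c then cFJ_369 else cFJ_368))))
def sFJ_1_0 (c : Nat) : Nat := (bif Nat.ble 128 c then (bif Nat.ble 192 c then (bif Nat.ble 224 c then (bif Nat.ble 240 c then sFJ_0_15 c else sFJ_0_14 c) else (bif Nat.ble 208 c then sFJ_0_13 c else sFJ_0_12 c)) else (bif Nat.ble 160 c then (bif Nat.ble 176 c then sFJ_0_11 c else sFJ_0_10 c) else (bif Nat.ble 144 c then sFJ_0_9 c else sFJ_0_8 c))) else (bif Nat.ble 64 c then (bif Nat.ble 96 c then (bif Nat.ble 112 c then sFJ_0_7 c else sFJ_0_6 c) else (bif Nat.ble 80 c then sFJ_0_5 c else sFJ_0_4 c)) else (bif Nat.ble 32 c then (bif Nat.ble 48 c then sFJ_0_3 c else sFJ_0_2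 c) else (bif Nat.ble 16 c then sFJ_0_1 c else sFJ_0_0 c))))
def sFJ_1_1 (c : Nat) : Nat := (bif Nat.ble 320 c then (bif Nat.ble 352 c then (bif Nat.ble 368 c then sFJ_0_23 c else sFJ_0_22 c) else (bif Nat.ble 336 c then sFJ_0_21 c else sFJ_0_20 c)) else (bif Nat.ble 288 c then (bif Nat.ble 304 c then sFJ_0_19 c else sFJ_0_18 c) else (bif Nat.ble 272 c then sFJ_0_17 c else sFJ_0_16 c)))
def sFJ (c : Nat) : Nat := (bif Nat.ble 256 c then sFJ_1_1 c else sFJ_1_0 c)
def gFJ (i : Nat) : Nat := Nat.land (Nat.shiftRight (sFJ (Nat.shiftRight i 8)) (Nat.mul 53 (Nat.land i 255))) 9007199254740991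
def sST_0_0 (c : Nat) : Nat := (bif Nat.ble 8 c then (bif Nat.ble 12 c then (bif Nat.ble 14 c then (bif Nat.ble 15 c then cST_15 else cST_14) else (bif Nat.ble 13 c then cST_13 else cST_12)) else (bif Nat.ble 10 c then (bif Nat.ble 11 c then cST_11 else cST_10) else (bif Nat.ble 9 c then cST_9 else cST_8))) else (bif Nat.ble 4 c then (bif Nat.ble 6 c then (bif Nat.ble 7 c then cST_7 else cST_6) else (bif Nat.ble 5 c then cST_5 else cST_4)) else (bif Nat.ble 2 c then (bif Nat.ble 3 c then cST_3 else cST_2) else (bif Nat.ble 1 c then cST_1 else cST_0))))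
def sST_0_1 (c : Nat) : Nat := (bif Nat.ble 24 c then (bif Nat.ble 28 c then (bif Nat.ble 30 c then (bif Nat.ble 31 c then cST_31 else cST_30) else (bif Nat.ble 29 c then cST_29 else cST_28)) else (bif Nat.ble 26 c then (bif Nat.ble 27 c then cST_27 else cST_26) else (bif Nat.ble 25 c then cST_25 else cST_24))) else (bif Nat.ble 20 c then (bif Nat.ble 22 c then (bif Nat.ble 23 c then cST_23 else cST_22) else (bif Nat.ble 21 c then cST_21 else cST_20)) else (bif Nat.ble 18 c then (bif Nat.ble 19 c then cST_19 else cST_18) else (bif Nat.ble 17 c then cST_17 else cST_16))))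
def sST_0_2 (c : Nat) : Nat := (bif Nat.ble 40 c then (bif Nat.ble 44 c then (bif Nat.ble 46 c then (bif Nat.ble 47 c then cST_47 else cST_46) else (bif Nat.ble 45 c then cST_45 else cST_44)) else (bif Nat.ble 42 c then (bif Nat.ble 43 c then cST_43 else cST_42) else (bif Nat.ble 41 c then cST_41 else cST_40))) else (bif Nat.ble 36 c then (bif Nat.ble 38 c then (bif Nat.ble 39 c then cST_39 else cST_38) else (bif Nat.ble 37 c then cST_37 else cST_36)) else (bif Nat.ble 34 c then (bif Nat.ble 35 c then cST_35 else cST_34) else (bif Nat.ble 33 c then cST_33 else cST_32))))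
def sST_0_3 (c : Nat) : Nat := (bif Nat.ble 56 c then (bif Nat.ble 60 c then (bif Nat.ble 62 c then (bif Nat.ble 63 c then cST_63 else cST_62) else (bif Nat.ble 61 c then cST_61 else cST_60)) else (bif Nat.ble 58 c then (bif Nat.ble 59 c then cST_59 else cST_58) else (bif Nat.ble 57 c then cST_57 else cST_56))) else (bif Nat.ble 52 c then (bif Nat.ble 54 c then (bif Nat.ble 55 c then cST_55 else cST_54) else (bif Nat.ble 53 c then cST_53 else cST_52)) else (bif Nat.ble 50 c then (bif Nat.ble 51 c then cST_51 else cST_50) else (bif Nat.ble 49 c then cST_49 else cST_48))))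
def sST_0_4 (c : Nat) : Nat := (bif Nat.ble 72 c then (bif Nat.ble 76 c then (bif Nat.ble 78 c then (bif Nat.ble 79 c then cST_79 else cST_78) else (bif Nat.ble 77 c then cST_77 else cST_76)) else (bif Nat.ble 74 c then (bif Nat.ble 75 c then cST_75 else cST_74) else (bif Nat.ble 73 c then cST_73 else cST_72))) else (bif Nat.ble 68 c then (bif Nat.ble 70 c then (bif Nat.ble 71 c then cST_71 else cST_70) else (bif Nat.ble 69 c then cST_69 else cST_68)) else (bif Nat.ble 66 c then (bif Nat.ble 67 c then cST_67 else cST_66) else (bif Nat.ble 65 c then cST_65 else cST_64))))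
def sST_0_5 (c : Nat) : Nat := (bif Nat.ble 88 c then (bif Nat.ble 92 c then (bif Nat.ble 94 c then (bif Nat.ble 95 c then cST_95 else cST_94) else (bif Nat.ble 93 c then cST_93 else cST_92)) else (bif Nat.ble 90 c then (bif Nat.ble 91 c then cST_91 else cST_90) else (bif Nat.ble 89 c then cST_89 else cST_88))) else (bif Nat.ble 84 c then (bif Nat.ble 86 c then (bif Nat.ble 87 c then cST_87 else cST_86) else (bif Nat.ble 85 c then cST_85 else cST_84)) else (bif Nat.ble 82 c then (bif Nat.ble 83 c then cST_83 else cST_82) else (bif Nat.ble 81 c then cST_81 else cST_80))))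
def sST_0_6 (c : Nat) : Nat := (bif Nat.ble 104 c then (bif Nat.ble 108 c then (bif Nat.ble 110 c then (bif Nat.ble 111 c then cST_111 else cST_110) else (bif Nat.ble 109 c then cST_109 else cST_108)) else (bif Nat.ble 106 c then (bif Nat.ble 107 c then cST_107 else cST_106) else (bif Nat.ble 105 c then cST_105 else cST_104))) else (bif Nat.ble 100 c then (bif Nat.ble 102 c then (bif Nat.ble 103 c then cST_103 else cST_102) else (bif Nat.ble 101 c then cST_101 else cST_100)) else (bif Nat.ble 98 c then (bif Nat.ble 99 c then cST_99 else cST_98) else (bif Nat.ble 97 c then cST_97 else cST_96))))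
def sST_0_7 (c : Nat) : Nat := (bif Nat.ble 120 c then (bif Nat.ble 124 c then (bif Nat.ble 126 c then (bif Nat.ble 127 c then cST_127 else cST_126) else (bif Nat.ble 125 c then cST_125 else cST_124)) else (bif Nat.ble 122 c then (bif Nat.ble 123 c then cST_123 else cST_122) else (bif Nat.ble 121 c then cST_121 else cST_120))) else (bif Nat.ble 116 c then (bif Nat.ble 118 c then (bif Nat.ble 119 c then cST_119 else cST_118) else (bif Nat.ble 117 c then cST_117 else cST_116)) else (bif Nat.ble 114 c then (bif Nat.ble 115 c then cST_115 else cST_114) else (bif Nat.ble 113 c then cST_113 else cST_112))))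
def sST_0_8 (c : Nat) : Nat := (bif Nat.ble 136 c then (bif Nat.ble 140 c then (bif Nat.ble 142 c then (bif Nat.ble 143 c then cST_143 else cST_142) else (bif Nat.ble 141 c then cST_141 else cST_140)) else (bif Nat.ble 138 c then (bif Nat.ble 139 c then cST_139 else cST_138) else (bif Nat.ble 137 c then cST_137 else cST_136))) else (bif Nat.ble 132 c then (bif Nat.ble 134 c then (bif Nat.ble 135 c then cST_135 else cST_134) else (bif Nat.ble 133 c then cST_133 else cST_132)) else (bif Nat.ble 130 c then (bif Nat.ble 131 c then cST_131 else cST_130) else (bif Nat.ble 129 c then cST_129 else cST_128))))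
def sST_0_9 (c : Nat) : Nat := (bif Nat.ble 152 c then (bif Nat.ble 156 c then (bif Nat.ble 158 c then (bif Nat.ble 159 c then cST_159 else cST_158) else (bif Nat.ble 157 c then cST_157 else cST_156)) else (bif Nat.ble 154 c then (bif Nat.ble 155 c then cST_155 else cST_154) else (bif Nat.ble 153 c then cST_153 else cST_152))) else (bif Nat.ble 148 c then (bif Nat.ble 150 c then (bif Nat.ble 151 c then cST_151 else cST_150) else (bif Nat.ble 149 c then cST_149 else cST_148)) else (bif Nat.ble 146 c then (bif Nat.ble 147 c then cST_147 else cST_146) else (bif Nat.ble 145 c then cST_145 else cST_144))))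
def sST_0_10 (c : Nat) : Nat := (bif Nat.ble 168 c then (bif Nat.ble 172 c then (bif Nat.ble 174 c then (bif Nat.ble 175 c then cST_175 else cST_174) else (bif Nat.ble 173 c then cST_173 else cST_172)) else (bif Nat.ble 170 c then (bif Nat.ble 171 c then cST_171 else cST_170) else (bif Nat.ble 169 c then cST_169 else cST_168))) else (bif Nat.ble 164 c then (bif Nat.ble 166 c then (bif Nat.ble 167 c then cST_167 else cST_166) else (bif Nat.ble 165 c then cST_165 else cST_164)) else (bif Nat.ble 162 c then (bif Nat.ble 163 c then cST_163 else cST_162) else (bif Nat.ble 161 c then cST_161 else cST_160))))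
def sST_0_11 (c : Nat) : Nat := (bif Nat.ble 184 c then (bif Nat.ble 188 c then (bif Nat.ble 190 c then (bif Nat.ble 191 c then cST_191 else cST_190) else (bif Nat.ble 189 c then cST_189 else cST_188)) else (bif Nat.ble 186 c then (bif Nat.ble 187 c then cST_187 else cST_186) else (bif Nat.ble 185 c then cST_185 else cST_184))) else (bif Nat.ble 180 c then (bif Nat.ble 182 c then (bif Nat.ble 183 c then cST_183 else cST_182) else (bif Nat.ble 181 c then cST_181 else cST_180)) else (bif Nat.ble 178 c then (bif Nat.ble 179 c then cST_179 else cST_178) else (bif Nat.ble 177 c then cST_177 else cST_176))))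
def sST_0_12 (c : Nat) : Nat := (bif Nat.ble 200 c then (bif Nat.ble 204 c then (bif Nat.ble 206 c then (bif Nat.ble 207 c then cST_207 else cST_206) else (bif Nat.ble 205 c then cST_205 else cST_204)) else (bif Nat.ble 202 c then (bif Nat.ble 203 c then cST_203 else cST_202) else (bif Nat.ble 201 c then cST_201 else cST_200))) else (bif Nat.ble 196 c then (bif Nat.ble 198 c then (bif Nat.ble 199 c then cST_199 else cST_198) else (bif Nat.ble 197 c then cST_197 else cST_196)) else (bif Nat.ble 194 c then (bif Nat.ble 195 c then cST_195 else cST_194) else (bif Nat.ble 193 c then cST_193 else cST_192))))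
def sST_0_13 (c : Nat) : Nat := (bif Nat.ble 216 c then (bif Nat.ble 220 c then (bif Nat.ble 222 c then (bif Nat.ble 223 c then cST_223 else cST_222) else (bif Nat.ble 221 c then cST_221 else cST_220)) else (bif Nat.ble 218 c then (bif Nat.ble 219 c then cST_219 else cST_218) else (bif Nat.ble 217 c then cST_217 else cST_216))) else (bif Nat.ble 212 c then (bif Nat.ble 214 c then (bif Nat.ble 215 c then cST_215 else cST_214) else (bif Nat.ble 213 c then cST_213 else cST_212)) else (bif Nat.ble 210 c then (bif Nat.ble 211 c then cST_211 else cST_210) else (bif Nat.ble 209 c then cST_209 else cST_208))))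
def sST_0_14 (c : Nat) : Nat := (bif Nat.ble 232 c then (bif Nat.ble 236 c then (bif Nat.ble 238 c then (bif Nat.ble 239 c then cST_239 else cST_238) else (bif Nat.ble 237 c then cST_237 else cST_236)) else (bif Nat.ble 234 c then (bif Nat.ble 235 c then cST_235 else cST_234) else (bif Nat.ble 233 c then cST_233 else cST_232))) else (bif Nat.ble 228 c then (bif Nat.ble 230 c then (bif Nat.ble 231 c then cST_231 else cST_230) else (bif Nat.ble 229 c then cST_229 else cST_228)) else (bif Nat.ble 226 c then (bif Nat.ble 227 c then cST_227 else cST_226) else (bif Nat.ble 225 c then cST_225 else cST_224))))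
def sST_0_15 (c : Nat) : Nat := (bif Nat.ble 248 c then (bif Nat.ble 252 c then (bif Nat.ble 254 c then (bif Nat.ble 255 c then cST_255 else cST_254) else (bif Nat.ble 253 c then cST_253 else cST_252)) else (bif Nat.ble 250 c then (bif Nat.ble 251 c then cST_251 else cST_250) else (bif Nat.ble 249 c then cST_249 else cST_248))) else (bif Nat.ble 244 c then (bif Nat.ble 246 c then (bif Nat.ble 247 c then cST_247 else cST_246) else (bif Nat.ble 245 c then cST_245 else cST_244)) else (bif Nat.ble 242 c then (bif Nat.ble 243 c then cST_243 else cST_242) else (bif Nat.ble 241 c then cST_241 else cST_240))))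
def sST_0_16 (c : Nat) : Nat := (bif Nat.ble 264 c then (bif Nat.ble 268 c then (bif Nat.ble 270 c then (bif Nat.ble 271 c then cST_271 else cST_270) else (bif Nat.ble 269 c then cST_269 else cST_268)) else (bif Nat.ble 266 c then (bif Nat.ble 267 c then cST_267 else cST_266) else (bif Nat.ble 265 c then cST_265 else cST_264))) else (bif Nat.ble 260 c then (bif Nat.ble 262 c then (bif Nat.ble 263 c then cST_263 else cST_262) else (bif Nat.ble 261 c then cST_261 else cST_260)) else (bif Nat.ble 258 c then (bif Nat.ble 259 c then cST_259 else cST_258) else (bif Nat.ble 257 c then cST_257 else cST_256))))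
def sST_0_17 (c : Nat) : Nat := (bif Nat.ble 280 c then (bif Nat.ble 284 c then (bif Nat.ble 286 c then (bif Nat.ble 287 c then cST_287 else cST_286) else (bif Nat.ble 285 c then cST_285 else cST_284)) else (bif Nat.ble 282 c then (bif Nat.ble 283 c then cST_283 else cST_282) else (bif Nat.ble 281 c then cST_281 else cST_280))) else (bif Nat.ble 276 c then (bif Nat.ble 278 c then (bif Nat.ble 279 c then cST_279 else cST_278) else (bif Nat.ble 277 c then cST_277 else cST_276)) else (bif Nat.ble 274 c then (bif Nat.ble 275 c then cST_275 else cST_274) else (bif Nat.ble 273 c then cST_273 else cST_272))))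
def sST_0_18 (c : Nat) : Nat := (bif Nat.ble 296 c then (bif Nat.ble 300 c then (bif Nat.ble 302 c then (bif Nat.ble 303 c then cST_303 else cST_302) else (bif Nat.ble 301 c then cST_301 else cST_300)) else (bif Nat.ble 298 c then (bif Nat.ble 299 c then cST_299 else cST_298) else (bif Nat.ble 297 c then cST_297 else cST_296))) else (bif Nat.ble 292 c then (bif Nat.ble 294 c then (bif Nat.ble 295 c then cST_295 else cST_294) else (bif Nat.ble 293 c then cST_293 else cST_292)) else (bif Nat.ble 290 c then (bif Nat.ble 291 c then cST_291 else cST_290) else (bif Nat.ble 289 c then cST_289 else cST_288))))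
def sST_0_19 (c : Nat) : Nat := (bif Nat.ble 312 c then (bif Nat.ble 316 c then (bif Nat.ble 318 c then (bif Nat.ble 319 c then cST_319 else cST_318) else (bif Nat.ble 317 c then cST_317 else cST_316)) else (bif Nat.ble 314 c then (bif Nat.ble 315 c then cST_315 else cST_314) else (bif Nat.ble 313 c then cST_313 else cST_312))) else (bif Nat.ble 308 c then (bif Nat.ble 310 c then (bif Nat.ble 311 c then cST_311 else cST_310) else (bif Nat.ble 309 c then cST_309 else cST_308)) else (bif Nat.ble 306 c then (bif Nat.ble 307 c then cST_307 else cST_306) else (bif Nat.ble 305 c then cST_305 else cST_304))))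
def sST_0_20 (c : Nat) : Nat := (bif Nat.ble 328 c then (bif Nat.ble 332 c then (bif Nat.ble 334 c then (bif Nat.ble 335 c then cST_335 else cST_334) else (bif Nat.ble 333 c then cST_333 else cST_332)) else (bif Nat.ble 330 c then (bif Nat.ble 331 c then cST_331 else cST_330) else (bif Nat.ble 329 c then cST_329 else cST_328))) else (bif Nat.ble 324 c then (bif Nat.ble 326 c then (bif Nat.ble 327 c then cST_327 else cST_326) else (bif Nat.ble 325 c then cST_325 else cST_324)) else (bif Nat.ble 322 c then (bif Nat.ble 323 c then cST_323 else cST_322) else (bif Nat.ble 321 c then cST_321 else cST_320))))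
def sST_0_21 (c : Nat) : Nat := (bif Nat.ble 344 c then (bif Nat.ble 348 c then (bif Nat.ble 350 c then (bif Nat.ble 351 c then cST_351 else cST_350) else (bif Nat.ble 349 c then cST_349 else cST_348)) else (bif Nat.ble 346 c then (bif Nat.ble 347 c then cST_347 else cST_346) else (bif Nat.ble 345 c then cST_345 else cST_344))) else (bif Nat.ble 340 c then (bif Nat.ble 342 c then (bif Nat.ble 343 c then cST_343 else cST_342) else (bif Nat.ble 341 c then cST_341 else cST_340)) else (bif Nat.ble 338 c then (bif Nat.ble 339 c then cST_339 else cST_338) else (bif Nat.ble 337 c then cST_337 else cST_336))))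
def sST_0_22 (c : Nat) : Nat := (bif Nat.ble 360 c then (bif Nat.ble 364 c then (bif Nat.ble 366 c then (bif Nat.ble 367 c then cST_367 else cST_366) else (bif Nat.ble 365 c then cST_365 else cST_364)) else (bif Nat.ble 362 c then (bif Nat.ble 363 c then cST_363 else cST_362) else (bif Nat.ble 361 c then cST_361 else cST_360))) else (bif Nat.ble 356 c then (bif Nat.ble 358 c then (bif Nat.ble 359 c then cST_359 else cST_358) else (bif Nat.ble 357 c then cST_357 else cST_356)) else (bif Nat.ble 354 c then (bif Nat.ble 355 c then cST_355 else cST_354) else (bif Nat.ble 353 c then cST_353 else cST_352))))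
def sST_0_23 (c : Nat) : Nat := (bif Nat.ble 376 c then (bif Nat.ble 380 c then (bif Nat.ble 382 c then (bif Nat.ble 383 c then cST_383 else cST_382) else (bif Nat.ble 381 c then cST_381 else cST_380)) else (bif Nat.ble 378 c then (bif Nat.ble 379 c then cST_379 else cST_378) else (bif Nat.ble 377 c then cST_377 else cST_376))) else (bif Nat.ble 372 c then (bif Nat.ble 374 c then (bif Nat.ble 375 c then cST_375 else cST_374) else (bif Nat.ble 373 c then cST_373 else cST_372)) else (bif Nat.ble 370 c then (bif Nat.ble 371 c then cST_371 else cST_370) else (bif Nat.ble 369 c then cST_369 else cST_368))))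
def sST_0_24 (c : Nat) : Nat := (bif Nat.ble 392 c then (bif Nat.ble 396 c then (bif Nat.ble 398 c then (bif Nat.ble 399 c then cST_399 else cST_398) else (bif Nat.ble 397 c then cST_397 else cST_396)) else (bif Nat.ble 394 c then (bif Nat.ble 395 c then cST_395 else cST_394) else (bif Nat.ble 393 c then cST_393 else cST_392))) else (bif Nat.ble 388 c then (bif Nat.ble 390 c then (bif Nat.ble 391 c then cST_391 else cST_390) else (bif Nat.ble 389 c then cST_389 else cST_388)) else (bif Nat.ble 386 c then (bif Nat.ble 387 c then cST_387 else cST_386) else (bif Nat.ble 385 c then cST_385 else cST_384))))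
def sST_0_25 (c : Nat) : Nat := (bif Nat.ble 408 c then (bif Nat.ble 412 c then (bif Nat.ble 414 c then (bif Nat.ble 415 c then cST_415 else cST_414) else (bif Nat.ble 413 c then cST_413 else cST_412)) else (bif Nat.ble 410 c then (bif Nat.ble 411 c then cST_411 else cST_410) else (bif Nat.ble 409 c then cST_409 else cST_408))) else (bif Nat.ble 404 c then (bif Nat.ble 406 c then (bif Nat.ble 407 c then cST_407 else cST_406) else (bif Nat.ble 405 c then cST_405 else cST_404)) else (bif Nat.ble 402 c then (bif Nat.ble 403 c then cST_403 else cST_402) else (bif Nat.ble 401 c then cST_401 else cST_400))))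
def sST_0_26 (c : Nat) : Nat := (bif Nat.ble 424 c then (bif Nat.ble 428 c then (bif Nat.ble 430 c then (bif Nat.ble 431 c then cST_431 else cST_430) else (bif Nat.ble 429 c then cST_429 else cST_428)) else (bif Nat.ble 426 c then (bif Nat.ble 427 c then cST_427 else cST_426) else (bif Nat.ble 425 c then cST_425 else cST_424))) else (bif Nat.ble 420 c then (bif Nat.ble 422 c then (bif Nat.ble 423 c then cST_423 else cST_422) else (bif Nat.ble 421 c then cST_421 else cST_420)) else (bif Nat.ble 418 c then (bif Nat.ble 419 c then cST_419 else cST_418) else (bif Nat.ble 417 c then cST_417 else cST_416))))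
def sST_0_27 (c : Nat) : Nat := (bif Nat.ble 440 c then (bif Nat.ble 444 c then (bif Nat.ble 446 c then (bif Nat.ble 447 c then cST_447 else cST_446) else (bif Nat.ble 445 c then cST_445 else cST_444)) else (bif Nat.ble 442 c then (bif Nat.ble 443 c then cST_443 else cST_442) else (bif Nat.ble 441 c then cST_441 else cST_440))) else (bif Nat.ble 436 c then (bif Nat.ble 438 c then (bif Nat.ble 439 c then cST_439 else cST_438) else (bif Nat.ble 437 c then cST_437 else cST_436)) else (bif Nat.ble 434 c then (bif Nat.ble 435 c then cST_435 else cST_434) else (bif Nat.ble 433 c then cST_433 else cST_432))))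
def sST_0_28 (c : Nat) : Nat := (bif Nat.ble 456 c then (bif Nat.ble 460 c then (bif Nat.ble 462 c then (bif Nat.ble 463 c then cST_463 else cST_462) else (bif Nat.ble 461 c then cST_461 else cST_460)) else (bif Nat.ble 458 c then (bif Nat.ble 459 c then cST_459 else cST_458) else (bif Nat.ble 457 c then cST_457 else cST_456))) else (bif Nat.ble 452 c then (bif Nat.ble 454 c then (bif Nat.ble 455 c then cST_455 else cST_454) else (bif Nat.ble 453 c then cST_453 else cST_452)) else (bif Nat.ble 450 c then (bif Nat.ble 451 c then cST_451 else cST_450) else (bif Nat.ble 449 c then cST_449 else cST_448))))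
def sST_0_29 (c : Nat) : Nat := (bif Nat.ble 472 c then (bif Nat.ble 476 c then (bif Nat.ble 478 c then (bif Nat.ble 479 c then cST_479 else cST_478) else (bif Nat.ble 477 c then cST_477 else cST_476)) else (bif Nat.ble 474 c then (bif Nat.ble 475 c then cST_475 else cST_474) else (bif Nat.ble 473 c then cST_473 else cST_472))) else (bif Nat.ble 468 c then (bif Nat.ble 470 c then (bif Nat.ble 471 c then cST_471 else cST_470) else (bif Nat.ble 469 c then cST_469 else cST_468)) else (bif Nat.ble 466 c then (bif Nat.ble 467 c then cST_467 else cST_466) else (bif Nat.ble 465 c then cST_465 else cST_464))))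
def sST_0_30 (c : Nat) : Nat := (bif Nat.ble 488 c then (bif Nat.ble 492 c then (bif Nat.ble 494 c then (bif Nat.ble 495 c then cST_495 else cST_494) else (bif Nat.ble 493 c then cST_493 else cST_492)) else (bif Nat.ble 490 c then (bif Nat.ble 491 c then cST_491 else cST_490) else (bif Nat.ble 489 c then cST_489 else cST_488))) else (bif Nat.ble 484 c then (bif Nat.ble 486 c then (bif Nat.ble 487 c then cST_487 else cST_486) else (bif Nat.ble 485 c then cST_485 else cST_484)) else (bif Nat.ble 482 c then (bif Nat.ble 483 c then cST_483 else cST_482) else (bif Nat.ble 481 c then cST_481 else cST_480))))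
def sST_0_31 (c : Nat) : Nat := (bif Nat.ble 499 c then (bif Nat.ble 500 c then cST_500 else cST_499) else (bif Nat.ble 498 c then cST_498 else (bif Nat.ble 497 c then cST_497 else cST_496)))
def sST_1_0 (c : Nat) : Nat := (bif Nat.ble 128 c then (bif Nat.ble 192 c then (bif Nat.ble 224 c then (bif Nat.ble 240 c then sST_0_15 c else sST_0_14 c) else (bif Nat.ble 208 c then sST_0_13 c else sST_0_12 c)) else (bif Nat.ble 160 c then (bif Nat.ble 176 c then sST_0_11 c else sST_0_10 c) else (bif Nat.ble 144 c then sST_0_9 c else sST_0_8 c))) else (bif Nat.ble 64 c then (bif Nat.ble 96 c then (bif Nat.ble 112 c then sST_0_7 c else sST_0_6 c) else (bif Nat.ble 80 c then sST_0_5 c else sST_0_4 c)) else (bif Nat.ble 32 c then (bif Nat.ble 48 c then sST_0_3 c else sST_0_2 c) else (bif Nat.ble 16 c then sST_0_1 c else sST_0_0 c))))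
def sST_1_1 (c : Nat) : Nat := (bif Nat.ble 384 c then (bif Nat.ble 448 c then (bif Nat.ble 480 c then (bif Nat.ble 496 c then sST_0_31 c else sST_0_30 c) else (bif Nat.ble 464 c then sST_0_29 c else sST_0_28 c)) else (bif Nat.ble 416 c then (bif Nat.ble 432 c then sST_0_27 c else sST_0_26 c) else (bif Nat.ble 400 c then sST_0_25 c else sST_0_24 c))) else (bif Nat.ble 320 c then (bif Nat.ble 352 c then (bif Nat.ble 368 c then sST_0_23 c else sST_0_22 c) else (bif Nat.ble 336 c then sST_0_21 c else sST_0_20 c)) else (bif Nat.ble 288 c then (bif Nat.ble 304 c then sST_0_19 c else sST_0_18 c) else (bif Nat.ble 272 c then sST_0_17 c else sST_0_16 c))))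
def sST (c : Nat) : Nat := (bif Nat.ble 256 c then sST_1_1 c else sST_1_0 c)
def gST (i : Nat) : Nat := Nat.land (Nat.shiftRight (sST (Nat.shiftRight i 9)) (Nat.mul 18 (Nat.land i 511))) 262143
def sND_0_0 (c : Nat) : Nat := (bif Nat.ble 8 c then (bif Nat.ble 12 c then (bif Nat.ble 14 c then (bif Nat.ble 15 c then cND_15 else cND_14) else (bif Nat.ble 13 c then cND_13 else cND_12)) else (bif Nat.ble 10 c then (bif Nat.ble 11 c then cND_11 else cND_10) else (bif Nat.ble 9 c then cND_9 else cND_8))) else (bif Nat.ble 4 c then (bif Nat.ble 6 c then (bif Nat.ble 7 c then cND_7 else cND_6) else (bif Nat.ble 5 c then cND_5 else cND_4)) else (bif Nat.ble 2 c then (bif Nat.ble 3 c then cND_3 else cND_2) else (bif Nat.ble 1 c then cND_1 else cND_0))))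
def sND_0_1 (c : Nat) : Nat := (bif Nat.ble 24 c then (bif Nat.ble 28 c then (bif Nat.ble 30 c then (bif Nat.ble 31 c then cND_31 else cND_30) else (bif Nat.ble 29 c then cND_29 else cND_28)) else (bif Nat.ble 26 c then (bif Nat.ble 27 c then cND_27 else cND_26) else (bif Nat.ble 25 c then cND_25 else cND_24))) else (bif Nat.ble 20 c then (bif Nat.ble 22 c then (bif Nat.ble 23 c then cND_23 else cND_22) else (bif Nat.ble 21 c then cND_21 else cND_20)) else (bif Nat.ble 18 c then (bif Nat.ble 19 c then cND_19 else cND_18) else (bif Nat.ble 17 c then cND_17 else cND_16))))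
def sND_0_2 (c : Nat) : Nat := (bif Nat.ble 40 c then (bif Nat.ble 44 c then (bif Nat.ble 46 c then (bif Nat.ble 47 c then cND_47 else cND_46) else (bif Nat.ble 45 c then cND_45 else cND_44)) else (bif Nat.ble 42 c then (bif Nat.ble 43 c then cND_43 else cND_42) else (bif Nat.ble 41 c then cND_41 else cND_40))) else (bif Nat.ble 36 c then (bif Nat.ble 38 c then (bif Nat.ble 39 c then cND_39 else cND_38) else (bif Nat.ble 37 c then cND_37 else cND_36)) else (bif Nat.ble 34 c then (bif Nat.ble 35 c then cND_35 else cND_34) else (bif Nat.ble 33 c then cND_33 else cND_32))))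
def sND_0_3 (c : Nat) : Nat := (bif Nat.ble 52 c then (bif Nat.ble 54 c then cND_54 else (bif Nat.ble 53 c then cND_53 else cND_52)) else (bif Nat.ble 50 c then (bif Nat.ble 51 c then cND_51 else cND_50) else (bif Nat.ble 49 c then cND_49 else cND_48)))
def sND (c : Nat) : Nat := (bif Nat.ble 32 c then (bif Nat.ble 48 c then sND_0_3 c else sND_0_2 c) else (bif Nat.ble 16 c then sND_0_1 c else sND_0_0 c))
def gND (i : Nat) : Nat := Nat.land (Nat.shiftRight (sND (Nat.shiftRight i 9)) (Nat.mul 19 (Nat.land i 511))) 524287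
def sFIN_0_0 (c : Nat) : Nat := (bif Nat.ble 8 c then (bif Nat.ble 12 c then (bif Nat.ble 14 c then (bif Nat.ble 15 c then cFIN_15 else cFIN_14) else (bif Nat.ble 13 c then cFIN_13 else cFIN_12)) else (bif Nat.ble 10 c then (bif Nat.ble 11 c then cFIN_11 else cFIN_10) else (bif Nat.ble 9 c then cFIN_9 else cFIN_8))) else (bif Nat.ble 4 c then (bif Nat.ble 6 c then (bif Nat.ble 7 c then cFIN_7 else cFIN_6) else (bif Nat.ble 5 c then cFIN_5 else cFIN_4)) else (bif Nat.ble 2 c then (bif Nat.ble 3 c then cFIN_3 else cFIN_2) else (bif Nat.ble 1 c then cFIN_1 else cFIN_0))))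
def sFIN_0_1 (c : Nat) : Nat := (bif Nat.ble 24 c then (bif Nat.ble 28 c then (bif Nat.ble 30 c then (bif Nat.ble 31 c then cFIN_31 else cFIN_30) else (bif Nat.ble 29 c then cFIN_29 else cFIN_28)) else (bif Nat.ble 26 c then (bif Nat.ble 27 c then cFIN_27 else cFIN_26) else (bif Nat.ble 25 c then cFIN_25 else cFIN_24))) else (bif Nat.ble 20 c then (bif Nat.ble 22 c then (bif Nat.ble 23 c then cFIN_23 else cFIN_22) else (bif Nat.ble 21 c then cFIN_21 else cFIN_20)) else (bif Nat.ble 18 c then (bif Nat.ble 19 c then cFIN_19 else cFIN_18) else (bif Nat.ble 17 c then cFIN_17 else cFIN_16))))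
def sFIN_0_2 (c : Nat) : Nat := (bif Nat.ble 40 c then (bif Nat.ble 44 c then (bif Nat.ble 46 c then (bif Nat.ble 47 c then cFIN_47 else cFIN_46) else (bif Nat.ble 45 c then cFIN_45 else cFIN_44)) else (bif Nat.ble 42 c then (bif Nat.ble 43 c then cFIN_43 else cFIN_42) else (bif Nat.ble 41 c then cFIN_41 else cFIN_40))) else (bif Nat.ble 36 c then (bif Nat.ble 38 c then (bif Nat.ble 39 c then cFIN_39 else cFIN_38) else (bif Nat.ble 37 c then cFIN_37 else cFIN_36)) else (bif Nat.ble 34 c then (bif Nat.ble 35 c then cFIN_35 else cFIN_34) else (bif Nat.ble 33 c then cFIN_33 else cFIN_32))))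
def sFIN_0_3 (c : Nat) : Nat := (bif Nat.ble 56 c then (bif Nat.ble 60 c then (bif Nat.ble 62 c then (bif Nat.ble 63 c then cFIN_63 else cFIN_62) else (bif Nat.ble 61 c then cFIN_61 else cFIN_60)) else (bif Nat.ble 58 c then (bif Nat.ble 59 c then cFIN_59 else cFIN_58) else (bif Nat.ble 57 c then cFIN_57 else cFIN_56))) else (bif Nat.ble 52 c then (bif Nat.ble 54 c then (bif Nat.ble 55 c then cFIN_55 else cFIN_54) else (bif Nat.ble 53 c then cFIN_53 else cFIN_52)) else (bif Nat.ble 50 c then (bif Nat.ble 51 c then cFIN_51 else cFIN_50) else (bif Nat.ble 49 c then cFIN_49 else cFIN_48))))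
def sFIN_0_4 (c : Nat) : Nat := (bif Nat.ble 72 c then (bif Nat.ble 76 c then (bif Nat.ble 78 c then (bif Nat.ble 79 c then cFIN_79 else cFIN_78) else (bif Nat.ble 77 c then cFIN_77 else cFIN_76)) else (bif Nat.ble 74 c then (bif Nat.ble 75 c then cFIN_75 else cFIN_74) else (bif Nat.ble 73 c then cFIN_73 else cFIN_72))) else (bif Nat.ble 68 c then (bif Nat.ble 70 c then (bif Nat.ble 71 c then cFIN_71 else cFIN_70) else (bif Nat.ble 69 c then cFIN_69 else cFIN_68)) else (bif Nat.ble 66 c then (bif Nat.ble 67 c then cFIN_67 else cFIN_66) else (bif Nat.ble 65 c then cFIN_65 else cFIN_64))))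
def sFIN_0_5 (c : Nat) : Nat := (bif Nat.ble 88 c then (bif Nat.ble 92 c then (bif Nat.ble 94 c then (bif Nat.ble 95 c then cFIN_95 else cFIN_94) else (bif Nat.ble 93 c then cFIN_93 else cFIN_92)) else (bif Nat.ble 90 c then (bif Nat.ble 91 c then cFIN_91 else cFIN_90) else (bif Nat.ble 89 c then cFIN_89 else cFIN_88))) else (bif Nat.ble 84 c then (bif Nat.ble 86 c then (bif Nat.ble 87 c then cFIN_87 else cFIN_86) else (bif Nat.ble 85 c then cFIN_85 else cFIN_84)) else (bif Nat.ble 82 c then (bif Nat.ble 83 c then cFIN_83 else cFIN_82) else (bif Nat.ble 81 c then cFIN_81 else cFIN_80))))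
def sFIN_0_6 (c : Nat) : Nat := (bif Nat.ble 104 c then (bif Nat.ble 108 c then (bif Nat.ble 110 c then (bif Nat.ble 111 c then cFIN_111 else cFIN_110) else (bif Nat.ble 109 c then cFIN_109 else cFIN_108)) else (bif Nat.ble 106 c then (bif Nat.ble 107 c then cFIN_107 else cFIN_106) else (bif Nat.ble 105 c then cFIN_105 else cFIN_104))) else (bif Nat.ble 100 c then (bif Nat.ble 102 c then (bif Nat.ble 103 c then cFIN_103 else cFIN_102) else (bif Nat.ble 101 c then cFIN_101 else cFIN_100)) else (bif Nat.ble 98 c then (bif Nat.ble 99 c then cFIN_99 else cFIN_98) else (bif Nat.ble 97 c then cFIN_97 else cFIN_96))))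
def sFIN_0_7 (c : Nat) : Nat := (bif Nat.ble 120 c then (bif Nat.ble 124 c then (bif Nat.ble 126 c then (bif Nat.ble 127 c then cFIN_127 else cFIN_126) else (bif Nat.ble 125 c then cFIN_125 else cFIN_124)) else (bif Nat.ble 122 c then (bif Nat.ble 123 c then cFIN_123 else cFIN_122) else (bif Nat.ble 121 c then cFIN_121 else cFIN_120))) else (bif Nat.ble 116 c then (bif Nat.ble 118 c then (bif Nat.ble 119 c then cFIN_119 else cFIN_118) else (bif Nat.ble 117 c then cFIN_117 else cFIN_116)) else (bif Nat.ble 114 c then (bif Nat.ble 115 c then cFIN_115 else cFIN_114) else (bif Nat.ble 113 c then cFIN_113 else cFIN_112))))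
def sFIN_0_8 (c : Nat) : Nat := (bif Nat.ble 136 c then (bif Nat.ble 140 c then (bif Nat.ble 142 c then (bif Nat.ble 143 c then cFIN_143 else cFIN_142) else (bif Nat.ble 141 c then cFIN_141 else cFIN_140)) else (bif Nat.ble 138 c then (bif Nat.ble 139 c then cFIN_139 else cFIN_138) else (bif Nat.ble 137 c then cFIN_137 else cFIN_136))) else (bif Nat.ble 132 c then (bif Nat.ble 134 c then (bif Nat.ble 135 c then cFIN_135 else cFIN_134) else (bif Nat.ble 133 c then cFIN_133 else cFIN_132)) else (bif Nat.ble 130 c then (bif Nat.ble 131 c then cFIN_131 else cFIN_130) else (bif Nat.ble 129 c then cFIN_129 else cFIN_128))))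
def sFIN_0_9 (c : Nat) : Nat := (bif Nat.ble 152 c then (bif Nat.ble 156 c then (bif Nat.ble 158 c then (bif Nat.ble 159 c then cFIN_159 else cFIN_158) else (bif Nat.ble 157 c then cFIN_157 else cFIN_156)) else (bif Nat.ble 154 c then (bif Nat.ble 155 c then cFIN_155 else cFIN_154) else (bif Nat.ble 153 c then cFIN_153 else cFIN_152))) else (bif Nat.ble 148 c then (bif Nat.ble 150 c then (bif Nat.ble 151 c then cFIN_151 else cFIN_150) else (bif Nat.ble 149 c then cFIN_149 else cFIN_148)) else (bif Nat.ble 146 c then (bif Nat.ble 147 c then cFIN_147 else cFIN_146) else (bif Nat.ble 145 c then cFIN_145 else cFIN_144))))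
def sFIN_0_10 (c : Nat) : Nat := (bif Nat.ble 168 c then (bif Nat.ble 172 c then (bif Nat.ble 174 c then (bif Nat.ble 175 c then cFIN_175 else cFIN_174) else (bif Nat.ble 173 c then cFIN_173 else cFIN_172)) else (bif Nat.ble 170 c then (bif Nat.ble 171 c then cFIN_171 else cFIN_170) else (bif Nat.ble 169 c then cFIN_169 else cFIN_168))) else (bif Nat.ble 164 c then (bif Nat.ble 166 c then (bif Nat.ble 167 c then cFIN_167 else cFIN_166) else (bif Nat.ble 165 c then cFIN_165 else cFIN_164)) else (bif Nat.ble 162 c then (bif Nat.ble 163 c then cFIN_163 else cFIN_162) else (bif Nat.ble 161 c then cFIN_161 else cFIN_160))))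
def sFIN_0_11 (c : Nat) : Nat := (bif Nat.ble 184 c then (bif Nat.ble 188 c then (bif Nat.ble 190 c then (bif Nat.ble 191 c then cFIN_191 else cFIN_190) else (bif Nat.ble 189 c then cFIN_189 else cFIN_188)) else (bif Nat.ble 186 c then (bif Nat.ble 187 c then cFIN_187 else cFIN_186) else (bif Nat.ble 185 c then cFIN_185 else cFIN_184))) else (bif Nat.ble 180 c then (bif Nat.ble 182 c then (bif Nat.ble 183 c then cFIN_183 else cFIN_182) else (bif Nat.ble 181 c then cFIN_181 else cFIN_180)) else (bif Nat.ble 178 c then (bif Nat.ble 179 c then cFIN_179 else cFIN_178) else (bif Nat.ble 177 c then cFIN_177 else cFIN_176))))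
def sFIN_0_12 (c : Nat) : Nat := (bif Nat.ble 200 c then (bif Nat.ble 204 c then (bif Nat.ble 206 c then (bif Nat.ble 207 c then cFIN_207 else cFIN_206) else (bif Nat.ble 205 c then cFIN_205 else cFIN_204)) else (bif Nat.ble 202 c then (bif Nat.ble 203 c then cFIN_203 else cFIN_202) else (bif Nat.ble 201 c then cFIN_201 else cFIN_200))) else (bif Nat.ble 196 c then (bif Nat.ble 198 c then (bif Nat.ble 199 c then cFIN_199 else cFIN_198) else (bif Nat.ble 197 c then cFIN_197 else cFIN_196)) else (bif Nat.ble 194 c then (bif Nat.ble 195 c then cFIN_195 else cFIN_194) else (bif Nat.ble 193 c then cFIN_193 else cFIN_192))))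
def sFIN_0_13 (c : Nat) : Nat := (bif Nat.ble 216 c then (bif Nat.ble 220 c then (bif Nat.ble 222 c then (bif Nat.ble 223 c then cFIN_223 else cFIN_222) else (bif Nat.ble 221 c then cFIN_221 else cFIN_220)) else (bif Nat.ble 218 c then (bif Nat.ble 219 c then cFIN_219 else cFIN_218) else (bif Nat.ble 217 c then cFIN_217 else cFIN_216))) else (bif Nat.ble 212 c then (bif Nat.ble 214 c then (bif Nat.ble 215 c then cFIN_215 else cFIN_214) else (bif Nat.ble 213 c then cFIN_213 else cFIN_212)) else (bif Nat.ble 210 c then (bif Nat.ble 211 c then cFIN_211 else cFIN_210) else (bif Nat.ble 209 c then cFIN_209 else cFIN_208))))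
def sFIN_0_14 (c : Nat) : Nat := (bif Nat.ble 232 c then (bif Nat.ble 236 c then (bif Nat.ble 238 c then (bif Nat.ble 239 c then cFIN_239 else cFIN_238) else (bif Nat.ble 237 c then cFIN_237 else cFIN_236)) else (bif Nat.ble 234 c then (bif Nat.ble 235 c then cFIN_235 else cFIN_234) else (bif Nat.ble 233 c then cFIN_233 else cFIN_232))) else (bif Nat.ble 228 c then (bif Nat.ble 230 c then (bif Nat.ble 231 c then cFIN_231 else cFIN_230) else (bif Nat.ble 229 c then cFIN_229 else cFIN_228)) else (bif Nat.ble 226 c then (bif Nat.ble 227 c then cFIN_227 else cFIN_226) else (bif Nat.ble 225 c then cFIN_225 else cFIN_224))))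
def sFIN_0_15 (c : Nat) : Nat := (bif Nat.ble 248 c then (bif Nat.ble 252 c then (bif Nat.ble 254 c then (bif Nat.ble 255 c then cFIN_255 else cFIN_254) else (bif Nat.ble 253 c then cFIN_253 else cFIN_252)) else (bif Nat.ble 250 c then (bif Nat.ble 251 c then cFIN_251 else cFIN_250) else (bif Nat.ble 249 c then cFIN_249 else cFIN_248))) else (bif Nat.ble 244 c then (bif Nat.ble 246 c then (bif Nat.ble 247 c then cFIN_247 else cFIN_246) else (bif Nat.ble 245 c then cFIN_245 else cFIN_244)) else (bif Nat.ble 242 c then (bif Nat.ble 243 c then cFIN_243 else cFIN_242) else (bif Nat.ble 241 c then cFIN_241 else cFIN_240))))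
def sFIN_0_16 (c : Nat) : Nat := (bif Nat.ble 264 c then (bif Nat.ble 268 c then (bif Nat.ble 270 c then (bif Nat.ble 271 c then cFIN_271 else cFIN_270) else (bif Nat.ble 269 c then cFIN_269 else cFIN_268)) else (bif Nat.ble 266 c then (bif Nat.ble 267 c then cFIN_267 else cFIN_266) else (bif Nat.ble 265 c then cFIN_265 else cFIN_264))) else (bif Nat.ble 260 c then (bif Nat.ble 262 c then (bif Nat.ble 263 c then cFIN_263 else cFIN_262) else (bif Nat.ble 261 c then cFIN_261 else cFIN_260)) else (bif Nat.ble 258 c then (bif Nat.ble 259 c then cFIN_259 else cFIN_258) else (bif Nat.ble 257 c then cFIN_257 else cFIN_256))))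
def sFIN_0_17 (c : Nat) : Nat := (bif Nat.ble 280 c then (bif Nat.ble 284 c then (bif Nat.ble 286 c then (bif Nat.ble 287 c then cFIN_287 else cFIN_286) else (bif Nat.ble 285 c then cFIN_285 else cFIN_284)) else (bif Nat.ble 282 c then (bif Nat.ble 283 c then cFIN_283 else cFIN_282) else (bif Nat.ble 281 c then cFIN_281 else cFIN_280))) else (bif Nat.ble 276 c then (bif Nat.ble 278 c then (bif Nat.ble 279 c then cFIN_279 else cFIN_278) else (bif Nat.ble 277 c then cFIN_277 else cFIN_276)) else (bif Nat.ble 274 c then (bif Nat.ble 275 c then cFIN_275 else cFIN_274) else (bif Nat.ble 273 c then cFIN_273 else cFIN_272))))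
def sFIN_0_18 (c : Nat) : Nat := (bif Nat.ble 296 c then (bif Nat.ble 300 c then (bif Nat.ble 302 c then (bif Nat.ble 303 c then cFIN_303 else cFIN_302) else (bif Nat.ble 301 c then cFIN_301 else cFIN_300)) else (bif Nat.ble 298 c then (bif Nat.ble 299 c then cFIN_299 else cFIN_298) else (bif Nat.ble 297 c then cFIN_297 else cFIN_296))) else (bif Nat.ble 292 c then (bif Nat.ble 294 c then (bif Nat.ble 295 c then cFIN_295 else cFIN_294) else (bif Nat.ble 293 c then cFIN_293 else cFIN_292)) else (bif Nat.ble 290 c then (bif Nat.ble 291 c then cFIN_291 else cFIN_290) else (bif Nat.ble 289 c then cFIN_289 else cFIN_288))))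
def sFIN_0_19 (c : Nat) : Nat := (bif Nat.ble 312 c then (bif Nat.ble 316 c then (bif Nat.ble 318 c then (bif Nat.ble 319 c then cFIN_319 else cFIN_318) else (bif Nat.ble 317 c then cFIN_317 else cFIN_316)) else (bif Nat.ble 314 c then (bif Nat.ble 315 c then cFIN_315 else cFIN_314) else (bif Nat.ble 313 c then cFIN_313 else cFIN_312))) else (bif Nat.ble 308 c then (bif Nat.ble 310 c then (bif Nat.ble 311 c then cFIN_311 else cFIN_310) else (bif Nat.ble 309 c then cFIN_309 else cFIN_308)) else (bif Nat.ble 306 c then (bif Nat.ble 307 c then cFIN_307 else cFIN_306) else (bif Nat.ble 305 c then cFIN_305 else cFIN_304))))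
def sFIN_0_20 (c : Nat) : Nat := (bif Nat.ble 328 c then (bif Nat.ble 332 c then (bif Nat.ble 334 c then (bif Nat.ble 335 c then cFIN_335 else cFIN_334) else (bif Nat.ble 333 c then cFIN_333 else cFIN_332)) else (bif Nat.ble 330 c then (bif Nat.ble 331 c then cFIN_331 else cFIN_330) else (bif Nat.ble 329 c then cFIN_329 else cFIN_328))) else (bif Nat.ble 324 c then (bif Nat.ble 326 c then (bif Nat.ble 327 c then cFIN_327 else cFIN_326) else (bif Nat.ble 325 c then cFIN_325 else cFIN_324)) else (bif Nat.ble 322 c then (bif Nat.ble 323 c then cFIN_323 else cFIN_322) else (bif Nat.ble 321 c then cFIN_321 else cFIN_320))))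
def sFIN_0_21 (c : Nat) : Nat := (bif Nat.ble 344 c then (bif Nat.ble 348 c then (bif Nat.ble 350 c then (bif Nat.ble 351 c then cFIN_351 else cFIN_350) else (bif Nat.ble 349 c then cFIN_349 else cFIN_348)) else (bif Nat.ble 346 c then (bif Nat.ble 347 c then cFIN_347 else cFIN_346) else (bif Nat.ble 345 c then cFIN_345 else cFIN_344))) else (bif Nat.ble 340 c then (bif Nat.ble 342 c then (bif Nat.ble 343 c then cFIN_343 else cFIN_342) else (bif Nat.ble 341 c then cFIN_341 else cFIN_340)) else (bif Nat.ble 338 c then (bif Nat.ble 339 c then cFIN_339 else cFIN_338) else (bif Nat.ble 337 c then cFIN_337 else cFIN_336))))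
def sFIN_0_22 (c : Nat) : Nat := (bif Nat.ble 355 c then (bif Nat.ble 357 c then cFIN_357 else (bif Nat.ble 356 c then cFIN_356 else cFIN_355)) else (bif Nat.ble 354 c then cFIN_354 else (bif Nat.ble 353 c then cFIN_353 else cFIN_352)))
def sFIN_1_0 (c : Nat) : Nat := (bif Nat.ble 128 c then (bif Nat.ble 192 c then (bif Nat.ble 224 c then (bif Nat.ble 240 c then sFIN_0_15 c else sFIN_0_14 c) else (bif Nat.ble 208 c then sFIN_0_13 c else sFIN_0_12 c)) else (bif Nat.ble 160 c then (bif Nat.ble 176 c then sFIN_0_11 c else sFIN_0_10 c) else (bif Nat.ble 144 c then sFIN_0_9 c else sFIN_0_8 c))) else (bif Nat.ble 64 c then (bif Nat.ble 96 c then (bif Nat.ble 112 c then sFIN_0_7 c else sFIN_0_6 c) else (bif Nat.ble 80 c then sFIN_0_5 c else sFIN_0_4 c)) else (bif Nat.ble 32 c then (bif Nat.ble 48 c then sFIN_0_3 c else sFIN_0_2 c) else (bif Nat.ble 16 c then sFIN_0_1 c else sFIN_0_0 c))))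
def sFIN_1_1 (c : Nat) : Nat := (bif Nat.ble 320 c then (bif Nat.ble 352 c then sFIN_0_22 c else (bif Nat.ble 336 c then sFIN_0_21 c else sFIN_0_20 c)) else (bif Nat.ble 288 c then (bif Nat.ble 304 c then sFIN_0_19 c else sFIN_0_18 c) else (bif Nat.ble 272 c then sFIN_0_17 c else sFIN_0_16 c)))
def sFIN (c : Nat) : Nat := (bif Nat.ble 256 c then sFIN_1_1 c else sFIN_1_0 c)
def gFIN (i : Nat) : Nat := Nat.land (Nat.shiftRight (sFIN (Nat.shiftRight i 9)) (Nat.mul 18 (Nat.land i 511))) 262143
def sCAN_0_0 (c : Nat) : Nat := (bif Nat.ble 8 c then (bif Nat.ble 12 c then (bif Nat.ble 14 c then (bif Nat.ble 15 c then cCAN_15 else cCAN_14) else (bif Nat.ble 13 c then cCAN_13 else cCAN_12)) else (bif Nat.ble 10 c then (bif Nat.ble 11 c then cCAN_11 else cCAN_10) else (bif Nat.ble 9 c then cCAN_9 else cCAN_8))) else (bif Nat.ble 4 c then (bif Nat.ble 6 c then (bif Nat.ble 7 c then cCAN_7 else cCAN_6) else (bif Nat.ble 5 c then cCAN_5 else cCAN_4)) else (bif Nat.ble 2 c then (bif Nat.ble 3 c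 then cCAN_3 else cCAN_2) else (bif Nat.ble 1 c then cCAN_1 else cCAN_0))))
def sCAN_0_1 (c : Nat) : Nat := (bif Nat.ble 20 c then (bif Nat.ble 22 c then cCAN_22 else (bif Nat.ble 21 c then cCAN_21 else cCAN_20)) else (bif Nat.ble 18 c then (bif Nat.ble 19 c then cCAN_19 else cCAN_18) else (bif Nat.ble 17 c then cCAN_17 else cCAN_16)))
def sCAN (c : Nat) : Nat := (bif Nat.ble 16 c then sCAN_0_1 c else sCAN_0_0 c)
def gCAN (i : Nat) : Nat := Nat.land (Nat.shiftRight (sCAN (Nat.shiftRight i 10)) (Nat.mul 15 (Nat.land i 1023))) 32767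
def sBPG_0_0 (c : Nat) : Nat := (bif Nat.ble 8 c then (bif Nat.ble 12 c then (bif Nat.ble 14 c then (bif Nat.ble 15 c then cBPG_15 else cBPG_14) else (bif Nat.ble 13 c then cBPG_13 else cBPG_12)) else (bif Nat.ble 10 c then (bif Nat.ble 11 c then cBPG_11 else cBPG_10) else (bif Nat.ble 9 c then cBPG_9 else cBPG_8))) else (bif Nat.ble 4 c then (bif Nat.ble 6 c then (bif Nat.ble 7 c then cBPG_7 else cBPG_6) else (bif Nat.ble 5 c then cBPG_5 else cBPG_4)) else (bif Nat.ble 2 c then (bif Nat.ble 3 c then cBPG_3 else cBPG_2) else (bif Nat.ble 1 c then cBPG_1 else cBPG_0))))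
def sBPG_0_1 (c : Nat) : Nat := (bif Nat.ble 24 c then (bif Nat.ble 28 c then (bif Nat.ble 30 c then (bif Nat.ble 31 c then cBPG_31 else cBPG_30) else (bif Nat.ble 29 c then cBPG_29 else cBPG_28)) else (bif Nat.ble 26 c then (bif Nat.ble 27 c then cBPG_27 else cBPG_26) else (bif Nat.ble 25 c then cBPG_25 else cBPG_24))) else (bif Nat.ble 20 c then (bif Nat.ble 22 c then (bif Nat.ble 23 c then cBPG_23 else cBPG_22) else (bif Nat.ble 21 c then cBPG_21 else cBPG_20)) else (bif Nat.ble 18 c then (bif Nat.ble 19 c then cBPG_19 else cBPG_18) else (bif Nat.ble 17 c then cBPG_17 else cBPG_16))))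
def sBPG_0_2 (c : Nat) : Nat := (bif Nat.ble 39 c then (bif Nat.ble 42 c then (bif Nat.ble 44 c then cBPG_44 else (bif Nat.ble 43 c then cBPG_43 else cBPG_42)) else (bif Nat.ble 41 c then cBPG_41 else (bif Nat.ble 40 c then cBPG_40 else cBPG_39))) else (bif Nat.ble 36 c then (bif Nat.ble 38 c then cBPG_38 else (bif Nat.ble 37 c then cBPG_37 else cBPG_36)) else (bif Nat.ble 34 c then (bif Nat.ble 35 c then cBPG_35 else cBPG_34) else (bif Nat.ble 33 c then cBPG_33 else cBPG_32))))
def sBPG (c : Nat) : Nat := (bif Nat.ble 32 c then sBPG_0_2 c else (bif Nat.ble 16 c then sBPG_0_1 c else sBPG_0_0 c))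
def gBPG (i : Nat) : Nat := Nat.land (Nat.shiftRight (sBPG (Nat.shiftRight i 9)) (Nat.mul 19 (Nat.land i 511))) 524287
def sORB_0_0 (c : Nat) : Nat := (bif Nat.ble 8 c then (bif Nat.ble 12 c then (bif Nat.ble 14 c then (bif Nat.ble 15 c then cORB_15 else cORB_14) else (bif Nat.ble 13 c then cORB_13 else cORB_12)) else (bif Nat.ble 10 c then (bif Nat.ble 11 c then cORB_11 else cORB_10) else (bif Nat.ble 9 c then cORB_9 else cORB_8))) else (bif Nat.ble 4 c then (bif Nat.ble 6 c then (bif Nat.ble 7 c then cORB_7 else cORB_6) else (bif Nat.ble 5 c then cORB_5 else cORB_4)) else (bif Nat.ble 2 c then (bif Nat.ble 3 c then cORB_3 else cORB_2) else (bif Nat.ble 1 c then cORB_1 else cORB_0))))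
def sORB_0_1 (c : Nat) : Nat := (bif Nat.ble 24 c then (bif Nat.ble 28 c then (bif Nat.ble 30 c then (bif Nat.ble 31 c then cORB_31 else cORB_30) else (bif Nat.ble 29 c then cORB_29 else cORB_28)) else (bif Nat.ble 26 c then (bif Nat.ble 27 c then cORB_27 else cORB_26) else (bif Nat.ble 25 c then cORB_25 else cORB_24))) else (bif Nat.ble 20 c then (bif Nat.ble 22 c then (bif Nat.ble 23 c then cORB_23 else cORB_22) else (bif Nat.ble 21 c then cORB_21 else cORB_20)) else (bif Nat.ble 18 c then (bif Nat.ble 19 c then cORB_19 else cORB_18) else (bif Nat.ble 17 c then cORB_17 else cORB_16))))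
def sORB_0_2 (c : Nat) : Nat := (bif Nat.ble 39 c then (bif Nat.ble 42 c then (bif Nat.ble 44 c then cORB_44 else (bif Nat.ble 43 c then cORB_43 else cORB_42)) else (bif Nat.ble 41 c then cORB_41 else (bif Nat.ble 40 c then cORB_40 else cORB_39))) else (bif Nat.ble 36 c then (bif Nat.ble 38 c then cORB_38 else (bif Nat.ble 37 c then cORB_37 else cORB_36)) else (bif Nat.ble 34 c then (bif Nat.ble 35 c then cORB_35 else cORB_34) else (bif Nat.ble 33 c then cORB_33 else cORB_32))))
def sORB (c : Nat) : Nat := (bif Nat.ble 32 c then sORB_0_2 c else (bif Nat.ble 16 c then sORB_0_1 c else sORB_0_0 c))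
def gORB (i : Nat) : Nat := Nat.land (Nat.shiftRight (sORB (Nat.shiftRight i 9)) (Nat.mul 26 (Nat.land i 511))) 67108863
def sTT0 (c : Nat) : Nat := (bif Nat.ble 6 c then (bif Nat.ble 9 c then (bif Nat.ble 11 c then cTT0_11 else (bif Nat.ble 10 c then cTT0_10 else cTT0_9)) else (bif Nat.ble 8 c then cTT0_8 else (bif Nat.ble 7 c then cTT0_7 else cTT0_6))) else (bif Nat.ble 3 c then (bif Nat.ble 5 c then cTT0_5 else (bif Nat.ble 4 c then cTT0_4 else cTT0_3)) else (bif Nat.ble 2 c then cTT0_2 else (bif Nat.ble 1 c then cTT0_1 else cTT0_0))))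
def T0 (i : Nat) : Nat := Nat.land (Nat.shiftRight (sTT0 (Nat.shiftRight i 11)) (Nat.mul 15 (Nat.land i 2047))) 32767
def sTT1 (c : Nat) : Nat := (bif Nat.ble 6 c then (bif Nat.ble 9 c then (bif Nat.ble 11 c then cTT1_11 else (bif Nat.ble 10 c then cTT1_10 else cTT1_9)) else (bif Nat.ble 8 c then cTT1_8 else (bif Nat.ble 7 c then cTT1_7 else cTT1_6))) else (bif Nat.ble 3 c then (bif Nat.ble 5 c then cTT1_5 else (bif Nat.ble 4 c then cTT1_4 else cTT1_3)) else (bif Nat.ble 2 c then cTT1_2 else (bif Nat.ble 1 c then cTT1_1 else cTT1_0))))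
def T1 (i : Nat) : Nat := Nat.land (Nat.shiftRight (sTT1 (Nat.shiftRight i 11)) (Nat.mul 15 (Nat.land i 2047))) 32767
def sTT2 (c : Nat) : Nat := (bif Nat.ble 6 c then (bif Nat.ble 9 c then (bif Nat.ble 11 c then cTT2_11 else (bif Nat.ble 10 c then cTT2_10 else cTT2_9)) else (bif Nat.ble 8 c then cTT2_8 else (bif Nat.ble 7 c then cTT2_7 else cTT2_6))) else (bif Nat.ble 3 c then (bif Nat.ble 5 c then cTT2_5 else (bif Nat.ble 4 c then cTT2_4 else cTT2_3)) else (bif Nat.ble 2 c then cTT2_2 else (bif Nat.ble 1 c then cTT2_1 else cTT2_0))))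
def T2 (i : Nat) : Nat := Nat.land (Nat.shiftRight (sTT2 (Nat.shiftRight i 11)) (Nat.mul 15 (Nat.land i 2047))) 32767
def sTT3 (c : Nat) : Nat := (bif Nat.ble 6 c then (bif Nat.ble 9 c then (bif Nat.ble 11 c then cTT3_11 else (bif Nat.ble 10 c then cTT3_10 else cTT3_9)) else (bif Nat.ble 8 c then cTT3_8 else (bif Nat.ble 7 c then cTT3_7 else cTT3_6))) else (bif Nat.ble 3 c then (bif Nat.ble 5 c then cTT3_5 else (bif Nat.ble 4 c then cTT3_4 else cTT3_3)) else (bif Nat.ble 2 c then cTT3_2 else (bif Nat.ble 1 c then cTT3_1 else cTT3_0))))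
def T3 (i : Nat) : Nat := Nat.land (Nat.shiftRight (sTT3 (Nat.shiftRight i 11)) (Nat.mul 15 (Nat.land i 2047))) 32767
def sTT4 (c : Nat) : Nat := (bif Nat.ble 6 c then (bif Nat.ble 9 c then (bif Nat.ble 11 c then cTT4_11 else (bif Nat.ble 10 c then cTT4_10 else cTT4_9)) else (bif Nat.ble 8 c then cTT4_8 else (bif Nat.ble 7 c then cTT4_7 else cTT4_6))) else (bif Nat.ble 3 c then (bif Nat.ble 5 c then cTT4_5 else (bif Nat.ble 4 c then cTT4_4 else cTT4_3)) else (bif Nat.ble 2 c then cTT4_2 else (bif Nat.ble 1 c then cTT4_1 else cTT4_0))))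
def T4 (i : Nat) : Nat := Nat.land (Nat.shiftRight (sTT4 (Nat.shiftRight i 11)) (Nat.mul 15 (Nat.land i 2047))) 32767
def sTT5 (c : Nat) : Nat := (bif Nat.ble 6 c then (bif Nat.ble 9 c then (bif Nat.ble 11 c then cTT5_11 else (bif Nat.ble 10 c then cTT5_10 else cTT5_9)) else (bif Nat.ble 8 c then cTT5_8 else (bif Nat.ble 7 c then cTT5_7 else cTT5_6))) else (bif Nat.ble 3 c then (bif Nat.ble 5 c then cTT5_5 else (bif Nat.ble 4 c then cTT5_4 else cTT5_3)) else (bif Nat.ble 2 c then cTT5_2 else (bif Nat.ble 1 c then cTT5_1 else cTT5_0))))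
def T5 (i : Nat) : Nat := Nat.land (Nat.shiftRight (sTT5 (Nat.shiftRight i 11)) (Nat.mul 15 (Nat.land i 2047))) 32767
def sTT6 (c : Nat) : Nat := (bif Nat.ble 6 c then (bif Nat.ble 9 c then (bif Nat.ble 11 c then cTT6_11 else (bif Nat.ble 10 c then cTT6_10 else cTT6_9)) else (bif Nat.ble 8 c then cTT6_8 else (bif Nat.ble 7 c then cTT6_7 else cTT6_6))) else (bif Nat.ble 3 c then (bif Nat.ble 5 c then cTT6_5 else (bif Nat.ble 4 c then cTT6_4 else cTT6_3)) else (bif Nat.ble 2 c then cTT6_2 else (bif Nat.ble 1 c then cTT6_1 else cTT6_0))))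
def T6 (i : Nat) : Nat := Nat.land (Nat.shiftRight (sTT6 (Nat.shiftRight i 11)) (Nat.mul 15 (Nat.land i 2047))) 32767

def nn : Nat := 22880
def kk : Nat := 7
def nF : Nat := 96894
def cycW : List (List Nat) := [[0], [1], [2], [3], [5], [6], [0, 0], [1, 1], [2, 2], [3, 3], [4, 4], [5, 5], [6, 6], [1, 0, 1, 0, 1, 0, 1, 0, 1, 0], [2, 0, 2, 0], [3, 0, 3, 0], [4, 0, 4, 0], [5, 0, 5, 0], [6, 0, 6, 0], [2, 1, 2, 1, 2, 1], [3, 1, 3, 1], [4, 1, 4, 1], [5, 1, 5, 1, 5, 1], [6, 1, 6, 1, 6, 1], [3, 2, 3, 2, 3, 2, 3, 2, 3, 2, 3, 2, 3, 2, 3, 2], [4, 2, 4, 2], [5, 2, 5, 2], [6, 2, 6, 2], [4, 3, 4, 3, 4, 3], [5, 3, 5, 3], [6, 3, 6, 3], [5, 4, 5, 4], [6, 4, 6, 4], [6, 5, 6, 5, 6, 5, 6, 5], [2, 3, 2, 3, 2, 3, 2, 3, 0], [5, 6, 5, 6, 0], [5, 2, 1, 0, 5, 2, 1, 0, 5, 2, 1, 0, 5, 2, 1, 0, 5, 2, 1, 0], [6, 5, 1, 6, 5, 1, 6, 5, 1, 6, 5, 1, 6, 5, 1], [4, 3, 2, 3, 2, 1, 3, 2, 3, 2, 1, 3, 2, 3, 2, 1, 3, 2, 3, 2, 1, 3, 2, 3, 2, 1, 4, 3, 2, 3, 2, 1, 3, 2, 3, 2, 1, 3, 2, 3, 2, 1, 3, 2, 3, 2, 1, 3, 2, 3, 2, 1, 4,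 3, 2, 3, 2, 1, 3, 2, 3, 2, 1, 3, 2, 3, 2, 1, 3, 2, 3, 2, 1, 3, 2, 3, 2, 1]]
def T (x i : Nat) : Nat :=
  match x with
  | 0 => T0 i
  | 1 => T1 i
  | 2 => T2 i
  | 3 => T3 i
  | 4 => T4 i
  | 5 => T5 i
  | 6 => T6 i
  | _ => 0
def fin (x i : Nat) : Nat := gFIN (Nat.add (Nat.shiftLeft i 3) x)
def can (i : Nat) : Nat := gCAN i
def bp (i : Nat) : Nat := fld (gBPG i) 0 32767
def bg (i : Nat) : Nat := fld (gBPG i) 15 15
def ol (i : Nat) : Nat := fld (gORB i) 0 7
def op (i : Nat) : Nat := fld (gORB i) 3 32767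
def ow (i : Nat) : Nat := fld (gORB i) 18 7
def od (i : Nat) : Nat := fld (gORB i) 21 31
def C : Cert where
  cyc := cycW
  ns := 6
  nd := gND
  fp := gFP
  fj := gFJ
  st := gST
  wN := 15
  wR := 6
  wL := 7
  wO := 18


def LL : List (List Nat) := [[1, 5, 2, 2, 2, 2, 2], [5, 1, 3, 2, 2, 3, 3], [2, 3, 1, 8, 2, 2, 2], [2, 2, 8, 1, 3, 2, 2], [2, 2, 2, 3, 1, 2, 2], [2, 3, 2, 2, 2, 1, 4], [2, 3, 2, 2, 2, 4, 1]]
def L (x y : Nat) : Nat := (LL.getD x []).getD y 0
def extraW : List (List Nat) := [[2, 3, 2, 3, 2, 3, 2, 3, 0], [5, 6, 5, 6, 0], [5, 2, 1, 0, 5, 2, 1, 0, 5, 2, 1, 0, 5, 2, 1, 0, 5, 2, 1, 0], [6, 5, 1, 6, 5, 1, 6, 5, 1, 6, 5, 1, 6, 5, 1], [4, 3, 2, 3, 2, 1, 3, 2, 3, 2, 1, 3, 2, 3, 2, 1, 3, 2, 3, 2, 1, 3, 2, 3, 2, 1, 4, 3, 2, 3, 2, 1, 3, 2, 3, 2, 1, 3, 2, 3, 2, 1, 3, 2, 3, 2, 1, 3, 2, 3, 2, 1, 4, 3, 2, 3, 2, 1, 3, 2, 3, 2, 1, 3, 2, 3, 2, 1, 3, 2, 3, 2, 1, 3, 2, 3, 2, 1]]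
def sw : List (List Nat) := [[0], [1], [2], [3], [5], [6]]
def roots : List Nat := [0, 1, 10, 67, 7122]
def relWords : List (List Nat) := [[0, 0], [1, 0, 1, 0, 1, 0, 1, 0, 1, 0], [2, 0, 2, 0], [3, 0, 3, 0], [4, 0, 4, 0], [5, 0, 5, 0], [6, 0, 6, 0], [1, 1], [2, 1, 2, 1, 2, 1], [3, 1, 3, 1], [4, 1, 4, 1], [5, 1, 5, 1, 5, 1], [6, 1, 6, 1, 6, 1], [2, 2], [3, 2, 3, 2, 3, 2, 3, 2, 3, 2, 3, 2, 3, 2, 3, 2], [4, 2, 4, 2], [5, 2, 5, 2], [6, 2, 6, 2], [3, 3], [4, 3, 4, 3, 4, 3], [5, 3, 5, 3], [6, 3, 6, 3], [4, 4], [5, 4, 5, 4], [6, 4, 6, 4], [5, 5], [6, 5, 6, 5, 6, 5, 6, 5], [6, 6], [2, 3, 2, 3, 2, 3, 2, 3, 0], [5, 6, 5, 6, 0], [5, 2, 1, 0, 5, 2, 1, 0, 5, 2, 1, 0, 5, 2, 1, 0, 5, 2, 1, 0], [6, 5, 1, 6, 5, 1, 6, 5, 1, 6, 5, 1, 6, 5, 1], [4, 3, 2, 3, 2, 1, 3, 2, 3, 2, 1, 3, 2, 3, 2, 1, 3, 2, 3, 2, 1, 3, 2, 3, 2, 1, 4, 3, 2, 3, 2, 1, 3, 2, 3, 2, 1, 3, 2, 3, 2, 1, 3, 2, 3, 2, 1, 3, 2, 3, 2, 1, 4, 3, 2, 3, 2, 1, 3, 2, 3, 2, 1, 3, 2, 3, 2, 1, 3, 2, 3, 2, 1, 3, 2, 3, 2, 1]]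
def fr_0 (i : Nat) : Nat := T0 (T0 i)
def fr_1 (i : Nat) : Nat := T0 (T1 (T0 (T1 (T0 (T1 (T0 (T1 (T0 (T1 i)))))))))
def fr_2 (i : Nat) : Nat := T0 (T2 (T0 (T2 i)))
def fr_3 (i : Nat) : Nat := T0 (T3 (T0 (T3 i)))
def fr_4 (i : Nat) : Nat := T0 (T4 (T0 (T4 i)))
def fr_5 (i : Nat) : Nat := T0 (T5 (T0 (T5 i)))
def fr_6 (i : Nat) : Nat := T0 (T6 (T0 (T6 i)))
def fr_7 (i : Nat) : Nat := T1 (T1 i)
def fr_8 (i : Nat) : Nat := T1 (T2 (T1 (T2 (T1 (T2 i)))))
def fr_9 (i : Nat) : Nat := T1 (T3 (T1 (T3 i)))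
def fr_10 (i : Nat) : Nat := T1 (T4 (T1 (T4 i)))
def fr_11 (i : Nat) : Nat := T1 (T5 (T1 (T5 (T1 (T5 i)))))
def fr_12 (i : Nat) : Nat := T1 (T6 (T1 (T6 (T1 (T6 i)))))
def fr_13 (i : Nat) : Nat := T2 (T2 i)
def fr_14 (i : Nat) : Nat := T2 (T3 (T2 (T3 (T2 (T3 (T2 (T3 (T2 (T3 (T2 (T3 (T2 (T3 (T2 (T3 i)))))))))))))))
def fr_15 (i : Nat) : Nat := T2 (T4 (T2 (T4 i)))
def fr_16 (i : Nat) : Nat := T2 (T5 (T2 (T5 i)))
def fr_17 (i : Nat) : Nat := T2 (T6 (T2 (T6 i)))
def fr_18 (i : Nat) : Nat := T3 (T3 i)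
def fr_19 (i : Nat) : Nat := T3 (T4 (T3 (T4 (T3 (T4 i)))))
def fr_20 (i : Nat) : Nat := T3 (T5 (T3 (T5 i)))
def fr_21 (i : Nat) : Nat := T3 (T6 (T3 (T6 i)))
def fr_22 (i : Nat) : Nat := T4 (T4 i)
def fr_23 (i : Nat) : Nat := T4 (T5 (T4 (T5 i)))
def fr_24 (i : Nat) : Nat := T4 (T6 (T4 (T6 i)))
def fr_25 (i : Nat) : Nat := T5 (T5 i)
def fr_26 (i : Nat) : Nat := T5 (T6 (T5 (T6 (T5 (T6 (T5 (T6 i)))))))
def fr_27 (i : Nat) : Nat := T6 (T6 i)
def fr_28 (i : Nat) : Nat := T0 (T3 (T2 (T3 (T2 (T3 (T2 (T3 (T2 i))))))))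
def fr_29 (i : Nat) : Nat := T0 (T6 (T5 (T6 (T5 i))))
def fr_30 (i : Nat) : Nat := T0 (T1 (T2 (T5 (T0 (T1 (T2 (T5 (T0 (T1 (T2 (T5 (T0 (T1 (T2 (T5 (T0 (T1 (T2 (T5 i)))))))))))))))))))
def fr_31 (i : Nat) : Nat := T1 (T5 (T6 (T1 (T5 (T6 (T1 (T5 (T6 (T1 (T5 (T6 (T1 (T5 (T6 i))))))))))))))
def fr_32 (i : Nat) : Nat := T1 (T2 (T3 (T2 (T3 (T1 (T2 (T3 (T2 (T3 (T1 (T2 (T3 (T2 (T3 (T1 (T2 (T3 (T2 (T3 (T1 (T2 (T3 (T2 (T3 (T4 (T1 (T2 (T3 (T2 (T3 (T1 (T2 (T3 (T2 (T3 (T1 (T2 (T3 (T2 (T3 (T1 (T2 (T3 (T2 (T3 (T1 (T2 (T3 (T2 (T3 (T4 (T1 (T2 (T3 (T2 (T3 (T1 (T2 (T3 (T2 (T3 (T1 (T2 (T3 (T2 (T3 (T1 (T2 (T3 (T2 (T3 (T1 (T2 (T3 (T2 (T3 (T4 i)))))))))))))))))))))))))))))))))))))))))))))))))))))))))))))))))))))))))))))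
def fastRel (i : Nat) : Bool := Nat.ble nn i || (Nat.beq (fr_0 i) i && (Nat.beq (fr_1 i) i && (Nat.beq (fr_2 i) i && (Nat.beq (fr_3 i) i && (Nat.beq (fr_4 i) i && (Nat.beq (fr_5 i) i && (Nat.beq (fr_6 i) i && (Nat.beq (fr_7 i) i && (Nat.beq (fr_8 i) i && (Nat.beq (fr_9 i) i && (Nat.beq (fr_10 i) i && (Nat.beq (fr_11 i) i && (Nat.beq (fr_12 i) i && (Nat.beq (fr_13 i) i && (Nat.beq (fr_14 i) i && (Nat.beq (fr_15 i) i && (Nat.beq (fr_16 i) i && (Nat.beq (fr_17 i) i && (Nat.beq (fr_18 i) i && (Nat.beq (fr_19 i) i && (Nat.beq (fr_20 i) i && (Nat.beq (fr_21 i) i && (Nat.beq (fr_22 i) i && (Nat.beq (fr_23 i) i && (Nat.beq (fr_24 i) i && (Nat.beq (fr_25 i) i && (Nat.beq (fr_26 i) i && (Nat.beq (fr_27 i) i && (Nat.beq (fr_28 i) i && (Nat.beq (fr_29 i) i && (Nat.beq (fr_30 i) i && (Nat.beq (fr_31 i) i && (Nat.beq (fr_32 i) i && true)))))))))))))))))))))))))))))))))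

end Cfsg.Agent.Lib.Helper25.TC.Suz22880
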