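import Cfsg.Agent.Lib.Helper25.TCSuz1782I
import Cfsg.Agent.Lib.Helper25.TCExistD
import Cfsg.Agent.Lib.Helper25.PresSuzChain

set_option autoImplicit false
set_option maxRecDepth 1000000
set_option linter.unusedVariables false

namespace Cfsg.Agent.Lib.Helper25.TC.SuzX

open Cfsg.Spor Cfsg.Agent.Lib.Helper25.TC Cfsg.Agent.Lib.Helper25.Pres Cfsg.Agent.Lib.Helper25.TC.Suz1782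

/-- a word whose normal closure is everything -/
def wg : List Nat := [1, 2, 3, 4, 5, 6]
def wu : List Nat := [1, 3]
def wy : List Nat := [1]
/-- a conjugate of an involution in the normal closure of `wg`, equal to the generator 0 -/
def fullW : List Nat := ncFull wg wu false 2 wy 1 0
def gpow : List Nat := (List.replicate 11 wg).flatten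
/-- the stabilizer chain below the second base point -/
def levels : List (Nat × List (List Nat)) := [(2, [[], [0], [2], [5], [1, 0, 2, 1, 0, 1, 3, 2, 1, 5, 3, 2, 1], [1, 5, 0, 1, 0, 1], [1, 2, 3, 5, 1, 2, 3, 1, 0, 1, 2, 0, 1], [0, 2], [0, 1, 0, 2, 1, 0, 1, 3, 2, 1, 5, 3, 2, 1], [0, 1, 2, 3, 5, 1, 2, 3, 1, 0, 1, 2, 0, 1], [2, 3], [2, 5], [2, 1, 0, 1, 0, 5, 1], [2, 1, 0, 2, 1, 0, 1, 3, 2, 1, 5, 3, 2, 1], [2, 1, 5, 0, 1, 0, 1], [2, 1, 2, 3, 5, 1, 2, 3, 1, 0, 1, 2, 0, 1], [5, 1, 0, 2, 1, 0, 1, 3, 2, 1, 5, 3, 2, 1], [5, 1, 2, 3, 5, 1, 2, 3, 1, 0, 1, 2, 0, 1], [1, 0, 2, 1, 0, 1, 3, 2, 1, 5, 3, 2, 1, 0], [1, 0, 2, 1, 0, 1, 3, 2, 1, 5, 3, 2, 1, 2], [1, 0, 2, 1, 0, 1, 3, 2, 1, 5, 3, 2, 1, 4], [1, 0, 2, 1, 0, 1, 3, 2, 1, 5, 3, 2, 0, 1, 0, 5, 1], [1, 0, 2, 1, 0, 1, 3, 2, 1, 5, 3, 2, 5, 0, 1, 0, 1], [1, 5, 0, 1, 0, 1, 2], [1, 2, 3, 5, 1, 2, 3, 1, 0, 1, 2, 0, 1, 2], [1, 2, 3, 5, 1, 2, 3, 1, 0, 1, 2, 0, 1, 4], [1, 2, 3, 5, 1, 2, 3, 1, 0, 1, 2, 0, 5, 0, 1, 0, 1], [0, 2, 3], [0, 2, 1, 0, 1, 0, 5, 1], [0, 2, 1, 0, 2, 1, 0, 1, 3, 2, 1, 5, 3, 2, 1], [0, 2, 1, 5, 0, 1, 0, 1], [0, 2, 1, 2, 3, 5, 1, 2, 3, 1, 0, 1, 2, 0, 1], [0, 1, 0, 2, 1, 0, 1, 3, 2, 1, 5, 3, 2, 1, 2], [0, 1, 0, 2, 1, 0, 1, 3, 2, 1, 5, 3, 2, 1, 4], [0, 1, 0, 2, 1, 0, 1, 3, 2, 1, 5, 3, 2, 0, 1, 0, 5, 1], [0, 1, 2, 3, 5, 1, 2, 3, 1, 0, 1, 2, 0, 1, 4], [2, 3, 4], [2, 3, 1, 5, 0, 1, 0, 1], [2, 3, 1, 2, 3, 5, 1, 2, 3, 1, 0, 1, 2, 0, 1], [2, 5, 1, 0, 1, 0, 5, 1], [2, 5, 1, 0, 2, 1, 0, 1, 3, 2, 1, 5, 3, 2, 1], [2, 5, 1, 5, 0, 1, 0, 1], [2, 5, 1, 2, 3, 5, 1, 2, 3, 1, 0, 1, 2, 0, 1], [2, 1, 0, 1, 0, 5, 1, 0], [2, 1, 0, 1, 0, 5, 1, 2], [2, 1, 0, 2, 1, 0, 1, 3, 2, 1, 5, 3, 2, 1, 0], [2, 1, 0, 2, 1, 0, 1, 3, 2, 1, 5, 3, 2, 1, 2], [2, 1, 0, 2, 1, 0, 1, 3, 2, 1, 5, 3, 2, 1, 4], [2, 1, 0, 2, 1, 0, 1, 3, 2, 1, 5, 3, 2, 0, 1, 0, 5, 1], [2, 1, 5, 0, 1, 0, 2, 3, 5, 1, 2, 3, 1, 0, 1, 2, 0, 1], [2, 1, 2, 3, 5, 1, 2, 3, 1, 0, 1, 2, 0, 1, 2], [2, 1, 2, 3, 5, 1, 2, 3, 1, 0, 1, 2, 0, 1, 4], [2, 1, 2, 3, 5, 1, 2, 3, 1, 0, 1, 2, 0, 1, 5], [2, 1, 2, 3, 5, 1, 2, 3, 1, 0, 1, 2, 0, 5, 0, 1, 0, 1], [5, 1, 0, 2, 1, 0, 1, 3, 2, 1, 5, 3, 2, 1, 2], [5, 1, 0, 2, 1, 0, 1, 3, 2, 1, 5, 3, 2, 1, 4], [5, 1, 2, 3, 5, 1, 2, 3, 1, 0, 1, 2, 0, 1, 2], [5, 1, 2, 3, 5, 1, 2, 3, 1, 0, 1, 2, 0, 1, 4], [5, 1, 2, 3, 5, 1, 2, 3, 1, 0, 1, 2, 0, 5, 0, 1, 0, 1], [1, 0, 2, 1, 0, 1, 3, 2, 1, 5, 3, 2, 1, 0, 2], [1, 0, 2, 1, 0, 1, 3, 2, 1, 5, 3, 2, 1, 0, 4], [1, 0, 2, 1, 0, 1, 3, 2, 1, 5, 3, 2, 1, 2, 3], [1, 0, 2, 1, 0, 1, 3, 2, 1, 5, 3, 2, 1, 2, 4], [1, 0, 2, 1, 0, 1, 3, 2, 1, 5, 3, 2, 1, 4, 3], [1, 0, 2, 1, 0, 1, 3, 2, 1, 5, 3, 2, 1, 4, 1, 0, 1, 0, 5, 1], [1, 0, 2, 1, 0, 1, 3, 2, 1, 5, 3, 2, 1, 4, 1, 0, 2, 1, 0, 1, 3, 2, 1, 5, 3, 2, 1], [1, 0, 2, 1, 0, 1, 3, 2, 1, 5, 3, 2, 1, 4, 1, 5, 0, 1, 0, 1], [1, 0, 2, 1, 0, 1, 3, 2, 1, 5, 3, 2, 1, 4, 1, 2, 3, 5, 1, 2, 3, 1, 0, 1, 2, 0, 1], [1, 0, 2, 1, 0, 1, 3, 2, 1, 5, 3, 2, 0, 1, 0, 5, 1, 2], [1, 2, 3, 5, 1, 2, 3, 1, 0, 1, 2, 0, 1, 2, 4], [1, 2, 3, 5, 1, 2, 3, 1, 0, 1, 2, 0, 1, 2, 1, 5, 0, 1, 0, 1], [1, 2, 3, 5, 1, 2, 3, 1, 0, 1, 2, 0, 1, 4, 3], [1, 2, 3, 5, 1, 2, 3, 1, 0, 1, 2, 0, 1, 4, 1, 0, 2, 1, 0, 1, 3, 2, 1, 5, 3, 2, 1], [1, 2, 3, 5, 1, 2, 3, 1, 0, 1, 2, 0, 1, 4, 1, 5, 0, 1, 0, 1], [1, 2, 3, 5, 1, 2, 3, 1, 0, 1, 2, 0, 1, 4, 1, 2, 3, 5, 1, 2, 3, 1, 0, 1, 2, 0, 1], [1, 2, 3, 5, 1, 2, 3, 1, 0, 1, 2, 0, 5, 0, 1, 0, 1, 2], [0, 2, 3, 4], [0, 2, 3, 1, 2, 3, 5, 1, 2, 3, 1, 0, 1, 2, 0, 1], [0, 2, 1, 0, 2, 1, 0, 1, 3, 2, 1, 5, 3, 2, 1, 4], [0, 2, 1, 5, 0, 1, 0, 2, 3, 5, 1, 2, 3, 1, 0, 1, 2, 0, 1], [0, 2, 1, 2, 3, 5, 1, 2, 3, 1, 0, 1, 2, 0, 1, 3], [0, 2, 1, 2, 3, 5, 1, 2, 3, 1, 0, 1, 2, 0, 1, 4], [0, 2, 1, 2, 3, 5, 1, 2, 3, 1, 0, 1, 2, 0, 5, 0, 1, 0, 1], [0, 1, 0, 2, 1, 0, 1, 3, 2, 1, 5, 3, 2, 1, 2, 4], [0, 1, 0, 2, 1, 0, 1, 3, 2, 1, 5, 3, 2, 1, 2, 1, 0, 1, 0, 5, 1], [0, 1, 0, 2, 1, 0, 1, 3, 2, 1, 5, 3, 2, 1, 4, 3], [0, 1, 0, 2, 1, 0, 1, 3, 2, 1, 5, 3, 2, 1, 4, 1, 0, 1, 0, 5, 1], [0, 1, 0, 2, 1, 0, 1, 3, 2, 1, 5, 3, 2, 1, 4, 1, 0, 2, 1, 0, 1, 3, 2, 1, 5, 3, 2, 1], [0, 1, 0, 2, 1, 0, 1, 3, 2, 1, 5, 3, 2, 1, 4, 1, 2, 3, 5, 1, 2, 3, 1, 0, 1, 2, 0, 1], [0, 1, 2, 3, 5, 1, 2, 3, 1, 0, 1, 2, 0, 1, 4, 3], [0, 1, 2, 3, 5, 1, 2, 3, 1, 0, 1, 2, 0, 1, 4, 1, 0, 2, 1, 0, 1, 3, 2, 1, 5, 3, 2, 1], [0, 1, 2, 3, 5, 1, 2, 3, 1, 0, 1, 2, 0, 1, 4, 1, 2, 3, 5, 1, 2, 3, 1, 0, 1, 2, 0, 1], [2, 3, 4, 1, 0, 2, 1, 0, 1, 3, 2, 1, 5, 3, 2, 1], [2, 3, 4, 1, 5, 0, 1, 0, 1], [2, 3, 4, 1, 2, 3, 5, 1, 2, 3, 1, 0, 1, 2, 0, 1], [2, 3, 1, 5, 0, 1, 0, 1, 5], [2, 3, 1, 2, 3, 5, 1, 2, 3, 1, 0, 1, 2, 0, 1, 4], [2, 3, 1, 2, 3, 5, 1, 2, 3, 1, 0, 1, 2, 0, 5, 0, 1, 0, 1], [2, 5, 1, 0, 2, 1, 0, 1, 3, 2, 1, 5, 3, 2, 1, 4], [2, 5, 1, 2, 3, 5, 1, 2, 3, 1, 0, 1, 2, 0, 1, 4], [2, 1, 0, 2, 1, 0, 1, 3, 2, 1, 5, 3, 2, 1, 0, 4], [2, 1, 0, 2, 1, 0, 1, 3, 2, 1, 5, 3, 2, 1, 2, 4], [2, 1, 0, 2, 1, 0, 1, 3, 2, 1, 5, 3, 2, 1, 4, 1, 0, 1, 0, 5, 1], [2, 1, 0, 2, 1, 0, 1, 3, 2, 1, 5, 3, 2, 1, 4, 1, 0, 2, 1, 0, 1, 3, 2, 1, 5, 3, 2, 1], [2, 1, 0, 2, 1, 0, 1, 3, 2, 1, 5, 3, 2, 1, 4, 1, 2, 3, 5, 1, 2, 3, 1, 0, 1, 2, 0, 1], [2, 1, 0, 2, 1, 0, 1, 3, 2, 1, 5, 3, 2, 0, 1, 0, 5, 0, 2, 1, 0, 1, 3, 2, 1, 5, 3, 2, 1], [2, 1, 0, 2, 1, 0, 1, 3, 2, 1, 5, 3, 2, 0, 1, 0, 5, 2, 3, 5, 1, 2, 3, 1, 0, 1, 2, 0, 1], [2, 1, 5, 0, 1, 0, 2, 3, 5, 1, 2, 3, 1, 0, 1, 2, 0, 1, 4], [2, 1, 2, 3, 5, 1, 2, 3, 1, 0, 1, 2, 0, 1, 2, 4], [2, 1, 2, 3, 5, 1, 2, 3, 1, 0, 1, 2, 0, 1, 4, 3], [2, 1, 2, 3, 5, 1, 2, 3, 1, 0, 1, 2, 0, 1, 4, 5], [2, 1, 2, 3, 5, 1, 2, 3, 1, 0, 1, 2, 0, 1, 4, 1, 0, 2, 1, 0, 1, 3, 2, 1, 5, 3, 2, 1], [2, 1, 2, 3, 5, 1, 2, 3, 1, 0, 1, 2, 0, 1, 4, 1, 5, 0, 1, 0, 1], [2, 1, 2, 3, 5, 1, 2, 3, 1, 0, 1, 2, 0, 1, 4, 1, 2, 3, 5, 1, 2, 3, 1, 0, 1, 2, 0, 1], [5, 1, 0, 2, 1, 0, 1, 3, 2, 1, 5, 3, 2, 1, 2, 4], [5, 1, 0, 2, 1, 0, 1, 3, 2, 1, 5, 3, 2, 1, 4, 3], [5, 1, 0, 2, 1, 0, 1, 3, 2, 1, 5, 3, 2, 1, 4, 1, 0, 2, 1, 0, 1, 3, 2, 1, 5, 3, 2, 1], [5, 1, 0, 2, 1, 0, 1, 3, 2, 1, 5, 3, 2, 1, 4, 1, 2, 3, 5, 1, 2, 3, 1, 0, 1, 2, 0, 1], [5, 1, 2, 3, 5, 1, 2, 3, 1, 0, 1, 2, 0, 1, 2, 4], [5, 1, 2, 3, 5, 1, 2, 3, 1, 0, 1, 2, 0, 1, 4, 3], [5, 1, 2, 3, 5, 1, 2, 3, 1, 0, 1, 2, 0, 1, 4, 1, 0, 2, 1, 0, 1, 3, 2, 1, 5, 3, 2, 1], [5, 1, 2, 3, 5, 1, 2, 3, 1, 0, 1, 2, 0, 1, 4, 1, 5, 0, 1, 0, 1], [5, 1, 2, 3, 5, 1, 2, 3, 1, 0, 1, 2, 0, 1, 4, 1, 2, 3, 5, 1, 2, 3, 1, 0, 1, 2, 0, 1], [1, 0, 2, 1, 0, 1, 3, 2, 1, 5, 3, 2, 1, 0, 2, 4], [1, 0, 2, 1, 0, 1, 3, 2, 1, 5, 3, 2, 1, 0, 4, 3], [1, 0, 2, 1, 0, 1, 3, 2, 1, 5, 3, 2, 1, 0, 4, 1, 0, 2, 1, 0, 1, 3, 2, 1, 5, 3, 2, 1], [1, 0, 2, 1, 0, 1, 3, 2, 1, 5, 3, 2, 1, 0, 4, 1, 2, 3, 5, 1, 2, 3, 1, 0, 1, 2, 0, 1], [1, 0, 2, 1, 0, 1, 3, 2, 1, 5, 3, 2, 1, 2, 3, 4], [1, 0, 2, 1, 0, 1, 3, 2, 1, 5, 3, 2, 1, 2, 4, 3], [1, 0, 2, 1, 0, 1, 3, 2, 1, 5, 3, 2, 1, 2, 4, 1, 0, 2, 1, 0, 1, 3, 2, 1, 5, 3, 2, 1], [1, 0, 2, 1, 0, 1, 3, 2, 1, 5, 3, 2, 1, 2, 4, 1, 2, 3, 5, 1, 2, 3, 1, 0, 1, 2, 0, 1], [1, 0, 2, 1, 0, 1, 3, 2, 1, 5, 3, 2, 1, 4, 3, 2], [1, 0, 2, 1, 0, 1, 3, 2, 1, 5, 3, 2, 1, 4, 3, 1, 0, 1, 0, 5, 1], [1, 0, 2, 1, 0, 1, 3, 2, 1, 5, 3, 2, 1, 4, 3, 1, 0, 2, 1, 0, 1, 3, 2, 1, 5, 3, 2, 1], [1, 0, 2, 1, 0, 1, 3, 2, 1, 5, 3, 2, 1, 4, 3, 1, 5, 0, 1, 0, 1], [1, 0, 2, 1, 0, 1, 3, 2, 1, 5, 3, 2, 1, 4, 3, 1, 2, 3, 5, 1, 2, 3, 1, 0, 1, 2, 0, 1], [1, 0, 2, 1, 0, 1, 3, 2, 1, 5, 3, 2, 1, 4, 1, 0, 1, 0, 5, 1, 2], [1, 0, 2, 1, 0, 1, 3, 2, 1, 5, 3, 2, 1, 4, 1, 0, 1, 0, 5, 0, 2, 1, 0, 1, 3, 2, 1, 5, 3, 2, 1], [1, 0, 2, 1, 0, 1, 3, 2, 1, 5, 3, 2, 1, 4, 1, 0, 1, 0, 5, 2, 3, 5, 1, 2, 3, 1, 0, 1, 2, 0, 1], [1, 0, 2, 1, 0, 1, 3, 2, 1, 5, 3, 2, 1, 4, 1, 0, 2, 1, 0, 1, 3, 2, 1, 5, 3, 2, 1, 2], [1, 0, 2, 1, 0, 1, 3, 2, 1, 5, 3, 2, 1, 4, 1, 0, 2, 1, 0, 1, 3, 2, 1, 5, 3, 2, 1, 4], [1, 0, 2, 1, 0, 1, 3, 2, 1, 5, 3, 2, 1, 4, 1, 0, 2, 1, 0, 1, 3, 2, 1, 5, 3, 2, 0, 1, 0, 5, 1], [1, 0, 2, 1, 0, 1, 3, 2, 1, 5, 3, 2, 1, 4, 1, 0, 2, 1, 0, 1, 3, 2, 1, 5, 3, 2, 5, 0, 1, 0, 1], [1, 0, 2, 1, 0, 1, 3, 2, 1, 5, 3, 2, 1, 4, 1, 5, 0, 1, 2, 1, 0, 1, 3, 2, 1, 5, 3, 2, 1], [1, 0, 2, 1, 0, 1, 3, 2, 1, 5, 3, 2, 1, 4, 1, 5, 0, 1, 0, 2, 3, 5, 1, 2, 3, 1, 0, 1, 2, 0, 1], [1, 0, 2, 1, 0, 1, 3, 2, 1, 5, 3, 2, 1, 4, 1, 2, 3, 5, 1, 2, 3, 1, 0, 1, 2, 0, 1, 3], [1, 0, 2, 1, 0, 1, 3, 2, 1, 5, 3, 2, 1, 4, 1, 2, 3, 5, 1, 2, 3, 1, 0, 1, 2, 1, 0, 5, 1], [1, 0, 2, 1, 0, 1, 3, 2, 1, 5, 3, 2, 1, 4, 1, 2, 3, 5, 1, 2, 3, 1, 0, 1, 2, 0, 5, 0, 1, 0, 1], [1, 2, 3, 5, 1, 2, 3, 1, 0, 1, 2, 0, 1, 2, 4, 1, 0, 2, 1, 0, 1, 3, 2, 1, 5, 3, 2, 1], [1, 2, 3, 5, 1, 2, 3, 1, 0, 1, 2, 0, 1, 2, 4, 1, 5, 0, 1, 0, 1], [1, 2, 3, 5, 1, 2, 3, 1, 0, 1, 2, 0, 1, 2, 4, 1, 2, 3, 5, 1, 2, 3, 1, 0, 1, 2, 0, 1], [1, 2, 3, 5, 1, 2, 3, 1, 0, 1, 2, 0, 1, 4, 3, 2], [1, 2, 3, 5, 1, 2, 3, 1, 0, 1, 2, 0, 1, 4, 3, 1, 0, 2, 1, 0, 1, 3, 2, 1, 5, 3, 2, 1], [1, 2, 3, 5, 1, 2, 3, 1, 0, 1, 2, 0, 1, 4, 3, 1, 5, 0, 1, 0, 1], [1, 2, 3, 5, 1, 2, 3, 1, 0, 1, 2, 0, 1, 4, 3, 1, 2, 3, 5, 1, 2, 3, 1, 0, 1, 2, 0, 1], [1, 2, 3, 5, 1, 2, 3, 1, 0, 1, 2, 0, 1, 4, 1, 0, 2, 1, 0, 1, 3, 2, 1, 5, 3, 2, 1, 3], [1, 2, 3, 5, 1, 2, 3, 1, 0, 1, 2, 0, 1, 4, 1, 0, 2, 1, 0, 1, 3, 2, 1, 5, 3, 2, 0, 1, 0, 5, 1], [1, 2, 3, 5, 1, 2, 3, 1, 0, 1, 2, 0, 1, 4, 1, 0, 2, 1, 0, 1, 3, 2, 1, 5, 3, 2, 5, 0, 1, 0, 1], [1, 2, 3, 5, 1, 2, 3, 1, 0, 1, 2, 0, 1, 4, 1, 5, 0, 1, 0, 1, 2], [1, 2, 3, 5, 1, 2, 3, 1, 0, 1, 2, 0, 1, 4, 1, 5, 0, 1, 2, 1, 0, 1, 3, 2, 1, 5, 3, 2, 1], [1, 2, 3, 5, 1, 2, 3, 1, 0, 1, 2, 0, 1, 4, 1, 5, 0, 1, 0, 2, 3, 5, 1, 2, 3, 1, 0, 1, 2, 0, 1], [1, 2, 3, 5, 1, 2, 3, 1, 0, 1, 2, 0, 1, 4, 1, 2, 3, 5, 1, 2, 3, 1, 0, 1, 2, 0, 1, 2], [1, 2, 3, 5, 1, 2, 3, 1, 0, 1, 2, 0, 1, 4, 1, 2, 3, 5, 1, 2, 3, 1, 0, 1, 2, 0, 1, 4], [1, 2, 3, 5, 1, 2, 3, 1, 0, 1, 2, 0, 1, 4, 1, 2, 3, 5, 1, 2, 3, 1, 0, 1, 2, 1, 0, 5, 1], [1, 2, 3, 5, 1, 2, 3, 1, 0, 1, 2, 0, 1, 4, 1, 2, 3, 5, 1, 2, 3, 1, 0, 1, 2, 0, 5, 0, 1, 0, 1], [0, 2, 3, 4, 1, 0, 2, 1, 0, 1, 3, 2, 1, 5, 3, 2, 1], [0, 2, 3, 4, 1, 2, 3, 5, 1, 2, 3, 1, 0, 1, 2, 0, 1], [0, 2, 3, 1, 2, 3, 5, 1, 2, 3, 1, 0, 1, 2, 0, 1, 4], [0, 2, 1, 0, 2, 1, 0, 1, 3, 2, 1, 5, 3, 2, 1, 4, 1, 0, 2, 1, 0, 1, 3, 2, 1, 5, 3, 2, 1], [0, 2, 1, 0, 2, 1, 0, 1, 3, 2, 1, 5, 3, 2, 1, 4, 1, 2, 3, 5, 1, 2, 3, 1, 0, 1, 2, 0, 1], [0, 2, 1, 5, 0, 1, 0, 2, 3, 5, 1, 2, 3, 1, 0, 1, 2, 0, 1, 4], [0, 2, 1, 2, 3, 5, 1, 2, 3, 1, 0, 1, 2, 0, 1, 3, 4], [0, 2, 1, 2, 3, 5, 1, 2, 3, 1, 0, 1, 2, 0, 1, 4, 3], [0, 2, 1, 2, 3, 5, 1, 2, 3, 1, 0, 1, 2, 0, 1, 4, 1, 0, 2, 1, 0, 1, 3, 2, 1, 5, 3, 2, 1], [0, 2, 1, 2, 3, 5, 1, 2, 3, 1, 0, 1, 2, 0, 1, 4, 1, 5, 0, 1, 0, 1], [0, 2, 1, 2, 3, 5, 1, 2, 3, 1, 0, 1, 2, 0, 1, 4, 1, 2, 3, 5, 1, 2, 3, 1, 0, 1, 2, 0, 1], [0, 1, 0, 2, 1, 0, 1, 3, 2, 1, 5, 3, 2, 1, 2, 4, 3], [0, 1, 0, 2, 1, 0, 1, 3, 2, 1, 5, 3, 2, 1, 2, 4, 1, 0, 1, 0, 5, 1], [0, 1, 0, 2, 1, 0, 1, 3, 2, 1, 5, 3, 2, 1, 2, 4, 1, 0, 2, 1, 0, 1, 3, 2, 1, 5, 3, 2, 1], [0, 1, 0, 2, 1, 0, 1, 3, 2, 1, 5, 3, 2, 1, 2, 4, 1, 2, 3, 5, 1, 2, 3, 1, 0, 1, 2, 0, 1], [0, 1, 0, 2, 1, 0, 1, 3, 2, 1, 5, 3, 2, 1, 4, 3, 2], [0, 1, 0, 2, 1, 0, 1, 3, 2, 1, 5, 3, 2, 1, 4, 3, 1, 0, 1, 0, 5, 1], [0, 1, 0, 2, 1, 0, 1, 3, 2, 1, 5, 3, 2, 1, 4, 3, 1, 0, 2, 1, 0, 1, 3, 2, 1, 5, 3, 2, 1], [0, 1, 0, 2, 1, 0, 1, 3, 2, 1, 5, 3, 2, 1, 4, 3, 1, 2, 3, 5, 1, 2, 3, 1, 0, 1, 2, 0, 1], [0, 1, 0, 2, 1, 0, 1, 3, 2, 1, 5, 3, 2, 1, 4, 1, 0, 1, 0, 5, 0, 2, 1, 0, 1, 3, 2, 1, 5, 3, 2, 1], [0, 1, 0, 2, 1, 0, 1, 3, 2, 1, 5, 3, 2, 1, 4, 1, 0, 1, 0, 5, 2, 3, 5, 1, 2, 3, 1, 0, 1, 2, 0, 1], [0, 1, 0, 2, 1, 0, 1, 3, 2, 1, 5, 3, 2, 1, 4, 1, 0, 2, 1, 0, 1, 3, 2, 1, 5, 3, 2, 1, 2], [0, 1, 0, 2, 1, 0, 1, 3, 2, 1, 5, 3, 2, 1, 4, 1, 0, 2, 1, 0, 1, 3, 2, 1, 5, 3, 2, 1, 4], [0, 1, 0, 2, 1, 0, 1, 3, 2, 1, 5, 3, 2, 1, 4, 1, 0, 2, 1, 0, 1, 3, 2, 1, 5, 3, 2, 0, 1, 0, 5, 1], [0, 1, 0, 2, 1, 0, 1, 3, 2, 1, 5, 3, 2, 1, 4, 1, 0, 2, 1, 0, 1, 3, 2, 1, 5, 3, 2, 5, 0, 1, 0, 1], [0, 1, 0, 2, 1, 0, 1, 3, 2, 1, 5, 3, 2, 1, 4, 1, 2, 3, 5, 1, 2, 3, 1, 0, 1, 2, 0, 1, 3], [0, 1, 0, 2, 1, 0, 1, 3, 2, 1, 5, 3, 2, 1, 4, 1, 2, 3, 5, 1, 2, 3, 1, 0, 1, 2, 1, 0, 5, 1], [0, 1, 0, 2, 1, 0, 1, 3, 2, 1, 5, 3, 2, 1, 4, 1, 2, 3, 5, 1, 2, 3, 1, 0, 1, 2, 0, 5, 0, 1, 0, 1], [0, 1, 2, 3, 5, 1, 2, 3, 1, 0, 1, 2, 0, 1, 4, 3, 2], [0, 1, 2, 3, 5, 1, 2, 3, 1, 0, 1, 2, 0, 1, 4, 3, 1, 0, 2, 1, 0, 1, 3, 2, 1, 5, 3, 2, 1], [0, 1, 2, 3, 5, 1, 2, 3, 1, 0, 1, 2, 0, 1, 4, 3, 1, 2, 3, 5, 1, 2, 3, 1, 0, 1, 2, 0, 1], [0, 1, 2, 3, 5, 1, 2, 3, 1, 0, 1, 2, 0, 1, 4, 1, 0, 2, 1, 0, 1, 3, 2, 1, 5, 3, 2, 1, 3], [0, 1, 2, 3, 5, 1, 2, 3, 1, 0, 1, 2, 0, 1, 4, 1, 0, 2, 1, 0, 1, 3, 2, 1, 5, 3, 2, 0, 1, 0, 5, 1], [0, 1, 2, 3, 5, 1, 2, 3, 1, 0, 1, 2, 0, 1, 4, 1, 0, 2, 1, 0, 1, 3, 2, 1, 5, 3, 2, 5, 0, 1, 0, 1], [0, 1, 2, 3, 5, 1, 2, 3, 1, 0, 1, 2, 0, 1, 4, 1, 2, 3, 5, 1, 2, 3, 1, 0, 1, 2, 0, 1, 2], [0, 1, 2, 3, 5, 1, 2, 3, 1, 0, 1, 2, 0, 1, 4, 1, 2, 3, 5, 1, 2, 3, 1, 0, 1, 2, 0, 1, 4], [0, 1, 2, 3, 5, 1, 2, 3, 1, 0, 1, 2, 0, 1, 4, 1, 2, 3, 5, 1, 2, 3, 1, 0, 1, 2, 1, 0, 5, 1], [0, 1, 2, 3, 5, 1, 2, 3, 1, 0, 1, 2, 0, 1, 4, 1, 2, 3, 5, 1, 2, 3, 1, 0, 1, 2, 0, 5, 0, 1, 0, 1], [2, 3, 4, 1, 0, 2, 1, 0, 1, 3, 2, 1, 5, 3, 2, 1, 0], [2, 3, 4, 1, 0, 2, 1, 0, 1, 3, 2, 1, 5, 3, 2, 1, 2], [2, 3, 4, 1, 0, 2, 1, 0, 1, 3, 2, 1, 5, 3, 2, 1, 3], [2, 3, 4, 1, 0, 2, 1, 0, 1, 3, 2, 1, 5, 3, 2, 0, 1, 0, 5, 1], [2, 3, 4, 1, 0, 2, 1, 0, 1, 3, 2, 1, 5, 3, 2, 5, 0, 1, 0, 1], [2, 3, 4, 1, 5, 0, 1, 0, 1, 5], [2, 3, 4, 1, 5, 0, 1, 2, 1, 0, 1, 3, 2, 1, 5, 3, 2, 1], [2, 3, 4, 1, 5, 0, 1, 0, 2, 3, 5, 1, 2, 3, 1, 0, 1, 2, 0, 1], [2, 3, 4, 1, 2, 3, 5, 1, 2, 3, 1, 0, 1, 2, 0, 1, 2], [2, 3, 4, 1, 2, 3, 5, 1, 2, 3, 1, 0, 1, 2, 0, 1, 3], [2, 3, 4, 1, 2, 3, 5, 1, 2, 3, 1, 0, 1, 2, 0, 1, 4], [2, 3, 4, 1, 2, 3, 5, 1, 2, 3, 1, 0, 1, 2, 0, 1, 5], [2, 3, 4, 1, 2, 3, 5, 1, 2, 3, 1, 0, 1, 2, 1, 0, 5, 1], [2, 3, 4, 1, 2, 3, 5, 1, 2, 3, 1, 0, 1, 2, 0, 5, 0, 1, 0, 1], [2, 3, 1, 2, 3, 5, 1, 2, 3, 1, 0, 1, 2, 0, 1, 4, 3], [2, 3, 1, 2, 3, 5, 1, 2, 3, 1, 0, 1, 2, 0, 1, 4, 1, 0, 2, 1, 0, 1, 3, 2, 1, 5, 3, 2, 1], [2, 3, 1, 2, 3, 5, 1, 2, 3, 1, 0, 1, 2, 0, 1, 4, 1, 5, 0, 1, 0, 1], [2, 3, 1, 2, 3, 5, 1, 2, 3, 1, 0, 1, 2, 0, 1, 4, 1, 2, 3, 5, 1, 2, 3, 1, 0, 1, 2, 0, 1], [2, 5, 1, 0, 2, 1, 0, 1, 3, 2, 1, 5, 3, 2, 1, 4, 1, 0, 2, 1, 0, 1, 3, 2, 1, 5, 3, 2, 1], [2, 5, 1, 0, 2, 1, 0, 1, 3, 2, 1, 5, 3, 2, 1, 4, 1, 2, 3, 5, 1, 2, 3, 1, 0, 1, 2, 0, 1], [2, 5, 1, 2, 3, 5, 1, 2, 3, 1, 0, 1, 2, 0, 1, 4, 3], [2, 5, 1, 2, 3, 5, 1, 2, 3, 1, 0, 1, 2, 0, 1, 4, 1, 0, 2, 1, 0, 1, 3, 2, 1, 5, 3, 2, 1], [2, 5, 1, 2, 3, 5, 1, 2, 3, 1, 0, 1, 2, 0, 1, 4, 1, 2, 3, 5, 1, 2, 3, 1, 0, 1, 2, 0, 1], [2, 1, 0, 2, 1, 0, 1, 3, 2, 1, 5, 3, 2, 1, 0, 4, 1, 0, 2, 1, 0, 1, 3, 2, 1, 5, 3, 2, 1], [2, 1, 0, 2, 1, 0, 1, 3, 2, 1, 5, 3, 2, 1, 0, 4, 1, 2, 3, 5, 1, 2, 3, 1, 0, 1, 2, 0, 1], [2, 1, 0, 2, 1, 0, 1, 3, 2, 1, 5, 3, 2, 1, 2, 4, 3], [2, 1, 0, 2, 1, 0, 1, 3, 2, 1, 5, 3, 2, 1, 2, 4, 1, 2, 3, 5, 1, 2, 3, 1, 0, 1, 2, 0, 1], [2, 1, 0, 2, 1, 0, 1, 3, 2, 1, 5, 3, 2, 1, 4, 1, 0, 1, 0, 5, 0, 2, 1, 0, 1, 3, 2, 1, 5, 3, 2, 1], [2, 1, 0, 2, 1, 0, 1, 3, 2, 1, 5, 3, 2, 1, 4, 1, 0, 1, 0, 5, 2, 3, 5, 1, 2, 3, 1, 0, 1, 2, 0, 1], [2, 1, 0, 2, 1, 0, 1, 3, 2, 1, 5, 3, 2, 1, 4, 1, 0, 2, 1, 0, 1, 3, 2, 1, 5, 3, 2, 1, 3], [2, 1, 0, 2, 1, 0, 1, 3, 2, 1, 5, 3, 2, 1, 4, 1, 0, 2, 1, 0, 1, 3, 2, 1, 5, 3, 2, 1, 4], [2, 1, 0, 2, 1, 0, 1, 3, 2, 1, 5, 3, 2, 1, 4, 1, 0, 2, 1, 0, 1, 3, 2, 1, 5, 3, 2, 0, 1, 0, 5, 1], [2, 1, 0, 2, 1, 0, 1, 3, 2, 1, 5, 3, 2, 1, 4, 1, 0, 2, 1, 0, 1, 3, 2, 1, 5, 3, 2, 5, 0, 1, 0, 1], [2, 1, 0, 2, 1, 0, 1, 3, 2, 1, 5, 3, 2, 1, 4, 1, 2, 3, 5, 1, 2, 3, 1, 0, 1, 2, 0, 1, 3], [2, 1, 0, 2, 1, 0, 1, 3, 2, 1, 5, 3, 2, 1, 4, 1, 2, 3, 5, 1, 2, 3, 1, 0, 1, 2, 1, 0, 5, 1], [2, 1, 0, 2, 1, 0, 1, 3, 2, 1, 5, 3, 2, 1, 4, 1, 2, 3, 5, 1, 2, 3, 1, 0, 1, 2, 0, 5, 0, 1, 0, 1], [2, 1, 0, 2, 1, 0, 1, 3, 2, 1, 5, 3, 2, 0, 1, 0, 5, 0, 2, 1, 0, 1, 3, 2, 1, 5, 3, 2, 1, 4], [2, 1, 0, 2, 1, 0, 1, 3, 2, 1, 5, 3, 2, 0, 1, 0, 5, 2, 3, 5, 1, 2, 3, 1, 0, 1, 2, 0, 1, 4], [2, 1, 5, 0, 1, 0, 2, 3, 5, 1, 2, 3, 1, 0, 1, 2, 0, 1, 4, 3], [2, 1, 5, 0, 1, 0, 2, 3, 5, 1, 2, 3, 1, 0, 1, 2, 0, 1, 4, 1, 0, 2, 1, 0, 1, 3, 2, 1, 5, 3, 2, 1], [2, 1, 2, 3, 5, 1, 2, 3, 1, 0, 1, 2, 0, 1, 2, 4, 3], [2, 1, 2, 3, 5, 1, 2, 3, 1, 0, 1, 2, 0, 1, 2, 4, 1, 0, 2, 1, 0, 1, 3, 2, 1, 5, 3, 2, 1], [2, 1, 2, 3, 5, 1, 2, 3, 1, 0, 1, 2, 0, 1, 4, 3, 2], [2, 1, 2, 3, 5, 1, 2, 3, 1, 0, 1, 2, 0, 1, 4, 3, 5], [2, 1, 2, 3, 5, 1, 2, 3, 1, 0, 1, 2, 0, 1, 4, 3, 1, 0, 2, 1, 0, 1, 3, 2, 1, 5, 3, 2, 1], [2, 1, 2, 3, 5, 1, 2, 3, 1, 0, 1, 2, 0, 1, 4, 3, 1, 5, 0, 1, 0, 1], [2, 1, 2, 3, 5, 1, 2, 3, 1, 0, 1, 2, 0, 1, 4, 3, 1, 2, 3, 5, 1, 2, 3, 1, 0, 1, 2, 0, 1], [2, 1, 2, 3, 5, 1, 2, 3, 1, 0, 1, 2, 0, 1, 4, 5, 1, 0, 2, 1, 0, 1, 3, 2, 1, 5, 3, 2, 1], [2, 1, 2, 3, 5, 1, 2, 3, 1, 0, 1, 2, 0, 1, 4, 1, 0, 2, 1, 0, 1, 3, 2, 1, 5, 3, 2, 1, 3], [2, 1, 2, 3, 5, 1, 2, 3, 1, 0, 1, 2, 0, 1, 4, 1, 0, 2, 1, 0, 1, 3, 2, 1, 5, 3, 2, 0, 1, 0, 5, 1], [2, 1, 2, 3, 5, 1, 2, 3, 1, 0, 1, 2, 0, 1, 4, 1, 0, 2, 1, 0, 1, 3, 2, 1, 5, 3, 2, 5, 0, 1, 0, 1], [2, 1, 2, 3, 5, 1, 2, 3, 1, 0, 1, 2, 0, 1, 4, 1, 5, 0, 1, 2, 1, 0, 1, 3, 2, 1, 5, 3, 2, 1], [2, 1, 2, 3, 5, 1, 2, 3, 1, 0, 1, 2, 0, 1, 4, 1, 5, 0, 1, 0, 2, 3, 5, 1, 2, 3, 1, 0, 1, 2, 0, 1], [2, 1, 2, 3, 5, 1, 2, 3, 1, 0, 1, 2, 0, 1, 4, 1, 2, 3, 5, 1, 2, 3, 1, 0, 1, 2, 0, 1, 3], [2, 1, 2, 3, 5, 1, 2, 3, 1, 0, 1, 2, 0, 1, 4, 1, 2, 3, 5, 1, 2, 3, 1, 0, 1, 2, 0, 1, 4], [2, 1, 2, 3, 5, 1, 2, 3, 1, 0, 1, 2, 0, 1, 4, 1, 2, 3, 5, 1, 2, 3, 1, 0, 1, 2, 1, 0, 5, 1], [2, 1, 2, 3, 5, 1, 2, 3, 1, 0, 1, 2, 0, 1, 4, 1, 2, 3, 5, 1, 2, 3, 1, 0, 1, 2, 0, 5, 0, 1, 0, 1], [5, 1, 0, 2, 1, 0, 1, 3, 2, 1, 5, 3, 2, 1, 2, 4, 3], [5, 1, 0, 2, 1, 0, 1, 3, 2, 1, 5, 3, 2, 1, 2, 4, 1, 0, 2, 1, 0, 1, 3, 2, 1, 5, 3, 2, 1], [5, 1, 0, 2, 1, 0, 1, 3, 2, 1, 5, 3, 2, 1, 2, 4, 1, 2, 3, 5, 1, 2, 3, 1, 0, 1, 2, 0, 1], [5, 1, 0, 2, 1, 0, 1, 3, 2, 1, 5, 3, 2, 1, 4, 3, 2], [5, 1, 0, 2, 1, 0, 1, 3, 2, 1, 5, 3, 2, 1, 4, 3, 1, 0, 2, 1, 0, 1, 3, 2, 1, 5, 3, 2, 1], [5, 1, 0, 2, 1, 0, 1, 3, 2, 1, 5, 3, 2, 1, 4, 3, 1, 2, 3, 5, 1, 2, 3, 1, 0, 1, 2, 0, 1], [5, 1, 0, 2, 1, 0, 1, 3, 2, 1, 5, 3, 2, 1, 4, 1, 0, 2, 1, 0, 1, 3, 2, 1, 5, 3, 2, 1, 2], [5, 1, 0, 2, 1, 0, 1, 3, 2, 1, 5, 3, 2, 1, 4, 1, 0, 2, 1, 0, 1, 3, 2, 1, 5, 3, 2, 1, 4], [5, 1, 0, 2, 1, 0, 1, 3, 2, 1, 5, 3, 2, 1, 4, 1, 0, 2, 1, 0, 1, 3, 2, 1, 5, 3, 2, 0, 1, 0, 5, 1], [5, 1, 0, 2, 1, 0, 1, 3, 2, 1, 5, 3, 2, 1, 4, 1, 0, 2, 1, 0, 1, 3, 2, 1, 5, 3, 2, 5, 0, 1, 0, 1], [5, 1, 0, 2, 1, 0, 1, 3, 2, 1, 5, 3, 2, 1, 4, 1, 2, 3, 5, 1, 2, 3, 1, 0, 1, 2, 0, 1, 3], [5, 1, 0, 2, 1, 0, 1, 3, 2, 1, 5, 3, 2, 1, 4, 1, 2, 3, 5, 1, 2, 3, 1, 0, 1, 2, 1, 0, 5, 1], [5, 1, 0, 2, 1, 0, 1, 3, 2, 1, 5, 3, 2, 1, 4, 1, 2, 3, 5, 1, 2, 3, 1, 0, 1, 2, 0, 5, 0, 1, 0, 1], [5, 1, 2, 3, 5, 1, 2, 3, 1, 0, 1, 2, 0, 1, 4, 3, 2], [5, 1, 2, 3, 5, 1, 2, 3, 1, 0, 1, 2, 0, 1, 4, 3, 1, 0, 2, 1, 0, 1, 3, 2, 1, 5, 3, 2, 1], [5, 1, 2, 3, 5, 1, 2, 3, 1, 0, 1, 2, 0, 1, 4, 3, 1, 5, 0, 1, 0, 1], [5, 1, 2, 3, 5, 1, 2, 3, 1, 0, 1, 2, 0, 1, 4, 3, 1, 2, 3, 5, 1, 2, 3, 1, 0, 1, 2, 0, 1], [5, 1, 2, 3, 5, 1, 2, 3, 1, 0, 1, 2, 0, 1, 4, 1, 0, 2, 1, 0, 1, 3, 2, 1, 5, 3, 2, 1, 3], [5, 1, 2, 3, 5, 1, 2, 3, 1, 0, 1, 2, 0, 1, 4, 1, 0, 2, 1, 0, 1, 3, 2, 1, 5, 3, 2, 0, 1, 0, 5, 1], [5, 1, 2, 3, 5, 1, 2, 3, 1, 0, 1, 2, 0, 1, 4, 1, 0, 2, 1, 0, 1, 3, 2, 1, 5, 3, 2, 5, 0, 1, 0, 1], [5, 1, 2, 3, 5, 1, 2, 3, 1, 0, 1, 2, 0, 1, 4, 1, 5, 0, 1, 2, 1, 0, 1, 3, 2, 1, 5, 3, 2, 1], [5, 1, 2, 3, 5, 1, 2, 3, 1, 0, 1, 2, 0, 1, 4, 1, 5, 0, 1, 0, 2, 3, 5, 1, 2, 3, 1, 0, 1, 2, 0, 1], [5, 1, 2, 3, 5, 1, 2, 3, 1, 0, 1, 2, 0, 1, 4, 1, 2, 3, 5, 1, 2, 3, 1, 0, 1, 2, 0, 1, 2], [5, 1, 2, 3, 5, 1, 2, 3, 1, 0, 1, 2, 0, 1, 4, 1, 2, 3, 5, 1, 2, 3, 1, 0, 1, 2, 0, 1, 4], [5, 1, 2, 3, 5, 1, 2, 3, 1, 0, 1, 2, 0, 1, 4, 1, 2, 3, 5, 1, 2, 3, 1, 0, 1, 2, 1, 0, 5, 1], [5, 1, 2, 3, 5, 1, 2, 3, 1, 0, 1, 2, 0, 1, 4, 1, 2, 3, 5, 1, 2, 3, 1, 0, 1, 2, 0, 5, 0, 1, 0, 1], [1, 0, 2, 1, 0, 1, 3, 2, 1, 5, 3, 2, 1, 0, 2, 4, 3], [1, 0, 2, 1, 0, 1, 3, 2, 1, 5, 3, 2, 1, 0, 2, 4, 1, 0, 2, 1, 0, 1, 3, 2, 1, 5, 3, 2, 1], [1, 0, 2, 1, 0, 1, 3, 2, 1, 5, 3, 2, 1, 0, 2, 4, 1, 2, 3, 5, 1, 2, 3, 1, 0, 1, 2, 0, 1], [1, 0, 2, 1, 0, 1, 3, 2, 1, 5, 3, 2, 1, 0, 4, 3, 2], [1, 0, 2, 1, 0, 1, 3, 2, 1, 5, 3, 2, 1, 0, 4, 3, 1, 0, 2, 1, 0, 1, 3, 2, 1, 5, 3, 2, 1], [1, 0, 2, 1, 0, 1, 3, 2, 1, 5, 3, 2, 1, 0, 4, 3, 1, 2, 3, 5, 1, 2, 3, 1, 0, 1, 2, 0, 1], [1, 0, 2, 1, 0, 1, 3, 2, 1, 5, 3, 2, 1, 0, 4, 1, 0, 2, 1, 0, 1, 3, 2, 1, 5, 3, 2, 1, 4], [1, 0, 2, 1, 0, 1, 3, 2, 1, 5, 3, 2, 1, 0, 4, 1, 0, 2, 1, 0, 1, 3, 2, 1, 5, 3, 2, 0, 1, 0, 5, 1], [1, 0, 2, 1, 0, 1, 3, 2, 1, 5, 3, 2, 1, 0, 4, 1, 0, 2, 1, 0, 1, 3, 2, 1, 5, 3, 2, 5, 0, 1, 0, 1], [1, 0, 2, 1, 0, 1, 3, 2, 1, 5, 3, 2, 1, 0, 4, 1, 2, 3, 5, 1, 2, 3, 1, 0, 1, 2, 0, 1, 3], [1, 0, 2, 1, 0, 1, 3, 2, 1, 5, 3, 2, 1, 0, 4, 1, 2, 3, 5, 1, 2, 3, 1, 0, 1, 2, 1, 0, 5, 1], [1, 0, 2, 1, 0, 1, 3, 2, 1, 5, 3, 2, 1, 0, 4, 1, 2, 3, 5, 1, 2, 3, 1, 0, 1, 2, 0, 5, 0, 1, 0, 1], [1, 0, 2, 1, 0, 1, 3, 2, 1, 5, 3, 2, 1, 2, 3, 4, 3], [1, 0, 2, 1, 0, 1, 3, 2, 1, 5, 3, 2, 1, 2, 3, 4, 1, 0, 2, 1, 0, 1, 3, 2, 1, 5, 3, 2, 1], [1, 0, 2, 1, 0, 1, 3, 2, 1, 5, 3, 2, 1, 2, 3, 4, 1, 2, 3, 5, 1, 2, 3, 1, 0, 1, 2, 0, 1], [1, 0, 2, 1, 0, 1, 3, 2, 1, 5, 3, 2, 1, 2, 4, 3, 2], [1, 0, 2, 1, 0, 1, 3, 2, 1, 5, 3, 2, 1, 2, 4, 3, 1, 0, 2, 1, 0, 1, 3, 2, 1, 5, 3, 2, 1], [1, 0, 2, 1, 0, 1, 3, 2, 1, 5, 3, 2, 1, 2, 4, 3, 1, 2, 3, 5, 1, 2, 3, 1, 0, 1, 2, 0, 1], [1, 0, 2, 1, 0, 1, 3, 2, 1, 5, 3, 2, 1, 2, 4, 1, 0, 2, 1, 0, 1, 3, 2, 1, 5, 3, 2, 1, 3], [1, 0, 2, 1, 0, 1, 3, 2, 1, 5, 3, 2, 1, 2, 4, 1, 0, 2, 1, 0, 1, 3, 2, 1, 5, 3, 2, 1, 4], [1, 0, 2, 1, 0, 1, 3, 2, 1, 5, 3, 2, 1, 2, 4, 1, 0, 2, 1, 0, 1, 3, 2, 1, 5, 3, 2, 0, 1, 0, 5, 1], [1, 0, 2, 1, 0, 1, 3, 2, 1, 5, 3, 2, 1, 2, 4, 1, 0, 2, 1, 0, 1, 3, 2, 1, 5, 3, 2, 5, 0, 1, 0, 1], [1, 0, 2, 1, 0, 1, 3, 2, 1, 5, 3, 2, 1, 2, 4, 1, 2, 3, 5, 1, 2, 3, 1, 0, 1, 2, 0, 1, 3], [1, 0, 2, 1, 0, 1, 3, 2, 1, 5, 3, 2, 1, 2, 4, 1, 2, 3, 5, 1, 2, 3, 1, 0, 1, 2, 1, 0, 5, 1], [1, 0, 2, 1, 0, 1, 3, 2, 1, 5, 3, 2, 1, 2, 4, 1, 2, 3, 5, 1, 2, 3, 1, 0, 1, 2, 0, 5, 0, 1, 0, 1], [1, 0, 2, 1, 0, 1, 3, 2, 1, 5, 3, 2, 1, 4, 3, 2, 3], [1, 0, 2, 1, 0, 1, 3, 2, 1, 5, 3, 2, 1, 4, 3, 2, 1, 0, 1, 0, 5, 1], [1, 0, 2, 1, 0, 1, 3, 2, 1, 5, 3, 2, 1, 4, 3, 2, 1, 0, 2, 1, 0, 1, 3, 2, 1, 5, 3, 2, 1], [1, 0, 2, 1, 0, 1, 3, 2, 1, 5, 3, 2, 1, 4, 3, 2, 1, 5, 0, 1, 0, 1], [1, 0, 2, 1, 0, 1, 3, 2, 1, 5, 3, 2, 1, 4, 3, 2, 1, 2, 3, 5, 1, 2, 3, 1, 0, 1, 2, 0, 1], [1, 0, 2, 1, 0, 1, 3, 2, 1, 5, 3, 2, 1, 4, 3, 1, 0, 1, 0, 5, 1, 2], [1, 0, 2, 1, 0, 1, 3, 2, 1, 5, 3, 2, 1, 4, 3, 1, 0, 2, 1, 0, 1, 3, 2, 1, 5, 3, 2, 1, 2], [1, 0, 2, 1, 0, 1, 3, 2, 1, 5, 3, 2, 1, 4, 3, 1, 0, 2, 1, 0, 1, 3, 2, 1, 5, 3, 2, 1, 4], [1, 0, 2, 1, 0, 1, 3, 2, 1, 5, 3, 2, 1, 4, 3, 1, 0, 2, 1, 0, 1, 3, 2, 1, 5, 3, 2, 5, 0, 1, 0, 1], [1, 0, 2, 1, 0, 1, 3, 2, 1, 5, 3, 2, 1, 4, 3, 1, 5, 0, 1, 0, 1, 2], [1, 0, 2, 1, 0, 1, 3, 2, 1, 5, 3, 2, 1, 4, 3, 1, 5, 0, 1, 2, 1, 0, 1, 3, 2, 1, 5, 3, 2, 1], [1, 0, 2, 1, 0, 1, 3, 2, 1, 5, 3, 2, 1, 4, 3, 1, 5, 0, 1, 0, 2, 3, 5, 1, 2, 3, 1, 0, 1, 2, 0, 1], [1, 0, 2, 1, 0, 1, 3, 2, 1, 5, 3, 2, 1, 4, 3, 1, 2, 3, 5, 1, 2, 3, 1, 0, 1, 2, 0, 1, 2], [1, 0, 2, 1, 0, 1, 3, 2, 1, 5, 3, 2, 1, 4, 3, 1, 2, 3, 5, 1, 2, 3, 1, 0, 1, 2, 0, 1, 3], [1, 0, 2, 1, 0, 1, 3, 2, 1, 5, 3, 2, 1, 4, 3, 1, 2, 3, 5, 1, 2, 3, 1, 0, 1, 2, 1, 0, 5, 1], [1, 0, 2, 1, 0, 1, 3, 2, 1, 5, 3, 2, 1, 4, 3, 1, 2, 3, 5, 1, 2, 3, 1, 0, 1, 2, 0, 5, 0, 1, 0, 1], [1, 0, 2, 1, 0, 1, 3, 2, 1, 5, 3, 2, 1, 4, 1, 0, 1, 0, 5, 1, 2, 3], [1, 0, 2, 1, 0, 1, 3, 2, 1, 5, 3, 2, 1, 4, 1, 0, 1, 0, 5, 1, 2, 1, 0, 2, 1, 0, 1, 3, 2, 1, 5, 3, 2, 1], [1, 0, 2, 1, 0, 1, 3, 2, 1, 5, 3, 2, 1, 4, 1, 0, 1, 0, 5, 1, 2, 1, 2, 3, 5, 1, 2, 3, 1, 0, 1, 2, 0, 1], [1, 0, 2, 1, 0, 1, 3, 2, 1, 5, 3, 2, 1, 4, 1, 0, 1, 0, 5, 0, 2, 1, 0, 1, 3, 2, 1, 5, 3, 2, 1, 2], [1, 0, 2, 1, 0, 1, 3, 2, 1, 5, 3, 2, 1, 4, 1, 0, 1, 0, 5, 0, 2, 1, 0, 1, 3, 2, 1, 5, 3, 2, 1, 3], [1, 0, 2, 1, 0, 1, 3, 2, 1, 5, 3, 2, 1, 4, 1, 0, 1, 0, 5, 0, 2, 1, 0, 1, 3, 2, 1, 5, 3, 2, 1, 4], [1, 0, 2, 1, 0, 1, 3, 2, 1, 5, 3, 2, 1, 4, 1, 0, 1, 0, 5, 0, 2, 1, 0, 1, 3, 2, 1, 5, 3, 2, 0, 1, 0, 5, 1], [1, 0, 2, 1, 0, 1, 3, 2, 1, 5, 3, 2, 1, 4, 1, 0, 1, 0, 5, 2, 3, 5, 1, 2, 3, 1, 0, 1, 2, 0, 1, 4], [1, 0, 2, 1, 0, 1, 3, 2, 1, 5, 3, 2, 1, 4, 1, 0, 1, 0, 5, 2, 3, 5, 1, 2, 3, 1, 0, 1, 2, 0, 5, 0, 1, 0, 1], [1, 0, 2, 1, 0, 1, 3, 2, 1, 5, 3, 2, 1, 4, 1, 0, 2, 1, 0, 1, 3, 2, 1, 5, 3, 2, 1, 2, 3], [1, 0, 2, 1, 0, 1, 3, 2, 1, 5, 3, 2, 1, 4, 1, 0, 2, 1, 0, 1, 3, 2, 1, 5, 3, 2, 1, 2, 4], [1, 0, 2, 1, 0, 1, 3, 2, 1, 5, 3, 2, 1, 4, 1, 0, 2, 1, 0, 1, 3, 2, 1, 5, 3, 2, 1, 2, 1, 0, 1, 0, 5, 1], [1, 0, 2, 1, 0, 1, 3, 2, 1, 5, 3, 2, 1, 4, 1, 0, 2, 1, 0, 1, 3, 2, 1, 5, 3, 2, 1, 2, 1, 5, 0, 1, 0, 1], [1, 0, 2, 1, 0, 1, 3, 2, 1, 5, 3, 2, 1, 4, 1, 0, 2, 1, 0, 1, 3, 2, 1, 5, 3, 2, 1, 4, 3], [1, 0, 2, 1, 0, 1, 3, 2, 1, 5, 3, 2, 1, 4, 1, 0, 2, 1, 0, 1, 3, 2, 1, 5, 3, 2, 1, 4, 1, 0, 1, 0, 5, 1], [1, 0, 2, 1, 0, 1, 3, 2, 1, 5, 3, 2, 1, 4, 1, 0, 2, 1, 0, 1, 3, 2, 1, 5, 3, 2, 1, 4, 1, 0, 2, 1, 0, 1, 3, 2, 1, 5, 3, 2, 1], [1, 0, 2, 1, 0, 1, 3, 2, 1, 5, 3, 2, 1, 4, 1, 0, 2, 1, 0, 1, 3, 2, 1, 5, 3, 2, 1, 4, 1, 5, 0, 1, 0, 1], [1, 0, 2, 1, 0, 1, 3, 2, 1, 5, 3, 2, 1, 4, 1, 0, 2, 1, 0, 1, 3, 2, 1, 5, 3, 2, 1, 4, 1, 2, 3, 5, 1, 2, 3, 1, 0, 1, 2, 0, 1], [1, 0, 2, 1, 0, 1, 3, 2, 1, 5, 3, 2, 1, 4, 1, 0, 2, 1, 0, 1, 3, 2, 1, 5, 3, 2, 0, 1, 0, 5, 1, 2], [1, 0, 2, 1, 0, 1, 3, 2, 1, 5, 3, 2, 1, 4, 1, 0, 2, 1, 0, 1, 3, 2, 1, 5, 3, 2, 0, 1, 0, 5, 0, 2, 1, 0, 1, 3, 2, 1, 5, 3, 2, 1], [1, 0, 2, 1, 0, 1, 3, 2, 1, 5, 3, 2, 1, 4, 1, 0, 2, 1, 0, 1, 3, 2, 1, 5, 3, 2, 5, 0, 1, 0, 1, 2], [1, 0, 2, 1, 0, 1, 3, 2, 1, 5, 3, 2, 1, 4, 1, 0, 2, 1, 0, 1, 3, 2, 1, 5, 3, 2, 5, 0, 1, 2, 1, 0, 1, 3, 2, 1, 5, 3, 2, 1], [1, 0, 2, 1, 0, 1, 3, 2, 1, 5, 3, 2, 1, 4, 1, 0, 2, 1, 0, 1, 3, 2, 1, 5, 3, 2, 5, 0, 1, 0, 2, 3, 5, 1, 2, 3, 1, 0, 1, 2, 0, 1], [1, 0, 2, 1, 0, 1, 3, 2, 1, 5, 3, 2, 1, 4, 1, 5, 0, 1, 2, 1, 0, 1, 3, 2, 1, 5, 3, 2, 0, 1, 0, 5, 1], [1, 0, 2, 1, 0, 1, 3, 2, 1, 5, 3, 2, 1, 4, 1, 5, 0, 1, 0, 2, 3, 5, 1, 2, 3, 1, 0, 1, 2, 0, 1, 2], [1, 0, 2, 1, 0, 1, 3, 2, 1, 5, 3, 2, 1, 4, 1, 5, 0, 1, 0, 2, 3, 5, 1, 2, 3, 1, 0, 1, 2, 0, 1, 4], [1, 0, 2, 1, 0, 1, 3, 2, 1, 5, 3, 2, 1, 4, 1, 5, 0, 1, 0, 2, 3, 5, 1, 2, 3, 1, 0, 1, 2, 1, 0, 5, 1], [1, 0, 2, 1, 0, 1, 3, 2, 1, 5, 3, 2, 1, 4, 1, 2, 3, 5, 1, 2, 3, 1, 0, 1, 2, 0, 1, 3, 2], [1, 0, 2, 1, 0, 1, 3, 2, 1, 5, 3, 2, 1, 4, 1, 2, 3, 5, 1, 2, 3, 1, 0, 1, 2, 0, 1, 3, 1, 5, 0, 1, 0, 1], [1, 0, 2, 1, 0, 1, 3, 2, 1, 5, 3, 2, 1, 4, 1, 2, 3, 5, 1, 2, 3, 1, 0, 1, 2, 0, 1, 3, 1, 2, 3, 5, 1, 2, 3, 1, 0, 1, 2, 0, 1], [1, 0, 2, 1, 0, 1, 3, 2, 1, 5, 3, 2, 1, 4, 1, 2, 3, 5, 1, 2, 3, 1, 0, 1, 2, 1, 0, 5, 1, 2], [1, 0, 2, 1, 0, 1, 3, 2, 1, 5, 3, 2, 1, 4, 1, 2, 3, 5, 1, 2, 3, 1, 0, 1, 2, 1, 0, 5, 0, 2, 1, 0, 1, 3, 2, 1, 5, 3, 2, 1], [1, 0, 2, 1, 0, 1, 3, 2, 1, 5, 3, 2, 1, 4, 1, 2, 3, 5, 1, 2, 3, 1, 0, 1, 2, 0, 5, 0, 1, 0, 1, 2], [1, 0, 2, 1, 0, 1, 3, 2, 1, 5, 3, 2, 1, 4, 1, 2, 3, 5, 1, 2, 3, 1, 0, 1, 2, 0, 5, 0, 1, 2, 1, 0, 1, 3, 2, 1, 5, 3, 2, 1], [1, 2, 3, 5, 1, 2, 3, 1, 0, 1, 2, 0, 1, 2, 4, 1, 0, 2, 1, 0, 1, 3, 2, 1, 5, 3, 2, 1, 3], [1, 2, 3, 5, 1, 2, 3, 1, 0, 1, 2, 0, 1, 2, 4, 1, 0, 2, 1, 0, 1, 3, 2, 1, 5, 3, 2, 0, 1, 0, 5, 1], [1, 2, 3, 5, 1, 2, 3, 1, 0, 1, 2, 0, 1, 2, 4, 1, 0, 2, 1, 0, 1, 3, 2, 1, 5, 3, 2, 5, 0, 1, 0, 1], [1, 2, 3, 5, 1, 2, 3, 1, 0, 1, 2, 0, 1, 2, 4, 1, 5, 0, 1, 2, 1, 0, 1, 3, 2, 1, 5, 3, 2, 1], [1, 2, 3, 5, 1, 2, 3, 1, 0, 1, 2, 0, 1, 2, 4, 1, 5, 0, 1, 0, 2, 3, 5, 1, 2, 3, 1, 0, 1, 2, 0, 1], [1, 2, 3, 5, 1, 2, 3, 1, 0, 1, 2, 0, 1, 2, 4, 1, 2, 3, 5, 1, 2, 3, 1, 0, 1, 2, 0, 1, 3], [1, 2, 3, 5, 1, 2, 3, 1, 0, 1, 2, 0, 1, 2, 4, 1, 2, 3, 5, 1, 2, 3, 1, 0, 1, 2, 0, 1, 4], [1, 2, 3, 5, 1, 2, 3, 1, 0, 1, 2, 0, 1, 2, 4, 1, 2, 3, 5, 1, 2, 3, 1, 0, 1, 2, 1, 0, 5, 1], [1, 2, 3, 5, 1, 2, 3, 1, 0, 1, 2, 0, 1, 2, 4, 1, 2, 3, 5, 1, 2, 3, 1, 0, 1, 2, 0, 5, 0, 1, 0, 1], [1, 2, 3, 5, 1, 2, 3, 1, 0, 1, 2, 0, 1, 4, 3, 2, 1, 0, 1, 0, 5, 1], [1, 2, 3, 5, 1, 2, 3, 1, 0, 1, 2, 0, 1, 4, 3, 2, 1, 0, 2, 1, 0, 1, 3, 2, 1, 5, 3, 2, 1], [1, 2, 3, 5, 1, 2, 3, 1, 0, 1, 2, 0, 1, 4, 3, 2, 1, 5, 0, 1, 0, 1], [1, 2, 3, 5, 1, 2, 3, 1, 0, 1, 2, 0, 1, 4, 3, 2, 1, 2, 3, 5, 1, 2, 3, 1, 0, 1, 2, 0, 1], [1, 2, 3, 5, 1, 2, 3, 1, 0, 1, 2, 0, 1, 4, 3, 1, 0, 2, 1, 0, 1, 3, 2, 1, 5, 3, 2, 1, 2], [1, 2, 3, 5, 1, 2, 3, 1, 0, 1, 2, 0, 1, 4, 3, 1, 0, 2, 1, 0, 1, 3, 2, 1, 5, 3, 2, 0, 1, 0, 5, 1], [1, 2, 3, 5, 1, 2, 3, 1, 0, 1, 2, 0, 1, 4, 3, 1, 5, 0, 1, 0, 1, 2], [1, 2, 3, 5, 1, 2, 3, 1, 0, 1, 2, 0, 1, 4, 3, 1, 2, 3, 5, 1, 2, 3, 1, 0, 1, 2, 0, 1, 2], [1, 2, 3, 5, 1, 2, 3, 1, 0, 1, 2, 0, 1, 4, 3, 1, 2, 3, 5, 1, 2, 3, 1, 0, 1, 2, 0, 1, 4], [1, 2, 3, 5, 1, 2, 3, 1, 0, 1, 2, 0, 1, 4, 3, 1, 2, 3, 5, 1, 2, 3, 1, 0, 1, 2, 1, 0, 5, 1], [1, 2, 3, 5, 1, 2, 3, 1, 0, 1, 2, 0, 1, 4, 1, 0, 2, 1, 0, 1, 3, 2, 1, 5, 3, 2, 1, 3, 2], [1, 2, 3, 5, 1, 2, 3, 1, 0, 1, 2, 0, 1, 4, 1, 0, 2, 1, 0, 1, 3, 2, 1, 5, 3, 2, 1, 3, 1, 0, 2, 1, 0, 1, 3, 2, 1, 5, 3, 2, 1], [1, 2, 3, 5, 1, 2, 3, 1, 0, 1, 2, 0, 1, 4, 1, 0, 2, 1, 0, 1, 3, 2, 1, 5, 3, 2, 0, 1, 0, 5, 1, 2], [1, 2, 3, 5, 1, 2, 3, 1, 0, 1, 2, 0, 1, 4, 1, 0, 2, 1, 0, 1, 3, 2, 1, 5, 3, 2, 0, 1, 0, 5, 0, 2, 1, 0, 1, 3, 2, 1, 5, 3, 2, 1], [1, 2, 3, 5, 1, 2, 3, 1, 0, 1, 2, 0, 1, 4, 1, 0, 2, 1, 0, 1, 3, 2, 1, 5, 3, 2, 5, 0, 1, 0, 1, 2], [1, 2, 3, 5, 1, 2, 3, 1, 0, 1, 2, 0, 1, 4, 1, 5, 0, 1, 0, 1, 2, 3], [1, 2, 3, 5, 1, 2, 3, 1, 0, 1, 2, 0, 1, 4, 1, 5, 0, 1, 0, 1, 2, 1, 0, 2, 1, 0, 1, 3, 2, 1, 5, 3, 2, 1], [1, 2, 3, 5, 1, 2, 3, 1, 0, 1, 2, 0, 1, 4, 1, 5, 0, 1, 0, 1, 2, 1, 2, 3, 5, 1, 2, 3, 1, 0, 1, 2, 0, 1], [1, 2, 3, 5, 1, 2, 3, 1, 0, 1, 2, 0, 1, 4, 1, 5, 0, 1, 2, 1, 0, 1, 3, 2, 1, 5, 3, 2, 1, 4], [1, 2, 3, 5, 1, 2, 3, 1, 0, 1, 2, 0, 1, 4, 1, 5, 0, 1, 2, 1, 0, 1, 3, 2, 1, 5, 3, 2, 0, 1, 0, 5, 1], [1, 2, 3, 5, 1, 2, 3, 1, 0, 1, 2, 0, 1, 4, 1, 5, 0, 1, 0, 2, 3, 5, 1, 2, 3, 1, 0, 1, 2, 0, 1, 2], [1, 2, 3, 5, 1, 2, 3, 1, 0, 1, 2, 0, 1, 4, 1, 5, 0, 1, 0, 2, 3, 5, 1, 2, 3, 1, 0, 1, 2, 0, 1, 3], [1, 2, 3, 5, 1, 2, 3, 1, 0, 1, 2, 0, 1, 4, 1, 5, 0, 1, 0, 2, 3, 5, 1, 2, 3, 1, 0, 1, 2, 0, 1, 4], [1, 2, 3, 5, 1, 2, 3, 1, 0, 1, 2, 0, 1, 4, 1, 2, 3, 5, 1, 2, 3, 1, 0, 1, 2, 0, 1, 2, 3], [1, 2, 3, 5, 1, 2, 3, 1, 0, 1, 2, 0, 1, 4, 1, 2, 3, 5, 1, 2, 3, 1, 0, 1, 2, 0, 1, 2, 1, 0, 1, 0, 5, 1], [1, 2, 3, 5, 1, 2, 3, 1, 0, 1, 2, 0, 1, 4, 1, 2, 3, 5, 1, 2, 3, 1, 0, 1, 2, 0, 1, 2, 1, 5, 0, 1, 0, 1], [1, 2, 3, 5, 1, 2, 3, 1, 0, 1, 2, 0, 1, 4, 1, 2, 3, 5, 1, 2, 3, 1, 0, 1, 2, 0, 1, 4, 3], [1, 2, 3, 5, 1, 2, 3, 1, 0, 1, 2, 0, 1, 4, 1, 2, 3, 5, 1, 2, 3, 1, 0, 1, 2, 0, 1, 4, 1, 0, 1, 0, 5, 1], [1, 2, 3, 5, 1, 2, 3, 1, 0, 1, 2, 0, 1, 4, 1, 2, 3, 5, 1, 2, 3, 1, 0, 1, 2, 0, 1, 4, 1, 5, 0, 1, 0, 1], [1, 2, 3, 5, 1, 2, 3, 1, 0, 1, 2, 0, 1, 4, 1, 2, 3, 5, 1, 2, 3, 1, 0, 1, 2, 0, 1, 4, 1, 2, 3, 5, 1, 2, 3, 1, 0, 1, 2, 0, 1], [1, 2, 3, 5, 1, 2, 3, 1, 0, 1, 2, 0, 1, 4, 1, 2, 3, 5, 1, 2, 3, 1, 0, 1, 2, 1, 0, 5, 1, 2], [1, 2, 3, 5, 1, 2, 3, 1, 0, 1, 2, 0, 1, 4, 1, 2, 3, 5, 1, 2, 3, 1, 0, 1, 2, 1, 0, 5, 0, 2, 1, 0, 1, 3, 2, 1, 5, 3, 2, 1], [1, 2, 3, 5, 1, 2, 3, 1, 0, 1, 2, 0, 1, 4, 1, 2, 3, 5, 1, 2, 3, 1, 0, 1, 2, 0, 5, 0, 1, 0, 1, 2], [0, 2, 3, 4, 1, 0, 2, 1, 0, 1, 3, 2, 1, 5, 3, 2, 0, 1, 0, 5, 1], [0, 2, 3, 4, 1, 2, 3, 5, 1, 2, 3, 1, 0, 1, 2, 0, 1, 3], [0, 2, 3, 4, 1, 2, 3, 5, 1, 2, 3, 1, 0, 1, 2, 0, 1, 4], [0, 2, 3, 4, 1, 2, 3, 5, 1, 2, 3, 1, 0, 1, 2, 0, 5, 0, 1, 0, 1], [0, 2, 3, 1, 2, 3, 5, 1, 2, 3, 1, 0, 1, 2, 0, 1, 4, 3], [0, 2, 3, 1, 2, 3, 5, 1, 2, 3, 1, 0, 1, 2, 0, 1, 4, 1, 2, 3, 5, 1, 2, 3, 1, 0, 1, 2, 0, 1], [0, 2, 1, 0, 2, 1, 0, 1, 3, 2, 1, 5, 3, 2, 1, 4, 1, 0, 2, 1, 0, 1, 3, 2, 1, 5, 3, 2, 1, 4], [0, 2, 1, 0, 2, 1, 0, 1, 3, 2, 1, 5, 3, 2, 1, 4, 1, 0, 2, 1, 0, 1, 3, 2, 1, 5, 3, 2, 0, 1, 0, 5, 1], [0, 2, 1, 0, 2, 1, 0, 1, 3, 2, 1, 5, 3, 2, 1, 4, 1, 0, 2, 1, 0, 1, 3, 2, 1, 5, 3, 2, 5, 0, 1, 0, 1], [0, 2, 1, 0, 2, 1, 0, 1, 3, 2, 1, 5, 3, 2, 1, 4, 1, 2, 3, 5, 1, 2, 3, 1, 0, 1, 2, 0, 5, 0, 1, 0, 1], [0, 2, 1, 5, 0, 1, 0, 2, 3, 5, 1, 2, 3, 1, 0, 1, 2, 0, 1, 4, 3], [0, 2, 1, 5, 0, 1, 0, 2, 3, 5, 1, 2, 3, 1, 0, 1, 2, 0, 1, 4, 1, 0, 2, 1, 0, 1, 3, 2, 1, 5, 3, 2, 1], [0, 2, 1, 2, 3, 5, 1, 2, 3, 1, 0, 1, 2, 0, 1, 3, 4, 3], [0, 2, 1, 2, 3, 5, 1, 2, 3, 1, 0, 1, 2, 0, 1, 3, 4, 1, 2, 3, 5, 1, 2, 3, 1, 0, 1, 2, 0, 1], [0, 2, 1, 2, 3, 5, 1, 2, 3, 1, 0, 1, 2, 0, 1, 4, 3, 2], [0, 2, 1, 2, 3, 5, 1, 2, 3, 1, 0, 1, 2, 0, 1, 4, 3, 1, 0, 2, 1, 0, 1, 3, 2, 1, 5, 3, 2, 1], [0, 2, 1, 2, 3, 5, 1, 2, 3, 1, 0, 1, 2, 0, 1, 4, 3, 1, 5, 0, 1, 0, 1], [0, 2, 1, 2, 3, 5, 1, 2, 3, 1, 0, 1, 2, 0, 1, 4, 3, 1, 2, 3, 5, 1, 2, 3, 1, 0, 1, 2, 0, 1], [0, 2, 1, 2, 3, 5, 1, 2, 3, 1, 0, 1, 2, 0, 1, 4, 1, 0, 2, 1, 0, 1, 3, 2, 1, 5, 3, 2, 5, 0, 1, 0, 1], [0, 2, 1, 2, 3, 5, 1, 2, 3, 1, 0, 1, 2, 0, 1, 4, 1, 5, 0, 1, 2, 1, 0, 1, 3, 2, 1, 5, 3, 2, 1], [0, 2, 1, 2, 3, 5, 1, 2, 3, 1, 0, 1, 2, 0, 1, 4, 1, 2, 3, 5, 1, 2, 3, 1, 0, 1, 2, 0, 1, 3], [0, 2, 1, 2, 3, 5, 1, 2, 3, 1, 0, 1, 2, 0, 1, 4, 1, 2, 3, 5, 1, 2, 3, 1, 0, 1, 2, 0, 1, 4], [0, 2, 1, 2, 3, 5, 1, 2, 3, 1, 0, 1, 2, 0, 1, 4, 1, 2, 3, 5, 1, 2, 3, 1, 0, 1, 2, 1, 0, 5, 1], [0, 1, 0, 2, 1, 0, 1, 3, 2, 1, 5, 3, 2, 1, 2, 4, 3, 2], [0, 1, 0, 2, 1, 0, 1, 3, 2, 1, 5, 3, 2, 1, 2, 4, 3, 1, 0, 1, 0, 5, 1], [0, 1, 0, 2, 1, 0, 1, 3, 2, 1, 5, 3, 2, 1, 2, 4, 3, 1, 0, 2, 1, 0, 1, 3, 2, 1, 5, 3, 2, 1], [0, 1, 0, 2, 1, 0, 1, 3, 2, 1, 5, 3, 2, 1, 2, 4, 3, 1, 2, 3, 5, 1, 2, 3, 1, 0, 1, 2, 0, 1], [0, 1, 0, 2, 1, 0, 1, 3, 2, 1, 5, 3, 2, 1, 2, 4, 1, 0, 1, 0, 5, 0, 2, 1, 0, 1, 3, 2, 1, 5, 3, 2, 1], [0, 1, 0, 2, 1, 0, 1, 3, 2, 1, 5, 3, 2, 1, 2, 4, 1, 0, 2, 1, 0, 1, 3, 2, 1, 5, 3, 2, 1, 4], [0, 1, 0, 2, 1, 0, 1, 3, 2, 1, 5, 3, 2, 1, 2, 4, 1, 2, 3, 5, 1, 2, 3, 1, 0, 1, 2, 1, 0, 5, 1], [0, 1, 0, 2, 1, 0, 1, 3, 2, 1, 5, 3, 2, 1, 4, 3, 2, 3], [0, 1, 0, 2, 1, 0, 1, 3, 2, 1, 5, 3, 2, 1, 4, 3, 2, 1, 0, 1, 0, 5, 1], [0, 1, 0, 2, 1, 0, 1, 3, 2, 1, 5, 3, 2, 1, 4, 3, 2, 1, 0, 2, 1, 0, 1, 3, 2, 1, 5, 3, 2, 1], [0, 1, 0, 2, 1, 0, 1, 3, 2, 1, 5, 3, 2, 1, 4, 3, 2, 1, 5, 0, 1, 0, 1], [0, 1, 0, 2, 1, 0, 1, 3, 2, 1, 5, 3, 2, 1, 4, 3, 2, 1, 2, 3, 5, 1, 2, 3, 1, 0, 1, 2, 0, 1], [0, 1, 0, 2, 1, 0, 1, 3, 2, 1, 5, 3, 2, 1, 4, 3, 1, 0, 1, 0, 5, 1, 2], [0, 1, 0, 2, 1, 0, 1, 3, 2, 1, 5, 3, 2, 1, 4, 3, 1, 0, 2, 1, 0, 1, 3, 2, 1, 5, 3, 2, 1, 2], [0, 1, 0, 2, 1, 0, 1, 3, 2, 1, 5, 3, 2, 1, 4, 3, 1, 0, 2, 1, 0, 1, 3, 2, 1, 5, 3, 2, 1, 4], [0, 1, 0, 2, 1, 0, 1, 3, 2, 1, 5, 3, 2, 1, 4, 3, 1, 2, 3, 5, 1, 2, 3, 1, 0, 1, 2, 0, 1, 2], [0, 1, 0, 2, 1, 0, 1, 3, 2, 1, 5, 3, 2, 1, 4, 3, 1, 2, 3, 5, 1, 2, 3, 1, 0, 1, 2, 0, 5, 0, 1, 0, 1], [0, 1, 0, 2, 1, 0, 1, 3, 2, 1, 5, 3, 2, 1, 4, 1, 0, 1, 0, 5, 0, 2, 1, 0, 1, 3, 2, 1, 5, 3, 2, 1, 4], [0, 1, 0, 2, 1, 0, 1, 3, 2, 1, 5, 3, 2, 1, 4, 1, 0, 1, 0, 5, 2, 3, 5, 1, 2, 3, 1, 0, 1, 2, 0, 1, 2], [0, 1, 0, 2, 1, 0, 1, 3, 2, 1, 5, 3, 2, 1, 4, 1, 0, 1, 0, 5, 2, 3, 5, 1, 2, 3, 1, 0, 1, 2, 0, 1, 4], [0, 1, 0, 2, 1, 0, 1, 3, 2, 1, 5, 3, 2, 1, 4, 1, 0, 2, 1, 0, 1, 3, 2, 1, 5, 3, 2, 1, 2, 3], [0, 1, 0, 2, 1, 0, 1, 3, 2, 1, 5, 3, 2, 1, 4, 1, 0, 2, 1, 0, 1, 3, 2, 1, 5, 3, 2, 1, 2, 4], [0, 1, 0, 2, 1, 0, 1, 3, 2, 1, 5, 3, 2, 1, 4, 1, 0, 2, 1, 0, 1, 3, 2, 1, 5, 3, 2, 1, 2, 1, 0, 1, 0, 5, 1], [0, 1, 0, 2, 1, 0, 1, 3, 2, 1, 5, 3, 2, 1, 4, 1, 0, 2, 1, 0, 1, 3, 2, 1, 5, 3, 2, 1, 2, 1, 5, 0, 1, 0, 1], [0, 1, 0, 2, 1, 0, 1, 3, 2, 1, 5, 3, 2, 1, 4, 1, 0, 2, 1, 0, 1, 3, 2, 1, 5, 3, 2, 1, 4, 3], [0, 1, 0, 2, 1, 0, 1, 3, 2, 1, 5, 3, 2, 1, 4, 1, 0, 2, 1, 0, 1, 3, 2, 1, 5, 3, 2, 1, 4, 1, 0, 1, 0, 5, 1], [0, 1, 0, 2, 1, 0, 1, 3, 2, 1, 5, 3, 2, 1, 4, 1, 0, 2, 1, 0, 1, 3, 2, 1, 5, 3, 2, 1, 4, 1, 0, 2, 1, 0, 1, 3, 2, 1, 5, 3, 2, 1], [0, 1, 0, 2, 1, 0, 1, 3, 2, 1, 5, 3, 2, 1, 4, 1, 0, 2, 1, 0, 1, 3, 2, 1, 5, 3, 2, 1, 4, 1, 5, 0, 1, 0, 1], [0, 1, 0, 2, 1, 0, 1, 3, 2, 1, 5, 3, 2, 1, 4, 1, 0, 2, 1, 0, 1, 3, 2, 1, 5, 3, 2, 1, 4, 1, 2, 3, 5, 1, 2, 3, 1, 0, 1, 2, 0, 1], [0, 1, 0, 2, 1, 0, 1, 3, 2, 1, 5, 3, 2, 1, 4, 1, 0, 2, 1, 0, 1, 3, 2, 1, 5, 3, 2, 0, 1, 0, 5, 1, 2], [0, 1, 0, 2, 1, 0, 1, 3, 2, 1, 5, 3, 2, 1, 4, 1, 0, 2, 1, 0, 1, 3, 2, 1, 5, 3, 2, 5, 0, 1, 2, 1, 0, 1, 3, 2, 1, 5, 3, 2, 1], [0, 1, 0, 2, 1, 0, 1, 3, 2, 1, 5, 3, 2, 1, 4, 1, 0, 2, 1, 0, 1, 3, 2, 1, 5, 3, 2, 5, 0, 1, 0, 2, 3, 5, 1, 2, 3, 1, 0, 1, 2, 0, 1], [0, 1, 0, 2, 1, 0, 1, 3, 2, 1, 5, 3, 2, 1, 4, 1, 2, 3, 5, 1, 2, 3, 1, 0, 1, 2, 0, 1, 3, 2], [0, 1, 0, 2, 1, 0, 1, 3, 2, 1, 5, 3, 2, 1, 4, 1, 2, 3, 5, 1, 2, 3, 1, 0, 1, 2, 0, 1, 3, 1, 5, 0, 1, 0, 1], [0, 1, 0, 2, 1, 0, 1, 3, 2, 1, 5, 3, 2, 1, 4, 1, 2, 3, 5, 1, 2, 3, 1, 0, 1, 2, 1, 0, 5, 1, 2], [0, 1, 0, 2, 1, 0, 1, 3, 2, 1, 5, 3, 2, 1, 4, 1, 2, 3, 5, 1, 2, 3, 1, 0, 1, 2, 0, 5, 0, 1, 0, 1, 2], [0, 1, 0, 2, 1, 0, 1, 3, 2, 1, 5, 3, 2, 1, 4, 1, 2, 3, 5, 1, 2, 3, 1, 0, 1, 2, 0, 5, 0, 1, 2, 1, 0, 1, 3, 2, 1, 5, 3, 2, 1], [0, 1, 2, 3, 5, 1, 2, 3, 1, 0, 1, 2, 0, 1, 4, 3, 2, 1, 0, 1, 0, 5, 1], [0, 1, 2, 3, 5, 1, 2, 3, 1, 0, 1, 2, 0, 1, 4, 3, 2, 1, 0, 2, 1, 0, 1, 3, 2, 1, 5, 3, 2, 1], [0, 1, 2, 3, 5, 1, 2, 3, 1, 0, 1, 2, 0, 1, 4, 3, 2, 1, 5, 0, 1, 0, 1], [0, 1, 2, 3, 5, 1, 2, 3, 1, 0, 1, 2, 0, 1, 4, 3, 2, 1, 2, 3, 5, 1, 2, 3, 1, 0, 1, 2, 0, 1], [0, 1, 2, 3, 5, 1, 2, 3, 1, 0, 1, 2, 0, 1, 4, 3, 1, 0, 2, 1, 0, 1, 3, 2, 1, 5, 3, 2, 1, 2], [0, 1, 2, 3, 5, 1, 2, 3, 1, 0, 1, 2, 0, 1, 4, 3, 1, 2, 3, 5, 1, 2, 3, 1, 0, 1, 2, 0, 1, 2], [0, 1, 2, 3, 5, 1, 2, 3, 1, 0, 1, 2, 0, 1, 4, 3, 1, 2, 3, 5, 1, 2, 3, 1, 0, 1, 2, 0, 1, 4], [0, 1, 2, 3, 5, 1, 2, 3, 1, 0, 1, 2, 0, 1, 4, 1, 0, 2, 1, 0, 1, 3, 2, 1, 5, 3, 2, 1, 3, 2], [0, 1, 2, 3, 5, 1, 2, 3, 1, 0, 1, 2, 0, 1, 4, 1, 0, 2, 1, 0, 1, 3, 2, 1, 5, 3, 2, 1, 3, 1, 0, 2, 1, 0, 1, 3, 2, 1, 5, 3, 2, 1], [0, 1, 2, 3, 5, 1, 2, 3, 1, 0, 1, 2, 0, 1, 4, 1, 0, 2, 1, 0, 1, 3, 2, 1, 5, 3, 2, 0, 1, 0, 5, 2, 3, 5, 1, 2, 3, 1, 0, 1, 2, 0, 1], [0, 1, 2, 3, 5, 1, 2, 3, 1, 0, 1, 2, 0, 1, 4, 1, 2, 3, 5, 1, 2, 3, 1, 0, 1, 2, 0, 1, 2, 1, 0, 1, 0, 5, 1], [0, 1, 2, 3, 5, 1, 2, 3, 1, 0, 1, 2, 0, 1, 4, 1, 2, 3, 5, 1, 2, 3, 1, 0, 1, 2, 0, 1, 2, 1, 5, 0, 1, 0, 1], [0, 1, 2, 3, 5, 1, 2, 3, 1, 0, 1, 2, 0, 1, 4, 1, 2, 3, 5, 1, 2, 3, 1, 0, 1, 2, 0, 1, 4, 3], [0, 1, 2, 3, 5, 1, 2, 3, 1, 0, 1, 2, 0, 1, 4, 1, 2, 3, 5, 1, 2, 3, 1, 0, 1, 2, 0, 1, 4, 1, 0, 1, 0, 5, 1], [0, 1, 2, 3, 5, 1, 2, 3, 1, 0, 1, 2, 0, 1, 4, 1, 2, 3, 5, 1, 2, 3, 1, 0, 1, 2, 0, 1, 4, 1, 5, 0, 1, 0, 1], [0, 1, 2, 3, 5, 1, 2, 3, 1, 0, 1, 2, 0, 1, 4, 1, 2, 3, 5, 1, 2, 3, 1, 0, 1, 2, 0, 1, 4, 1, 2, 3, 5, 1, 2, 3, 1, 0, 1, 2, 0, 1], [0, 1, 2, 3, 5, 1, 2, 3, 1, 0, 1, 2, 0, 1, 4, 1, 2, 3, 5, 1, 2, 3, 1, 0, 1, 2, 1, 0, 5, 0, 2, 1, 0, 1, 3, 2, 1, 5, 3, 2, 1], [0, 1, 2, 3, 5, 1, 2, 3, 1, 0, 1, 2, 0, 1, 4, 1, 2, 3, 5, 1, 2, 3, 1, 0, 1, 2, 1, 0, 5, 2, 3, 5, 1, 2, 3, 1, 0, 1, 2, 0, 1], [2, 3, 4, 1, 0, 2, 1, 0, 1, 3, 2, 1, 5, 3, 2, 1, 0, 3], [2, 3, 4, 1, 0, 2, 1, 0, 1, 3, 2, 1, 5, 3, 2, 1, 0, 1, 0, 1, 0, 5, 1], [2, 3, 4, 1, 0, 2, 1, 0, 1, 3, 2, 1, 5, 3, 2, 1, 2, 1, 5, 0, 1, 0, 1], [2, 3, 4, 1, 0, 2, 1, 0, 1, 3, 2, 1, 5, 3, 2, 1, 3, 2], [2, 3, 4, 1, 0, 2, 1, 0, 1, 3, 2, 1, 5, 3, 2, 1, 3, 1, 0, 2, 1, 0, 1, 3, 2, 1, 5, 3, 2, 1], [2, 3, 4, 1, 0, 2, 1, 0, 1, 3, 2, 1, 5, 3, 2, 0, 1, 0, 5, 0, 2, 1, 0, 1, 3, 2, 1, 5, 3, 2, 1], [2, 3, 4, 1, 0, 2, 1, 0, 1, 3, 2, 1, 5, 3, 2, 0, 1, 0, 5, 2, 3, 5, 1, 2, 3, 1, 0, 1, 2, 0, 1], [2, 3, 4, 1, 0, 2, 1, 0, 1, 3, 2, 1, 5, 3, 2, 5, 0, 1, 2, 1, 0, 1, 3, 2, 1, 5, 3, 2, 1], [2, 3, 4, 1, 0, 2, 1, 0, 1, 3, 2, 1, 5, 3, 2, 5, 0, 1, 0, 2, 3, 5, 1, 2, 3, 1, 0, 1, 2, 0, 1], [2, 3, 4, 1, 5, 0, 1, 0, 1, 5, 1, 2, 3, 5, 1, 2, 3, 1, 0, 1, 2, 0, 1], [2, 3, 4, 1, 5, 0, 1, 2, 1, 0, 1, 3, 2, 1, 5, 3, 2, 1, 4], [2, 3, 4, 1, 5, 0, 1, 2, 1, 0, 1, 3, 2, 1, 5, 3, 2, 0, 1, 0, 5, 1], [2, 3, 4, 1, 5, 0, 1, 0, 2, 3, 5, 1, 2, 3, 1, 0, 1, 2, 0, 1, 2], [2, 3, 4, 1, 5, 0, 1, 0, 2, 3, 5, 1, 2, 3, 1, 0, 1, 2, 0, 1, 4], [2, 3, 4, 1, 2, 3, 5, 1, 2, 3, 1, 0, 1, 2, 0, 1, 2, 3], [2, 3, 4, 1, 2, 3, 5, 1, 2, 3, 1, 0, 1, 2, 0, 1, 2, 4], [2, 3, 4, 1, 2, 3, 5, 1, 2, 3, 1, 0, 1, 2, 0, 1, 2, 1, 0, 1, 0, 5, 1], [2, 3, 4, 1, 2, 3, 5, 1, 2, 3, 1, 0, 1, 2, 0, 1, 2, 1, 5, 0, 1, 0, 1], [2, 3, 4, 1, 2, 3, 5, 1, 2, 3, 1, 0, 1, 2, 0, 1, 3, 2], [2, 3, 4, 1, 2, 3, 5, 1, 2, 3, 1, 0, 1, 2, 0, 1, 3, 4], [2, 3, 4, 1, 2, 3, 5, 1, 2, 3, 1, 0, 1, 2, 0, 1, 3, 5], [2, 3, 4, 1, 2, 3, 5, 1, 2, 3, 1, 0, 1, 2, 0, 1, 3, 1, 0, 2, 1, 0, 1, 3, 2, 1, 5, 3, 2, 1], [2, 3, 4, 1, 2, 3, 5, 1, 2, 3, 1, 0, 1, 2, 0, 1, 4, 3], [2, 3, 4, 1, 2, 3, 5, 1, 2, 3, 1, 0, 1, 2, 0, 1, 4, 5], [2, 3, 4, 1, 2, 3, 5, 1, 2, 3, 1, 0, 1, 2, 0, 1, 4, 1, 0, 1, 0, 5, 1], [2, 3, 4, 1, 2, 3, 5, 1, 2, 3, 1, 0, 1, 2, 0, 1, 4, 1, 0, 2, 1, 0, 1, 3, 2, 1, 5, 3, 2, 1], [2, 3, 4, 1, 2, 3, 5, 1, 2, 3, 1, 0, 1, 2, 0, 1, 4, 1, 5, 0, 1, 0, 1], [2, 3, 4, 1, 2, 3, 5, 1, 2, 3, 1, 0, 1, 2, 0, 1, 4, 1, 2, 3, 5, 1, 2, 3, 1, 0, 1, 2, 0, 1], [2, 3, 4, 1, 2, 3, 5, 1, 2, 3, 1, 0, 1, 2, 0, 1, 5, 1, 0, 1, 0, 5, 1], [2, 3, 4, 1, 2, 3, 5, 1, 2, 3, 1, 0, 1, 2, 0, 1, 5, 1, 5, 0, 1, 0, 1], [2, 3, 4, 1, 2, 3, 5, 1, 2, 3, 1, 0, 1, 2, 1, 0, 5, 0, 2, 1, 0, 1, 3, 2, 1, 5, 3, 2, 1], [2, 3, 4, 1, 2, 3, 5, 1, 2, 3, 1, 0, 1, 2, 1, 0, 5, 2, 3, 5, 1, 2, 3, 1, 0, 1, 2, 0, 1], [2, 3, 4, 1, 2, 3, 5, 1, 2, 3, 1, 0, 1, 2, 0, 5, 0, 1, 0, 1, 2], [2, 3, 4, 1, 2, 3, 5, 1, 2, 3, 1, 0, 1, 2, 0, 5, 0, 1, 2, 1, 0, 1, 3, 2, 1, 5, 3, 2, 1], [2, 3, 1, 2, 3, 5, 1, 2, 3, 1, 0, 1, 2, 0, 1, 4, 3, 2], [2, 3, 1, 2, 3, 5, 1, 2, 3, 1, 0, 1, 2, 0, 1, 4, 3, 1, 0, 2, 1, 0, 1, 3, 2, 1, 5, 3, 2, 1], [2, 3, 1, 2, 3, 5, 1, 2, 3, 1, 0, 1, 2, 0, 1, 4, 3, 1, 5, 0, 1, 0, 1], [2, 3, 1, 2, 3, 5, 1, 2, 3, 1, 0, 1, 2, 0, 1, 4, 1, 0, 2, 1, 0, 1, 3, 2, 1, 5, 3, 2, 1, 3], [2, 3, 1, 2, 3, 5, 1, 2, 3, 1, 0, 1, 2, 0, 1, 4, 1, 0, 2, 1, 0, 1, 3, 2, 1, 5, 3, 2, 1, 4], [2, 3, 1, 2, 3, 5, 1, 2, 3, 1, 0, 1, 2, 0, 1, 4, 1, 0, 2, 1, 0, 1, 3, 2, 1, 5, 3, 2, 0, 1, 0, 5, 1], [2, 3, 1, 2, 3, 5, 1, 2, 3, 1, 0, 1, 2, 0, 1, 4, 1, 0, 2, 1, 0, 1, 3, 2, 1, 5, 3, 2, 5, 0, 1, 0, 1], [2, 3, 1, 2, 3, 5, 1, 2, 3, 1, 0, 1, 2, 0, 1, 4, 1, 2, 3, 5, 1, 2, 3, 1, 0, 1, 2, 0, 1, 3], [2, 5, 1, 0, 2, 1, 0, 1, 3, 2, 1, 5, 3, 2, 1, 4, 1, 0, 2, 1, 0, 1, 3, 2, 1, 5, 3, 2, 1, 4], [2, 5, 1, 0, 2, 1, 0, 1, 3, 2, 1, 5, 3, 2, 1, 4, 1, 0, 2, 1, 0, 1, 3, 2, 1, 5, 3, 2, 5, 0, 1, 0, 1], [2, 5, 1, 0, 2, 1, 0, 1, 3, 2, 1, 5, 3, 2, 1, 4, 1, 2, 3, 5, 1, 2, 3, 1, 0, 1, 2, 0, 5, 0, 1, 0, 1], [2, 5, 1, 2, 3, 5, 1, 2, 3, 1, 0, 1, 2, 0, 1, 4, 3, 2], [2, 5, 1, 2, 3, 5, 1, 2, 3, 1, 0, 1, 2, 0, 1, 4, 3, 1, 2, 3, 5, 1, 2, 3, 1, 0, 1, 2, 0, 1], [2, 5, 1, 2, 3, 5, 1, 2, 3, 1, 0, 1, 2, 0, 1, 4, 1, 0, 2, 1, 0, 1, 3, 2, 1, 5, 3, 2, 0, 1, 0, 5, 1], [2, 5, 1, 2, 3, 5, 1, 2, 3, 1, 0, 1, 2, 0, 1, 4, 1, 0, 2, 1, 0, 1, 3, 2, 1, 5, 3, 2, 5, 0, 1, 0, 1], [2, 5, 1, 2, 3, 5, 1, 2, 3, 1, 0, 1, 2, 0, 1, 4, 1, 2, 3, 5, 1, 2, 3, 1, 0, 1, 2, 0, 1, 3], [2, 5, 1, 2, 3, 5, 1, 2, 3, 1, 0, 1, 2, 0, 1, 4, 1, 2, 3, 5, 1, 2, 3, 1, 0, 1, 2, 0, 1, 4], [2, 5, 1, 2, 3, 5, 1, 2, 3, 1, 0, 1, 2, 0, 1, 4, 1, 2, 3, 5, 1, 2, 3, 1, 0, 1, 2, 1, 0, 5, 1], [2, 5, 1, 2, 3, 5, 1, 2, 3, 1, 0, 1, 2, 0, 1, 4, 1, 2, 3, 5, 1, 2, 3, 1, 0, 1, 2, 0, 5, 0, 1, 0, 1], [2, 1, 0, 2, 1, 0, 1, 3, 2, 1, 5, 3, 2, 1, 0, 4, 1, 0, 2, 1, 0, 1, 3, 2, 1, 5, 3, 2, 1, 3], [2, 1, 0, 2, 1, 0, 1, 3, 2, 1, 5, 3, 2, 1, 0, 4, 1, 0, 2, 1, 0, 1, 3, 2, 1, 5, 3, 2, 5, 0, 1, 0, 1], [2, 1, 0, 2, 1, 0, 1, 3, 2, 1, 5, 3, 2, 1, 0, 4, 1, 2, 3, 5, 1, 2, 3, 1, 0, 1, 2, 0, 5, 0, 1, 0, 1], [2, 1, 0, 2, 1, 0, 1, 3, 2, 1, 5, 3, 2, 1, 2, 4, 3, 1, 0, 2, 1, 0, 1, 3, 2, 1, 5, 3, 2, 1], [2, 1, 0, 2, 1, 0, 1, 3, 2, 1, 5, 3, 2, 1, 2, 4, 1, 2, 3, 5, 1, 2, 3, 1, 0, 1, 2, 1, 0, 5, 1], [2, 1, 0, 2, 1, 0, 1, 3, 2, 1, 5, 3, 2, 1, 2, 4, 1, 2, 3, 5, 1, 2, 3, 1, 0, 1, 2, 0, 5, 0, 1, 0, 1], [2, 1, 0, 2, 1, 0, 1, 3, 2, 1, 5, 3, 2, 1, 4, 1, 0, 1, 0, 5, 0, 2, 1, 0, 1, 3, 2, 1, 5, 3, 2, 1, 4], [2, 1, 0, 2, 1, 0, 1, 3, 2, 1, 5, 3, 2, 1, 4, 1, 0, 1, 0, 5, 0, 2, 1, 0, 1, 3, 2, 1, 5, 3, 2, 0, 1, 0, 5, 1], [2, 1, 0, 2, 1, 0, 1, 3, 2, 1, 5, 3, 2, 1, 4, 1, 0, 1, 0, 5, 2, 3, 5, 1, 2, 3, 1, 0, 1, 2, 0, 1, 4], [2, 1, 0, 2, 1, 0, 1, 3, 2, 1, 5, 3, 2, 1, 4, 1, 0, 1, 0, 5, 2, 3, 5, 1, 2, 3, 1, 0, 1, 2, 0, 5, 0, 1, 0, 1], [2, 1, 0, 2, 1, 0, 1, 3, 2, 1, 5, 3, 2, 1, 4, 1, 0, 2, 1, 0, 1, 3, 2, 1, 5, 3, 2, 1, 3, 2], [2, 1, 0, 2, 1, 0, 1, 3, 2, 1, 5, 3, 2, 1, 4, 1, 0, 2, 1, 0, 1, 3, 2, 1, 5, 3, 2, 1, 3, 4], [2, 1, 0, 2, 1, 0, 1, 3, 2, 1, 5, 3, 2, 1, 4, 1, 0, 2, 1, 0, 1, 3, 2, 1, 5, 3, 2, 1, 3, 1, 2, 3, 5, 1, 2, 3, 1, 0, 1, 2, 0, 1], [2, 1, 0, 2, 1, 0, 1, 3, 2, 1, 5, 3, 2, 1, 4, 1, 0, 2, 1, 0, 1, 3, 2, 1, 5, 3, 2, 1, 4, 3], [2, 1, 0, 2, 1, 0, 1, 3, 2, 1, 5, 3, 2, 1, 4, 1, 0, 2, 1, 0, 1, 3, 2, 1, 5, 3, 2, 1, 4, 1, 0, 1, 0, 5, 1], [2, 1, 0, 2, 1, 0, 1, 3, 2, 1, 5, 3, 2, 1, 4, 1, 0, 2, 1, 0, 1, 3, 2, 1, 5, 3, 2, 1, 4, 1, 0, 2, 1, 0, 1, 3, 2, 1, 5, 3, 2, 1], [2, 1, 0, 2, 1, 0, 1, 3, 2, 1, 5, 3, 2, 1, 4, 1, 0, 2, 1, 0, 1, 3, 2, 1, 5, 3, 2, 1, 4, 1, 5, 0, 1, 0, 1], [2, 1, 0, 2, 1, 0, 1, 3, 2, 1, 5, 3, 2, 1, 4, 1, 0, 2, 1, 0, 1, 3, 2, 1, 5, 3, 2, 5, 0, 1, 2, 1, 0, 1, 3, 2, 1, 5, 3, 2, 1], [2, 1, 0, 2, 1, 0, 1, 3, 2, 1, 5, 3, 2, 1, 4, 1, 0, 2, 1, 0, 1, 3, 2, 1, 5, 3, 2, 5, 0, 1, 0, 2, 3, 5, 1, 2, 3, 1, 0, 1, 2, 0, 1], [2, 1, 0, 2, 1, 0, 1, 3, 2, 1, 5, 3, 2, 1, 4, 1, 2, 3, 5, 1, 2, 3, 1, 0, 1, 2, 0, 1, 3, 1, 0, 2, 1, 0, 1, 3, 2, 1, 5, 3, 2, 1], [2, 1, 0, 2, 1, 0, 1, 3, 2, 1, 5, 3, 2, 1, 4, 1, 2, 3, 5, 1, 2, 3, 1, 0, 1, 2, 0, 1, 3, 1, 2, 3, 5, 1, 2, 3, 1, 0, 1, 2, 0, 1], [2, 1, 0, 2, 1, 0, 1, 3, 2, 1, 5, 3, 2, 1, 4, 1, 2, 3, 5, 1, 2, 3, 1, 0, 1, 2, 1, 0, 5, 1, 2], [2, 1, 0, 2, 1, 0, 1, 3, 2, 1, 5, 3, 2, 1, 4, 1, 2, 3, 5, 1, 2, 3, 1, 0, 1, 2, 1, 0, 5, 0, 2, 1, 0, 1, 3, 2, 1, 5, 3, 2, 1], [2, 1, 0, 2, 1, 0, 1, 3, 2, 1, 5, 3, 2, 1, 4, 1, 2, 3, 5, 1, 2, 3, 1, 0, 1, 2, 0, 5, 0, 1, 0, 1, 2], [2, 1, 0, 2, 1, 0, 1, 3, 2, 1, 5, 3, 2, 1, 4, 1, 2, 3, 5, 1, 2, 3, 1, 0, 1, 2, 0, 5, 0, 1, 2, 1, 0, 1, 3, 2, 1, 5, 3, 2, 1], [2, 1, 0, 2, 1, 0, 1, 3, 2, 1, 5, 3, 2, 0, 1, 0, 5, 0, 2, 1, 0, 1, 3, 2, 1, 5, 3, 2, 1, 4, 3], [2, 1, 0, 2, 1, 0, 1, 3, 2, 1, 5, 3, 2, 0, 1, 0, 5, 2, 3, 5, 1, 2, 3, 1, 0, 1, 2, 0, 1, 4, 3], [2, 1, 0, 2, 1, 0, 1, 3, 2, 1, 5, 3, 2, 0, 1, 0, 5, 2, 3, 5, 1, 2, 3, 1, 0, 1, 2, 0, 1, 4, 1, 0, 2, 1, 0, 1, 3, 2, 1, 5, 3, 2, 1], [2, 1, 5, 0, 1, 0, 2, 3, 5, 1, 2, 3, 1, 0, 1, 2, 0, 1, 4, 3, 2], [2, 1, 5, 0, 1, 0, 2, 3, 5, 1, 2, 3, 1, 0, 1, 2, 0, 1, 4, 3, 1, 0, 2, 1, 0, 1, 3, 2, 1, 5, 3, 2, 1], [2, 1, 5, 0, 1, 0, 2, 3, 5, 1, 2, 3, 1, 0, 1, 2, 0, 1, 4, 1, 0, 2, 1, 0, 1, 3, 2, 1, 5, 3, 2, 0, 1, 0, 5, 1], [2, 1, 5, 0, 1, 0, 2, 3, 5, 1, 2, 3, 1, 0, 1, 2, 0, 1, 4, 1, 0, 2, 1, 0, 1, 3, 2, 1, 5, 3, 2, 5, 0, 1, 0, 1], [2, 1, 2, 3, 5, 1, 2, 3, 1, 0, 1, 2, 0, 1, 2, 4, 3, 2], [2, 1, 2, 3, 5, 1, 2, 3, 1, 0, 1, 2, 0, 1, 2, 4, 3, 1, 0, 2, 1, 0, 1, 3, 2, 1, 5, 3, 2, 1], [2, 1, 2, 3, 5, 1, 2, 3, 1, 0, 1, 2, 0, 1, 2, 4, 1, 0, 2, 1, 0, 1, 3, 2, 1, 5, 3, 2, 1, 3], [2, 1, 2, 3, 5, 1, 2, 3, 1, 0, 1, 2, 0, 1, 2, 4, 1, 0, 2, 1, 0, 1, 3, 2, 1, 5, 3, 2, 0, 1, 0, 5, 1], [2, 1, 2, 3, 5, 1, 2, 3, 1, 0, 1, 2, 0, 1, 2, 4, 1, 0, 2, 1, 0, 1, 3, 2, 1, 5, 3, 2, 5, 0, 1, 0, 1], [2, 1, 2, 3, 5, 1, 2, 3, 1, 0, 1, 2, 0, 1, 4, 3, 2, 3], [2, 1, 2, 3, 5, 1, 2, 3, 1, 0, 1, 2, 0, 1, 4, 3, 2, 5], [2, 1, 2, 3, 5, 1, 2, 3, 1, 0, 1, 2, 0, 1, 4, 3, 2, 1, 0, 1, 0, 5, 1], [2, 1, 2, 3, 5, 1, 2, 3, 1, 0, 1, 2, 0, 1, 4, 3, 2, 1, 5, 0, 1, 0, 1], [2, 1, 2, 3, 5, 1, 2, 3, 1, 0, 1, 2, 0, 1, 4, 3, 5, 1, 2, 3, 5, 1, 2, 3, 1, 0, 1, 2, 0, 1], [2, 1, 2, 3, 5, 1, 2, 3, 1, 0, 1, 2, 0, 1, 4, 3, 1, 0, 2, 1, 0, 1, 3, 2, 1, 5, 3, 2, 1, 4], [2, 1, 2, 3, 5, 1, 2, 3, 1, 0, 1, 2, 0, 1, 4, 3, 1, 5, 0, 1, 0, 1, 2], [2, 1, 2, 3, 5, 1, 2, 3, 1, 0, 1, 2, 0, 1, 4, 3, 1, 5, 0, 1, 2, 1, 0, 1, 3, 2, 1, 5, 3, 2, 1], [2, 1, 2, 3, 5, 1, 2, 3, 1, 0, 1, 2, 0, 1, 4, 3, 1, 2, 3, 5, 1, 2, 3, 1, 0, 1, 2, 0, 5, 0, 1, 0, 1], [2, 1, 2, 3, 5, 1, 2, 3, 1, 0, 1, 2, 0, 1, 4, 5, 1, 0, 2, 1, 0, 1, 3, 2, 1, 5, 3, 2, 5, 0, 1, 0, 1], [2, 1, 2, 3, 5, 1, 2, 3, 1, 0, 1, 2, 0, 1, 4, 1, 0, 2, 1, 0, 1, 3, 2, 1, 5, 3, 2, 1, 3, 4], [2, 1, 2, 3, 5, 1, 2, 3, 1, 0, 1, 2, 0, 1, 4, 1, 0, 2, 1, 0, 1, 3, 2, 1, 5, 3, 2, 1, 3, 1, 0, 1, 0, 5, 1], [2, 1, 2, 3, 5, 1, 2, 3, 1, 0, 1, 2, 0, 1, 4, 1, 0, 2, 1, 0, 1, 3, 2, 1, 5, 3, 2, 0, 1, 0, 5, 0, 2, 1, 0, 1, 3, 2, 1, 5, 3, 2, 1], [2, 1, 2, 3, 5, 1, 2, 3, 1, 0, 1, 2, 0, 1, 4, 1, 0, 2, 1, 0, 1, 3, 2, 1, 5, 3, 2, 5, 0, 1, 0, 1, 2], [2, 1, 2, 3, 5, 1, 2, 3, 1, 0, 1, 2, 0, 1, 4, 1, 0, 2, 1, 0, 1, 3, 2, 1, 5, 3, 2, 5, 0, 1, 2, 1, 0, 1, 3, 2, 1, 5, 3, 2, 1], [2, 1, 2, 3, 5, 1, 2, 3, 1, 0, 1, 2, 0, 1, 4, 1, 0, 2, 1, 0, 1, 3, 2, 1, 5, 3, 2, 5, 0, 1, 0, 2, 3, 5, 1, 2, 3, 1, 0, 1, 2, 0, 1], [2, 1, 2, 3, 5, 1, 2, 3, 1, 0, 1, 2, 0, 1, 4, 1, 5, 0, 1, 2, 1, 0, 1, 3, 2, 1, 5, 3, 2, 1, 4], [2, 1, 2, 3, 5, 1, 2, 3, 1, 0, 1, 2, 0, 1, 4, 1, 5, 0, 1, 2, 1, 0, 1, 3, 2, 1, 5, 3, 2, 0, 1, 0, 5, 1], [2, 1, 2, 3, 5, 1, 2, 3, 1, 0, 1, 2, 0, 1, 4, 1, 5, 0, 1, 0, 2, 3, 5, 1, 2, 3, 1, 0, 1, 2, 0, 1, 4], [2, 1, 2, 3, 5, 1, 2, 3, 1, 0, 1, 2, 0, 1, 4, 1, 2, 3, 5, 1, 2, 3, 1, 0, 1, 2, 0, 1, 3, 2], [2, 1, 2, 3, 5, 1, 2, 3, 1, 0, 1, 2, 0, 1, 4, 1, 2, 3, 5, 1, 2, 3, 1, 0, 1, 2, 0, 1, 3, 1, 5, 0, 1, 0, 1], [2, 1, 2, 3, 5, 1, 2, 3, 1, 0, 1, 2, 0, 1, 4, 1, 2, 3, 5, 1, 2, 3, 1, 0, 1, 2, 0, 1, 4, 3], [2, 1, 2, 3, 5, 1, 2, 3, 1, 0, 1, 2, 0, 1, 4, 1, 2, 3, 5, 1, 2, 3, 1, 0, 1, 2, 0, 1, 4, 1, 0, 1, 0, 5, 1], [2, 1, 2, 3, 5, 1, 2, 3, 1, 0, 1, 2, 0, 1, 4, 1, 2, 3, 5, 1, 2, 3, 1, 0, 1, 2, 0, 1, 4, 1, 5, 0, 1, 0, 1], [2, 1, 2, 3, 5, 1, 2, 3, 1, 0, 1, 2, 0, 1, 4, 1, 2, 3, 5, 1, 2, 3, 1, 0, 1, 2, 0, 1, 4, 1, 2, 3, 5, 1, 2, 3, 1, 0, 1, 2, 0, 1], [2, 1, 2, 3, 5, 1, 2, 3, 1, 0, 1, 2, 0, 1, 4, 1, 2, 3, 5, 1, 2, 3, 1, 0, 1, 2, 1, 0, 5, 0, 2, 1, 0, 1, 3, 2, 1, 5, 3, 2, 1], [5, 1, 0, 2, 1, 0, 1, 3, 2, 1, 5, 3, 2, 1, 2, 4, 3, 2], [5, 1, 0, 2, 1, 0, 1, 3, 2, 1, 5, 3, 2, 1, 2, 4, 3, 1, 2, 3, 5, 1, 2, 3, 1, 0, 1, 2, 0, 1], [5, 1, 0, 2, 1, 0, 1, 3, 2, 1, 5, 3, 2, 1, 2, 4, 1, 0, 2, 1, 0, 1, 3, 2, 1, 5, 3, 2, 1, 3], [5, 1, 0, 2, 1, 0, 1, 3, 2, 1, 5, 3, 2, 1, 2, 4, 1, 0, 2, 1, 0, 1, 3, 2, 1, 5, 3, 2, 1, 4], [5, 1, 0, 2, 1, 0, 1, 3, 2, 1, 5, 3, 2, 1, 2, 4, 1, 0, 2, 1, 0, 1, 3, 2, 1, 5, 3, 2, 0, 1, 0, 5, 1], [5, 1, 0, 2, 1, 0, 1, 3, 2, 1, 5, 3, 2, 1, 2, 4, 1, 2, 3, 5, 1, 2, 3, 1, 0, 1, 2, 0, 1, 3], [5, 1, 0, 2, 1, 0, 1, 3, 2, 1, 5, 3, 2, 1, 4, 3, 2, 1, 0, 1, 0, 5, 1], [5, 1, 0, 2, 1, 0, 1, 3, 2, 1, 5, 3, 2, 1, 4, 3, 2, 1, 0, 2, 1, 0, 1, 3, 2, 1, 5, 3, 2, 1], [5, 1, 0, 2, 1, 0, 1, 3, 2, 1, 5, 3, 2, 1, 4, 3, 2, 1, 5, 0, 1, 0, 1], [5, 1, 0, 2, 1, 0, 1, 3, 2, 1, 5, 3, 2, 1, 4, 3, 2, 1, 2, 3, 5, 1, 2, 3, 1, 0, 1, 2, 0, 1], [5, 1, 0, 2, 1, 0, 1, 3, 2, 1, 5, 3, 2, 1, 4, 3, 1, 0, 2, 1, 0, 1, 3, 2, 1, 5, 3, 2, 1, 2], [5, 1, 0, 2, 1, 0, 1, 3, 2, 1, 5, 3, 2, 1, 4, 3, 1, 0, 2, 1, 0, 1, 3, 2, 1, 5, 3, 2, 1, 4], [5, 1, 0, 2, 1, 0, 1, 3, 2, 1, 5, 3, 2, 1, 4, 3, 1, 2, 3, 5, 1, 2, 3, 1, 0, 1, 2, 0, 1, 2], [5, 1, 0, 2, 1, 0, 1, 3, 2, 1, 5, 3, 2, 1, 4, 1, 0, 2, 1, 0, 1, 3, 2, 1, 5, 3, 2, 1, 2, 3], [5, 1, 0, 2, 1, 0, 1, 3, 2, 1, 5, 3, 2, 1, 4, 1, 0, 2, 1, 0, 1, 3, 2, 1, 5, 3, 2, 1, 2, 4], [5, 1, 0, 2, 1, 0, 1, 3, 2, 1, 5, 3, 2, 1, 4, 1, 0, 2, 1, 0, 1, 3, 2, 1, 5, 3, 2, 1, 2, 1, 0, 1, 0, 5, 1], [5, 1, 0, 2, 1, 0, 1, 3, 2, 1, 5, 3, 2, 1, 4, 1, 0, 2, 1, 0, 1, 3, 2, 1, 5, 3, 2, 1, 2, 1, 5, 0, 1, 0, 1], [5, 1, 0, 2, 1, 0, 1, 3, 2, 1, 5, 3, 2, 1, 4, 1, 0, 2, 1, 0, 1, 3, 2, 1, 5, 3, 2, 1, 4, 3], [5, 1, 0, 2, 1, 0, 1, 3, 2, 1, 5, 3, 2, 1, 4, 1, 0, 2, 1, 0, 1, 3, 2, 1, 5, 3, 2, 1, 4, 1, 0, 1, 0, 5, 1], [5, 1, 0, 2, 1, 0, 1, 3, 2, 1, 5, 3, 2, 1, 4, 1, 0, 2, 1, 0, 1, 3, 2, 1, 5, 3, 2, 1, 4, 1, 0, 2, 1, 0, 1, 3, 2, 1, 5, 3, 2, 1], [5, 1, 0, 2, 1, 0, 1, 3, 2, 1, 5, 3, 2, 1, 4, 1, 0, 2, 1, 0, 1, 3, 2, 1, 5, 3, 2, 1, 4, 1, 5, 0, 1, 0, 1], [5, 1, 0, 2, 1, 0, 1, 3, 2, 1, 5, 3, 2, 1, 4, 1, 0, 2, 1, 0, 1, 3, 2, 1, 5, 3, 2, 1, 4, 1, 2, 3, 5, 1, 2, 3, 1, 0, 1, 2, 0, 1], [5, 1, 0, 2, 1, 0, 1, 3, 2, 1, 5, 3, 2, 1, 4, 1, 0, 2, 1, 0, 1, 3, 2, 1, 5, 3, 2, 5, 0, 1, 0, 2, 3, 5, 1, 2, 3, 1, 0, 1, 2, 0, 1], [5, 1, 0, 2, 1, 0, 1, 3, 2, 1, 5, 3, 2, 1, 4, 1, 2, 3, 5, 1, 2, 3, 1, 0, 1, 2, 0, 1, 3, 2], [5, 1, 0, 2, 1, 0, 1, 3, 2, 1, 5, 3, 2, 1, 4, 1, 2, 3, 5, 1, 2, 3, 1, 0, 1, 2, 0, 1, 3, 1, 2, 3, 5, 1, 2, 3, 1, 0, 1, 2, 0, 1], [5, 1, 0, 2, 1, 0, 1, 3, 2, 1, 5, 3, 2, 1, 4, 1, 2, 3, 5, 1, 2, 3, 1, 0, 1, 2, 1, 0, 5, 0, 2, 1, 0, 1, 3, 2, 1, 5, 3, 2, 1], [5, 1, 0, 2, 1, 0, 1, 3, 2, 1, 5, 3, 2, 1, 4, 1, 2, 3, 5, 1, 2, 3, 1, 0, 1, 2, 0, 5, 0, 1, 2, 1, 0, 1, 3, 2, 1, 5, 3, 2, 1], [5, 1, 2, 3, 5, 1, 2, 3, 1, 0, 1, 2, 0, 1, 4, 3, 2, 1, 0, 1, 0, 5, 1], [5, 1, 2, 3, 5, 1, 2, 3, 1, 0, 1, 2, 0, 1, 4, 3, 1, 0, 2, 1, 0, 1, 3, 2, 1, 5, 3, 2, 1, 2], [5, 1, 2, 3, 5, 1, 2, 3, 1, 0, 1, 2, 0, 1, 4, 3, 1, 5, 0, 1, 0, 1, 2], [5, 1, 2, 3, 5, 1, 2, 3, 1, 0, 1, 2, 0, 1, 4, 3, 1, 2, 3, 5, 1, 2, 3, 1, 0, 1, 2, 0, 1, 2], [5, 1, 2, 3, 5, 1, 2, 3, 1, 0, 1, 2, 0, 1, 4, 3, 1, 2, 3, 5, 1, 2, 3, 1, 0, 1, 2, 0, 1, 4], [5, 1, 2, 3, 5, 1, 2, 3, 1, 0, 1, 2, 0, 1, 4, 1, 0, 2, 1, 0, 1, 3, 2, 1, 5, 3, 2, 1, 3, 1, 0, 2, 1, 0, 1, 3, 2, 1, 5, 3, 2, 1], [5, 1, 2, 3, 5, 1, 2, 3, 1, 0, 1, 2, 0, 1, 4, 1, 5, 0, 1, 2, 1, 0, 1, 3, 2, 1, 5, 3, 2, 1, 4], [5, 1, 2, 3, 5, 1, 2, 3, 1, 0, 1, 2, 0, 1, 4, 1, 5, 0, 1, 0, 2, 3, 5, 1, 2, 3, 1, 0, 1, 2, 0, 1, 4], [5, 1, 2, 3, 5, 1, 2, 3, 1, 0, 1, 2, 0, 1, 4, 1, 2, 3, 5, 1, 2, 3, 1, 0, 1, 2, 0, 1, 2, 1, 0, 1, 0, 5, 1], [5, 1, 2, 3, 5, 1, 2, 3, 1, 0, 1, 2, 0, 1, 4, 1, 2, 3, 5, 1, 2, 3, 1, 0, 1, 2, 0, 1, 4, 3], [5, 1, 2, 3, 5, 1, 2, 3, 1, 0, 1, 2, 0, 1, 4, 1, 2, 3, 5, 1, 2, 3, 1, 0, 1, 2, 0, 1, 4, 1, 0, 1, 0, 5, 1], [5, 1, 2, 3, 5, 1, 2, 3, 1, 0, 1, 2, 0, 1, 4, 1, 2, 3, 5, 1, 2, 3, 1, 0, 1, 2, 0, 1, 4, 1, 5, 0, 1, 0, 1], [5, 1, 2, 3, 5, 1, 2, 3, 1, 0, 1, 2, 0, 1, 4, 1, 2, 3, 5, 1, 2, 3, 1, 0, 1, 2, 0, 1, 4, 1, 2, 3, 5, 1, 2, 3, 1, 0, 1, 2, 0, 1], [5, 1, 2, 3, 5, 1, 2, 3, 1, 0, 1, 2, 0, 1, 4, 1, 2, 3, 5, 1, 2, 3, 1, 0, 1, 2, 1, 0, 5, 0, 2, 1, 0, 1, 3, 2, 1, 5, 3, 2, 1], [1, 0, 2, 1, 0, 1, 3, 2, 1, 5, 3, 2, 1, 0, 2, 4, 1, 0, 2, 1, 0, 1, 3, 2, 1, 5, 3, 2, 1, 4], [1, 0, 2, 1, 0, 1, 3, 2, 1, 5, 3, 2, 1, 0, 4, 3, 2, 3], [1, 0, 2, 1, 0, 1, 3, 2, 1, 5, 3, 2, 1, 0, 4, 3, 2, 1, 0, 1, 0, 5, 1], [1, 0, 2, 1, 0, 1, 3, 2, 1, 5, 3, 2, 1, 0, 4, 3, 2, 1, 5, 0, 1, 0, 1], [1, 0, 2, 1, 0, 1, 3, 2, 1, 5, 3, 2, 1, 0, 4, 3, 2, 1, 2, 3, 5, 1, 2, 3, 1, 0, 1, 2, 0, 1], [1, 0, 2, 1, 0, 1, 3, 2, 1, 5, 3, 2, 1, 0, 4, 3, 1, 0, 2, 1, 0, 1, 3, 2, 1, 5, 3, 2, 1, 2], [1, 0, 2, 1, 0, 1, 3, 2, 1, 5, 3, 2, 1, 0, 4, 3, 1, 0, 2, 1, 0, 1, 3, 2, 1, 5, 3, 2, 1, 4], [1, 0, 2, 1, 0, 1, 3, 2, 1, 5, 3, 2, 1, 0, 4, 1, 0, 2, 1, 0, 1, 3, 2, 1, 5, 3, 2, 1, 4, 3], [1, 0, 2, 1, 0, 1, 3, 2, 1, 5, 3, 2, 1, 0, 4, 1, 0, 2, 1, 0, 1, 3, 2, 1, 5, 3, 2, 1, 4, 1, 0, 1, 0, 5, 1], [1, 0, 2, 1, 0, 1, 3, 2, 1, 5, 3, 2, 1, 0, 4, 1, 0, 2, 1, 0, 1, 3, 2, 1, 5, 3, 2, 1, 4, 1, 0, 2, 1, 0, 1, 3, 2, 1, 5, 3, 2, 1], [1, 0, 2, 1, 0, 1, 3, 2, 1, 5, 3, 2, 1, 0, 4, 1, 0, 2, 1, 0, 1, 3, 2, 1, 5, 3, 2, 1, 4, 1, 5, 0, 1, 0, 1], [1, 0, 2, 1, 0, 1, 3, 2, 1, 5, 3, 2, 1, 0, 4, 1, 0, 2, 1, 0, 1, 3, 2, 1, 5, 3, 2, 1, 4, 1, 2, 3, 5, 1, 2, 3, 1, 0, 1, 2, 0, 1], [1, 0, 2, 1, 0, 1, 3, 2, 1, 5, 3, 2, 1, 0, 4, 1, 0, 2, 1, 0, 1, 3, 2, 1, 5, 3, 2, 5, 0, 1, 0, 2, 3, 5, 1, 2, 3, 1, 0, 1, 2, 0, 1], [1, 0, 2, 1, 0, 1, 3, 2, 1, 5, 3, 2, 1, 0, 4, 1, 2, 3, 5, 1, 2, 3, 1, 0, 1, 2, 0, 1, 3, 2], [1, 0, 2, 1, 0, 1, 3, 2, 1, 5, 3, 2, 1, 0, 4, 1, 2, 3, 5, 1, 2, 3, 1, 0, 1, 2, 0, 5, 0, 1, 0, 1, 2], [1, 0, 2, 1, 0, 1, 3, 2, 1, 5, 3, 2, 1, 0, 4, 1, 2, 3, 5, 1, 2, 3, 1, 0, 1, 2, 0, 5, 0, 1, 2, 1, 0, 1, 3, 2, 1, 5, 3, 2, 1], [1, 0, 2, 1, 0, 1, 3, 2, 1, 5, 3, 2, 1, 2, 3, 4, 3, 1, 2, 3, 5, 1, 2, 3, 1, 0, 1, 2, 0, 1], [1, 0, 2, 1, 0, 1, 3, 2, 1, 5, 3, 2, 1, 2, 3, 4, 1, 0, 2, 1, 0, 1, 3, 2, 1, 5, 3, 2, 1, 4], [1, 0, 2, 1, 0, 1, 3, 2, 1, 5, 3, 2, 1, 2, 3, 4, 1, 2, 3, 5, 1, 2, 3, 1, 0, 1, 2, 0, 1, 3], [1, 0, 2, 1, 0, 1, 3, 2, 1, 5, 3, 2, 1, 2, 3, 4, 1, 2, 3, 5, 1, 2, 3, 1, 0, 1, 2, 0, 1, 4], [1, 0, 2, 1, 0, 1, 3, 2, 1, 5, 3, 2, 1, 2, 3, 4, 1, 2, 3, 5, 1, 2, 3, 1, 0, 1, 2, 0, 5, 0, 1, 0, 1], [1, 0, 2, 1, 0, 1, 3, 2, 1, 5, 3, 2, 1, 2, 4, 3, 1, 2, 3, 5, 1, 2, 3, 1, 0, 1, 2, 0, 1, 4], [1, 0, 2, 1, 0, 1, 3, 2, 1, 5, 3, 2, 1, 2, 4, 1, 0, 2, 1, 0, 1, 3, 2, 1, 5, 3, 2, 1, 3, 1, 0, 2, 1, 0, 1, 3, 2, 1, 5, 3, 2, 1], [1, 0, 2, 1, 0, 1, 3, 2, 1, 5, 3, 2, 1, 2, 4, 1, 0, 2, 1, 0, 1, 3, 2, 1, 5, 3, 2, 1, 3, 1, 2, 3, 5, 1, 2, 3, 1, 0, 1, 2, 0, 1], [1, 0, 2, 1, 0, 1, 3, 2, 1, 5, 3, 2, 1, 2, 4, 1, 0, 2, 1, 0, 1, 3, 2, 1, 5, 3, 2, 1, 4, 3], [1, 0, 2, 1, 0, 1, 3, 2, 1, 5, 3, 2, 1, 2, 4, 1, 0, 2, 1, 0, 1, 3, 2, 1, 5, 3, 2, 1, 4, 1, 0, 1, 0, 5, 1], [1, 0, 2, 1, 0, 1, 3, 2, 1, 5, 3, 2, 1, 2, 4, 1, 0, 2, 1, 0, 1, 3, 2, 1, 5, 3, 2, 1, 4, 1, 5, 0, 1, 0, 1], [1, 0, 2, 1, 0, 1, 3, 2, 1, 5, 3, 2, 1, 2, 4, 1, 2, 3, 5, 1, 2, 3, 1, 0, 1, 2, 0, 1, 3, 4], [1, 0, 2, 1, 0, 1, 3, 2, 1, 5, 3, 2, 1, 2, 4, 1, 2, 3, 5, 1, 2, 3, 1, 0, 1, 2, 1, 0, 5, 2, 3, 5, 1, 2, 3, 1, 0, 1, 2, 0, 1], [1, 0, 2, 1, 0, 1, 3, 2, 1, 5, 3, 2, 1, 4, 3, 2, 3, 4], [1, 0, 2, 1, 0, 1, 3, 2, 1, 5, 3, 2, 1, 4, 3, 2, 3, 1, 0, 1, 0, 5, 1], [1, 0, 2, 1, 0, 1, 3, 2, 1, 5, 3, 2, 1, 4, 3, 2, 1, 0, 1, 0, 5, 1, 2], [1, 0, 2, 1, 0, 1, 3, 2, 1, 5, 3, 2, 1, 4, 3, 2, 1, 0, 2, 1, 0, 1, 3, 2, 1, 5, 3, 2, 1, 4], [1, 0, 2, 1, 0, 1, 3, 2, 1, 5, 3, 2, 1, 4, 3, 2, 1, 5, 0, 1, 0, 1, 2], [1, 0, 2, 1, 0, 1, 3, 2, 1, 5, 3, 2, 1, 4, 3, 2, 1, 5, 0, 1, 0, 2, 3, 5, 1, 2, 3, 1, 0, 1, 2, 0, 1], [1, 0, 2, 1, 0, 1, 3, 2, 1, 5, 3, 2, 1, 4, 3, 2, 1, 2, 3, 5, 1, 2, 3, 1, 0, 1, 2, 0, 1, 2], [1, 0, 2, 1, 0, 1, 3, 2, 1, 5, 3, 2, 1, 4, 3, 2, 1, 2, 3, 5, 1, 2, 3, 1, 0, 1, 2, 0, 1, 4], [1, 0, 2, 1, 0, 1, 3, 2, 1, 5, 3, 2, 1, 4, 3, 1, 0, 1, 0, 5, 1, 2, 3], [1, 0, 2, 1, 0, 1, 3, 2, 1, 5, 3, 2, 1, 4, 3, 1, 0, 1, 0, 5, 1, 2, 1, 5, 0, 1, 0, 1], [1, 0, 2, 1, 0, 1, 3, 2, 1, 5, 3, 2, 1, 4, 3, 1, 0, 2, 1, 0, 1, 3, 2, 1, 5, 3, 2, 1, 2, 1, 2, 3, 5, 1, 2, 3, 1, 0, 1, 2, 0, 1], [1, 0, 2, 1, 0, 1, 3, 2, 1, 5, 3, 2, 1, 4, 3, 1, 0, 2, 1, 0, 1, 3, 2, 1, 5, 3, 2, 1, 4, 1, 0, 2, 1, 0, 1, 3, 2, 1, 5, 3, 2, 1], [1, 0, 2, 1, 0, 1, 3, 2, 1, 5, 3, 2, 1, 4, 3, 1, 0, 2, 1, 0, 1, 3, 2, 1, 5, 3, 2, 1, 4, 1, 5, 0, 1, 0, 1], [1, 0, 2, 1, 0, 1, 3, 2, 1, 5, 3, 2, 1, 4, 3, 1, 0, 2, 1, 0, 1, 3, 2, 1, 5, 3, 2, 1, 4, 1, 2, 3, 5, 1, 2, 3, 1, 0, 1, 2, 0, 1], [1, 0, 2, 1, 0, 1, 3, 2, 1, 5, 3, 2, 1, 4, 3, 1, 0, 2, 1, 0, 1, 3, 2, 1, 5, 3, 2, 5, 0, 1, 0, 1, 2], [1, 0, 2, 1, 0, 1, 3, 2, 1, 5, 3, 2, 1, 4, 3, 1, 5, 0, 1, 0, 1, 2, 1, 0, 1, 0, 5, 1], [1, 0, 2, 1, 0, 1, 3, 2, 1, 5, 3, 2, 1, 4, 3, 1, 5, 0, 1, 0, 1, 2, 1, 0, 2, 1, 0, 1, 3, 2, 1, 5, 3, 2, 1], [1, 0, 2, 1, 0, 1, 3, 2, 1, 5, 3, 2, 1, 4, 3, 1, 5, 0, 1, 0, 2, 3, 5, 1, 2, 3, 1, 0, 1, 2, 0, 1, 2], [1, 0, 2, 1, 0, 1, 3, 2, 1, 5, 3, 2, 1, 4, 3, 1, 5, 0, 1, 0, 2, 3, 5, 1, 2, 3, 1, 0, 1, 2, 0, 1, 4], [1, 0, 2, 1, 0, 1, 3, 2, 1, 5, 3, 2, 1, 4, 3, 1, 2, 3, 5, 1, 2, 3, 1, 0, 1, 2, 0, 1, 2, 1, 5, 0, 1, 0, 1], [1, 0, 2, 1, 0, 1, 3, 2, 1, 5, 3, 2, 1, 4, 3, 1, 2, 3, 5, 1, 2, 3, 1, 0, 1, 2, 0, 1, 3, 1, 2, 3, 5, 1, 2, 3, 1, 0, 1, 2, 0, 1], [1, 0, 2, 1, 0, 1, 3, 2, 1, 5, 3, 2, 1, 4, 1, 0, 1, 0, 5, 1, 2, 3, 1, 2, 3, 5, 1, 2, 3, 1, 0, 1, 2, 0, 1], [1, 0, 2, 1, 0, 1, 3, 2, 1, 5, 3, 2, 1, 4, 1, 0, 1, 0, 5, 1, 2, 1, 0, 2, 1, 0, 1, 3, 2, 1, 5, 3, 2, 1, 4], [1, 0, 2, 1, 0, 1, 3, 2, 1, 5, 3, 2, 1, 4, 1, 0, 1, 0, 5, 1, 2, 1, 0, 2, 1, 0, 1, 3, 2, 1, 5, 3, 2, 0, 1, 0, 5, 1], [1, 0, 2, 1, 0, 1, 3, 2, 1, 5, 3, 2, 1, 4, 1, 0, 1, 0, 5, 1, 2, 1, 2, 3, 5, 1, 2, 3, 1, 0, 1, 2, 0, 1, 3], [1, 0, 2, 1, 0, 1, 3, 2, 1, 5, 3, 2, 1, 4, 1, 0, 1, 0, 5, 1, 2, 1, 2, 3, 5, 1, 2, 3, 1, 0, 1, 2, 0, 1, 4], [1, 0, 2, 1, 0, 1, 3, 2, 1, 5, 3, 2, 1, 4, 1, 0, 1, 0, 5, 1, 2, 1, 2, 3, 5, 1, 2, 3, 1, 0, 1, 2, 0, 5, 0, 1, 0, 1], [1, 0, 2, 1, 0, 1, 3, 2, 1, 5, 3, 2, 1, 4, 1, 0, 1, 0, 5, 0, 2, 1, 0, 1, 3, 2, 1, 5, 3, 2, 1, 2, 4], [1, 0, 2, 1, 0, 1, 3, 2, 1, 5, 3, 2, 1, 4, 1, 0, 1, 0, 5, 0, 2, 1, 0, 1, 3, 2, 1, 5, 3, 2, 1, 2, 1, 0, 1, 0, 5, 1], [1, 0, 2, 1, 0, 1, 3, 2, 1, 5, 3, 2, 1, 4, 1, 0, 1, 0, 5, 0, 2, 1, 0, 1, 3, 2, 1, 5, 3, 2, 1, 3, 4], [1, 0, 2, 1, 0, 1, 3, 2, 1, 5, 3, 2, 1, 4, 1, 0, 1, 0, 5, 0, 2, 1, 0, 1, 3, 2, 1, 5, 3, 2, 1, 4, 3], [1, 0, 2, 1, 0, 1, 3, 2, 1, 5, 3, 2, 1, 4, 1, 0, 1, 0, 5, 0, 2, 1, 0, 1, 3, 2, 1, 5, 3, 2, 1, 4, 1, 0, 1, 0, 5, 1], [1, 0, 2, 1, 0, 1, 3, 2, 1, 5, 3, 2, 1, 4, 1, 0, 1, 0, 5, 0, 2, 1, 0, 1, 3, 2, 1, 5, 3, 2, 1, 4, 1, 0, 2, 1, 0, 1, 3, 2, 1, 5, 3, 2, 1], [1, 0, 2, 1, 0, 1, 3, 2, 1, 5, 3, 2, 1, 4, 1, 0, 1, 0, 5, 2, 3, 5, 1, 2, 3, 1, 0, 1, 2, 0, 1, 4, 3], [1, 0, 2, 1, 0, 1, 3, 2, 1, 5, 3, 2, 1, 4, 1, 0, 1, 0, 5, 2, 3, 5, 1, 2, 3, 1, 0, 1, 2, 0, 1, 4, 1, 5, 0, 1, 0, 1], [1, 0, 2, 1, 0, 1, 3, 2, 1, 5, 3, 2, 1, 4, 1, 0, 1, 0, 5, 2, 3, 5, 1, 2, 3, 1, 0, 1, 2, 0, 5, 0, 1, 0, 1, 2], [1, 0, 2, 1, 0, 1, 3, 2, 1, 5, 3, 2, 1, 4, 1, 0, 2, 1, 0, 1, 3, 2, 1, 5, 3, 2, 1, 2, 3, 1, 0, 1, 0, 5, 1], [1, 0, 2, 1, 0, 1, 3, 2, 1, 5, 3, 2, 1, 4, 1, 0, 2, 1, 0, 1, 3, 2, 1, 5, 3, 2, 1, 2, 4, 3], [1, 0, 2, 1, 0, 1, 3, 2, 1, 5, 3, 2, 1, 4, 1, 0, 2, 1, 0, 1, 3, 2, 1, 5, 3, 2, 1, 2, 4, 1, 0, 1, 0, 5, 1], [1, 0, 2, 1, 0, 1, 3, 2, 1, 5, 3, 2, 1, 4, 1, 0, 2, 1, 0, 1, 3, 2, 1, 5, 3, 2, 1, 2, 4, 1, 5, 0, 1, 0, 1], [1, 0, 2, 1, 0, 1, 3, 2, 1, 5, 3, 2, 1, 4, 1, 0, 2, 1, 0, 1, 3, 2, 1, 5, 3, 2, 1, 4, 3, 2], [1, 0, 2, 1, 0, 1, 3, 2, 1, 5, 3, 2, 1, 4, 1, 0, 2, 1, 0, 1, 3, 2, 1, 5, 3, 2, 1, 4, 3, 1, 0, 1, 0, 5, 1], [1, 0, 2, 1, 0, 1, 3, 2, 1, 5, 3, 2, 1, 4, 1, 0, 2, 1, 0, 1, 3, 2, 1, 5, 3, 2, 1, 4, 3, 1, 0, 2, 1, 0, 1, 3, 2, 1, 5, 3, 2, 1], [1, 0, 2, 1, 0, 1, 3, 2, 1, 5, 3, 2, 1, 4, 1, 0, 2, 1, 0, 1, 3, 2, 1, 5, 3, 2, 1, 4, 3, 1, 5, 0, 1, 0, 1], [1, 0, 2, 1, 0, 1, 3, 2, 1, 5, 3, 2, 1, 4, 1, 0, 2, 1, 0, 1, 3, 2, 1, 5, 3, 2, 1, 4, 3, 1, 2, 3, 5, 1, 2, 3, 1, 0, 1, 2, 0, 1], [1, 0, 2, 1, 0, 1, 3, 2, 1, 5, 3, 2, 1, 4, 1, 0, 2, 1, 0, 1, 3, 2, 1, 5, 3, 2, 1, 4, 1, 0, 1, 0, 5, 1, 2], [1, 0, 2, 1, 0, 1, 3, 2, 1, 5, 3, 2, 1, 4, 1, 0, 2, 1, 0, 1, 3, 2, 1, 5, 3, 2, 1, 4, 1, 0, 1, 0, 5, 0, 2, 1, 0, 1, 3, 2, 1, 5, 3, 2, 1], [1, 0, 2, 1, 0, 1, 3, 2, 1, 5, 3, 2, 1, 4, 1, 0, 2, 1, 0, 1, 3, 2, 1, 5, 3, 2, 1, 4, 1, 0, 1, 0, 5, 2, 3, 5, 1, 2, 3, 1, 0, 1, 2, 0, 1], [1, 0, 2, 1, 0, 1, 3, 2, 1, 5, 3, 2, 1, 4, 1, 0, 2, 1, 0, 1, 3, 2, 1, 5, 3, 2, 1, 4, 1, 0, 2, 1, 0, 1, 3, 2, 1, 5, 3, 2, 0, 1, 0, 5, 1], [1, 0, 2, 1, 0, 1, 3, 2, 1, 5, 3, 2, 1, 4, 1, 0, 2, 1, 0, 1, 3, 2, 1, 5, 3, 2, 1, 4, 1, 0, 2, 1, 0, 1, 3, 2, 1, 5, 3, 2, 5, 0, 1, 0, 1], [1, 0, 2, 1, 0, 1, 3, 2, 1, 5, 3, 2, 1, 4, 1, 0, 2, 1, 0, 1, 3, 2, 1, 5, 3, 2, 1, 4, 1, 5, 0, 1, 0, 1, 2], [1, 0, 2, 1, 0, 1, 3, 2, 1, 5, 3, 2, 1, 4, 1, 0, 2, 1, 0, 1, 3, 2, 1, 5, 3, 2, 1, 4, 1, 5, 0, 1, 2, 1, 0, 1, 3, 2, 1, 5, 3, 2, 1], [1, 0, 2, 1, 0, 1, 3, 2, 1, 5, 3, 2, 1, 4, 1, 0, 2, 1, 0, 1, 3, 2, 1, 5, 3, 2, 1, 4, 1, 2, 3, 5, 1, 2, 3, 1, 0, 1, 2, 0, 1, 3], [1, 0, 2, 1, 0, 1, 3, 2, 1, 5, 3, 2, 1, 4, 1, 0, 2, 1, 0, 1, 3, 2, 1, 5, 3, 2, 1, 4, 1, 2, 3, 5, 1, 2, 3, 1, 0, 1, 2, 1, 0, 5, 1], [1, 0, 2, 1, 0, 1, 3, 2, 1, 5, 3, 2, 1, 4, 1, 0, 2, 1, 0, 1, 3, 2, 1, 5, 3, 2, 1, 4, 1, 2, 3, 5, 1, 2, 3, 1, 0, 1, 2, 0, 5, 0, 1, 0, 1], [1, 0, 2, 1, 0, 1, 3, 2, 1, 5, 3, 2, 1, 4, 1, 0, 2, 1, 0, 1, 3, 2, 1, 5, 3, 2, 0, 1, 0, 5, 0, 2, 1, 0, 1, 3, 2, 1, 5, 3, 2, 1, 4], [1, 0, 2, 1, 0, 1, 3, 2, 1, 5, 3, 2, 1, 4, 1, 0, 2, 1, 0, 1, 3, 2, 1, 5, 3, 2, 5, 0, 1, 0, 2, 3, 5, 1, 2, 3, 1, 0, 1, 2, 0, 1, 2], [1, 0, 2, 1, 0, 1, 3, 2, 1, 5, 3, 2, 1, 4, 1, 5, 0, 1, 0, 2, 3, 5, 1, 2, 3, 1, 0, 1, 2, 0, 1, 2, 1, 0, 1, 0, 5, 1], [1, 0, 2, 1, 0, 1, 3, 2, 1, 5, 3, 2, 1, 4, 1, 5, 0, 1, 0, 2, 3, 5, 1, 2, 3, 1, 0, 1, 2, 0, 1, 4, 3], [1, 0, 2, 1, 0, 1, 3, 2, 1, 5, 3, 2, 1, 4, 1, 5, 0, 1, 0, 2, 3, 5, 1, 2, 3, 1, 0, 1, 2, 0, 1, 4, 1, 0, 1, 0, 5, 1], [1, 0, 2, 1, 0, 1, 3, 2, 1, 5, 3, 2, 1, 4, 1, 5, 0, 1, 0, 2, 3, 5, 1, 2, 3, 1, 0, 1, 2, 0, 1, 4, 1, 2, 3, 5, 1, 2, 3, 1, 0, 1, 2, 0, 1], [1, 0, 2, 1, 0, 1, 3, 2, 1, 5, 3, 2, 1, 4, 1, 5, 0, 1, 0, 2, 3, 5, 1, 2, 3, 1, 0, 1, 2, 1, 0, 5, 0, 2, 1, 0, 1, 3, 2, 1, 5, 3, 2, 1], [1, 0, 2, 1, 0, 1, 3, 2, 1, 5, 3, 2, 1, 4, 1, 2, 3, 5, 1, 2, 3, 1, 0, 1, 2, 0, 1, 3, 1, 5, 0, 1, 0, 1, 2], [1, 0, 2, 1, 0, 1, 3, 2, 1, 5, 3, 2, 1, 4, 1, 2, 3, 5, 1, 2, 3, 1, 0, 1, 2, 0, 1, 3, 1, 2, 3, 5, 1, 2, 3, 1, 0, 1, 2, 0, 1, 2], [1, 0, 2, 1, 0, 1, 3, 2, 1, 5, 3, 2, 1, 4, 1, 2, 3, 5, 1, 2, 3, 1, 0, 1, 2, 0, 5, 0, 1, 0, 1, 2, 1, 2, 3, 5, 1, 2, 3, 1, 0, 1, 2, 0, 1], [1, 0, 2, 1, 0, 1, 3, 2, 1, 5, 3, 2, 1, 4, 1, 2, 3, 5, 1, 2, 3, 1, 0, 1, 2, 0, 5, 0, 1, 2, 1, 0, 1, 3, 2, 1, 5, 3, 2, 1, 2], [1, 2, 3, 5, 1, 2, 3, 1, 0, 1, 2, 0, 1, 2, 4, 1, 0, 2, 1, 0, 1, 3, 2, 1, 5, 3, 2, 1, 3, 2], [1, 2, 3, 5, 1, 2, 3, 1, 0, 1, 2, 0, 1, 2, 4, 1, 0, 2, 1, 0, 1, 3, 2, 1, 5, 3, 2, 1, 3, 1, 0, 2, 1, 0, 1, 3, 2, 1, 5, 3, 2, 1], [1, 2, 3, 5, 1, 2, 3, 1, 0, 1, 2, 0, 1, 2, 4, 1, 0, 2, 1, 0, 1, 3, 2, 1, 5, 3, 2, 0, 1, 0, 5, 2, 3, 5, 1, 2, 3, 1, 0, 1, 2, 0, 1], [1, 2, 3, 5, 1, 2, 3, 1, 0, 1, 2, 0, 1, 2, 4, 1, 0, 2, 1, 0, 1, 3, 2, 1, 5, 3, 2, 5, 0, 1, 2, 1, 0, 1, 3, 2, 1, 5, 3, 2, 1], [1, 2, 3, 5, 1, 2, 3, 1, 0, 1, 2, 0, 1, 2, 4, 1, 0, 2, 1, 0, 1, 3, 2, 1, 5, 3, 2, 5, 0, 1, 0, 2, 3, 5, 1, 2, 3, 1, 0, 1, 2, 0, 1], [1, 2, 3, 5, 1, 2, 3, 1, 0, 1, 2, 0, 1, 2, 4, 1, 5, 0, 1, 2, 1, 0, 1, 3, 2, 1, 5, 3, 2, 1, 4], [1, 2, 3, 5, 1, 2, 3, 1, 0, 1, 2, 0, 1, 2, 4, 1, 5, 0, 1, 2, 1, 0, 1, 3, 2, 1, 5, 3, 2, 0, 1, 0, 5, 1], [1, 2, 3, 5, 1, 2, 3, 1, 0, 1, 2, 0, 1, 2, 4, 1, 5, 0, 1, 0, 2, 3, 5, 1, 2, 3, 1, 0, 1, 2, 0, 1, 4], [1, 2, 3, 5, 1, 2, 3, 1, 0, 1, 2, 0, 1, 2, 4, 1, 2, 3, 5, 1, 2, 3, 1, 0, 1, 2, 0, 1, 3, 4], [1, 2, 3, 5, 1, 2, 3, 1, 0, 1, 2, 0, 1, 2, 4, 1, 2, 3, 5, 1, 2, 3, 1, 0, 1, 2, 0, 1, 4, 1, 0, 1, 0, 5, 1], [1, 2, 3, 5, 1, 2, 3, 1, 0, 1, 2, 0, 1, 2, 4, 1, 2, 3, 5, 1, 2, 3, 1, 0, 1, 2, 0, 1, 4, 1, 5, 0, 1, 0, 1], [1, 2, 3, 5, 1, 2, 3, 1, 0, 1, 2, 0, 1, 2, 4, 1, 2, 3, 5, 1, 2, 3, 1, 0, 1, 2, 1, 0, 5, 0, 2, 1, 0, 1, 3, 2, 1, 5, 3, 2, 1], [1, 2, 3, 5, 1, 2, 3, 1, 0, 1, 2, 0, 1, 4, 3, 2, 1, 0, 1, 0, 5, 1, 2], [1, 2, 3, 5, 1, 2, 3, 1, 0, 1, 2, 0, 1, 4, 3, 2, 1, 0, 2, 1, 0, 1, 3, 2, 1, 5, 3, 2, 1, 2], [1, 2, 3, 5, 1, 2, 3, 1, 0, 1, 2, 0, 1, 4, 3, 2, 1, 0, 2, 1, 0, 1, 3, 2, 1, 5, 3, 2, 0, 1, 0, 5, 1], [1, 2, 3, 5, 1, 2, 3, 1, 0, 1, 2, 0, 1, 4, 3, 2, 1, 2, 3, 5, 1, 2, 3, 1, 0, 1, 2, 0, 1, 4], [1, 2, 3, 5, 1, 2, 3, 1, 0, 1, 2, 0, 1, 4, 3, 1, 0, 2, 1, 0, 1, 3, 2, 1, 5, 3, 2, 1, 2, 1, 5, 0, 1, 0, 1], [1, 2, 3, 5, 1, 2, 3, 1, 0, 1, 2, 0, 1, 4, 3, 1, 5, 0, 1, 0, 1, 2, 1, 0, 1, 0, 5, 1], [1, 2, 3, 5, 1, 2, 3, 1, 0, 1, 2, 0, 1, 4, 3, 1, 2, 3, 5, 1, 2, 3, 1, 0, 1, 2, 0, 1, 2, 4], [1, 2, 3, 5, 1, 2, 3, 1, 0, 1, 2, 0, 1, 4, 3, 1, 2, 3, 5, 1, 2, 3, 1, 0, 1, 2, 0, 1, 4, 1, 0, 1, 0, 5, 1], [1, 2, 3, 5, 1, 2, 3, 1, 0, 1, 2, 0, 1, 4, 3, 1, 2, 3, 5, 1, 2, 3, 1, 0, 1, 2, 0, 1, 4, 1, 0, 2, 1, 0, 1, 3, 2, 1, 5, 3, 2, 1], [1, 2, 3, 5, 1, 2, 3, 1, 0, 1, 2, 0, 1, 4, 3, 1, 2, 3, 5, 1, 2, 3, 1, 0, 1, 2, 0, 1, 4, 1, 2, 3, 5, 1, 2, 3, 1, 0, 1, 2, 0, 1], [1, 2, 3, 5, 1, 2, 3, 1, 0, 1, 2, 0, 1, 4, 3, 1, 2, 3, 5, 1, 2, 3, 1, 0, 1, 2, 1, 0, 5, 1, 2], [1, 2, 3, 5, 1, 2, 3, 1, 0, 1, 2, 0, 1, 4, 1, 0, 2, 1, 0, 1, 3, 2, 1, 5, 3, 2, 0, 1, 0, 5, 1, 2, 1, 2, 3, 5, 1, 2, 3, 1, 0, 1, 2, 0, 1], [1, 2, 3, 5, 1, 2, 3, 1, 0, 1, 2, 0, 1, 4, 1, 0, 2, 1, 0, 1, 3, 2, 1, 5, 3, 2, 0, 1, 0, 5, 0, 2, 1, 0, 1, 3, 2, 1, 5, 3, 2, 1, 4], [1, 2, 3, 5, 1, 2, 3, 1, 0, 1, 2, 0, 1, 4, 1, 0, 2, 1, 0, 1, 3, 2, 1, 5, 3, 2, 5, 0, 1, 0, 1, 2, 1, 0, 2, 1, 0, 1, 3, 2, 1, 5, 3, 2, 1], [1, 2, 3, 5, 1, 2, 3, 1, 0, 1, 2, 0, 1, 4, 1, 0, 2, 1, 0, 1, 3, 2, 1, 5, 3, 2, 5, 0, 1, 0, 1, 2, 1, 2, 3, 5, 1, 2, 3, 1, 0, 1, 2, 0, 1], [1, 2, 3, 5, 1, 2, 3, 1, 0, 1, 2, 0, 1, 4, 1, 5, 0, 1, 0, 1, 2, 3, 1, 2, 3, 5, 1, 2, 3, 1, 0, 1, 2, 0, 1], [1, 2, 3, 5, 1, 2, 3, 1, 0, 1, 2, 0, 1, 4, 1, 5, 0, 1, 0, 1, 2, 1, 0, 2, 1, 0, 1, 3, 2, 1, 5, 3, 2, 1, 4], [1, 2, 3, 5, 1, 2, 3, 1, 0, 1, 2, 0, 1, 4, 1, 5, 0, 1, 0, 1, 2, 1, 2, 3, 5, 1, 2, 3, 1, 0, 1, 2, 0, 1, 3], [1, 2, 3, 5, 1, 2, 3, 1, 0, 1, 2, 0, 1, 4, 1, 5, 0, 1, 0, 1, 2, 1, 2, 3, 5, 1, 2, 3, 1, 0, 1, 2, 0, 1, 4], [1, 2, 3, 5, 1, 2, 3, 1, 0, 1, 2, 0, 1, 4, 1, 5, 0, 1, 0, 1, 2, 1, 2, 3, 5, 1, 2, 3, 1, 0, 1, 2, 0, 5, 0, 1, 0, 1], [1, 2, 3, 5, 1, 2, 3, 1, 0, 1, 2, 0, 1, 4, 1, 5, 0, 1, 2, 1, 0, 1, 3, 2, 1, 5, 3, 2, 1, 4, 3], [1, 2, 3, 5, 1, 2, 3, 1, 0, 1, 2, 0, 1, 4, 1, 5, 0, 1, 2, 1, 0, 1, 3, 2, 1, 5, 3, 2, 1, 4, 1, 0, 1, 0, 5, 1], [1, 2, 3, 5, 1, 2, 3, 1, 0, 1, 2, 0, 1, 4, 1, 5, 0, 1, 2, 1, 0, 1, 3, 2, 1, 5, 3, 2, 1, 4, 1, 0, 2, 1, 0, 1, 3, 2, 1, 5, 3, 2, 1], [1, 2, 3, 5, 1, 2, 3, 1, 0, 1, 2, 0, 1, 4, 1, 5, 0, 1, 2, 1, 0, 1, 3, 2, 1, 5, 3, 2, 0, 1, 0, 5, 1, 2], [1, 2, 3, 5, 1, 2, 3, 1, 0, 1, 2, 0, 1, 4, 1, 5, 0, 1, 0, 2, 3, 5, 1, 2, 3, 1, 0, 1, 2, 0, 1, 2, 4], [1, 2, 3, 5, 1, 2, 3, 1, 0, 1, 2, 0, 1, 4, 1, 5, 0, 1, 0, 2, 3, 5, 1, 2, 3, 1, 0, 1, 2, 0, 1, 3, 4], [1, 2, 3, 5, 1, 2, 3, 1, 0, 1, 2, 0, 1, 4, 1, 5, 0, 1, 0, 2, 3, 5, 1, 2, 3, 1, 0, 1, 2, 0, 1, 4, 3], [1, 2, 3, 5, 1, 2, 3, 1, 0, 1, 2, 0, 1, 4, 1, 5, 0, 1, 0, 2, 3, 5, 1, 2, 3, 1, 0, 1, 2, 0, 1, 4, 1, 2, 3, 5, 1, 2, 3, 1, 0, 1, 2, 0, 1], [1, 2, 3, 5, 1, 2, 3, 1, 0, 1, 2, 0, 1, 4, 1, 2, 3, 5, 1, 2, 3, 1, 0, 1, 2, 0, 1, 2, 3, 1, 2, 3, 5, 1, 2, 3, 1, 0, 1, 2, 0, 1], [1, 2, 3, 5, 1, 2, 3, 1, 0, 1, 2, 0, 1, 4, 1, 2, 3, 5, 1, 2, 3, 1, 0, 1, 2, 0, 1, 4, 3, 2], [1, 2, 3, 5, 1, 2, 3, 1, 0, 1, 2, 0, 1, 4, 1, 2, 3, 5, 1, 2, 3, 1, 0, 1, 2, 0, 1, 4, 3, 1, 0, 1, 0, 5, 1], [1, 2, 3, 5, 1, 2, 3, 1, 0, 1, 2, 0, 1, 4, 1, 2, 3, 5, 1, 2, 3, 1, 0, 1, 2, 0, 1, 4, 3, 1, 0, 2, 1, 0, 1, 3, 2, 1, 5, 3, 2, 1], [1, 2, 3, 5, 1, 2, 3, 1, 0, 1, 2, 0, 1, 4, 1, 2, 3, 5, 1, 2, 3, 1, 0, 1, 2, 0, 1, 4, 3, 1, 5, 0, 1, 0, 1], [1, 2, 3, 5, 1, 2, 3, 1, 0, 1, 2, 0, 1, 4, 1, 2, 3, 5, 1, 2, 3, 1, 0, 1, 2, 0, 1, 4, 3, 1, 2, 3, 5, 1, 2, 3, 1, 0, 1, 2, 0, 1], [1, 2, 3, 5, 1, 2, 3, 1, 0, 1, 2, 0, 1, 4, 1, 2, 3, 5, 1, 2, 3, 1, 0, 1, 2, 0, 1, 4, 1, 0, 1, 0, 5, 1, 2], [1, 2, 3, 5, 1, 2, 3, 1, 0, 1, 2, 0, 1, 4, 1, 2, 3, 5, 1, 2, 3, 1, 0, 1, 2, 0, 1, 4, 1, 0, 1, 0, 5, 0, 2, 1, 0, 1, 3, 2, 1, 5, 3, 2, 1], [1, 2, 3, 5, 1, 2, 3, 1, 0, 1, 2, 0, 1, 4, 1, 2, 3, 5, 1, 2, 3, 1, 0, 1, 2, 0, 1, 4, 1, 0, 1, 0, 5, 2, 3, 5, 1, 2, 3, 1, 0, 1, 2, 0, 1], [1, 2, 3, 5, 1, 2, 3, 1, 0, 1, 2, 0, 1, 4, 1, 2, 3, 5, 1, 2, 3, 1, 0, 1, 2, 0, 1, 4, 1, 5, 0, 1, 0, 1, 2], [1, 2, 3, 5, 1, 2, 3, 1, 0, 1, 2, 0, 1, 4, 1, 2, 3, 5, 1, 2, 3, 1, 0, 1, 2, 0, 1, 4, 1, 5, 0, 1, 2, 1, 0, 1, 3, 2, 1, 5, 3, 2, 1], [1, 2, 3, 5, 1, 2, 3, 1, 0, 1, 2, 0, 1, 4, 1, 2, 3, 5, 1, 2, 3, 1, 0, 1, 2, 0, 1, 4, 1, 5, 0, 1, 0, 2, 3, 5, 1, 2, 3, 1, 0, 1, 2, 0, 1], [1, 2, 3, 5, 1, 2, 3, 1, 0, 1, 2, 0, 1, 4, 1, 2, 3, 5, 1, 2, 3, 1, 0, 1, 2, 0, 1, 4, 1, 2, 3, 5, 1, 2, 3, 1, 0, 1, 2, 1, 0, 5, 1], [1, 2, 3, 5, 1, 2, 3, 1, 0, 1, 2, 0, 1, 4, 1, 2, 3, 5, 1, 2, 3, 1, 0, 1, 2, 1, 0, 5, 1, 2, 1, 0, 2, 1, 0, 1, 3, 2, 1, 5, 3, 2, 1], [0, 2, 3, 4, 1, 0, 2, 1, 0, 1, 3, 2, 1, 5, 3, 2, 0, 1, 0, 5, 2, 3, 5, 1, 2, 3, 1, 0, 1, 2, 0, 1], [0, 2, 3, 4, 1, 2, 3, 5, 1, 2, 3, 1, 0, 1, 2, 0, 1, 3, 4], [0, 2, 3, 4, 1, 2, 3, 5, 1, 2, 3, 1, 0, 1, 2, 0, 1, 4, 3], [0, 2, 3, 4, 1, 2, 3, 5, 1, 2, 3, 1, 0, 1, 2, 0, 1, 4, 1, 5, 0, 1, 0, 1], [0, 2, 3, 4, 1, 2, 3, 5, 1, 2, 3, 1, 0, 1, 2, 0, 1, 4, 1, 2, 3, 5, 1, 2, 3, 1, 0, 1, 2, 0, 1], [0, 2, 1, 0, 2, 1, 0, 1, 3, 2, 1, 5, 3, 2, 1, 4, 1, 0, 2, 1, 0, 1, 3, 2, 1, 5, 3, 2, 1, 4, 3], [0, 2, 1, 0, 2, 1, 0, 1, 3, 2, 1, 5, 3, 2, 1, 4, 1, 0, 2, 1, 0, 1, 3, 2, 1, 5, 3, 2, 1, 4, 1, 0, 1, 0, 5, 1], [0, 2, 1, 0, 2, 1, 0, 1, 3, 2, 1, 5, 3, 2, 1, 4, 1, 0, 2, 1, 0, 1, 3, 2, 1, 5, 3, 2, 1, 4, 1, 5, 0, 1, 0, 1], [0, 2, 1, 0, 2, 1, 0, 1, 3, 2, 1, 5, 3, 2, 1, 4, 1, 0, 2, 1, 0, 1, 3, 2, 1, 5, 3, 2, 5, 0, 1, 2, 1, 0, 1, 3, 2, 1, 5, 3, 2, 1], [0, 2, 1, 0, 2, 1, 0, 1, 3, 2, 1, 5, 3, 2, 1, 4, 1, 0, 2, 1, 0, 1, 3, 2, 1, 5, 3, 2, 5, 0, 1, 0, 2, 3, 5, 1, 2, 3, 1, 0, 1, 2, 0, 1], [0, 2, 1, 0, 2, 1, 0, 1, 3, 2, 1, 5, 3, 2, 1, 4, 1, 2, 3, 5, 1, 2, 3, 1, 0, 1, 2, 0, 5, 0, 1, 2, 1, 0, 1, 3, 2, 1, 5, 3, 2, 1], [0, 2, 1, 5, 0, 1, 0, 2, 3, 5, 1, 2, 3, 1, 0, 1, 2, 0, 1, 4, 3, 2], [0, 2, 1, 2, 3, 5, 1, 2, 3, 1, 0, 1, 2, 0, 1, 3, 4, 3, 1, 0, 2, 1, 0, 1, 3, 2, 1, 5, 3, 2, 1], [0, 2, 1, 2, 3, 5, 1, 2, 3, 1, 0, 1, 2, 0, 1, 4, 3, 2, 1, 0, 1, 0, 5, 1], [0, 2, 1, 2, 3, 5, 1, 2, 3, 1, 0, 1, 2, 0, 1, 4, 3, 1, 0, 2, 1, 0, 1, 3, 2, 1, 5, 3, 2, 1, 4], [0, 2, 1, 2, 3, 5, 1, 2, 3, 1, 0, 1, 2, 0, 1, 4, 1, 0, 2, 1, 0, 1, 3, 2, 1, 5, 3, 2, 5, 0, 1, 0, 2, 3, 5, 1, 2, 3, 1, 0, 1, 2, 0, 1], [0, 2, 1, 2, 3, 5, 1, 2, 3, 1, 0, 1, 2, 0, 1, 4, 1, 5, 0, 1, 2, 1, 0, 1, 3, 2, 1, 5, 3, 2, 1, 4], [0, 2, 1, 2, 3, 5, 1, 2, 3, 1, 0, 1, 2, 0, 1, 4, 1, 2, 3, 5, 1, 2, 3, 1, 0, 1, 2, 0, 1, 4, 1, 0, 1, 0, 5, 1], [0, 2, 1, 2, 3, 5, 1, 2, 3, 1, 0, 1, 2, 0, 1, 4, 1, 2, 3, 5, 1, 2, 3, 1, 0, 1, 2, 0, 1, 4, 1, 2, 3, 5, 1, 2, 3, 1, 0, 1, 2, 0, 1], [0, 1, 0, 2, 1, 0, 1, 3, 2, 1, 5, 3, 2, 1, 2, 4, 3, 1, 2, 3, 5, 1, 2, 3, 1, 0, 1, 2, 0, 1, 4], [0, 1, 0, 2, 1, 0, 1, 3, 2, 1, 5, 3, 2, 1, 2, 4, 3, 1, 2, 3, 5, 1, 2, 3, 1, 0, 1, 2, 0, 5, 0, 1, 0, 1], [0, 1, 0, 2, 1, 0, 1, 3, 2, 1, 5, 3, 2, 1, 2, 4, 1, 0, 1, 0, 5, 0, 2, 1, 0, 1, 3, 2, 1, 5, 3, 2, 1, 4], [0, 1, 0, 2, 1, 0, 1, 3, 2, 1, 5, 3, 2, 1, 2, 4, 1, 0, 2, 1, 0, 1, 3, 2, 1, 5, 3, 2, 1, 4, 3], [0, 1, 0, 2, 1, 0, 1, 3, 2, 1, 5, 3, 2, 1, 4, 3, 2, 1, 0, 2, 1, 0, 1, 3, 2, 1, 5, 3, 2, 1, 4], [0, 1, 0, 2, 1, 0, 1, 3, 2, 1, 5, 3, 2, 1, 4, 3, 2, 1, 5, 0, 1, 0, 1, 2], [0, 1, 0, 2, 1, 0, 1, 3, 2, 1, 5, 3, 2, 1, 4, 3, 1, 0, 1, 0, 5, 1, 2, 3], [0, 1, 0, 2, 1, 0, 1, 3, 2, 1, 5, 3, 2, 1, 4, 3, 1, 0, 2, 1, 0, 1, 3, 2, 1, 5, 3, 2, 1, 4, 1, 0, 2, 1, 0, 1, 3, 2, 1, 5, 3, 2, 1], [0, 1, 0, 2, 1, 0, 1, 3, 2, 1, 5, 3, 2, 1, 4, 3, 1, 0, 2, 1, 0, 1, 3, 2, 1, 5, 3, 2, 1, 4, 1, 2, 3, 5, 1, 2, 3, 1, 0, 1, 2, 0, 1], [0, 1, 0, 2, 1, 0, 1, 3, 2, 1, 5, 3, 2, 1, 4, 3, 1, 2, 3, 5, 1, 2, 3, 1, 0, 1, 2, 0, 1, 2, 1, 5, 0, 1, 0, 1], [0, 1, 0, 2, 1, 0, 1, 3, 2, 1, 5, 3, 2, 1, 4, 1, 0, 1, 0, 5, 2, 3, 5, 1, 2, 3, 1, 0, 1, 2, 0, 1, 2, 4], [0, 1, 0, 2, 1, 0, 1, 3, 2, 1, 5, 3, 2, 1, 4, 1, 0, 1, 0, 5, 2, 3, 5, 1, 2, 3, 1, 0, 1, 2, 0, 1, 4, 3], [0, 1, 0, 2, 1, 0, 1, 3, 2, 1, 5, 3, 2, 1, 4, 1, 0, 1, 0, 5, 2, 3, 5, 1, 2, 3, 1, 0, 1, 2, 0, 1, 4, 1, 0, 2, 1, 0, 1, 3, 2, 1, 5, 3, 2, 1], [0, 1, 0, 2, 1, 0, 1, 3, 2, 1, 5, 3, 2, 1, 4, 1, 0, 1, 0, 5, 2, 3, 5, 1, 2, 3, 1, 0, 1, 2, 0, 1, 4, 1, 2, 3, 5, 1, 2, 3, 1, 0, 1, 2, 0, 1], [0, 1, 0, 2, 1, 0, 1, 3, 2, 1, 5, 3, 2, 1, 4, 1, 0, 2, 1, 0, 1, 3, 2, 1, 5, 3, 2, 1, 2, 4, 3], [0, 1, 0, 2, 1, 0, 1, 3, 2, 1, 5, 3, 2, 1, 4, 1, 0, 2, 1, 0, 1, 3, 2, 1, 5, 3, 2, 1, 2, 4, 1, 0, 1, 0, 5, 1], [0, 1, 0, 2, 1, 0, 1, 3, 2, 1, 5, 3, 2, 1, 4, 1, 0, 2, 1, 0, 1, 3, 2, 1, 5, 3, 2, 1, 2, 4, 1, 5, 0, 1, 0, 1], [0, 1, 0, 2, 1, 0, 1, 3, 2, 1, 5, 3, 2, 1, 4, 1, 0, 2, 1, 0, 1, 3, 2, 1, 5, 3, 2, 1, 4, 3, 2], [0, 1, 0, 2, 1, 0, 1, 3, 2, 1, 5, 3, 2, 1, 4, 1, 0, 2, 1, 0, 1, 3, 2, 1, 5, 3, 2, 1, 4, 3, 1, 0, 1, 0, 5, 1], [0, 1, 0, 2, 1, 0, 1, 3, 2, 1, 5, 3, 2, 1, 4, 1, 0, 2, 1, 0, 1, 3, 2, 1, 5, 3, 2, 1, 4, 3, 1, 0, 2, 1, 0, 1, 3, 2, 1, 5, 3, 2, 1], [0, 1, 0, 2, 1, 0, 1, 3, 2, 1, 5, 3, 2, 1, 4, 1, 0, 2, 1, 0, 1, 3, 2, 1, 5, 3, 2, 1, 4, 3, 1, 5, 0, 1, 0, 1], [0, 1, 0, 2, 1, 0, 1, 3, 2, 1, 5, 3, 2, 1, 4, 1, 0, 2, 1, 0, 1, 3, 2, 1, 5, 3, 2, 1, 4, 3, 1, 2, 3, 5, 1, 2, 3, 1, 0, 1, 2, 0, 1], [0, 1, 0, 2, 1, 0, 1, 3, 2, 1, 5, 3, 2, 1, 4, 1, 0, 2, 1, 0, 1, 3, 2, 1, 5, 3, 2, 1, 4, 1, 0, 1, 0, 5, 1, 2], [0, 1, 0, 2, 1, 0, 1, 3, 2, 1, 5, 3, 2, 1, 4, 1, 0, 2, 1, 0, 1, 3, 2, 1, 5, 3, 2, 1, 4, 1, 0, 1, 0, 5, 0, 2, 1, 0, 1, 3, 2, 1, 5, 3, 2, 1], [0, 1, 0, 2, 1, 0, 1, 3, 2, 1, 5, 3, 2, 1, 4, 1, 0, 2, 1, 0, 1, 3, 2, 1, 5, 3, 2, 1, 4, 1, 0, 1, 0, 5, 2, 3, 5, 1, 2, 3, 1, 0, 1, 2, 0, 1], [0, 1, 0, 2, 1, 0, 1, 3, 2, 1, 5, 3, 2, 1, 4, 1, 0, 2, 1, 0, 1, 3, 2, 1, 5, 3, 2, 1, 4, 1, 0, 2, 1, 0, 1, 3, 2, 1, 5, 3, 2, 0, 1, 0, 5, 1], [0, 1, 0, 2, 1, 0, 1, 3, 2, 1, 5, 3, 2, 1, 4, 1, 0, 2, 1, 0, 1, 3, 2, 1, 5, 3, 2, 1, 4, 1, 0, 2, 1, 0, 1, 3, 2, 1, 5, 3, 2, 5, 0, 1, 0, 1], [0, 1, 0, 2, 1, 0, 1, 3, 2, 1, 5, 3, 2, 1, 4, 1, 0, 2, 1, 0, 1, 3, 2, 1, 5, 3, 2, 1, 4, 1, 2, 3, 5, 1, 2, 3, 1, 0, 1, 2, 0, 1, 3], [0, 1, 0, 2, 1, 0, 1, 3, 2, 1, 5, 3, 2, 1, 4, 1, 0, 2, 1, 0, 1, 3, 2, 1, 5, 3, 2, 1, 4, 1, 2, 3, 5, 1, 2, 3, 1, 0, 1, 2, 1, 0, 5, 1], [0, 1, 0, 2, 1, 0, 1, 3, 2, 1, 5, 3, 2, 1, 4, 1, 0, 2, 1, 0, 1, 3, 2, 1, 5, 3, 2, 1, 4, 1, 2, 3, 5, 1, 2, 3, 1, 0, 1, 2, 0, 5, 0, 1, 0, 1], [0, 1, 0, 2, 1, 0, 1, 3, 2, 1, 5, 3, 2, 1, 4, 1, 2, 3, 5, 1, 2, 3, 1, 0, 1, 2, 0, 1, 3, 2, 1, 5, 0, 1, 0, 1], [0, 1, 0, 2, 1, 0, 1, 3, 2, 1, 5, 3, 2, 1, 4, 1, 2, 3, 5, 1, 2, 3, 1, 0, 1, 2, 0, 5, 0, 1, 2, 1, 0, 1, 3, 2, 1, 5, 3, 2, 1, 2], [0, 1, 2, 3, 5, 1, 2, 3, 1, 0, 1, 2, 0, 1, 4, 3, 2, 1, 2, 3, 5, 1, 2, 3, 1, 0, 1, 2, 0, 1, 4], [0, 1, 2, 3, 5, 1, 2, 3, 1, 0, 1, 2, 0, 1, 4, 3, 1, 2, 3, 5, 1, 2, 3, 1, 0, 1, 2, 0, 1, 2, 1, 0, 1, 0, 5, 1], [0, 1, 2, 3, 5, 1, 2, 3, 1, 0, 1, 2, 0, 1, 4, 3, 1, 2, 3, 5, 1, 2, 3, 1, 0, 1, 2, 0, 1, 4, 1, 0, 2, 1, 0, 1, 3, 2, 1, 5, 3, 2, 1], [0, 1, 2, 3, 5, 1, 2, 3, 1, 0, 1, 2, 0, 1, 4, 3, 1, 2, 3, 5, 1, 2, 3, 1, 0, 1, 2, 0, 1, 4, 1, 2, 3, 5, 1, 2, 3, 1, 0, 1, 2, 0, 1], [0, 1, 2, 3, 5, 1, 2, 3, 1, 0, 1, 2, 0, 1, 4, 1, 0, 2, 1, 0, 1, 3, 2, 1, 5, 3, 2, 1, 3, 2, 1, 0, 2, 1, 0, 1, 3, 2, 1, 5, 3, 2, 1], [0, 1, 2, 3, 5, 1, 2, 3, 1, 0, 1, 2, 0, 1, 4, 1, 2, 3, 5, 1, 2, 3, 1, 0, 1, 2, 0, 1, 4, 3, 2], [0, 1, 2, 3, 5, 1, 2, 3, 1, 0, 1, 2, 0, 1, 4, 1, 2, 3, 5, 1, 2, 3, 1, 0, 1, 2, 0, 1, 4, 3, 1, 0, 1, 0, 5, 1], [0, 1, 2, 3, 5, 1, 2, 3, 1, 0, 1, 2, 0, 1, 4, 1, 2, 3, 5, 1, 2, 3, 1, 0, 1, 2, 0, 1, 4, 3, 1, 0, 2, 1, 0, 1, 3, 2, 1, 5, 3, 2, 1], [0, 1, 2, 3, 5, 1, 2, 3, 1, 0, 1, 2, 0, 1, 4, 1, 2, 3, 5, 1, 2, 3, 1, 0, 1, 2, 0, 1, 4, 3, 1, 5, 0, 1, 0, 1], [0, 1, 2, 3, 5, 1, 2, 3, 1, 0, 1, 2, 0, 1, 4, 1, 2, 3, 5, 1, 2, 3, 1, 0, 1, 2, 0, 1, 4, 3, 1, 2, 3, 5, 1, 2, 3, 1, 0, 1, 2, 0, 1], [0, 1, 2, 3, 5, 1, 2, 3, 1, 0, 1, 2, 0, 1, 4, 1, 2, 3, 5, 1, 2, 3, 1, 0, 1, 2, 0, 1, 4, 1, 5, 0, 1, 2, 1, 0, 1, 3, 2, 1, 5, 3, 2, 1], [0, 1, 2, 3, 5, 1, 2, 3, 1, 0, 1, 2, 0, 1, 4, 1, 2, 3, 5, 1, 2, 3, 1, 0, 1, 2, 0, 1, 4, 1, 5, 0, 1, 0, 2, 3, 5, 1, 2, 3, 1, 0, 1, 2, 0, 1], [0, 1, 2, 3, 5, 1, 2, 3, 1, 0, 1, 2, 0, 1, 4, 1, 2, 3, 5, 1, 2, 3, 1, 0, 1, 2, 0, 1, 4, 1, 2, 3, 5, 1, 2, 3, 1, 0, 1, 2, 1, 0, 5, 1], [2, 3, 4, 1, 0, 2, 1, 0, 1, 3, 2, 1, 5, 3, 2, 1, 0, 1, 0, 1, 0, 5, 2, 3, 5, 1, 2, 3, 1, 0, 1, 2, 0, 1], [2, 3, 4, 1, 0, 2, 1, 0, 1, 3, 2, 1, 5, 3, 2, 1, 3, 2, 1, 2, 3, 5, 1, 2, 3, 1, 0, 1, 2, 0, 1], [2, 3, 4, 1, 0, 2, 1, 0, 1, 3, 2, 1, 5, 3, 2, 0, 1, 0, 5, 0, 2, 1, 0, 1, 3, 2, 1, 5, 3, 2, 1, 4], [2, 3, 4, 1, 5, 0, 1, 0, 1, 5, 1, 2, 3, 5, 1, 2, 3, 1, 0, 1, 2, 0, 1, 4], [2, 3, 4, 1, 5, 0, 1, 2, 1, 0, 1, 3, 2, 1, 5, 3, 2, 1, 4, 3], [2, 3, 4, 1, 5, 0, 1, 2, 1, 0, 1, 3, 2, 1, 5, 3, 2, 1, 4, 1, 0, 2, 1, 0, 1, 3, 2, 1, 5, 3, 2, 1], [2, 3, 4, 1, 5, 0, 1, 0, 2, 3, 5, 1, 2, 3, 1, 0, 1, 2, 0, 1, 2, 4], [2, 3, 4, 1, 5, 0, 1, 0, 2, 3, 5, 1, 2, 3, 1, 0, 1, 2, 0, 1, 4, 3], [2, 3, 4, 1, 5, 0, 1, 0, 2, 3, 5, 1, 2, 3, 1, 0, 1, 2, 0, 1, 4, 1, 2, 3, 5, 1, 2, 3, 1, 0, 1, 2, 0, 1], [2, 3, 4, 1, 2, 3, 5, 1, 2, 3, 1, 0, 1, 2, 0, 1, 2, 4, 1, 0, 1, 0, 5, 1], [2, 3, 4, 1, 2, 3, 5, 1, 2, 3, 1, 0, 1, 2, 0, 1, 2, 4, 1, 5, 0, 1, 0, 1], [2, 3, 4, 1, 2, 3, 5, 1, 2, 3, 1, 0, 1, 2, 0, 1, 2, 4, 1, 2, 3, 5, 1, 2, 3, 1, 0, 1, 2, 0, 1], [2, 3, 4, 1, 2, 3, 5, 1, 2, 3, 1, 0, 1, 2, 0, 1, 3, 4, 3], [2, 3, 4, 1, 2, 3, 5, 1, 2, 3, 1, 0, 1, 2, 0, 1, 3, 4, 5], [2, 3, 4, 1, 2, 3, 5, 1, 2, 3, 1, 0, 1, 2, 0, 1, 3, 4, 1, 0, 2, 1, 0, 1, 3, 2, 1, 5, 3, 2, 1], [2, 3, 4, 1, 2, 3, 5, 1, 2, 3, 1, 0, 1, 2, 0, 1, 4, 3, 2], [2, 3, 4, 1, 2, 3, 5, 1, 2, 3, 1, 0, 1, 2, 0, 1, 4, 3, 1, 0, 1, 0, 5, 1], [2, 3, 4, 1, 2, 3, 5, 1, 2, 3, 1, 0, 1, 2, 0, 1, 4, 3, 1, 5, 0, 1, 0, 1], [2, 3, 4, 1, 2, 3, 5, 1, 2, 3, 1, 0, 1, 2, 0, 1, 4, 5, 1, 5, 0, 1, 0, 1], [2, 3, 4, 1, 2, 3, 5, 1, 2, 3, 1, 0, 1, 2, 0, 1, 4, 5, 1, 2, 3, 5, 1, 2, 3, 1, 0, 1, 2, 0, 1], [2, 3, 4, 1, 2, 3, 5, 1, 2, 3, 1, 0, 1, 2, 0, 1, 4, 1, 5, 0, 1, 0, 1, 2], [2, 3, 4, 1, 2, 3, 5, 1, 2, 3, 1, 0, 1, 2, 0, 1, 4, 1, 5, 0, 1, 0, 2, 3, 5, 1, 2, 3, 1, 0, 1, 2, 0, 1], [2, 3, 4, 1, 2, 3, 5, 1, 2, 3, 1, 0, 1, 2, 0, 1, 4, 1, 2, 3, 5, 1, 2, 3, 1, 0, 1, 2, 0, 5, 0, 1, 0, 1], [2, 3, 1, 2, 3, 5, 1, 2, 3, 1, 0, 1, 2, 0, 1, 4, 3, 1, 0, 2, 1, 0, 1, 3, 2, 1, 5, 3, 2, 0, 1, 0, 5, 1], [2, 3, 1, 2, 3, 5, 1, 2, 3, 1, 0, 1, 2, 0, 1, 4, 1, 0, 2, 1, 0, 1, 3, 2, 1, 5, 3, 2, 1, 3, 1, 0, 1, 0, 5, 1], [2, 3, 1, 2, 3, 5, 1, 2, 3, 1, 0, 1, 2, 0, 1, 4, 1, 0, 2, 1, 0, 1, 3, 2, 1, 5, 3, 2, 1, 4, 3], [2, 3, 1, 2, 3, 5, 1, 2, 3, 1, 0, 1, 2, 0, 1, 4, 1, 0, 2, 1, 0, 1, 3, 2, 1, 5, 3, 2, 1, 4, 1, 0, 1, 0, 5, 1], [2, 3, 1, 2, 3, 5, 1, 2, 3, 1, 0, 1, 2, 0, 1, 4, 1, 0, 2, 1, 0, 1, 3, 2, 1, 5, 3, 2, 1, 4, 1, 5, 0, 1, 0, 1], [2, 5, 1, 0, 2, 1, 0, 1, 3, 2, 1, 5, 3, 2, 1, 4, 1, 0, 2, 1, 0, 1, 3, 2, 1, 5, 3, 2, 1, 4, 1, 5, 0, 1, 0, 1], [2, 5, 1, 2, 3, 5, 1, 2, 3, 1, 0, 1, 2, 0, 1, 4, 1, 2, 3, 5, 1, 2, 3, 1, 0, 1, 2, 0, 1, 4, 3], [2, 5, 1, 2, 3, 5, 1, 2, 3, 1, 0, 1, 2, 0, 1, 4, 1, 2, 3, 5, 1, 2, 3, 1, 0, 1, 2, 0, 1, 4, 1, 0, 1, 0, 5, 1], [2, 5, 1, 2, 3, 5, 1, 2, 3, 1, 0, 1, 2, 0, 1, 4, 1, 2, 3, 5, 1, 2, 3, 1, 0, 1, 2, 0, 1, 4, 1, 5, 0, 1, 0, 1], [2, 5, 1, 2, 3, 5, 1, 2, 3, 1, 0, 1, 2, 0, 1, 4, 1, 2, 3, 5, 1, 2, 3, 1, 0, 1, 2, 0, 1, 4, 1, 2, 3, 5, 1, 2, 3, 1, 0, 1, 2, 0, 1], [2, 1, 0, 2, 1, 0, 1, 3, 2, 1, 5, 3, 2, 1, 0, 4, 1, 0, 2, 1, 0, 1, 3, 2, 1, 5, 3, 2, 1, 3, 4], [2, 1, 0, 2, 1, 0, 1, 3, 2, 1, 5, 3, 2, 1, 2, 4, 3, 1, 0, 2, 1, 0, 1, 3, 2, 1, 5, 3, 2, 0, 1, 0, 5, 1], [2, 1, 0, 2, 1, 0, 1, 3, 2, 1, 5, 3, 2, 1, 2, 4, 1, 2, 3, 5, 1, 2, 3, 1, 0, 1, 2, 1, 0, 5, 2, 3, 5, 1, 2, 3, 1, 0, 1, 2, 0, 1], [2, 1, 0, 2, 1, 0, 1, 3, 2, 1, 5, 3, 2, 1, 4, 1, 0, 1, 0, 5, 0, 2, 1, 0, 1, 3, 2, 1, 5, 3, 2, 1, 4, 3], [2, 1, 0, 2, 1, 0, 1, 3, 2, 1, 5, 3, 2, 1, 4, 1, 0, 1, 0, 5, 0, 2, 1, 0, 1, 3, 2, 1, 5, 3, 2, 1, 4, 1, 0, 1, 0, 5, 1], [2, 1, 0, 2, 1, 0, 1, 3, 2, 1, 5, 3, 2, 1, 4, 1, 0, 1, 0, 5, 2, 3, 5, 1, 2, 3, 1, 0, 1, 2, 0, 1, 4, 3], [2, 1, 0, 2, 1, 0, 1, 3, 2, 1, 5, 3, 2, 1, 4, 1, 0, 1, 0, 5, 2, 3, 5, 1, 2, 3, 1, 0, 1, 2, 0, 1, 4, 1, 5, 0, 1, 0, 1], [2, 1, 0, 2, 1, 0, 1, 3, 2, 1, 5, 3, 2, 1, 4, 1, 0, 1, 0, 5, 2, 3, 5, 1, 2, 3, 1, 0, 1, 2, 0, 1, 4, 1, 2, 3, 5, 1, 2, 3, 1, 0, 1, 2, 0, 1], [2, 1, 0, 2, 1, 0, 1, 3, 2, 1, 5, 3, 2, 1, 4, 1, 0, 2, 1, 0, 1, 3, 2, 1, 5, 3, 2, 1, 3, 2, 4], [2, 1, 0, 2, 1, 0, 1, 3, 2, 1, 5, 3, 2, 1, 4, 1, 0, 2, 1, 0, 1, 3, 2, 1, 5, 3, 2, 1, 3, 4, 3], [2, 1, 0, 2, 1, 0, 1, 3, 2, 1, 5, 3, 2, 1, 4, 1, 0, 2, 1, 0, 1, 3, 2, 1, 5, 3, 2, 1, 3, 4, 1, 0, 2, 1, 0, 1, 3, 2, 1, 5, 3, 2, 1], [2, 1, 0, 2, 1, 0, 1, 3, 2, 1, 5, 3, 2, 1, 4, 1, 0, 2, 1, 0, 1, 3, 2, 1, 5, 3, 2, 1, 4, 3, 2], [2, 1, 0, 2, 1, 0, 1, 3, 2, 1, 5, 3, 2, 1, 4, 1, 0, 2, 1, 0, 1, 3, 2, 1, 5, 3, 2, 1, 4, 3, 1, 0, 1, 0, 5, 1], [2, 1, 0, 2, 1, 0, 1, 3, 2, 1, 5, 3, 2, 1, 4, 1, 0, 2, 1, 0, 1, 3, 2, 1, 5, 3, 2, 1, 4, 3, 1, 5, 0, 1, 0, 1], [2, 1, 0, 2, 1, 0, 1, 3, 2, 1, 5, 3, 2, 1, 4, 1, 0, 2, 1, 0, 1, 3, 2, 1, 5, 3, 2, 1, 4, 1, 0, 1, 0, 5, 0, 2, 1, 0, 1, 3, 2, 1, 5, 3, 2, 1], [2, 1, 0, 2, 1, 0, 1, 3, 2, 1, 5, 3, 2, 1, 4, 1, 0, 2, 1, 0, 1, 3, 2, 1, 5, 3, 2, 1, 4, 1, 0, 2, 1, 0, 1, 3, 2, 1, 5, 3, 2, 0, 1, 0, 5, 1], [2, 1, 0, 2, 1, 0, 1, 3, 2, 1, 5, 3, 2, 1, 4, 1, 0, 2, 1, 0, 1, 3, 2, 1, 5, 3, 2, 1, 4, 1, 0, 2, 1, 0, 1, 3, 2, 1, 5, 3, 2, 5, 0, 1, 0, 1], [2, 1, 0, 2, 1, 0, 1, 3, 2, 1, 5, 3, 2, 1, 4, 1, 2, 3, 5, 1, 2, 3, 1, 0, 1, 2, 0, 1, 3, 1, 0, 2, 1, 0, 1, 3, 2, 1, 5, 3, 2, 1, 2], [2, 1, 0, 2, 1, 0, 1, 3, 2, 1, 5, 3, 2, 0, 1, 0, 5, 2, 3, 5, 1, 2, 3, 1, 0, 1, 2, 0, 1, 4, 1, 0, 2, 1, 0, 1, 3, 2, 1, 5, 3, 2, 1, 4], [2, 1, 5, 0, 1, 0, 2, 3, 5, 1, 2, 3, 1, 0, 1, 2, 0, 1, 4, 3, 1, 0, 2, 1, 0, 1, 3, 2, 1, 5, 3, 2, 1, 4], [2, 1, 2, 3, 5, 1, 2, 3, 1, 0, 1, 2, 0, 1, 2, 4, 3, 1, 0, 2, 1, 0, 1, 3, 2, 1, 5, 3, 2, 1, 4], [2, 1, 2, 3, 5, 1, 2, 3, 1, 0, 1, 2, 0, 1, 2, 4, 1, 0, 2, 1, 0, 1, 3, 2, 1, 5, 3, 2, 1, 3, 4], [2, 1, 2, 3, 5, 1, 2, 3, 1, 0, 1, 2, 0, 1, 4, 3, 2, 3, 1, 0, 1, 0, 5, 1], [2, 1, 2, 3, 5, 1, 2, 3, 1, 0, 1, 2, 0, 1, 4, 1, 0, 2, 1, 0, 1, 3, 2, 1, 5, 3, 2, 1, 3, 4, 1, 0, 1, 0, 5, 1], [2, 1, 2, 3, 5, 1, 2, 3, 1, 0, 1, 2, 0, 1, 4, 1, 0, 2, 1, 0, 1, 3, 2, 1, 5, 3, 2, 0, 1, 0, 5, 0, 2, 1, 0, 1, 3, 2, 1, 5, 3, 2, 1, 4], [2, 1, 2, 3, 5, 1, 2, 3, 1, 0, 1, 2, 0, 1, 4, 1, 5, 0, 1, 2, 1, 0, 1, 3, 2, 1, 5, 3, 2, 1, 4, 1, 0, 1, 0, 5, 1], [2, 1, 2, 3, 5, 1, 2, 3, 1, 0, 1, 2, 0, 1, 4, 1, 2, 3, 5, 1, 2, 3, 1, 0, 1, 2, 0, 1, 4, 3, 1, 0, 2, 1, 0, 1, 3, 2, 1, 5, 3, 2, 1], [2, 1, 2, 3, 5, 1, 2, 3, 1, 0, 1, 2, 0, 1, 4, 1, 2, 3, 5, 1, 2, 3, 1, 0, 1, 2, 0, 1, 4, 3, 1, 2, 3, 5, 1, 2, 3, 1, 0, 1, 2, 0, 1], [2, 1, 2, 3, 5, 1, 2, 3, 1, 0, 1, 2, 0, 1, 4, 1, 2, 3, 5, 1, 2, 3, 1, 0, 1, 2, 0, 1, 4, 1, 5, 0, 1, 2, 1, 0, 1, 3, 2, 1, 5, 3, 2, 1], [2, 1, 2, 3, 5, 1, 2, 3, 1, 0, 1, 2, 0, 1, 4, 1, 2, 3, 5, 1, 2, 3, 1, 0, 1, 2, 0, 1, 4, 1, 5, 0, 1, 0, 2, 3, 5, 1, 2, 3, 1, 0, 1, 2, 0, 1], [2, 1, 2, 3, 5, 1, 2, 3, 1, 0, 1, 2, 0, 1, 4, 1, 2, 3, 5, 1, 2, 3, 1, 0, 1, 2, 0, 1, 4, 1, 2, 3, 5, 1, 2, 3, 1, 0, 1, 2, 0, 1, 3], [2, 1, 2, 3, 5, 1, 2, 3, 1, 0, 1, 2, 0, 1, 4, 1, 2, 3, 5, 1, 2, 3, 1, 0, 1, 2, 0, 1, 4, 1, 2, 3, 5, 1, 2, 3, 1, 0, 1, 2, 1, 0, 5, 1], [5, 1, 0, 2, 1, 0, 1, 3, 2, 1, 5, 3, 2, 1, 2, 4, 3, 1, 2, 3, 5, 1, 2, 3, 1, 0, 1, 2, 0, 1, 4], [5, 1, 0, 2, 1, 0, 1, 3, 2, 1, 5, 3, 2, 1, 2, 4, 1, 0, 2, 1, 0, 1, 3, 2, 1, 5, 3, 2, 1, 4, 3], [5, 1, 0, 2, 1, 0, 1, 3, 2, 1, 5, 3, 2, 1, 2, 4, 1, 0, 2, 1, 0, 1, 3, 2, 1, 5, 3, 2, 1, 4, 1, 0, 1, 0, 5, 1], [5, 1, 0, 2, 1, 0, 1, 3, 2, 1, 5, 3, 2, 1, 2, 4, 1, 2, 3, 5, 1, 2, 3, 1, 0, 1, 2, 0, 1, 3, 4], [5, 1, 0, 2, 1, 0, 1, 3, 2, 1, 5, 3, 2, 1, 4, 3, 1, 0, 2, 1, 0, 1, 3, 2, 1, 5, 3, 2, 1, 4, 1, 0, 2, 1, 0, 1, 3, 2, 1, 5, 3, 2, 1], [5, 1, 0, 2, 1, 0, 1, 3, 2, 1, 5, 3, 2, 1, 4, 3, 1, 0, 2, 1, 0, 1, 3, 2, 1, 5, 3, 2, 1, 4, 1, 2, 3, 5, 1, 2, 3, 1, 0, 1, 2, 0, 1], [5, 1, 0, 2, 1, 0, 1, 3, 2, 1, 5, 3, 2, 1, 4, 1, 0, 2, 1, 0, 1, 3, 2, 1, 5, 3, 2, 1, 2, 3, 1, 0, 1, 0, 5, 1], [5, 1, 0, 2, 1, 0, 1, 3, 2, 1, 5, 3, 2, 1, 4, 1, 0, 2, 1, 0, 1, 3, 2, 1, 5, 3, 2, 1, 2, 4, 1, 0, 1, 0, 5, 1], [5, 1, 0, 2, 1, 0, 1, 3, 2, 1, 5, 3, 2, 1, 4, 1, 0, 2, 1, 0, 1, 3, 2, 1, 5, 3, 2, 1, 2, 4, 1, 5, 0, 1, 0, 1], [5, 1, 0, 2, 1, 0, 1, 3, 2, 1, 5, 3, 2, 1, 4, 1, 0, 2, 1, 0, 1, 3, 2, 1, 5, 3, 2, 1, 4, 3, 2], [5, 1, 0, 2, 1, 0, 1, 3, 2, 1, 5, 3, 2, 1, 4, 1, 0, 2, 1, 0, 1, 3, 2, 1, 5, 3, 2, 1, 4, 3, 1, 0, 1, 0, 5, 1], [5, 1, 0, 2, 1, 0, 1, 3, 2, 1, 5, 3, 2, 1, 4, 1, 0, 2, 1, 0, 1, 3, 2, 1, 5, 3, 2, 1, 4, 3, 1, 0, 2, 1, 0, 1, 3, 2, 1, 5, 3, 2, 1], [5, 1, 0, 2, 1, 0, 1, 3, 2, 1, 5, 3, 2, 1, 4, 1, 0, 2, 1, 0, 1, 3, 2, 1, 5, 3, 2, 1, 4, 3, 1, 5, 0, 1, 0, 1], [5, 1, 0, 2, 1, 0, 1, 3, 2, 1, 5, 3, 2, 1, 4, 1, 0, 2, 1, 0, 1, 3, 2, 1, 5, 3, 2, 1, 4, 1, 0, 1, 0, 5, 0, 2, 1, 0, 1, 3, 2, 1, 5, 3, 2, 1], [5, 1, 0, 2, 1, 0, 1, 3, 2, 1, 5, 3, 2, 1, 4, 1, 0, 2, 1, 0, 1, 3, 2, 1, 5, 3, 2, 1, 4, 1, 0, 2, 1, 0, 1, 3, 2, 1, 5, 3, 2, 5, 0, 1, 0, 1], [5, 1, 2, 3, 5, 1, 2, 3, 1, 0, 1, 2, 0, 1, 4, 3, 1, 2, 3, 5, 1, 2, 3, 1, 0, 1, 2, 0, 1, 4, 1, 0, 2, 1, 0, 1, 3, 2, 1, 5, 3, 2, 1], [5, 1, 2, 3, 5, 1, 2, 3, 1, 0, 1, 2, 0, 1, 4, 1, 5, 0, 1, 0, 2, 3, 5, 1, 2, 3, 1, 0, 1, 2, 0, 1, 4, 3], [5, 1, 2, 3, 5, 1, 2, 3, 1, 0, 1, 2, 0, 1, 4, 1, 2, 3, 5, 1, 2, 3, 1, 0, 1, 2, 0, 1, 4, 3, 2], [5, 1, 2, 3, 5, 1, 2, 3, 1, 0, 1, 2, 0, 1, 4, 1, 2, 3, 5, 1, 2, 3, 1, 0, 1, 2, 0, 1, 4, 3, 1, 0, 1, 0, 5, 1], [5, 1, 2, 3, 5, 1, 2, 3, 1, 0, 1, 2, 0, 1, 4, 1, 2, 3, 5, 1, 2, 3, 1, 0, 1, 2, 0, 1, 4, 3, 1, 5, 0, 1, 0, 1], [5, 1, 2, 3, 5, 1, 2, 3, 1, 0, 1, 2, 0, 1, 4, 1, 2, 3, 5, 1, 2, 3, 1, 0, 1, 2, 0, 1, 4, 3, 1, 2, 3, 5, 1, 2, 3, 1, 0, 1, 2, 0, 1], [5, 1, 2, 3, 5, 1, 2, 3, 1, 0, 1, 2, 0, 1, 4, 1, 2, 3, 5, 1, 2, 3, 1, 0, 1, 2, 0, 1, 4, 1, 5, 0, 1, 0, 2, 3, 5, 1, 2, 3, 1, 0, 1, 2, 0, 1], [5, 1, 2, 3, 5, 1, 2, 3, 1, 0, 1, 2, 0, 1, 4, 1, 2, 3, 5, 1, 2, 3, 1, 0, 1, 2, 0, 1, 4, 1, 2, 3, 5, 1, 2, 3, 1, 0, 1, 2, 1, 0, 5, 1], [1, 0, 2, 1, 0, 1, 3, 2, 1, 5, 3, 2, 1, 0, 2, 4, 1, 0, 2, 1, 0, 1, 3, 2, 1, 5, 3, 2, 1, 4, 3], [1, 0, 2, 1, 0, 1, 3, 2, 1, 5, 3, 2, 1, 0, 4, 3, 1, 0, 2, 1, 0, 1, 3, 2, 1, 5, 3, 2, 1, 4, 1, 2, 3, 5, 1, 2, 3, 1, 0, 1, 2, 0, 1], [1, 0, 2, 1, 0, 1, 3, 2, 1, 5, 3, 2, 1, 0, 4, 1, 0, 2, 1, 0, 1, 3, 2, 1, 5, 3, 2, 1, 4, 3, 1, 0, 1, 0, 5, 1], [1, 0, 2, 1, 0, 1, 3, 2, 1, 5, 3, 2, 1, 0, 4, 1, 0, 2, 1, 0, 1, 3, 2, 1, 5, 3, 2, 1, 4, 3, 1, 0, 2, 1, 0, 1, 3, 2, 1, 5, 3, 2, 1], [1, 0, 2, 1, 0, 1, 3, 2, 1, 5, 3, 2, 1, 0, 4, 1, 0, 2, 1, 0, 1, 3, 2, 1, 5, 3, 2, 1, 4, 3, 1, 2, 3, 5, 1, 2, 3, 1, 0, 1, 2, 0, 1], [1, 0, 2, 1, 0, 1, 3, 2, 1, 5, 3, 2, 1, 0, 4, 1, 0, 2, 1, 0, 1, 3, 2, 1, 5, 3, 2, 1, 4, 1, 0, 1, 0, 5, 0, 2, 1, 0, 1, 3, 2, 1, 5, 3, 2, 1], [1, 0, 2, 1, 0, 1, 3, 2, 1, 5, 3, 2, 1, 0, 4, 1, 0, 2, 1, 0, 1, 3, 2, 1, 5, 3, 2, 1, 4, 1, 0, 1, 0, 5, 2, 3, 5, 1, 2, 3, 1, 0, 1, 2, 0, 1], [1, 0, 2, 1, 0, 1, 3, 2, 1, 5, 3, 2, 1, 0, 4, 1, 0, 2, 1, 0, 1, 3, 2, 1, 5, 3, 2, 1, 4, 1, 0, 2, 1, 0, 1, 3, 2, 1, 5, 3, 2, 5, 0, 1, 0, 1], [1, 0, 2, 1, 0, 1, 3, 2, 1, 5, 3, 2, 1, 0, 4, 1, 0, 2, 1, 0, 1, 3, 2, 1, 5, 3, 2, 1, 4, 1, 2, 3, 5, 1, 2, 3, 1, 0, 1, 2, 1, 0, 5, 1], [1, 0, 2, 1, 0, 1, 3, 2, 1, 5, 3, 2, 1, 2, 3, 4, 1, 2, 3, 5, 1, 2, 3, 1, 0, 1, 2, 0, 1, 4, 1, 5, 0, 1, 0, 1], [1, 0, 2, 1, 0, 1, 3, 2, 1, 5, 3, 2, 1, 2, 4, 1, 0, 2, 1, 0, 1, 3, 2, 1, 5, 3, 2, 1, 3, 1, 2, 3, 5, 1, 2, 3, 1, 0, 1, 2, 0, 1, 4], [1, 0, 2, 1, 0, 1, 3, 2, 1, 5, 3, 2, 1, 2, 4, 1, 0, 2, 1, 0, 1, 3, 2, 1, 5, 3, 2, 1, 4, 1, 0, 1, 0, 5, 0, 2, 1, 0, 1, 3, 2, 1, 5, 3, 2, 1], [1, 0, 2, 1, 0, 1, 3, 2, 1, 5, 3, 2, 1, 4, 3, 2, 1, 0, 2, 1, 0, 1, 3, 2, 1, 5, 3, 2, 1, 4, 1, 2, 3, 5, 1, 2, 3, 1, 0, 1, 2, 0, 1], [1, 0, 2, 1, 0, 1, 3, 2, 1, 5, 3, 2, 1, 4, 3, 1, 0, 2, 1, 0, 1, 3, 2, 1, 5, 3, 2, 1, 4, 1, 0, 2, 1, 0, 1, 3, 2, 1, 5, 3, 2, 1, 3], [1, 0, 2, 1, 0, 1, 3, 2, 1, 5, 3, 2, 1, 4, 3, 1, 0, 2, 1, 0, 1, 3, 2, 1, 5, 3, 2, 1, 4, 1, 2, 3, 5, 1, 2, 3, 1, 0, 1, 2, 0, 1, 3], [1, 0, 2, 1, 0, 1, 3, 2, 1, 5, 3, 2, 1, 4, 3, 1, 0, 2, 1, 0, 1, 3, 2, 1, 5, 3, 2, 1, 4, 1, 2, 3, 5, 1, 2, 3, 1, 0, 1, 2, 0, 1, 4], [1, 0, 2, 1, 0, 1, 3, 2, 1, 5, 3, 2, 1, 4, 3, 1, 5, 0, 1, 0, 2, 3, 5, 1, 2, 3, 1, 0, 1, 2, 0, 1, 4, 1, 0, 2, 1, 0, 1, 3, 2, 1, 5, 3, 2, 1], [1, 0, 2, 1, 0, 1, 3, 2, 1, 5, 3, 2, 1, 4, 1, 0, 1, 0, 5, 1, 2, 1, 2, 3, 5, 1, 2, 3, 1, 0, 1, 2, 0, 1, 4, 1, 5, 0, 1, 0, 1], [1, 0, 2, 1, 0, 1, 3, 2, 1, 5, 3, 2, 1, 4, 1, 0, 1, 0, 5, 1, 2, 1, 2, 3, 5, 1, 2, 3, 1, 0, 1, 2, 0, 1, 4, 1, 2, 3, 5, 1, 2, 3, 1, 0, 1, 2, 0, 1], [1, 0, 2, 1, 0, 1, 3, 2, 1, 5, 3, 2, 1, 4, 1, 0, 1, 0, 5, 0, 2, 1, 0, 1, 3, 2, 1, 5, 3, 2, 1, 2, 4, 3], [1, 0, 2, 1, 0, 1, 3, 2, 1, 5, 3, 2, 1, 4, 1, 0, 1, 0, 5, 0, 2, 1, 0, 1, 3, 2, 1, 5, 3, 2, 1, 3, 4, 3], [1, 0, 2, 1, 0, 1, 3, 2, 1, 5, 3, 2, 1, 4, 1, 0, 1, 0, 5, 0, 2, 1, 0, 1, 3, 2, 1, 5, 3, 2, 1, 3, 4, 1, 2, 3, 5, 1, 2, 3, 1, 0, 1, 2, 0, 1], [1, 0, 2, 1, 0, 1, 3, 2, 1, 5, 3, 2, 1, 4, 1, 0, 1, 0, 5, 0, 2, 1, 0, 1, 3, 2, 1, 5, 3, 2, 1, 4, 1, 0, 2, 1, 0, 1, 3, 2, 1, 5, 3, 2, 1, 4], [1, 0, 2, 1, 0, 1, 3, 2, 1, 5, 3, 2, 1, 4, 1, 0, 1, 0, 5, 0, 2, 1, 0, 1, 3, 2, 1, 5, 3, 2, 1, 4, 1, 0, 2, 1, 0, 1, 3, 2, 1, 5, 3, 2, 0, 1, 0, 5, 1], [1, 0, 2, 1, 0, 1, 3, 2, 1, 5, 3, 2, 1, 4, 1, 0, 1, 0, 5, 0, 2, 1, 0, 1, 3, 2, 1, 5, 3, 2, 1, 4, 1, 0, 2, 1, 0, 1, 3, 2, 1, 5, 3, 2, 5, 0, 1, 0, 1], [1, 0, 2, 1, 0, 1, 3, 2, 1, 5, 3, 2, 1, 4, 1, 0, 2, 1, 0, 1, 3, 2, 1, 5, 3, 2, 1, 2, 4, 3, 1, 0, 1, 0, 5, 1], [1, 0, 2, 1, 0, 1, 3, 2, 1, 5, 3, 2, 1, 4, 1, 0, 2, 1, 0, 1, 3, 2, 1, 5, 3, 2, 1, 2, 4, 3, 1, 0, 2, 1, 0, 1, 3, 2, 1, 5, 3, 2, 1], [1, 0, 2, 1, 0, 1, 3, 2, 1, 5, 3, 2, 1, 4, 1, 0, 2, 1, 0, 1, 3, 2, 1, 5, 3, 2, 1, 2, 4, 1, 0, 1, 0, 5, 0, 2, 1, 0, 1, 3, 2, 1, 5, 3, 2, 1], [1, 0, 2, 1, 0, 1, 3, 2, 1, 5, 3, 2, 1, 4, 1, 0, 2, 1, 0, 1, 3, 2, 1, 5, 3, 2, 1, 2, 4, 1, 0, 1, 0, 5, 2, 3, 5, 1, 2, 3, 1, 0, 1, 2, 0, 1], [1, 0, 2, 1, 0, 1, 3, 2, 1, 5, 3, 2, 1, 4, 1, 0, 2, 1, 0, 1, 3, 2, 1, 5, 3, 2, 1, 4, 3, 2, 1, 0, 2, 1, 0, 1, 3, 2, 1, 5, 3, 2, 1], [1, 0, 2, 1, 0, 1, 3, 2, 1, 5, 3, 2, 1, 4, 1, 0, 2, 1, 0, 1, 3, 2, 1, 5, 3, 2, 1, 4, 3, 2, 1, 2, 3, 5, 1, 2, 3, 1, 0, 1, 2, 0, 1], [1, 0, 2, 1, 0, 1, 3, 2, 1, 5, 3, 2, 1, 4, 1, 0, 2, 1, 0, 1, 3, 2, 1, 5, 3, 2, 1, 4, 3, 1, 0, 1, 0, 5, 1, 2], [1, 0, 2, 1, 0, 1, 3, 2, 1, 5, 3, 2, 1, 4, 1, 0, 2, 1, 0, 1, 3, 2, 1, 5, 3, 2, 1, 4, 3, 1, 0, 2, 1, 0, 1, 3, 2, 1, 5, 3, 2, 1, 4], [1, 0, 2, 1, 0, 1, 3, 2, 1, 5, 3, 2, 1, 4, 1, 0, 2, 1, 0, 1, 3, 2, 1, 5, 3, 2, 1, 4, 3, 1, 2, 3, 5, 1, 2, 3, 1, 0, 1, 2, 1, 0, 5, 1], [1, 0, 2, 1, 0, 1, 3, 2, 1, 5, 3, 2, 1, 4, 1, 0, 2, 1, 0, 1, 3, 2, 1, 5, 3, 2, 1, 4, 1, 0, 1, 0, 5, 0, 2, 1, 0, 1, 3, 2, 1, 5, 3, 2, 5, 0, 1, 0, 1], [1, 0, 2, 1, 0, 1, 3, 2, 1, 5, 3, 2, 1, 4, 1, 0, 2, 1, 0, 1, 3, 2, 1, 5, 3, 2, 1, 4, 1, 0, 1, 0, 5, 2, 3, 5, 1, 2, 3, 1, 0, 1, 2, 0, 1, 2], [1, 0, 2, 1, 0, 1, 3, 2, 1, 5, 3, 2, 1, 4, 1, 0, 2, 1, 0, 1, 3, 2, 1, 5, 3, 2, 1, 4, 1, 0, 1, 0, 5, 2, 3, 5, 1, 2, 3, 1, 0, 1, 2, 0, 1, 4], [1, 0, 2, 1, 0, 1, 3, 2, 1, 5, 3, 2, 1, 4, 1, 0, 2, 1, 0, 1, 3, 2, 1, 5, 3, 2, 1, 4, 1, 0, 2, 1, 0, 1, 3, 2, 1, 5, 3, 2, 5, 0, 1, 0, 1, 2], [1, 0, 2, 1, 0, 1, 3, 2, 1, 5, 3, 2, 1, 4, 1, 0, 2, 1, 0, 1, 3, 2, 1, 5, 3, 2, 1, 4, 1, 0, 2, 1, 0, 1, 3, 2, 1, 5, 3, 2, 5, 0, 1, 2, 1, 0, 1, 3, 2, 1, 5, 3, 2, 1], [1, 0, 2, 1, 0, 1, 3, 2, 1, 5, 3, 2, 1, 4, 1, 5, 0, 1, 0, 2, 3, 5, 1, 2, 3, 1, 0, 1, 2, 0, 1, 4, 3, 2], [1, 0, 2, 1, 0, 1, 3, 2, 1, 5, 3, 2, 1, 4, 1, 5, 0, 1, 0, 2, 3, 5, 1, 2, 3, 1, 0, 1, 2, 0, 1, 4, 3, 1, 2, 3, 5, 1, 2, 3, 1, 0, 1, 2, 0, 1], [1, 0, 2, 1, 0, 1, 3, 2, 1, 5, 3, 2, 1, 4, 1, 2, 3, 5, 1, 2, 3, 1, 0, 1, 2, 0, 5, 0, 1, 0, 1, 2, 1, 2, 3, 5, 1, 2, 3, 1, 0, 1, 2, 0, 1, 4], [1, 2, 3, 5, 1, 2, 3, 1, 0, 1, 2, 0, 1, 2, 4, 1, 5, 0, 1, 0, 2, 3, 5, 1, 2, 3, 1, 0, 1, 2, 0, 1, 4, 3], [1, 2, 3, 5, 1, 2, 3, 1, 0, 1, 2, 0, 1, 2, 4, 1, 2, 3, 5, 1, 2, 3, 1, 0, 1, 2, 0, 1, 4, 1, 5, 0, 1, 0, 2, 3, 5, 1, 2, 3, 1, 0, 1, 2, 0, 1], [1, 2, 3, 5, 1, 2, 3, 1, 0, 1, 2, 0, 1, 4, 3, 1, 2, 3, 5, 1, 2, 3, 1, 0, 1, 2, 0, 1, 2, 4, 1, 0, 2, 1, 0, 1, 3, 2, 1, 5, 3, 2, 1], [1, 2, 3, 5, 1, 2, 3, 1, 0, 1, 2, 0, 1, 4, 3, 1, 2, 3, 5, 1, 2, 3, 1, 0, 1, 2, 0, 1, 2, 4, 1, 2, 3, 5, 1, 2, 3, 1, 0, 1, 2, 0, 1], [1, 2, 3, 5, 1, 2, 3, 1, 0, 1, 2, 0, 1, 4, 3, 1, 2, 3, 5, 1, 2, 3, 1, 0, 1, 2, 0, 1, 4, 1, 0, 2, 1, 0, 1, 3, 2, 1, 5, 3, 2, 1, 4], [1, 2, 3, 5, 1, 2, 3, 1, 0, 1, 2, 0, 1, 4, 1, 5, 0, 1, 0, 1, 2, 1, 2, 3, 5, 1, 2, 3, 1, 0, 1, 2, 0, 1, 4, 1, 2, 3, 5, 1, 2, 3, 1, 0, 1, 2, 0, 1], [1, 2, 3, 5, 1, 2, 3, 1, 0, 1, 2, 0, 1, 4, 1, 5, 0, 1, 2, 1, 0, 1, 3, 2, 1, 5, 3, 2, 1, 4, 1, 0, 1, 0, 5, 1, 2], [1, 2, 3, 5, 1, 2, 3, 1, 0, 1, 2, 0, 1, 4, 1, 5, 0, 1, 2, 1, 0, 1, 3, 2, 1, 5, 3, 2, 1, 4, 1, 0, 2, 1, 0, 1, 3, 2, 1, 5, 3, 2, 1, 2], [1, 2, 3, 5, 1, 2, 3, 1, 0, 1, 2, 0, 1, 4, 1, 5, 0, 1, 2, 1, 0, 1, 3, 2, 1, 5, 3, 2, 1, 4, 1, 0, 2, 1, 0, 1, 3, 2, 1, 5, 3, 2, 1, 4], [1, 2, 3, 5, 1, 2, 3, 1, 0, 1, 2, 0, 1, 4, 1, 5, 0, 1, 2, 1, 0, 1, 3, 2, 1, 5, 3, 2, 1, 4, 1, 0, 2, 1, 0, 1, 3, 2, 1, 5, 3, 2, 0, 1, 0, 5, 1], [1, 2, 3, 5, 1, 2, 3, 1, 0, 1, 2, 0, 1, 4, 1, 5, 0, 1, 0, 2, 3, 5, 1, 2, 3, 1, 0, 1, 2, 0, 1, 4, 3, 1, 0, 2, 1, 0, 1, 3, 2, 1, 5, 3, 2, 1], [1, 2, 3, 5, 1, 2, 3, 1, 0, 1, 2, 0, 1, 4, 1, 5, 0, 1, 0, 2, 3, 5, 1, 2, 3, 1, 0, 1, 2, 0, 1, 4, 1, 2, 3, 5, 1, 2, 3, 1, 0, 1, 2, 0, 1, 4], [1, 2, 3, 5, 1, 2, 3, 1, 0, 1, 2, 0, 1, 4, 1, 2, 3, 5, 1, 2, 3, 1, 0, 1, 2, 0, 1, 4, 3, 2, 3], [1, 2, 3, 5, 1, 2, 3, 1, 0, 1, 2, 0, 1, 4, 1, 2, 3, 5, 1, 2, 3, 1, 0, 1, 2, 0, 1, 4, 3, 1, 2, 3, 5, 1, 2, 3, 1, 0, 1, 2, 0, 1, 2], [1, 2, 3, 5, 1, 2, 3, 1, 0, 1, 2, 0, 1, 4, 1, 2, 3, 5, 1, 2, 3, 1, 0, 1, 2, 0, 1, 4, 1, 0, 1, 0, 5, 1, 2, 3], [1, 2, 3, 5, 1, 2, 3, 1, 0, 1, 2, 0, 1, 4, 1, 2, 3, 5, 1, 2, 3, 1, 0, 1, 2, 0, 1, 4, 1, 5, 0, 1, 0, 1, 2, 1, 0, 2, 1, 0, 1, 3, 2, 1, 5, 3, 2, 1], [1, 2, 3, 5, 1, 2, 3, 1, 0, 1, 2, 0, 1, 4, 1, 2, 3, 5, 1, 2, 3, 1, 0, 1, 2, 0, 1, 4, 1, 5, 0, 1, 0, 1, 2, 1, 2, 3, 5, 1, 2, 3, 1, 0, 1, 2, 0, 1], [0, 2, 3, 4, 1, 2, 3, 5, 1, 2, 3, 1, 0, 1, 2, 0, 1, 3, 4, 3], [0, 2, 1, 0, 2, 1, 0, 1, 3, 2, 1, 5, 3, 2, 1, 4, 1, 0, 2, 1, 0, 1, 3, 2, 1, 5, 3, 2, 1, 4, 3, 1, 5, 0, 1, 0, 1], [0, 2, 1, 0, 2, 1, 0, 1, 3, 2, 1, 5, 3, 2, 1, 4, 1, 0, 2, 1, 0, 1, 3, 2, 1, 5, 3, 2, 1, 4, 1, 0, 1, 0, 5, 0, 2, 1, 0, 1, 3, 2, 1, 5, 3, 2, 1], [0, 2, 1, 2, 3, 5, 1, 2, 3, 1, 0, 1, 2, 0, 1, 4, 1, 2, 3, 5, 1, 2, 3, 1, 0, 1, 2, 0, 1, 4, 1, 2, 3, 5, 1, 2, 3, 1, 0, 1, 2, 0, 5, 0, 1, 0, 1], [0, 1, 0, 2, 1, 0, 1, 3, 2, 1, 5, 3, 2, 1, 4, 3, 1, 0, 2, 1, 0, 1, 3, 2, 1, 5, 3, 2, 1, 4, 1, 2, 3, 5, 1, 2, 3, 1, 0, 1, 2, 0, 1, 3], [0, 1, 0, 2, 1, 0, 1, 3, 2, 1, 5, 3, 2, 1, 4, 1, 0, 1, 0, 5, 2, 3, 5, 1, 2, 3, 1, 0, 1, 2, 0, 1, 4, 1, 2, 3, 5, 1, 2, 3, 1, 0, 1, 2, 0, 1, 4], [0, 1, 0, 2, 1, 0, 1, 3, 2, 1, 5, 3, 2, 1, 4, 1, 0, 1, 0, 5, 2, 3, 5, 1, 2, 3, 1, 0, 1, 2, 0, 1, 4, 1, 2, 3, 5, 1, 2, 3, 1, 0, 1, 2, 0, 5, 0, 1, 0, 1], [0, 1, 0, 2, 1, 0, 1, 3, 2, 1, 5, 3, 2, 1, 4, 1, 0, 2, 1, 0, 1, 3, 2, 1, 5, 3, 2, 1, 2, 4, 3, 1, 0, 2, 1, 0, 1, 3, 2, 1, 5, 3, 2, 1], [0, 1, 0, 2, 1, 0, 1, 3, 2, 1, 5, 3, 2, 1, 4, 1, 0, 2, 1, 0, 1, 3, 2, 1, 5, 3, 2, 1, 2, 4, 1, 0, 1, 0, 5, 0, 2, 1, 0, 1, 3, 2, 1, 5, 3, 2, 1], [0, 1, 0, 2, 1, 0, 1, 3, 2, 1, 5, 3, 2, 1, 4, 1, 0, 2, 1, 0, 1, 3, 2, 1, 5, 3, 2, 1, 4, 3, 2, 1, 0, 1, 0, 5, 1], [0, 1, 0, 2, 1, 0, 1, 3, 2, 1, 5, 3, 2, 1, 4, 1, 0, 2, 1, 0, 1, 3, 2, 1, 5, 3, 2, 1, 4, 3, 2, 1, 0, 2, 1, 0, 1, 3, 2, 1, 5, 3, 2, 1], [0, 1, 2, 3, 5, 1, 2, 3, 1, 0, 1, 2, 0, 1, 4, 1, 2, 3, 5, 1, 2, 3, 1, 0, 1, 2, 0, 1, 4, 3, 2, 3], [0, 1, 2, 3, 5, 1, 2, 3, 1, 0, 1, 2, 0, 1, 4, 1, 2, 3, 5, 1, 2, 3, 1, 0, 1, 2, 0, 1, 4, 3, 1, 2, 3, 5, 1, 2, 3, 1, 0, 1, 2, 0, 1, 2], [2, 3, 4, 1, 5, 0, 1, 2, 1, 0, 1, 3, 2, 1, 5, 3, 2, 1, 4, 1, 0, 2, 1, 0, 1, 3, 2, 1, 5, 3, 2, 1, 4], [2, 3, 4, 1, 5, 0, 1, 0, 2, 3, 5, 1, 2, 3, 1, 0, 1, 2, 0, 1, 4, 3, 2], [2, 3, 4, 1, 5, 0, 1, 0, 2, 3, 5, 1, 2, 3, 1, 0, 1, 2, 0, 1, 4, 1, 2, 3, 5, 1, 2, 3, 1, 0, 1, 2, 0, 1, 4], [2, 3, 4, 1, 2, 3, 5, 1, 2, 3, 1, 0, 1, 2, 0, 1, 3, 4, 3, 2], [2, 3, 4, 1, 2, 3, 5, 1, 2, 3, 1, 0, 1, 2, 0, 1, 4, 3, 2, 1, 5, 0, 1, 0, 1], [2, 3, 1, 2, 3, 5, 1, 2, 3, 1, 0, 1, 2, 0, 1, 4, 1, 0, 2, 1, 0, 1, 3, 2, 1, 5, 3, 2, 1, 4, 1, 0, 1, 0, 5, 0, 2, 1, 0, 1, 3, 2, 1, 5, 3, 2, 1], [2, 5, 1, 2, 3, 5, 1, 2, 3, 1, 0, 1, 2, 0, 1, 4, 1, 2, 3, 5, 1, 2, 3, 1, 0, 1, 2, 0, 1, 4, 1, 5, 0, 1, 0, 2, 3, 5, 1, 2, 3, 1, 0, 1, 2, 0, 1], [2, 1, 2, 3, 5, 1, 2, 3, 1, 0, 1, 2, 0, 1, 4, 1, 2, 3, 5, 1, 2, 3, 1, 0, 1, 2, 0, 1, 4, 1, 5, 0, 1, 0, 2, 3, 5, 1, 2, 3, 1, 0, 1, 2, 1, 0, 5, 1], [2, 1, 2, 3, 5, 1, 2, 3, 1, 0, 1, 2, 0, 1, 4, 1, 2, 3, 5, 1, 2, 3, 1, 0, 1, 2, 0, 1, 4, 1, 2, 3, 5, 1, 2, 3, 1, 0, 1, 2, 0, 1, 3, 1, 0, 2, 1, 0, 1, 3, 2, 1, 5, 3, 2, 1], [2, 1, 2, 3, 5, 1, 2, 3, 1, 0, 1, 2, 0, 1, 4, 1, 2, 3, 5, 1, 2, 3, 1, 0, 1, 2, 0, 1, 4, 1, 2, 3, 5, 1, 2, 3, 1, 0, 1, 2, 0, 1, 3, 1, 2, 3, 5, 1, 2, 3, 1, 0, 1, 2, 0, 1], [5, 1, 0, 2, 1, 0, 1, 3, 2, 1, 5, 3, 2, 1, 4, 1, 0, 2, 1, 0, 1, 3, 2, 1, 5, 3, 2, 1, 2, 4, 1, 0, 1, 0, 5, 0, 2, 1, 0, 1, 3, 2, 1, 5, 3, 2, 1], [1, 0, 2, 1, 0, 1, 3, 2, 1, 5, 3, 2, 1, 4, 1, 0, 1, 0, 5, 1, 2, 1, 2, 3, 5, 1, 2, 3, 1, 0, 1, 2, 0, 1, 4, 1, 2, 3, 5, 1, 2, 3, 1, 0, 1, 2, 0, 1, 3], [1, 2, 3, 5, 1, 2, 3, 1, 0, 1, 2, 0, 1, 4, 1, 5, 0, 1, 2, 1, 0, 1, 3, 2, 1, 5, 3, 2, 1, 4, 1, 0, 2, 1, 0, 1, 3, 2, 1, 5, 3, 2, 1, 2, 3]]), (160, [[], [3], [4], [0, 1, 5, 0, 1, 0, 1], [1, 2, 3, 5, 1, 2, 3, 1, 0, 1, 2, 0, 1, 2, 3, 5, 2], [1, 0, 1, 0, 5, 1, 0], [2, 5, 3, 2, 1, 0, 2, 1, 0, 1, 3, 2, 1, 5, 3, 2, 1], [3, 4], [3, 0, 1, 5, 0, 1, 0, 1], [3, 1, 2, 3, 5, 1, 2, 3, 1, 0, 1, 2, 0, 1, 2, 3, 5, 2], [3, 1, 0, 1, 0, 5, 1, 0], [3, 2, 5, 3, 2, 1, 0, 2, 1, 0, 1, 3, 2, 1, 5, 3, 2, 1], [4, 3], [4, 0, 1, 5, 0, 1, 0, 1], [4, 1, 2, 3, 5, 1, 2, 3, 1, 0, 1, 2, 0, 1, 2, 3, 5, 2], [4, 1, 0, 1, 0, 5, 1, 0], [4, 2, 5, 3, 2, 1, 0, 2, 1, 0, 1, 3, 2, 1, 5, 3, 2, 1], [0, 1, 5, 0, 1, 0, 1, 2, 5, 3, 2, 1, 0, 2, 1, 0, 1, 3, 2, 1, 5, 3, 2, 1], [1, 2, 3, 5, 1, 2, 3, 1, 0, 1, 2, 0, 1, 2, 3, 5, 2, 3], [1, 2, 3, 5, 1, 2, 3, 1, 0, 1, 2, 0, 1, 2, 3, 5, 2, 4], [2, 5, 3, 2, 1, 0, 2, 1, 0, 1, 3, 2, 1, 5, 3, 2, 1, 3], [2, 5, 3, 2, 1, 0, 2, 1, 0, 1, 3, 2, 1, 5, 3, 2, 1, 4], [3, 4, 3], [3, 4, 0, 1, 5, 0, 1, 0, 1], [3, 4, 1, 2, 3, 5, 1, 2, 3, 1, 0, 1, 2, 0, 1, 2, 3, 5, 2], [3, 4, 1, 0, 1, 0, 5, 1, 0], [3, 4, 2, 5, 3, 2, 1, 0, 2, 1, 0, 1, 3, 2, 1, 5, 3, 2, 1], [3, 0, 1, 5, 0, 1, 0, 1, 2, 5, 3, 2, 1, 0, 2, 1, 0, 1, 3, 2, 1, 5, 3, 2, 1], [3, 1, 2, 3, 5, 1, 2, 3, 1, 0, 1, 2, 0, 1, 2, 3, 5, 2, 3], [3, 1, 2, 3, 5, 1, 2, 3, 1, 0, 1, 2, 0, 1, 2, 3, 5, 2, 4], [3, 2, 5, 3, 2, 1, 0, 2, 1, 0, 1, 3, 2, 1, 5, 3, 2, 1, 3], [3, 2, 5, 3, 2, 1, 0, 2, 1, 0, 1, 3, 2, 1, 5, 3, 2, 1, 4], [4, 3, 0, 1, 5, 0, 1, 0, 1], [4, 3, 1, 2, 3, 5, 1, 2, 3, 1, 0, 1, 2, 0, 1, 2, 3, 5, 2], [4, 3, 1, 0, 1, 0, 5, 1, 0], [4, 3, 2, 5, 3, 2, 1, 0, 2, 1, 0, 1, 3, 2, 1, 5, 3, 2, 1], [4, 0, 1, 5, 0, 1, 0, 1, 2, 5, 3, 2, 1, 0, 2, 1, 0, 1, 3, 2, 1, 5, 3, 2, 1], [4, 1, 2, 3, 5, 1, 2, 3, 1, 0, 1, 2, 0, 1, 2, 3, 5, 2, 3], [4, 1, 2, 3, 5, 1, 2, 3, 1, 0, 1, 2, 0, 1, 2, 3, 5, 2, 4], [4, 2, 5, 3, 2, 1, 0, 2, 1, 0, 1, 3, 2, 1, 5, 3, 2, 1, 3], [4, 2, 5, 3, 2, 1, 0, 2, 1, 0, 1, 3, 2, 1, 5, 3, 2, 1, 4], [0, 1, 5, 0, 1, 0, 1, 2, 5, 3, 2, 1, 0, 2, 1, 0, 1, 3, 2, 1, 5, 3, 2, 1, 3], [0, 1, 5, 0, 1, 0, 1, 2, 5, 3, 2, 1, 0, 2, 1, 0, 1, 3, 2, 1, 5, 3, 2, 1, 4], [1, 2, 3, 5, 1, 2, 3, 1, 0, 1, 2, 0, 1, 2, 3, 5, 2, 3, 4], [1, 2, 3, 5, 1, 2, 3, 1, 0, 1, 2, 0, 1, 2, 3, 5, 2, 3, 2, 5, 3, 2, 1, 0, 2, 1, 0, 1, 3, 2, 1, 5, 3, 2, 1], [1, 2, 3, 5, 1, 2, 3, 1, 0, 1, 2, 0, 1, 2, 3, 5, 2, 4, 3], [1, 2, 3, 5, 1, 2, 3, 1, 0, 1, 2, 0, 1, 2, 3, 5, 2, 4, 1, 2, 3, 5, 1, 2, 3, 1, 0, 1, 2, 0, 1, 2, 3, 5, 2], [1, 2, 3, 5, 1, 2, 3, 1, 0, 1, 2, 0, 1, 2, 3, 5, 2, 4, 2, 5, 3, 2, 1, 0, 2, 1, 0, 1, 3, 2, 1, 5, 3, 2, 1], [2, 5, 3, 2, 1, 0, 2, 1, 0, 1, 3, 2, 1, 5, 3, 2, 1, 3, 4], [2, 5, 3, 2, 1, 0, 2, 1, 0, 1, 3, 2, 1, 5, 3, 2, 1, 4, 3], [2, 5, 3, 2, 1, 0, 2, 1, 0, 1, 3, 2, 1, 5, 3, 2, 1, 4, 2, 5, 3, 2, 1, 0, 2, 1, 0, 1, 3, 2, 1, 5, 3, 2, 1], [3, 4, 3, 0, 1, 5, 0, 1, 0, 1], [3, 4, 3, 1, 2, 3, 5, 1, 2, 3, 1, 0, 1, 2, 0, 1, 2, 3, 5, 2], [3, 4, 3, 1, 0, 1, 0, 5, 1, 0], [3, 4, 3, 2, 5, 3, 2, 1, 0, 2, 1, 0, 1, 3, 2, 1, 5, 3, 2, 1], [3, 4, 0, 1, 5, 0, 1, 0, 1, 2, 5, 3, 2, 1, 0, 2, 1, 0, 1, 3, 2, 1, 5, 3, 2, 1], [3, 4, 1, 2, 3, 5, 1, 2, 3, 1, 0, 1, 2, 0, 1, 2, 3, 5, 2, 3], [3, 4, 1, 2, 3, 5, 1, 2, 3, 1, 0, 1, 2, 0, 1, 2, 3, 5, 2, 4], [3, 4, 2, 5, 3, 2, 1, 0, 2, 1, 0, 1, 3, 2, 1, 5, 3, 2, 1, 3], [3, 4, 2, 5, 3, 2, 1, 0, 2, 1, 0, 1, 3, 2, 1, 5, 3, 2, 1, 4], [3, 0, 1, 5, 0, 1, 0, 1, 2, 5, 3, 2, 1, 0, 2, 1, 0, 1, 3, 2, 1, 5, 3, 2, 1, 4], [3, 1, 2, 3, 5, 1, 2, 3, 1, 0, 1, 2, 0, 1, 2, 3, 5, 2, 3, 4], [3, 1, 2, 3, 5, 1, 2, 3, 1, 0, 1, 2, 0, 1, 2, 3, 5, 2, 4, 3], [3, 1, 2, 3, 5, 1, 2, 3, 1, 0, 1, 2, 0, 1, 2, 3, 5, 2, 4, 1, 2, 3, 5, 1, 2, 3, 1, 0, 1, 2, 0, 1, 2, 3, 5, 2], [3, 1, 2, 3, 5, 1, 2, 3, 1, 0, 1, 2, 0, 1, 2, 3, 5, 2, 4, 2, 5, 3, 2, 1, 0, 2, 1, 0, 1, 3, 2, 1, 5, 3, 2, 1], [3, 2, 5, 3, 2, 1, 0, 2, 1, 0, 1, 3, 2, 1, 5, 3, 2, 1, 3, 4], [3, 2, 5, 3, 2, 1, 0, 2, 1, 0, 1, 3, 2, 1, 5, 3, 2, 1, 4, 3], [3, 2, 5, 3, 2, 1, 0, 2, 1, 0, 1, 3, 2, 1, 5, 3, 2, 1, 4, 2, 5, 3, 2, 1, 0, 2, 1, 0, 1, 3, 2, 1, 5, 3, 2, 1], [4, 3, 0, 1, 5, 0, 1, 0, 1, 2, 5, 3, 2, 1, 0, 2, 1, 0, 1, 3, 2, 1, 5, 3, 2, 1], [4, 3, 1, 2, 3, 5, 1, 2, 3, 1, 0, 1, 2, 0, 1, 2, 3, 5, 2, 3], [4, 3, 1, 2, 3, 5, 1, 2, 3, 1, 0, 1, 2, 0, 1, 2, 3, 5, 2, 4], [4, 3, 2, 5, 3, 2, 1, 0, 2, 1, 0, 1, 3, 2, 1, 5, 3, 2, 1, 3], [4, 3, 2, 5, 3, 2, 1, 0, 2, 1, 0, 1, 3, 2, 1, 5, 3, 2, 1, 4], [4, 0, 1, 5, 0, 1, 0, 1, 2, 5, 3, 2, 1, 0, 2, 1, 0, 1, 3, 2, 1, 5, 3, 2, 1, 3], [4, 0, 1, 5, 0, 1, 0, 1, 2, 5, 3, 2, 1, 0, 2, 1, 0, 1, 3, 2, 1, 5, 3, 2, 1, 4], [4, 1, 2, 3, 5, 1, 2, 3, 1, 0, 1, 2, 0, 1, 2, 3, 5, 2, 3, 4], [4, 1, 2, 3, 5, 1, 2, 3, 1, 0, 1, 2, 0, 1, 2, 3, 5, 2, 3, 2, 5, 3, 2, 1, 0, 2, 1, 0, 1, 3, 2, 1, 5, 3, 2, 1], [4, 1, 2, 3, 5, 1, 2, 3, 1, 0, 1, 2, 0, 1, 2, 3, 5, 2, 4, 3], [4, 1, 2, 3, 5, 1, 2, 3, 1, 0, 1, 2, 0, 1, 2, 3, 5, 2, 4, 1, 2, 3, 5, 1, 2, 3, 1, 0, 1, 2, 0, 1, 2, 3, 5, 2], [4, 1, 2, 3, 5, 1, 2, 3, 1, 0, 1, 2, 0, 1, 2, 3, 5, 2, 4, 2, 5, 3, 2, 1, 0, 2, 1, 0, 1, 3, 2, 1, 5, 3, 2, 1], [4, 2, 5, 3, 2, 1, 0, 2, 1, 0, 1, 3, 2, 1, 5, 3, 2, 1, 3, 4], [4, 2, 5, 3, 2, 1, 0, 2, 1, 0, 1, 3, 2, 1, 5, 3, 2, 1, 4, 3], [4, 2, 5, 3, 2, 1, 0, 2, 1, 0, 1, 3, 2, 1, 5, 3, 2, 1, 4, 2, 5, 3, 2, 1, 0, 2, 1, 0, 1, 3, 2, 1, 5, 3, 2, 1], [0, 1, 5, 0, 1, 0, 1, 2, 5, 3, 2, 1, 0, 2, 1, 0, 1, 3, 2, 1, 5, 3, 2, 1, 3, 4], [0, 1, 5, 0, 1, 0, 1, 2, 5, 3, 2, 1, 0, 2, 1, 0, 1, 3, 2, 1, 5, 3, 2, 1, 4, 3], [1, 2, 3, 5, 1, 2, 3, 1, 0, 1, 2, 0, 1, 2, 3, 5, 2, 3, 4, 3], [1, 2, 3, 5, 1, 2, 3, 1, 0, 1, 2, 0, 1, 2, 3, 5, 2, 3, 4, 1, 2, 3, 5, 1, 2, 3, 1, 0, 1, 2, 0, 1, 2, 3, 5, 2], [1, 2, 3, 5, 1, 2, 3, 1, 0, 1, 2, 0, 1, 2, 3, 5, 2, 3, 4, 2, 5, 3, 2, 1, 0, 2, 1, 0, 1, 3, 2, 1, 5, 3, 2, 1], [1, 2, 3, 5, 1, 2, 3, 1, 0, 1, 2, 0, 1, 2, 3, 5, 2, 3, 2, 5, 3, 2, 1, 0, 2, 1, 0, 1, 3, 2, 1, 5, 3, 2, 1, 4], [1, 2, 3, 5, 1, 2, 3, 1, 0, 1, 2, 0, 1, 2, 3, 5, 2, 4, 3, 1, 2, 3, 5, 1, 2, 3, 1, 0, 1, 2, 0, 1, 2, 3, 5, 2], [1, 2, 3, 5, 1, 2, 3, 1, 0, 1, 2, 0, 1, 2, 3, 5, 2, 4, 3, 2, 5, 3, 2, 1, 0, 2, 1, 0, 1, 3, 2, 1, 5, 3, 2, 1], [1, 2, 3, 5, 1, 2, 3, 1, 0, 1, 2, 0, 1, 2, 3, 5, 2, 4, 1, 2, 3, 5, 1, 2, 3, 1, 0, 1, 2, 0, 1, 2, 3, 5, 2, 3], [1, 2, 3, 5, 1, 2, 3, 1, 0, 1, 2, 0, 1, 2, 3, 5, 2, 4, 1, 2, 3, 5, 1, 2, 3, 1, 0, 1, 2, 0, 1, 2, 3, 5, 2, 4], [1, 2, 3, 5, 1, 2, 3, 1, 0, 1, 2, 0, 1, 2, 3, 5, 2, 4, 2, 5, 3, 2, 1, 0, 2, 1, 0, 1, 3, 2, 1, 5, 3, 2, 1, 3], [1, 2, 3, 5, 1, 2, 3, 1, 0, 1, 2, 0, 1, 2, 3, 5, 2, 4, 2, 5, 3, 2, 1, 0, 2, 1, 0, 1, 3, 2, 1, 5, 3, 2, 1, 4], [2, 5, 3, 2, 1, 0, 2, 1, 0, 1, 3, 2, 1, 5, 3, 2, 1, 3, 4, 3], [2, 5, 3, 2, 1, 0, 2, 1, 0, 1, 3, 2, 1, 5, 3, 2, 1, 3, 4, 2, 5, 3, 2, 1, 0, 2, 1, 0, 1, 3, 2, 1, 5, 3, 2, 1], [2, 5, 3, 2, 1, 0, 2, 1, 0, 1, 3, 2, 1, 5, 3, 2, 1, 4, 3, 2, 5, 3, 2, 1, 0, 2, 1, 0, 1, 3, 2, 1, 5, 3, 2, 1], [2, 5, 3, 2, 1, 0, 2, 1, 0, 1, 3, 2, 1, 5, 3, 2, 1, 4, 2, 5, 3, 2, 1, 0, 2, 1, 0, 1, 3, 2, 1, 5, 3, 2, 1, 3], [2, 5, 3, 2, 1, 0, 2, 1, 0, 1, 3, 2, 1, 5, 3, 2, 1, 4, 2, 5, 3, 2, 1, 0, 2, 1, 0, 1, 3, 2, 1, 5, 3, 2, 1, 4], [3, 4, 3, 0, 1, 5, 0, 1, 0, 1, 2, 5, 3, 2, 1, 0, 2, 1, 0, 1, 3, 2, 1, 5, 3, 2, 1], [3, 4, 3, 1, 2, 3, 5, 1, 2, 3, 1, 0, 1, 2, 0, 1, 2, 3, 5, 2, 3], [3, 4, 3, 1, 2, 3, 5, 1, 2, 3, 1, 0, 1, 2, 0, 1, 2, 3, 5, 2, 4], [3, 4, 3, 2, 5, 3, 2, 1, 0, 2, 1, 0, 1, 3, 2, 1, 5, 3, 2, 1, 3], [3, 4, 3, 2, 5, 3, 2, 1, 0, 2, 1, 0, 1, 3, 2, 1, 5, 3, 2, 1, 4], [3, 4, 0, 1, 5, 0, 1, 0, 1, 2, 5, 3, 2, 1, 0, 2, 1, 0, 1, 3, 2, 1, 5, 3, 2, 1, 3], [3, 4, 0, 1, 5, 0, 1, 0, 1, 2, 5, 3, 2, 1, 0, 2, 1, 0, 1, 3, 2, 1, 5, 3, 2, 1, 4], [3, 4, 1, 2, 3, 5, 1, 2, 3, 1, 0, 1, 2, 0, 1, 2, 3, 5, 2, 3, 2, 5, 3, 2, 1, 0, 2, 1, 0, 1, 3, 2, 1, 5, 3, 2, 1], [3, 4, 1, 2, 3, 5, 1, 2, 3, 1, 0, 1, 2, 0, 1, 2, 3, 5, 2, 4, 3], [3, 4, 1, 2, 3, 5, 1, 2, 3, 1, 0, 1, 2, 0, 1, 2, 3, 5, 2, 4, 1, 2, 3, 5, 1, 2, 3, 1, 0, 1, 2, 0, 1, 2, 3, 5, 2], [3, 4, 1, 2, 3, 5, 1, 2, 3, 1, 0, 1, 2, 0, 1, 2, 3, 5, 2, 4, 2, 5, 3, 2, 1, 0, 2, 1, 0, 1, 3, 2, 1, 5, 3, 2, 1], [3, 4, 2, 5, 3, 2, 1, 0, 2, 1, 0, 1, 3, 2, 1, 5, 3, 2, 1, 4, 3], [3, 4, 2, 5, 3, 2, 1, 0, 2, 1, 0, 1, 3, 2, 1, 5, 3, 2, 1, 4, 2, 5, 3, 2, 1, 0, 2, 1, 0, 1, 3, 2, 1, 5, 3, 2, 1], [3, 0, 1, 5, 0, 1, 0, 1, 2, 5, 3, 2, 1, 0, 2, 1, 0, 1, 3, 2, 1, 5, 3, 2, 1, 4, 3], [3, 1, 2, 3, 5, 1, 2, 3, 1, 0, 1, 2, 0, 1, 2, 3, 5, 2, 3, 4, 3], [3, 1, 2, 3, 5, 1, 2, 3, 1, 0, 1, 2, 0, 1, 2, 3, 5, 2, 3, 4, 1, 2, 3, 5, 1, 2, 3, 1, 0, 1, 2, 0, 1, 2, 3, 5, 2], [3, 1, 2, 3, 5, 1, 2, 3, 1, 0, 1, 2, 0, 1, 2, 3, 5, 2, 3, 4, 2, 5, 3, 2, 1, 0, 2, 1, 0, 1, 3, 2, 1, 5, 3, 2, 1], [3, 1, 2, 3, 5, 1, 2, 3, 1, 0, 1, 2, 0, 1, 2, 3, 5, 2, 4, 3, 2, 5, 3, 2, 1, 0, 2, 1, 0, 1, 3, 2, 1, 5, 3, 2, 1], [3, 1, 2, 3, 5, 1, 2, 3, 1, 0, 1, 2, 0, 1, 2, 3, 5, 2, 4, 1, 2, 3, 5, 1, 2, 3, 1, 0, 1, 2, 0, 1, 2, 3, 5, 2, 3], [3, 1, 2, 3, 5, 1, 2, 3, 1, 0, 1, 2, 0, 1, 2, 3, 5, 2, 4, 1, 2, 3, 5, 1, 2, 3, 1, 0, 1, 2, 0, 1, 2, 3, 5, 2, 4], [3, 1, 2, 3, 5, 1, 2, 3, 1, 0, 1, 2, 0, 1, 2, 3, 5, 2, 4, 2, 5, 3, 2, 1, 0, 2, 1, 0, 1, 3, 2, 1, 5, 3, 2, 1, 3], [3, 1, 2, 3, 5, 1, 2, 3, 1, 0, 1, 2, 0, 1, 2, 3, 5, 2, 4, 2, 5, 3, 2, 1, 0, 2, 1, 0, 1, 3, 2, 1, 5, 3, 2, 1, 4], [3, 2, 5, 3, 2, 1, 0, 2, 1, 0, 1, 3, 2, 1, 5, 3, 2, 1, 3, 4, 3], [3, 2, 5, 3, 2, 1, 0, 2, 1, 0, 1, 3, 2, 1, 5, 3, 2, 1, 3, 4, 2, 5, 3, 2, 1, 0, 2, 1, 0, 1, 3, 2, 1, 5, 3, 2, 1], [3, 2, 5, 3, 2, 1, 0, 2, 1, 0, 1, 3, 2, 1, 5, 3, 2, 1, 4, 2, 5, 3, 2, 1, 0, 2, 1, 0, 1, 3, 2, 1, 5, 3, 2, 1, 3], [3, 2, 5, 3, 2, 1, 0, 2, 1, 0, 1, 3, 2, 1, 5, 3, 2, 1, 4, 2, 5, 3, 2, 1, 0, 2, 1, 0, 1, 3, 2, 1, 5, 3, 2, 1, 4], [4, 3, 0, 1, 5, 0, 1, 0, 1, 2, 5, 3, 2, 1, 0, 2, 1, 0, 1, 3, 2, 1, 5, 3, 2, 1, 4], [4, 3, 1, 2, 3, 5, 1, 2, 3, 1, 0, 1, 2, 0, 1, 2, 3, 5, 2, 3, 4], [4, 3, 1, 2, 3, 5, 1, 2, 3, 1, 0, 1, 2, 0, 1, 2, 3, 5, 2, 4, 1, 2, 3, 5, 1, 2, 3, 1, 0, 1, 2, 0, 1, 2, 3, 5, 2], [4, 3, 1, 2, 3, 5, 1, 2, 3, 1, 0, 1, 2, 0, 1, 2, 3, 5, 2, 4, 2, 5, 3, 2, 1, 0, 2, 1, 0, 1, 3, 2, 1, 5, 3, 2, 1], [4, 3, 2, 5, 3, 2, 1, 0, 2, 1, 0, 1, 3, 2, 1, 5, 3, 2, 1, 3, 4], [4, 3, 2, 5, 3, 2, 1, 0, 2, 1, 0, 1, 3, 2, 1, 5, 3, 2, 1, 4, 2, 5, 3, 2, 1, 0, 2, 1, 0, 1, 3, 2, 1, 5, 3, 2, 1], [4, 0, 1, 5, 0, 1, 0, 1, 2, 5, 3, 2, 1, 0, 2, 1, 0, 1, 3, 2, 1, 5, 3, 2, 1, 4, 3], [4, 1, 2, 3, 5, 1, 2, 3, 1, 0, 1, 2, 0, 1, 2, 3, 5, 2, 3, 4, 3], [4, 1, 2, 3, 5, 1, 2, 3, 1, 0, 1, 2, 0, 1, 2, 3, 5, 2, 3, 2, 5, 3, 2, 1, 0, 2, 1, 0, 1, 3, 2, 1, 5, 3, 2, 1, 4], [4, 1, 2, 3, 5, 1, 2, 3, 1, 0, 1, 2, 0, 1, 2, 3, 5, 2, 4, 3, 1, 2, 3, 5, 1, 2, 3, 1, 0, 1, 2, 0, 1, 2, 3, 5, 2], [4, 1, 2, 3, 5, 1, 2, 3, 1, 0, 1, 2, 0, 1, 2, 3, 5, 2, 4, 3, 2, 5, 3, 2, 1, 0, 2, 1, 0, 1, 3, 2, 1, 5, 3, 2, 1], [4, 1, 2, 3, 5, 1, 2, 3, 1, 0, 1, 2, 0, 1, 2, 3, 5, 2, 4, 1, 2, 3, 5, 1, 2, 3, 1, 0, 1, 2, 0, 1, 2, 3, 5, 2, 3], [4, 1, 2, 3, 5, 1, 2, 3, 1, 0, 1, 2, 0, 1, 2, 3, 5, 2, 4, 1, 2, 3, 5, 1, 2, 3, 1, 0, 1, 2, 0, 1, 2, 3, 5, 2, 4], [4, 1, 2, 3, 5, 1, 2, 3, 1, 0, 1, 2, 0, 1, 2, 3, 5, 2, 4, 2, 5, 3, 2, 1, 0, 2, 1, 0, 1, 3, 2, 1, 5, 3, 2, 1, 3], [4, 1, 2, 3, 5, 1, 2, 3, 1, 0, 1, 2, 0, 1, 2, 3, 5, 2, 4, 2, 5, 3, 2, 1, 0, 2, 1, 0, 1, 3, 2, 1, 5, 3, 2, 1, 4], [4, 2, 5, 3, 2, 1, 0, 2, 1, 0, 1, 3, 2, 1, 5, 3, 2, 1, 3, 4, 3], [4, 2, 5, 3, 2, 1, 0, 2, 1, 0, 1, 3, 2, 1, 5, 3, 2, 1, 4, 3, 2, 5, 3, 2, 1, 0, 2, 1, 0, 1, 3, 2, 1, 5, 3, 2, 1], [4, 2, 5, 3, 2, 1, 0, 2, 1, 0, 1, 3, 2, 1, 5, 3, 2, 1, 4, 2, 5, 3, 2, 1, 0, 2, 1, 0, 1, 3, 2, 1, 5, 3, 2, 1, 3], [4, 2, 5, 3, 2, 1, 0, 2, 1, 0, 1, 3, 2, 1, 5, 3, 2, 1, 4, 2, 5, 3, 2, 1, 0, 2, 1, 0, 1, 3, 2, 1, 5, 3, 2, 1, 4], [0, 1, 5, 0, 1, 0, 1, 2, 5, 3, 2, 1, 0, 2, 1, 0, 1, 3, 2, 1, 5, 3, 2, 1, 3, 4, 3], [1, 2, 3, 5, 1, 2, 3, 1, 0, 1, 2, 0, 1, 2, 3, 5, 2, 3, 4, 3, 1, 2, 3, 5, 1, 2, 3, 1, 0, 1, 2, 0, 1, 2, 3, 5, 2], [1, 2, 3, 5, 1, 2, 3, 1, 0, 1, 2, 0, 1, 2, 3, 5, 2, 3, 4, 3, 2, 5, 3, 2, 1, 0, 2, 1, 0, 1, 3, 2, 1, 5, 3, 2, 1], [1, 2, 3, 5, 1, 2, 3, 1, 0, 1, 2, 0, 1, 2, 3, 5, 2, 3, 4, 1, 2, 3, 5, 1, 2, 3, 1, 0, 1, 2, 0, 1, 2, 3, 5, 2, 4], [1, 2, 3, 5, 1, 2, 3, 1, 0, 1, 2, 0, 1, 2, 3, 5, 2, 3, 4, 2, 5, 3, 2, 1, 0, 2, 1, 0, 1, 3, 2, 1, 5, 3, 2, 1, 4], [1, 2, 3, 5, 1, 2, 3, 1, 0, 1, 2, 0, 1, 2, 3, 5, 2, 3, 2, 5, 3, 2, 1, 0, 2, 1, 0, 1, 3, 2, 1, 5, 3, 2, 1, 4, 3], [1, 2, 3, 5, 1, 2, 3, 1, 0, 1, 2, 0, 1, 2, 3, 5, 2, 4, 3, 1, 2, 3, 5, 1, 2, 3, 1, 0, 1, 2, 0, 1, 2, 3, 5, 2, 3], [1, 2, 3, 5, 1, 2, 3, 1, 0, 1, 2, 0, 1, 2, 3, 5, 2, 4, 3, 2, 5, 3, 2, 1, 0, 2, 1, 0, 1, 3, 2, 1, 5, 3, 2, 1, 3], [1, 2, 3, 5, 1, 2, 3, 1, 0, 1, 2, 0, 1, 2, 3, 5, 2, 4, 1, 2, 3, 5, 1, 2, 3, 1, 0, 1, 2, 0, 1, 2, 3, 5, 2, 3, 4], [1, 2, 3, 5, 1, 2, 3, 1, 0, 1, 2, 0, 1, 2, 3, 5, 2, 4, 1, 2, 3, 5, 1, 2, 3, 1, 0, 1, 2, 0, 1, 2, 3, 5, 2, 3, 2, 5, 3, 2, 1, 0, 2, 1, 0, 1, 3, 2, 1, 5, 3, 2, 1], [1, 2, 3, 5, 1, 2, 3, 1, 0, 1, 2, 0, 1, 2, 3, 5, 2, 4, 1, 2, 3, 5, 1, 2, 3, 1, 0, 1, 2, 0, 1, 2, 3, 5, 2, 4, 3], [1, 2, 3, 5, 1, 2, 3, 1, 0, 1, 2, 0, 1, 2, 3, 5, 2, 4, 2, 5, 3, 2, 1, 0, 2, 1, 0, 1, 3, 2, 1, 5, 3, 2, 1, 3, 4], [1, 2, 3, 5, 1, 2, 3, 1, 0, 1, 2, 0, 1, 2, 3, 5, 2, 4, 2, 5, 3, 2, 1, 0, 2, 1, 0, 1, 3, 2, 1, 5, 3, 2, 1, 4, 3], [2, 5, 3, 2, 1, 0, 2, 1, 0, 1, 3, 2, 1, 5, 3, 2, 1, 3, 4, 3, 2, 5, 3, 2, 1, 0, 2, 1, 0, 1, 3, 2, 1, 5, 3, 2, 1], [2, 5, 3, 2, 1, 0, 2, 1, 0, 1, 3, 2, 1, 5, 3, 2, 1, 3, 4, 2, 5, 3, 2, 1, 0, 2, 1, 0, 1, 3, 2, 1, 5, 3, 2, 1, 4], [2, 5, 3, 2, 1, 0, 2, 1, 0, 1, 3, 2, 1, 5, 3, 2, 1, 4, 2, 5, 3, 2, 1, 0, 2, 1, 0, 1, 3, 2, 1, 5, 3, 2, 1, 3, 4], [2, 5, 3, 2, 1, 0, 2, 1, 0, 1, 3, 2, 1, 5, 3, 2, 1, 4, 2, 5, 3, 2, 1, 0, 2, 1, 0, 1, 3, 2, 1, 5, 3, 2, 1, 4, 3], [3, 4, 3, 0, 1, 5, 0, 1, 0, 1, 2, 5, 3, 2, 1, 0, 2, 1, 0, 1, 3, 2, 1, 5, 3, 2, 1, 4], [3, 4, 3, 1, 2, 3, 5, 1, 2, 3, 1, 0, 1, 2, 0, 1, 2, 3, 5, 2, 4, 1, 2, 3, 5, 1, 2, 3, 1, 0, 1, 2, 0, 1, 2, 3, 5, 2], [3, 4, 3, 1, 2, 3, 5, 1, 2, 3, 1, 0, 1, 2, 0, 1, 2, 3, 5, 2, 4, 2, 5, 3, 2, 1, 0, 2, 1, 0, 1, 3, 2, 1, 5, 3, 2, 1], [3, 4, 3, 2, 5, 3, 2, 1, 0, 2, 1, 0, 1, 3, 2, 1, 5, 3, 2, 1, 4, 2, 5, 3, 2, 1, 0, 2, 1, 0, 1, 3, 2, 1, 5, 3, 2, 1], [3, 4, 0, 1, 5, 0, 1, 0, 1, 2, 5, 3, 2, 1, 0, 2, 1, 0, 1, 3, 2, 1, 5, 3, 2, 1, 4, 3], [3, 4, 1, 2, 3, 5, 1, 2, 3, 1, 0, 1, 2, 0, 1, 2, 3, 5, 2, 4, 1, 2, 3, 5, 1, 2, 3, 1, 0, 1, 2, 0, 1, 2, 3, 5, 2, 3], [3, 4, 1, 2, 3, 5, 1, 2, 3, 1, 0, 1, 2, 0, 1, 2, 3, 5, 2, 4, 1, 2, 3, 5, 1, 2, 3, 1, 0, 1, 2, 0, 1, 2, 3, 5, 2, 4], [3, 4, 1, 2, 3, 5, 1, 2, 3, 1, 0, 1, 2, 0, 1, 2, 3, 5, 2, 4, 2, 5, 3, 2, 1, 0, 2, 1, 0, 1, 3, 2, 1, 5, 3, 2, 1, 3], [3, 4, 1, 2, 3, 5, 1, 2, 3, 1, 0, 1, 2, 0, 1, 2, 3, 5, 2, 4, 2, 5, 3, 2, 1, 0, 2, 1, 0, 1, 3, 2, 1, 5, 3, 2, 1, 4], [3, 4, 2, 5, 3, 2, 1, 0, 2, 1, 0, 1, 3, 2, 1, 5, 3, 2, 1, 4, 2, 5, 3, 2, 1, 0, 2, 1, 0, 1, 3, 2, 1, 5, 3, 2, 1, 3], [3, 4, 2, 5, 3, 2, 1, 0, 2, 1, 0, 1, 3, 2, 1, 5, 3, 2, 1, 4, 2, 5, 3, 2, 1, 0, 2, 1, 0, 1, 3, 2, 1, 5, 3, 2, 1, 4], [3, 1, 2, 3, 5, 1, 2, 3, 1, 0, 1, 2, 0, 1, 2, 3, 5, 2, 3, 4, 1, 2, 3, 5, 1, 2, 3, 1, 0, 1, 2, 0, 1, 2, 3, 5, 2, 4], [3, 1, 2, 3, 5, 1, 2, 3, 1, 0, 1, 2, 0, 1, 2, 3, 5, 2, 3, 4, 2, 5, 3, 2, 1, 0, 2, 1, 0, 1, 3, 2, 1, 5, 3, 2, 1, 4], [3, 1, 2, 3, 5, 1, 2, 3, 1, 0, 1, 2, 0, 1, 2, 3, 5, 2, 4, 3, 2, 5, 3, 2, 1, 0, 2, 1, 0, 1, 3, 2, 1, 5, 3, 2, 1, 3], [3, 1, 2, 3, 5, 1, 2, 3, 1, 0, 1, 2, 0, 1, 2, 3, 5, 2, 4, 1, 2, 3, 5, 1, 2, 3, 1, 0, 1, 2, 0, 1, 2, 3, 5, 2, 4, 3], [3, 1, 2, 3, 5, 1, 2, 3, 1, 0, 1, 2, 0, 1, 2, 3, 5, 2, 4, 2, 5, 3, 2, 1, 0, 2, 1, 0, 1, 3, 2, 1, 5, 3, 2, 1, 4, 3], [3, 2, 5, 3, 2, 1, 0, 2, 1, 0, 1, 3, 2, 1, 5, 3, 2, 1, 3, 4, 2, 5, 3, 2, 1, 0, 2, 1, 0, 1, 3, 2, 1, 5, 3, 2, 1, 4], [3, 2, 5, 3, 2, 1, 0, 2, 1, 0, 1, 3, 2, 1, 5, 3, 2, 1, 4, 2, 5, 3, 2, 1, 0, 2, 1, 0, 1, 3, 2, 1, 5, 3, 2, 1, 4, 3]])]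
def szl : List Nat := [1, 1365, 416]

def fullL : List Nat := [0, 1, 3, 1, 6, 5, 4, 3, 2, 1, 1, 3, 6, 5, 4, 3, 2, 1, 3, 1, 6, 5, 4, 3, 2, 1, 1, 3, 6, 5, 4, 3, 2, 1, 1, 1, 1, 2, 3, 4, 5, 6, 3, 1, 1, 2, 3, 4, 5, 6, 1, 3, 1, 2, 3, 4, 5, 6, 3, 1, 1, 2, 3, 4, 5, 6, 1, 3, 1, 1, 1, 2, 3, 4, 5, 6, 3, 1, 1, 2, 3, 4, 5, 6, 1, 3, 1, 2, 3, 4, 5, 6, 3, 1, 1, 2, 3, 4, 5, 6, 1, 3, 1, 0]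
def fw (i : Nat) : Nat := T0 (T1 (T3 (T1 (T6 (T5 (T4 (T3 (T2 (T1 (T1 (T3 (T6 (T5 (T4 (T3 (T2 (T1 (T3 (T1 (T6 (T5 (T4 (T3 (T2 (T1 (T1 (T3 (T6 (T5 (T4 (T3 (T2 (T1 (T1 (T1 (T3 (T1 (T6 (T5 (T4 (T3 (T2 (T1 (T1 (T3 (T6 (T5 (T4 (T3 (T2 (T1 (T3 (T1 (T6 (T5 (T4 (T3 (T2 (T1 (T1 (T3 (T6 (T5 (T4 (T3 (T2 (T1 (T1 (T1 (T1 (T2 (T3 (T4 (T5 (T6 (T3 (T1 (T1 (T2 (T3 (T4 (T5 (T6 (T1 (T3 (T1 (T2 (T3 (T4 (T5 (T6 (T3 (T1 (T1 (T2 (T3 (T4 (T5 (T6 (T1 (T3 (T1 (T0 i)))))))))))))))))))))))))))))))))))))))))))))))))))))))))))))))))))))))))))))))))))))))))))))))))))))))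
def gpowL : List Nat := [1, 2, 3, 4, 5, 6, 1, 2, 3, 4, 5, 6, 1, 2, 3, 4, 5, 6, 1, 2, 3, 4, 5, 6, 1, 2, 3, 4, 5, 6, 1, 2, 3, 4, 5, 6, 1, 2, 3, 4, 5, 6, 1, 2, 3, 4, 5, 6, 1, 2, 3, 4, 5, 6, 1, 2, 3, 4, 5, 6, 1, 2, 3, 4, 5, 6]
def fg (i : Nat) : Nat := T6 (T5 (T4 (T3 (T2 (T1 (T6 (T5 (T4 (T3 (T2 (T1 (T6 (T5 (T4 (T3 (T2 (T1 (T6 (T5 (T4 (T3 (T2 (T1 (T6 (T5 (T4 (T3 (T2 (T1 (T6 (T5 (T4 (T3 (T2 (T1 (T6 (T5 (T4 (T3 (T2 (T1 (T6 (T5 (T4 (T3 (T2 (T1 (T6 (T5 (T4 (T3 (T2 (T1 (T6 (T5 (T4 (T3 (T2 (T1 (T6 (T5 (T4 (T3 (T2 (T1 i)))))))))))))))))))))))))))))))))))))))))))))))))))))))))))))))))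
def ckX (i : Nat) : Bool := Nat.ble nn i || (Nat.beq (fw i) (T0 i) && Nat.beq (fg i) i)
def ckOl (i : Nat) : Bool := Nat.ble nn i || (Nat.blt (ol i) 3 && (Nat.beq i 0 || !(Nat.beq (ol i) (ol 0))))

end Cfsg.Agent.Lib.Helper25.TC.SuzX
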