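import Cfsg.Agent.Lib.Helper25.TCFiChainLe
import Cfsg.Agent.Lib.Helper25.TCU6E7_28I
import Cfsg.Agent.Lib.Helper25.TCU6Q_6336I

set_option autoImplicit false
set_option maxRecDepth 1000000
set_option linter.unusedVariables false
set_option linter.unusedSimpArgs false
set_option linter.constructorNameAsVariable false

/-! Upper bounds for the orders of the presented groups `Sp₆(2)` (the Weyl group of type `E₇` modulo its centre)
and `U₆(2)` (on eight transvections). -/

namespace Cfsg.Agent.Lib.Helper25.TC.U6Chain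

open Cfsg.Spor Cfsg.Agent.Lib.Helper25.TC Cfsg.Agent.Lib.Helper25.Pres

/-- the Weyl group of type `E₇` modulo its centre has order at most `1451520` -/
theorem card_le_E7 : Finite (CoxPresented U6E7.Gen U6E7.edges U6E7.extra) ∧
    Nat.card (CoxPresented U6E7.Gen U6E7.edges U6E7.extra) ≤ 1451520 := by
  have h := card_le_step (edges₁ := FE6.edges) (extra₁ := FE6.extra) (edges := U6E7.edges) (extra := U6E7.extra)
    U6E7_28.setup U6E7_28.checks U6E7.emb
    (by intro a _ b _; cases a <;> cases b <;> decide)
    (by intro r hr; simp [FE6.extra] at hr)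
    (by
      intro w hw
      simp only [U6E7_28.sw, List.mem_cons, List.not_mem_nil, or_false] at hw
      rcases hw with rfl | rfl | rfl | rfl | rfl | rfl
      · exact ⟨.c, rfl⟩
      · exact ⟨.d, rfl⟩
      · exact ⟨.e, rfl⟩
      · exact ⟨.f, rfl⟩
      · exact ⟨.h, rfl⟩
      · exact ⟨.i, rfl⟩)
    51840 FiChain.card_le_E6
  exact ⟨h.1, h.2.trans (by decide)⟩

/-- the presented group `U₆(2)` has order at most `9196830720` -/
theorem card_le_Q : Finite (CoxPresented U6Q.Gen U6Q.edges U6Q.extra) ∧
    Nat.card (CoxPresented U6Q.Gen U6Q.edges U6Q.extra) ≤ 9196830720 := by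
  have h := card_le_step (edges₁ := U6E7.edges) (extra₁ := U6E7.extra) (edges := U6Q.edges) (extra := U6Q.extra)
    U6Q_6336.setup U6Q_6336.checks U6Q.emb
    (by intro a _ b _; cases a <;> cases b <;> decide)
    (by
      intro r hr
      simp only [U6E7.extra, List.mem_cons, List.not_mem_nil, or_false] at hr
      rcases hr with rfl
      simp [U6Q.extra, U6Q.emb, map_mul, map_inv, map_pow, FreeGroup.map.of])
    (by
      intro w hw
      simp only [U6Q_6336.sw, List.mem_cons, List.not_mem_nil, or_false] at hw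
      rcases hw with rfl | rfl | rfl | rfl | rfl | rfl | rfl
      · exact ⟨.c, rfl⟩
      · exact ⟨.d, rfl⟩
      · exact ⟨.e, rfl⟩
      · exact ⟨.f, rfl⟩
      · exact ⟨.g, rfl⟩
      · exact ⟨.h, rfl⟩
      · exact ⟨.i, rfl⟩)
    1451520 card_le_E7
  exact ⟨h.1, h.2.trans (by decide)⟩

end Cfsg.Agent.Lib.Helper25.TC.U6Chain
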