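import Mathlib
import Cfsg.Prelude.Def_Classical
import Cfsg.Agent.Lib.Helper25.TCExistJ
import Cfsg.Agent.Lib.Helper25.TCU6Q_6336I

set_option autoImplicit false
set_option maxRecDepth 1000000
set_option linter.unusedVariables false
set_option linter.unusedSimpArgs false

/-! Explicit unitary transvections over a field with four elements satisfying, modulo scalars, the relators of the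
presentation of `U₆(2)` on the generators `c, d, e, f, g, h, i, x`. -/

namespace Cfsg.Agent.Lib.Helper25.TC.U6Mat

open Matrix Cfsg.Spor Cfsg.Agent.Lib.Helper25.TC Cfsg.Agent.Lib.Helper25.Pres

/-- a field with four elements `0, 1, ω, ω²` -/
inductive K4 : Type
  | z | o | w | v
  deriving DecidableEq

namespace K4

/-- addition -/
def add : K4 → K4 → K4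
  | z, x => x
  | x, z => x
  | o, o => z | o, w => v | o, v => w
  | w, o => v | w, w => z | w, v => o
  | v, o => w | v, w => o | v, v => z

/-- multiplication -/
def mul : K4 → K4 → K4
  | z, _ => z
  | _, z => z
  | o, x => x
  | x, o => x
  | w, w => v | w, v => o
  | v, w => o | v, v => w

/-- inverse -/
def inv : K4 → K4
  | z => z | o => o | w => v | v => w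

instance : Fintype K4 := ⟨{z, o, w, v}, by intro x; cases x <;> decide⟩

instance : Zero K4 := ⟨z⟩
instance : One K4 := ⟨o⟩
instance : Add K4 := ⟨add⟩
instance : Mul K4 := ⟨mul⟩
instance : Neg K4 := ⟨id⟩
instance : Inv K4 := ⟨inv⟩

instance : CommRing K4 where
  add_assoc := by decide
  zero_add := by decide
  add_zero := by decide
  add_comm := by decide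
  neg_add_cancel := by decide
  mul_assoc := by decide
  one_mul := by decide
  mul_one := by decide
  left_distrib := by decide
  right_distrib := by decide
  zero_mul := by decide
  mul_zero := by decide
  mul_comm := by decide
  nsmul := nsmulRec
  zsmul := zsmulRec

instance : Field K4 where
  exists_pair_ne := ⟨z, o, by decide⟩
  mul_inv_cancel := by decide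
  inv_zero := rfl
  nnqsmul := _
  nnqsmul_def := fun _ _ => rfl
  qsmul := _
  qsmul_def := fun _ _ => rfl

theorem card_eq : Fintype.card K4 = 4 := rfl

/-- the element with a given number -/
def ofN : Nat → K4
  | 0 => z | 1 => o | 2 => w | _ => v

theorem sq_add (a b : K4) : (a + b) ^ 2 = a ^ 2 + b ^ 2 := by
  revert a b; decide

theorem eq_one_of_sq : ∀ a : K4, a * a = 1 → a = 1 := by decide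

end K4

/-- square matrices of size six -/
abbrev M6 := Matrix (Fin 6) (Fin 6) K4

/-- a matrix from its list of entries (row by row) -/
def matOf (l : List Nat) : M6 := fun i j => K4.ofN (l.getD (6 * i.val + j.val) 0)

/-- the entries of the matrices of the generators `c, …, i, x` -/
def gmL : List (List Nat) := [
  [1, 0, 0, 0, 0, 0, 0, 0, 0, 2, 1, 3, 0, 0, 1, 0, 0, 0, 0, 3, 0, 0, 3, 2, 0, 1, 0, 2, 0, 3, 0, 2, 0, 3, 2, 0],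
  [1, 0, 0, 0, 0, 0, 0, 0, 1, 3, 1, 0, 0, 1, 0, 3, 1, 0, 0, 2, 2, 0, 2, 0, 0, 1, 1, 3, 0, 0, 0, 0, 0, 0, 0, 1],
  [1, 0, 0, 0, 0, 0, 0, 0, 1, 3, 0, 2, 0, 1, 0, 3, 0, 2, 0, 2, 2, 0, 0, 3, 0, 0, 0, 0, 1, 0, 0, 3, 3, 2, 0, 0],
  [0, 1, 1, 2, 3, 2, 1, 0, 1, 2, 3, 2, 1, 1, 0, 2, 3, 2, 3, 3, 3, 0, 2, 1, 2, 2, 2, 3, 0, 3, 3, 3, 3, 1, 2, 0],
  [1, 0, 0, 0, 0, 0, 0, 0, 2, 0, 3, 1, 0, 3, 0, 0, 2, 3, 0, 0, 0, 1, 0, 0, 0, 2, 3, 0, 0, 2, 0, 1, 2, 0, 3, 0],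
  [0, 2, 0, 0, 3, 3, 3, 0, 0, 0, 2, 2, 0, 0, 1, 0, 0, 0, 0, 0, 0, 1, 0, 0, 2, 3, 0, 0, 0, 1, 2, 3, 0, 0, 1, 0],
  [0, 2, 3, 2, 2, 3, 3, 0, 2, 1, 1, 2, 2, 3, 0, 3, 3, 1, 3, 1, 2, 0, 1, 2, 3, 1, 2, 1, 0, 2, 2, 3, 1, 3, 3, 0],
  [0, 1, 2, 3, 2, 3, 1, 0, 2, 3, 2, 3, 3, 3, 0, 2, 1, 2, 2, 2, 3, 0, 3, 1, 3, 3, 1, 2, 0, 2, 2, 2, 3, 1, 3, 0]]

/-- the matrix of a generator (the identity for numbers beyond the generators) -/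
def gm (x : Nat) : M6 := if x < 8 then matOf (gmL.getD x []) else 1

/-- the entrywise Frobenius map -/
def fr (M : M6) : M6 := fun i j => (M i j) ^ 2

theorem gm_sq_lt : ∀ x < 8, gm x * gm x = 1 := by decide +kernel

theorem gm_gram_lt : ∀ x < 8, (gm x)ᵀ * fr (gm x) = 1 := by decide +kernel

theorem gm_sq (x : Nat) : gm x * gm x = 1 := by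
  by_cases hx : x < 8
  · exact gm_sq_lt x hx
  · unfold gm; rw [if_neg hx, one_mul]

theorem fr_one : fr (1 : M6) = 1 := by decide +kernel

theorem gm_gram (x : Nat) : (gm x)ᵀ * fr (gm x) = 1 := by
  by_cases hx : x < 8
  · exact gm_gram_lt x hx
  · unfold gm; rw [if_neg hx, Matrix.transpose_one, one_mul, fr_one]

theorem gm_det (x : Nat) : (gm x).det = 1 := by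
  apply K4.eq_one_of_sq
  rw [← Matrix.det_mul, gm_sq, Matrix.det_one]

theorem herm_eq (u v : Fin 6 → K4) : Cfsg.hermForm 6 K4 2 u v = u ⬝ᵥ (fun i => (v i) ^ 2) := by
  simp only [Cfsg.hermForm, dotProduct]

theorem fr_mulVec (M : M6) (v : Fin 6 → K4) :
    (fun i => ((M *ᵥ v) i) ^ 2) = fr M *ᵥ (fun i => (v i) ^ 2) := by
  funext i
  simp only [Matrix.mulVec, dotProduct, fr]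
  have key : ∀ (s : Finset (Fin 6)) (f : Fin 6 → K4), (∑ j ∈ s, f j) ^ 2 = ∑ j ∈ s, (f j) ^ 2 := by
    intro s f
    induction s using Finset.induction_on with
    | empty => simp
    | insert a s ha ih => rw [Finset.sum_insert ha, Finset.sum_insert ha, K4.sq_add, ih]
  rw [key]
  apply Finset.sum_congr rfl
  intro j _
  rw [mul_pow]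

theorem herm_mulVec (M : M6) (h : Mᵀ * fr M = 1) (u v : Fin 6 → K4) :
    Cfsg.hermForm 6 K4 2 (M *ᵥ u) (M *ᵥ v) = Cfsg.hermForm 6 K4 2 u v := by
  rw [herm_eq, herm_eq, fr_mulVec, Matrix.dotProduct_mulVec, ← Matrix.vecMul_transpose, Matrix.vecMul_vecMul, h,
    Matrix.vecMul_one]

/-- the special linear group -/
abbrev SL6 := Matrix.SpecialLinearGroup (Fin 6) K4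

/-- the special unitary group -/
abbrev SU6 := Cfsg.SU 6 K4 2

/-- the unitary transvection of a generator -/
def fS (x : Nat) : SU6 :=
  ⟨⟨gm x, gm_det x⟩, by
    intro u v
    exact herm_mulVec (gm x) (gm_gram x) u v⟩

theorem fS_val (x : Nat) : ((fS x : SU6) : SL6).val = gm x := rfl

theorem fS_sq (x : Nat) : fS x * fS x = 1 := by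
  apply Subtype.ext
  apply Subtype.ext
  exact gm_sq x

/-- checking that a word evaluates to a given scalar matrix, with the partial products given -/
def ckW : List Nat → List (List Nat) → M6 → Nat → Bool
  | [], _, A, c => decide (A = K4.ofN c • (1 : M6))
  | x :: w, l :: ls, A, c => decide (gm x * A = matOf l) && ckW w ls (matOf l) c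
  | _ :: _, [], _, _ => false

theorem ckW_sound : ∀ (w : List Nat) (ls : List (List Nat)) (A : M6) (c : Nat),
    ckW w ls A c = true → w.foldl (fun acc x => gm x * acc) A = K4.ofN c • (1 : M6) := by
  intro w
  induction w with
  | nil =>
    intro ls A c h
    simpa [ckW] using h
  | cons x w ih =>
    intro ls A c h
    cases ls with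
    | nil => simp [ckW] at h
    | cons l ls =>
      simp only [ckW, Bool.and_eq_true, decide_eq_true_eq] at h
      rw [List.foldl_cons, h.1]
      exact ih ls _ c h.2

theorem evr_val : ∀ (w : List Nat) (B : M6),
    ((evr fS w : SU6) : SL6).val * B = w.foldl (fun acc x => gm x * acc) B := by
  intro w
  induction w with
  | nil => intro B; simp [evr]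
  | cons x w ih =>
    intro B
    rw [List.foldl_cons, ← ih (gm x * B)]
    simp only [evr, Subgroup.coe_mul, Matrix.SpecialLinearGroup.coe_mul, fS_val, mul_assoc]

/-- an element of the special unitary group with a scalar matrix is central -/
theorem mem_center_of_scalar (g : SU6) (c : K4) (h : ((g : SU6) : SL6).val = c • (1 : M6)) :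
    g ∈ Subgroup.center SU6 := by
  rw [Subgroup.mem_center_iff]
  intro y
  apply Subtype.ext
  apply Subtype.ext
  simp only [Subgroup.coe_mul, Matrix.SpecialLinearGroup.coe_mul, h, Matrix.mul_smul, Matrix.smul_mul, mul_one, one_mul]

/-- checking a list of words -/
def ckAll : List (List Nat) → List (List (List Nat)) → List Nat → Bool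
  | [], _, _ => true
  | w :: ws, c :: cs, s :: ss => ckW w c 1 s && ckAll ws cs ss
  | _ :: _, _, _ => false

theorem ckAll_sound : ∀ (ws : List (List Nat)) (cs : List (List (List Nat))) (ss : List Nat),
    ckAll ws cs ss = true → ∀ w ∈ ws, evr fS w ∈ Subgroup.center SU6 := by
  intro ws
  induction ws with
  | nil => intro cs ss _ w hw; simp at hw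
  | cons w0 ws ih =>
    intro cs ss h w hw
    cases cs with
    | nil => simp [ckAll] at h
    | cons c cs =>
      cases ss with
      | nil => simp [ckAll] at h
      | cons s ss =>
        simp only [ckAll, Bool.and_eq_true] at h
        rcases List.mem_cons.mp hw with rfl | hw
        · apply mem_center_of_scalar _ (K4.ofN s)
          have h1 := evr_val w 1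
          rw [mul_one] at h1
          rw [h1]
          exact ckW_sound w c 1 s h.1
        · exact ih cs ss h.2 w hw

/-- the partial products along the relator words -/
def certs : List (List (List Nat)) := [
  [[1, 0, 0, 0, 0, 0, 0, 0, 0, 2, 1, 3, 0, 0, 1, 0, 0, 0, 0, 3, 0, 0, 3, 2, 0, 1, 0, 2, 0, 3, 0, 2, 0, 3, 2, 0], [1, 0, 0, 0, 0, 0, 0, 1, 0, 0, 0, 0, 0, 0, 1, 0, 0, 0, 0, 0, 0, 1, 0, 0, 0, 0, 0, 0, 1, 0, 0, 0, 0, 0, 0, 1]],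
  [[1, 0, 0, 0, 0, 0, 0, 0, 1, 3, 1, 0, 0, 1, 0, 3, 1, 0, 0, 2, 2, 0, 2, 0, 0, 1, 1, 3, 0, 0, 0, 0, 0, 0, 0, 1], [1, 0, 0, 0, 0, 0, 0, 2, 2, 3, 3, 3, 0, 1, 0, 3, 1, 0, 0, 3, 0, 0, 3, 2, 0, 3, 2, 3, 2, 3, 0, 3, 1, 0, 3, 0], [1, 0, 0, 0, 0, 0, 0, 0, 2, 0, 1, 2, 0, 3, 0, 0, 3, 1, 0, 0, 0, 1, 0, 0, 0, 1, 2, 0, 0, 2, 0, 3, 1, 0, 3, 0], [1, 0, 0, 0, 0, 0, 0, 3, 1, 2, 2, 2, 0, 3, 0, 0, 3, 1, 0, 2, 2, 0, 2, 0, 0, 2, 1, 2, 3, 2, 0, 2, 0, 3, 2, 0], [1, 0, 0, 0, 0, 0, 0, 0, 0, 2, 1, 3, 0, 0, 1, 0, 0, 0, 0, 3, 0, 0, 3, 2, 0, 1, 0, 2, 0, 3, 0, 2, 0, 3, 2, 0], [1, 0, 0, 0, 0, 0, 0, 1, 0, 0, 0, 0, 0, 0, 1, 0, 0, 0, 0, 0, 0, 1, 0, 0, 0, 0, 0, 0, 1, 0, 0, 0, 0, 0, 0, 1]],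
  [[1, 0, 0, 0, 0, 0, 0, 0, 1, 3, 0, 2, 0, 1, 0, 3, 0, 2, 0, 2, 2, 0, 0, 3, 0, 0, 0, 0, 1, 0, 0, 3, 3, 2, 0, 0], [1, 0, 0, 0, 0, 0, 0, 1, 1, 1, 1, 1, 0, 1, 0, 3, 0, 2, 0, 1, 2, 1, 3, 1, 0, 1, 0, 2, 0, 3, 0, 1, 3, 1, 2, 1], [1, 0, 0, 0, 0, 0, 0, 0, 0, 2, 1, 3, 0, 0, 1, 0, 0, 0, 0, 3, 0, 0, 3, 2, 0, 1, 0, 2, 0, 3, 0, 2, 0, 3, 2, 0], [1, 0, 0, 0, 0, 0, 0, 1, 0, 0, 0, 0, 0, 0, 1, 0, 0, 0, 0, 0, 0, 1, 0, 0, 0, 0, 0, 0, 1, 0, 0, 0, 0, 0, 0, 1]],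
  [[0, 1, 1, 2, 3, 2, 1, 0, 1, 2, 3, 2, 1, 1, 0, 2, 3, 2, 3, 3, 3, 0, 2, 1, 2, 2, 2, 3, 0, 3, 3, 3, 3, 1, 2, 0], [0, 1, 1, 2, 3, 2, 1, 1, 1, 0, 2, 1, 1, 1, 0, 2, 3, 2, 3, 0, 3, 1, 1, 3, 2, 3, 2, 1, 1, 0, 3, 1, 3, 2, 0, 1], [1, 0, 0, 0, 0, 0, 0, 0, 0, 2, 1, 3, 0, 0, 1, 0, 0, 0, 0, 3, 0, 0, 3, 2, 0, 1, 0, 2, 0, 3, 0, 2, 0, 3, 2, 0], [1, 0, 0, 0, 0, 0, 0, 1, 0, 0, 0, 0, 0, 0, 1, 0, 0, 0, 0, 0, 0, 1, 0, 0, 0, 0, 0, 0, 1, 0, 0, 0, 0, 0, 0, 1]],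
  [[1, 0, 0, 0, 0, 0, 0, 0, 2, 0, 3, 1, 0, 3, 0, 0, 2, 3, 0, 0, 0, 1, 0, 0, 0, 2, 3, 0, 0, 2, 0, 1, 2, 0, 3, 0], [1, 0, 0, 0, 0, 0, 0, 1, 2, 2, 2, 2, 0, 3, 0, 0, 2, 3, 0, 3, 0, 0, 3, 2, 0, 3, 3, 2, 1, 1, 0, 3, 2, 3, 1, 1], [1, 0, 0, 0, 0, 0, 0, 0, 0, 2, 1, 3, 0, 0, 1, 0, 0, 0, 0, 3, 0, 0, 3, 2, 0, 1, 0, 2, 0, 3, 0, 2, 0, 3, 2, 0], [1, 0, 0, 0, 0, 0, 0, 1, 0, 0, 0, 0, 0, 0, 1, 0, 0, 0, 0, 0, 0, 1, 0, 0, 0, 0, 0, 0, 1, 0, 0, 0, 0, 0, 0, 1]],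
  [[0, 2, 0, 0, 3, 3, 3, 0, 0, 0, 2, 2, 0, 0, 1, 0, 0, 0, 0, 0, 0, 1, 0, 0, 2, 3, 0, 0, 0, 1, 2, 3, 0, 0, 1, 0], [0, 2, 0, 0, 3, 3, 3, 1, 0, 2, 3, 1, 0, 0, 1, 0, 0, 0, 0, 3, 0, 0, 3, 2, 2, 2, 0, 2, 1, 2, 2, 1, 0, 3, 3, 1], [1, 0, 0, 0, 0, 0, 0, 0, 0, 2, 1, 3, 0, 0, 1, 0, 0, 0, 0, 3, 0, 0, 3, 2, 0, 1, 0, 2, 0, 3, 0, 2, 0, 3, 2, 0], [1, 0, 0, 0, 0, 0, 0, 1, 0, 0, 0, 0, 0, 0, 1, 0, 0, 0, 0, 0, 0, 1, 0, 0, 0, 0, 0, 0, 1, 0, 0, 0, 0, 0, 0, 1]],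
  [[0, 2, 3, 2, 2, 3, 3, 0, 2, 1, 1, 2, 2, 3, 0, 3, 3, 1, 3, 1, 2, 0, 1, 2, 3, 1, 2, 1, 0, 2, 2, 3, 1, 3, 3, 0], [0, 2, 3, 2, 2, 3, 3, 1, 2, 3, 0, 1, 2, 3, 0, 3, 3, 1, 3, 2, 2, 1, 2, 0, 3, 0, 2, 3, 1, 1, 2, 1, 1, 0, 1, 1], [1, 0, 0, 0, 0, 0, 0, 0, 0, 2, 1, 3, 0, 0, 1, 0, 0, 0, 0, 3, 0, 0, 3, 2, 0, 1, 0, 2, 0, 3, 0, 2, 0, 3, 2, 0], [1, 0, 0, 0, 0, 0, 0, 1, 0, 0, 0, 0, 0, 0, 1, 0, 0, 0, 0, 0, 0, 1, 0, 0, 0, 0, 0, 0, 1, 0, 0, 0, 0, 0, 0, 1]],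
  [[0, 1, 2, 3, 2, 3, 1, 0, 2, 3, 2, 3, 3, 3, 0, 2, 1, 2, 2, 2, 3, 0, 3, 1, 3, 3, 1, 2, 0, 2, 2, 2, 3, 1, 3, 0], [0, 1, 2, 3, 2, 3, 1, 1, 2, 1, 3, 0, 3, 3, 0, 2, 1, 2, 2, 1, 3, 1, 0, 3, 3, 2, 1, 0, 1, 1, 2, 0, 3, 2, 1, 1], [1, 0, 0, 0, 0, 0, 0, 0, 0, 2, 1, 3, 0, 0, 1, 0, 0, 0, 0, 3, 0, 0, 3, 2, 0, 1, 0, 2, 0, 3, 0, 2, 0, 3, 2, 0], [1, 0, 0, 0, 0, 0, 0, 1, 0, 0, 0, 0, 0, 0, 1, 0, 0, 0, 0, 0, 0, 1, 0, 0, 0, 0, 0, 0, 1, 0, 0, 0, 0, 0, 0, 1]],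
  [[1, 0, 0, 0, 0, 0, 0, 0, 1, 3, 1, 0, 0, 1, 0, 3, 1, 0, 0, 2, 2, 0, 2, 0, 0, 1, 1, 3, 0, 0, 0, 0, 0, 0, 0, 1], [1, 0, 0, 0, 0, 0, 0, 1, 0, 0, 0, 0, 0, 0, 1, 0, 0, 0, 0, 0, 0, 1, 0, 0, 0, 0, 0, 0, 1, 0, 0, 0, 0, 0, 0, 1]],
  [[1, 0, 0, 0, 0, 0, 0, 0, 1, 3, 0, 2, 0, 1, 0, 3, 0, 2, 0, 2, 2, 0, 0, 3, 0, 0, 0, 0, 1, 0, 0, 3, 3, 2, 0, 0], [1, 0, 0, 0, 0, 0, 0, 0, 1, 3, 1, 0, 0, 1, 0, 3, 1, 0, 0, 2, 2, 0, 2, 0, 0, 0, 0, 0, 0, 2, 0, 3, 3, 2, 0, 0], [1, 0, 0, 0, 0, 0, 0, 1, 0, 0, 0, 0, 0, 0, 1, 0, 0, 0, 0, 0, 0, 1, 0, 0, 0, 0, 0, 0, 0, 2, 0, 0, 0, 0, 3, 0], [1, 0, 0, 0, 0, 0, 0, 0, 1, 3, 0, 2, 0, 1, 0, 3, 0, 2, 0, 2, 2, 0, 0, 3, 0, 1, 1, 3, 0, 0, 0, 0, 0, 0, 3, 0], [1, 0,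 0, 0, 0, 0, 0, 0, 1, 3, 1, 0, 0, 1, 0, 3, 1, 0, 0, 2, 2, 0, 2, 0, 0, 1, 1, 3, 0, 0, 0, 0, 0, 0, 0, 1], [1, 0, 0, 0, 0, 0, 0, 1, 0, 0, 0, 0, 0, 0, 1, 0, 0, 0, 0, 0, 0, 1, 0, 0, 0, 0, 0, 0, 1, 0, 0, 0, 0, 0, 0, 1]],
  [[0, 1, 1, 2, 3, 2, 1, 0, 1, 2, 3, 2, 1, 1, 0, 2, 3, 2, 3, 3, 3, 0, 2, 1, 2, 2, 2, 3, 0, 3, 3, 3, 3, 1, 2, 0], [0, 1, 1, 2, 3, 2, 1, 1, 0, 1, 2, 2, 1, 0, 1, 1, 2, 2, 3, 1, 1, 1, 0, 1, 2, 3, 3, 0, 1, 3, 3, 3, 3, 1, 2, 0], [1, 0, 0, 0, 0, 0, 0, 0, 1, 3, 1, 0, 0, 1, 0, 3, 1, 0, 0, 2, 2, 0, 2, 0, 0, 1, 1, 3, 0, 0, 0, 0, 0, 0, 0, 1], [1, 0, 0, 0, 0, 0, 0, 1, 0, 0, 0, 0, 0, 0, 1, 0, 0, 0, 0, 0, 0, 1, 0, 0, 0, 0, 0, 0, 1, 0, 0, 0, 0, 0, 0, 1]],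
  [[1, 0, 0, 0, 0, 0, 0, 0, 2, 0, 3, 1, 0, 3, 0, 0, 2, 3, 0, 0, 0, 1, 0, 0, 0, 2, 3, 0, 0, 2, 0, 1, 2, 0, 3, 0], [1, 0, 0, 0, 0, 0, 0, 1, 3, 3, 2, 1, 0, 2, 1, 3, 3, 3, 0, 2, 2, 0, 2, 0, 0, 3, 2, 3, 1, 2, 0, 1, 2, 0, 3, 0], [1, 0, 0, 0, 0, 0, 0, 0, 1, 3, 1, 0, 0, 1, 0, 3, 1, 0, 0, 2, 2, 0, 2, 0, 0, 1, 1, 3, 0, 0, 0, 0, 0, 0, 0, 1], [1, 0, 0, 0, 0, 0, 0, 1, 0, 0, 0, 0, 0, 0, 1, 0, 0, 0, 0, 0, 0, 1, 0, 0, 0, 0, 0, 0, 1, 0, 0, 0, 0, 0, 0, 1]],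
  [[0, 2, 0, 0, 3, 3, 3, 0, 0, 0, 2, 2, 0, 0, 1, 0, 0, 0, 0, 0, 0, 1, 0, 0, 2, 3, 0, 0, 0, 1, 2, 3, 0, 0, 1, 0], [0, 2, 0, 0, 3, 3, 2, 3, 1, 3, 0, 1, 1, 3, 0, 3, 2, 3, 2, 1, 2, 0, 3, 1, 3, 0, 1, 3, 2, 2, 2, 3, 0, 0, 1, 0], [0, 3, 1, 3, 2, 3, 2, 0, 2, 1, 3, 1, 1, 3, 0, 3, 2, 3, 2, 1, 2, 0, 3, 1, 3, 2, 3, 2, 0, 2, 2, 1, 2, 1, 3, 0], [0, 3, 1, 3, 2, 3, 3, 2, 2, 1, 0, 2, 0, 1, 0, 3, 1, 0, 0, 2, 2, 0, 2, 0, 2, 0, 3, 2, 3, 1, 2, 1, 2, 1, 3, 0], [1, 0, 0, 0, 0, 0, 0, 0, 1, 3, 1, 0, 0, 1, 0, 3, 1, 0, 0, 2, 2, 0, 2, 0, 0, 1, 1, 3, 0, 0, 0, 0, 0, 0, 0, 1], [1, 0, 0, 0, 0, 0, 0, 1, 0, 0, 0, 0, 0, 0, 1, 0, 0, 0, 0, 0, 0, 1, 0, 0, 0, 0, 0, 0, 1, 0, 0, 0, 0, 0, 0, 1]],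
  [[0, 2, 3, 2, 2, 3, 3, 0, 2, 1, 1, 2, 2, 3, 0, 3, 3, 1, 3, 1, 2, 0, 1, 2, 3, 1, 2, 1, 0, 2, 2, 3, 1, 3, 3, 0], [0, 2, 3, 2, 2, 3, 3, 1, 3, 2, 0, 2, 2, 2, 1, 0, 2, 1, 3, 3, 0, 1, 3, 2, 3, 0, 3, 2, 1, 2, 2, 3, 1, 3, 3, 0], [1, 0, 0, 0, 0, 0, 0, 0, 1, 3, 1, 0, 0, 1, 0, 3, 1, 0, 0, 2, 2, 0, 2, 0, 0, 1, 1, 3, 0, 0, 0, 0, 0, 0, 0, 1], [1, 0, 0, 0, 0, 0, 0, 1, 0, 0, 0, 0, 0, 0, 1, 0, 0, 0, 0, 0, 0, 1, 0, 0, 0, 0, 0, 0, 1, 0, 0, 0, 0, 0, 0, 1]],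
  [[0, 1, 2, 3, 2, 3, 1, 0, 2, 3, 2, 3, 3, 3, 0, 2, 1, 2, 2, 2, 3, 0, 3, 1, 3, 3, 1, 2, 0, 2, 2, 2, 3, 1, 3, 0], [0, 1, 2, 3, 2, 3, 1, 1, 3, 0, 3, 3, 3, 2, 1, 1, 0, 2, 2, 0, 1, 1, 1, 1, 3, 2, 0, 1, 1, 2, 2, 2, 3, 1, 3, 0], [1, 0, 0, 0, 0, 0, 0, 0, 1, 3, 1, 0, 0, 1, 0, 3, 1, 0, 0, 2, 2, 0, 2, 0, 0, 1, 1, 3, 0, 0, 0, 0, 0, 0, 0, 1], [1, 0, 0, 0, 0, 0, 0, 1, 0, 0, 0, 0, 0, 0, 1, 0, 0, 0, 0, 0, 0, 1, 0, 0, 0, 0, 0, 0, 1, 0, 0, 0, 0, 0, 0, 1]],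
  [[1, 0, 0, 0, 0, 0, 0, 0, 1, 3, 0, 2, 0, 1, 0, 3, 0, 2, 0, 2, 2, 0, 0, 3, 0, 0, 0, 0, 1, 0, 0, 3, 3, 2, 0, 0], [1, 0, 0, 0, 0, 0, 0, 1, 0, 0, 0, 0, 0, 0, 1, 0, 0, 0, 0, 0, 0, 1, 0, 0, 0, 0, 0, 0, 1, 0, 0, 0, 0, 0, 0, 1]],
  [[0, 1, 1, 2, 3, 2, 1, 0, 1, 2, 3, 2, 1, 1, 0, 2, 3, 2, 3, 3, 3, 0, 2, 1, 2, 2, 2, 3, 0, 3, 3, 3, 3, 1, 2, 0], [0, 1, 1, 2, 3, 2, 2, 2, 3, 0, 1, 1, 2, 3, 2, 0, 1, 1, 2, 0, 0, 3, 1, 0, 2, 2, 2, 3, 0, 3, 1, 2, 2, 0, 3, 2], [0, 3, 3, 3, 3, 1, 2, 0, 1, 1, 1, 2, 2, 1, 0, 1, 1, 2, 2, 1, 1, 0, 1, 2, 2, 1, 1, 1, 0, 2, 1, 3, 3, 3, 3, 0], [0, 3, 3, 3, 3, 1, 1, 3, 2, 0, 3, 3, 1, 2, 3, 0, 3, 3, 3, 0, 0, 2, 2, 0, 2, 1, 1, 1, 0, 2, 3, 1, 1, 0, 2, 3], [1, 0,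 0, 0, 0, 0, 0, 0, 1, 3, 0, 2, 0, 1, 0, 3, 0, 2, 0, 2, 2, 0, 0, 3, 0, 0, 0, 0, 1, 0, 0, 3, 3, 2, 0, 0], [1, 0, 0, 0, 0, 0, 0, 1, 0, 0, 0, 0, 0, 0, 1, 0, 0, 0, 0, 0, 0, 1, 0, 0, 0, 0, 0, 0, 1, 0, 0, 0, 0, 0, 0, 1]],
  [[1, 0, 0, 0, 0, 0, 0, 0, 2, 0, 3, 1, 0, 3, 0, 0, 2, 3, 0, 0, 0, 1, 0, 0, 0, 2, 3, 0, 0, 2, 0, 1, 2, 0, 3, 0], [1, 0, 0, 0, 0, 0, 0, 1, 3, 3, 3, 3, 0, 2, 1, 3, 2, 1, 0, 2, 2, 0, 0, 3, 0, 2, 3, 0, 0, 2, 0, 2, 1, 2, 3, 1], [1, 0, 0, 0, 0, 0, 0, 0, 1, 3, 0, 2, 0, 1, 0, 3, 0, 2, 0, 2, 2, 0, 0, 3, 0, 0, 0, 0, 1, 0, 0, 3, 3, 2, 0, 0], [1, 0, 0, 0, 0, 0, 0, 1, 0, 0, 0, 0, 0, 0, 1, 0, 0, 0, 0, 0, 0, 1, 0, 0, 0, 0, 0, 0, 1, 0, 0, 0, 0, 0, 0, 1]],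
  [[0, 2, 0, 0, 3, 3, 3, 0, 0, 0, 2, 2, 0, 0, 1, 0, 0, 0, 0, 0, 0, 1, 0, 0, 2, 3, 0, 0, 0, 1, 2, 3, 0, 0, 1, 0], [0, 2, 0, 0, 3, 3, 3, 1, 1, 3, 2, 0, 0, 1, 0, 3, 0, 2, 0, 2, 2, 0, 0, 3, 2, 3, 0, 0, 0, 1, 2, 0, 3, 2, 1, 1], [1, 0, 0, 0, 0, 0, 0, 0, 1, 3, 0, 2, 0, 1, 0, 3, 0, 2, 0, 2, 2, 0, 0, 3, 0, 0, 0, 0, 1, 0, 0, 3, 3, 2, 0, 0], [1, 0, 0, 0, 0, 0, 0, 1, 0, 0, 0, 0, 0, 0, 1, 0, 0, 0, 0, 0, 0, 1, 0, 0, 0, 0, 0, 0, 1, 0, 0, 0, 0, 0, 0, 1]],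
  [[0, 2, 3, 2, 2, 3, 3, 0, 2, 1, 1, 2, 2, 3, 0, 3, 3, 1, 3, 1, 2, 0, 1, 2, 3, 1, 2, 1, 0, 2, 2, 3, 1, 3, 3, 0], [0, 2, 3, 2, 2, 3, 3, 1, 3, 2, 1, 0, 2, 2, 1, 0, 3, 3, 3, 3, 0, 1, 1, 1, 3, 1, 2, 1, 0, 2, 2, 0, 2, 1, 3, 1], [1, 0, 0, 0, 0, 0, 0, 0, 1, 3, 0, 2, 0, 1, 0, 3, 0, 2, 0, 2, 2, 0, 0, 3, 0, 0, 0, 0, 1, 0, 0, 3, 3, 2, 0, 0], [1, 0, 0, 0, 0, 0, 0, 1, 0, 0, 0, 0, 0, 0, 1, 0, 0, 0, 0, 0, 0, 1, 0, 0, 0, 0, 0, 0, 1, 0, 0, 0, 0, 0, 0, 1]],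
  [[0, 1, 2, 3, 2, 3, 1, 0, 2, 3, 2, 3, 3, 3, 0, 2, 1, 2, 2, 2, 3, 0, 3, 1, 3, 3, 1, 2, 0, 2, 2, 2, 3, 1, 3, 0], [0, 1, 2, 3, 2, 3, 1, 1, 3, 0, 2, 1, 3, 2, 1, 1, 1, 0, 2, 0, 1, 1, 3, 2, 3, 3, 1, 2, 0, 2, 2, 1, 0, 3, 3, 1], [1, 0, 0, 0, 0, 0, 0, 0, 1, 3, 0, 2, 0, 1, 0, 3, 0, 2, 0, 2, 2, 0, 0, 3, 0, 0, 0, 0, 1, 0, 0, 3, 3, 2, 0, 0], [1, 0, 0, 0, 0, 0, 0, 1, 0, 0, 0, 0, 0, 0, 1, 0, 0, 0, 0, 0, 0, 1, 0, 0, 0, 0, 0, 0, 1, 0, 0, 0, 0, 0, 0, 1]],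
  [[0, 1, 1, 2, 3, 2, 1, 0, 1, 2, 3, 2, 1, 1, 0, 2, 3, 2, 3, 3, 3, 0, 2, 1, 2, 2, 2, 3, 0, 3, 3, 3, 3, 1, 2, 0], [1, 0, 0, 0, 0, 0, 0, 1, 0, 0, 0, 0, 0, 0, 1, 0, 0, 0, 0, 0, 0, 1, 0, 0, 0, 0, 0, 0, 1, 0, 0, 0, 0, 0, 0, 1]],
  [[1, 0, 0, 0, 0, 0, 0, 0, 2, 0, 3, 1, 0, 3, 0, 0, 2, 3, 0, 0, 0, 1, 0, 0, 0, 2, 3, 0, 0, 2, 0, 1, 2, 0, 3, 0], [0, 0, 3, 2, 0, 3, 1, 0, 1, 2, 3, 2, 1, 3, 3, 2, 2, 0, 3, 0, 2, 0, 0, 2, 2, 2, 2, 3, 0, 3, 3, 1, 0, 1, 3, 2], [0, 0, 3, 2, 0, 3, 0, 1, 0, 0, 0, 0, 2, 0, 0, 3, 0, 1, 3, 0, 2, 0, 0, 2, 0, 0, 0, 0, 1, 0, 2, 0, 1, 3, 0, 0], [0, 1, 1, 2, 3, 2, 0, 0, 2, 0, 3, 1, 2, 1, 2, 3, 3, 0, 3, 3, 3, 0, 2, 1, 0, 2, 3, 0, 0, 2, 2, 3, 0, 3, 2, 3], [0, 1,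 1, 2, 3, 2, 1, 0, 1, 2, 3, 2, 1, 1, 0, 2, 3, 2, 3, 3, 3, 0, 2, 1, 2, 2, 2, 3, 0, 3, 3, 3, 3, 1, 2, 0], [1, 0, 0, 0, 0, 0, 0, 1, 0, 0, 0, 0, 0, 0, 1, 0, 0, 0, 0, 0, 0, 1, 0, 0, 0, 0, 0, 0, 1, 0, 0, 0, 0, 0, 0, 1]],
  [[0, 2, 0, 0, 3, 3, 3, 0, 0, 0, 2, 2, 0, 0, 1, 0, 0, 0, 0, 0, 0, 1, 0, 0, 2, 3, 0, 0, 0, 1, 2, 3, 0, 0, 1, 0], [1, 3, 1, 2, 0, 1, 2, 1, 1, 2, 1, 0, 1, 1, 0, 2, 3, 2, 3, 3, 3, 0, 2, 1, 0, 1, 2, 3, 1, 2, 1, 0, 3, 1, 3, 1], [0, 1, 1, 2, 3, 2, 1, 0, 1, 2, 3, 2, 1, 1, 0, 2, 3, 2, 3, 3, 3, 0, 2, 1, 2, 2, 2, 3, 0, 3, 3, 3, 3, 1, 2, 0], [1, 0, 0, 0, 0, 0, 0, 1, 0, 0, 0, 0, 0, 0, 1, 0, 0, 0, 0, 0, 0, 1, 0, 0, 0, 0, 0, 0, 1, 0, 0, 0, 0, 0, 0, 1]],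
  [[0, 2, 3, 2, 2, 3, 3, 0, 2, 1, 1, 2, 2, 3, 0, 3, 3, 1, 3, 1, 2, 0, 1, 2, 3, 1, 2, 1, 0, 2, 2, 3, 1, 3, 3, 0], [1, 3, 2, 0, 1, 1, 2, 1, 3, 3, 2, 0, 3, 2, 1, 1, 0, 3, 0, 2, 1, 1, 3, 3, 1, 3, 0, 2, 1, 1, 1, 0, 2, 2, 1, 1], [0, 1, 1, 2, 3, 2, 1, 0, 1, 2, 3, 2, 1, 1, 0, 2, 3, 2, 3, 3, 3, 0, 2, 1, 2, 2, 2, 3, 0, 3, 3, 3, 3, 1, 2, 0], [1, 0, 0, 0, 0, 0, 0, 1, 0, 0, 0, 0, 0, 0, 1, 0, 0, 0, 0, 0, 0, 1, 0, 0, 0, 0, 0, 0, 1, 0, 0, 0, 0, 0, 0, 1]],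
  [[0, 1, 2, 3, 2, 3, 1, 0, 2, 3, 2, 3, 3, 3, 0, 2, 1, 2, 2, 2, 3, 0, 3, 1, 3, 3, 1, 2, 0, 2, 2, 2, 3, 1, 3, 0], [0, 1, 1, 2, 3, 2, 1, 0, 1, 2, 3, 2, 3, 3, 3, 3, 0, 3, 2, 2, 1, 3, 0, 2, 3, 3, 0, 0, 2, 0, 2, 2, 1, 2, 0, 3], [1, 0, 0, 0, 0, 0, 0, 1, 0, 0, 0, 0, 0, 0, 0, 2, 2, 2, 0, 0, 3, 0, 1, 1, 0, 0, 3, 1, 0, 1, 0, 0, 3, 1, 1, 0], [0, 1, 2, 3, 2, 3, 1, 0, 2, 3, 2, 3, 1, 1, 2, 1, 0, 1, 3, 3, 2, 2, 0, 3, 2, 2, 0, 0, 3, 0, 3, 3, 2, 3, 0, 2], [0, 1, 1, 2, 3, 2, 1, 0, 1, 2, 3, 2, 1, 1, 0, 2, 3, 2, 3, 3, 3, 0, 2, 1, 2, 2, 2, 3, 0, 3, 3, 3, 3, 1, 2, 0], [1, 0, 0, 0, 0, 0, 0, 1, 0, 0, 0, 0, 0, 0, 1, 0, 0, 0, 0, 0, 0, 1, 0, 0, 0, 0, 0, 0, 1, 0, 0, 0, 0, 0, 0, 1]],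
  [[1, 0, 0, 0, 0, 0, 0, 0, 2, 0, 3, 1, 0, 3, 0, 0, 2, 3, 0, 0, 0, 1, 0, 0, 0, 2, 3, 0, 0, 2, 0, 1, 2, 0, 3, 0], [1, 0, 0, 0, 0, 0, 0, 1, 0, 0, 0, 0, 0, 0, 1, 0, 0, 0, 0, 0, 0, 1, 0, 0, 0, 0, 0, 0, 1, 0, 0, 0, 0, 0, 0, 1]],
  [[0, 2, 0, 0, 3, 3, 3, 0, 0, 0, 2, 2, 0, 0, 1, 0, 0, 0, 0, 0, 0, 1, 0, 0, 2, 3, 0, 0, 0, 1, 2, 3, 0, 0, 1, 0], [0, 2, 0, 0, 3, 3, 3, 1, 2, 0, 1, 3, 0, 3, 0, 0, 2, 3, 0, 0, 0, 1, 0, 0, 2, 1, 3, 0, 1, 3, 2, 2, 2, 0, 2, 1], [1, 0, 0, 0, 0, 0, 0, 0, 2, 0, 3, 1, 0, 3, 0, 0, 2, 3, 0, 0, 0, 1, 0, 0, 0, 2, 3, 0, 0, 2, 0, 1, 2, 0, 3, 0], [1, 0, 0, 0, 0, 0, 0, 1, 0, 0, 0, 0, 0, 0, 1, 0, 0, 0, 0, 0, 0, 1, 0, 0, 0, 0, 0, 0, 1, 0, 0, 0, 0, 0, 0, 1]],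
  [[0, 2, 3, 2, 2, 3, 3, 0, 2, 1, 1, 2, 2, 3, 0, 3, 3, 1, 3, 1, 2, 0, 1, 2, 3, 1, 2, 1, 0, 2, 2, 3, 1, 3, 3, 0], [0, 2, 3, 2, 2, 3, 3, 1, 0, 1, 2, 3, 2, 0, 1, 3, 1, 2, 3, 1, 2, 0, 1, 2, 3, 3, 1, 1, 1, 0, 2, 2, 3, 3, 0, 1], [1, 0, 0, 0, 0, 0, 0, 0, 2, 0, 3, 1, 0, 3, 0, 0, 2, 3, 0, 0, 0, 1, 0, 0, 0, 2, 3, 0, 0, 2, 0, 1, 2, 0, 3, 0], [1, 0, 0, 0, 0, 0, 0, 1, 0, 0, 0, 0, 0, 0, 1, 0, 0, 0, 0, 0, 0, 1, 0, 0, 0, 0, 0, 0, 1, 0, 0, 0, 0, 0, 0, 1]],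
  [[0, 1, 2, 3, 2, 3, 1, 0, 2, 3, 2, 3, 3, 3, 0, 2, 1, 2, 2, 2, 3, 0, 3, 1, 3, 3, 1, 2, 0, 2, 2, 2, 3, 1, 3, 0], [0, 1, 2, 3, 2, 3, 1, 1, 0, 3, 1, 2, 3, 0, 1, 2, 3, 1, 2, 2, 3, 0, 3, 1, 3, 1, 2, 2, 1, 0, 2, 3, 1, 1, 0, 1], [1, 0, 0, 0, 0, 0, 0, 0, 2, 0, 3, 1, 0, 3, 0, 0, 2, 3, 0, 0, 0, 1, 0, 0, 0, 2, 3, 0, 0, 2, 0, 1, 2, 0, 3, 0], [1, 0, 0, 0, 0, 0, 0, 1, 0, 0, 0, 0, 0, 0, 1, 0, 0, 0, 0, 0, 0, 1, 0, 0, 0, 0, 0, 0, 1, 0, 0, 0, 0, 0, 0, 1]],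
  [[0, 2, 0, 0, 3, 3, 3, 0, 0, 0, 2, 2, 0, 0, 1, 0, 0, 0, 0, 0, 0, 1, 0, 0, 2, 3, 0, 0, 0, 1, 2, 3, 0, 0, 1, 0], [1, 0, 0, 0, 0, 0, 0, 1, 0, 0, 0, 0, 0, 0, 1, 0, 0, 0, 0, 0, 0, 1, 0, 0, 0, 0, 0, 0, 1, 0, 0, 0, 0, 0, 0, 1]],
  [[0, 2, 3, 2, 2, 3, 3, 0, 2, 1, 1, 2, 2, 3, 0, 3, 3, 1, 3, 1, 2, 0, 1, 2, 3, 1, 2, 1, 0, 2, 2, 3, 1, 3, 3, 0], [2, 1, 1, 3, 0, 2, 2, 2, 3, 2, 0, 1, 2, 3, 0, 3, 3, 1, 3, 1, 2, 0, 1, 2, 0, 0, 1, 3, 3, 0, 1, 2, 2, 1, 0, 2], [0, 2, 1, 3, 1, 3, 3, 0, 3, 2, 3, 2, 1, 2, 0, 3, 1, 3, 2, 3, 2, 0, 2, 1, 1, 2, 1, 3, 0, 3, 2, 3, 2, 1, 2, 0], [3, 3, 3, 2, 0, 1, 1, 3, 2, 1, 0, 3, 1, 2, 0, 3, 1, 3, 2, 3, 2, 0, 2, 1, 0, 0, 2, 1, 2, 0, 3, 1, 1, 3, 0, 3], [0, 2,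 0, 0, 3, 3, 3, 0, 0, 0, 2, 2, 0, 0, 1, 0, 0, 0, 0, 0, 0, 1, 0, 0, 2, 3, 0, 0, 0, 1, 2, 3, 0, 0, 1, 0], [1, 0, 0, 0, 0, 0, 0, 1, 0, 0, 0, 0, 0, 0, 1, 0, 0, 0, 0, 0, 0, 1, 0, 0, 0, 0, 0, 0, 1, 0, 0, 0, 0, 0, 0, 1]],
  [[0, 1, 2, 3, 2, 3, 1, 0, 2, 3, 2, 3, 3, 3, 0, 2, 1, 2, 2, 2, 3, 0, 3, 1, 3, 3, 1, 2, 0, 2, 2, 2, 3, 1, 3, 0], [1, 3, 2, 3, 1, 0, 2, 1, 2, 3, 0, 1, 3, 3, 0, 2, 1, 2, 2, 2, 3, 0, 3, 1, 1, 0, 1, 2, 1, 3, 0, 1, 3, 1, 2, 1], [0, 2, 0, 0, 3, 3, 3, 0, 0, 0, 2, 2, 0, 0, 1, 0, 0, 0, 0, 0, 0, 1, 0, 0, 2, 3, 0, 0, 0, 1, 2, 3, 0, 0, 1, 0], [1, 0, 0, 0, 0, 0, 0, 1, 0, 0, 0, 0, 0, 0, 1, 0, 0, 0, 0, 0, 0, 1, 0, 0, 0, 0, 0, 0, 1, 0, 0, 0, 0, 0, 0, 1]],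
  [[0, 2, 3, 2, 2, 3, 3, 0, 2, 1, 1, 2, 2, 3, 0, 3, 3, 1, 3, 1, 2, 0, 1, 2, 3, 1, 2, 1, 0, 2, 2, 3, 1, 3, 3, 0], [1, 0, 0, 0, 0, 0, 0, 1, 0, 0, 0, 0, 0, 0, 1, 0, 0, 0, 0, 0, 0, 1, 0, 0, 0, 0, 0, 0, 1, 0, 0, 0, 0, 0, 0, 1]],
  [[0, 1, 2, 3, 2, 3, 1, 0, 2, 3, 2, 3, 3, 3, 0, 2, 1, 2, 2, 2, 3, 0, 3, 1, 3, 3, 1, 2, 0, 2, 2, 2, 3, 1, 3, 0], [3, 1, 2, 0, 3, 1, 3, 0, 2, 1, 1, 2, 2, 3, 0, 3, 3, 1, 0, 2, 3, 2, 0, 0, 1, 3, 1, 0, 3, 3, 3, 2, 3, 0, 1, 3], [0, 0, 0, 1, 2, 3, 0, 1, 0, 0, 0, 0, 0, 0, 1, 0, 0, 0, 1, 0, 0, 0, 2, 3, 3, 0, 0, 3, 0, 2, 2, 0, 0, 2, 3, 0], [2, 2, 3, 0, 1, 2, 1, 0, 2, 3, 2, 3, 3, 3, 0, 2, 1, 2, 0, 1, 2, 3, 0, 0, 2, 1, 2, 0, 2, 1, 1, 3, 1, 0, 2, 2], [0, 2,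 3, 2, 2, 3, 3, 0, 2, 1, 1, 2, 2, 3, 0, 3, 3, 1, 3, 1, 2, 0, 1, 2, 3, 1, 2, 1, 0, 2, 2, 3, 1, 3, 3, 0], [1, 0, 0, 0, 0, 0, 0, 1, 0, 0, 0, 0, 0, 0, 1, 0, 0, 0, 0, 0, 0, 1, 0, 0, 0, 0, 0, 0, 1, 0, 0, 0, 0, 0, 0, 1]],
  [[0, 1, 2, 3, 2, 3, 1, 0, 2, 3, 2, 3, 3, 3, 0, 2, 1, 2, 2, 2, 3, 0, 3, 1, 3, 3, 1, 2, 0, 2, 2, 2, 3, 1, 3, 0], [1, 0, 0, 0, 0, 0, 0, 1, 0, 0, 0, 0, 0, 0, 1, 0, 0, 0, 0, 0, 0, 1, 0, 0, 0, 0, 0, 0, 1, 0, 0, 0, 0, 0, 0, 1]],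
  [[0, 2, 3, 2, 2, 3, 3, 0, 2, 1, 1, 2, 2, 3, 0, 3, 3, 1, 3, 1, 2, 0, 1, 2, 3, 1, 2, 1, 0, 2, 2, 3, 1, 3, 3, 0], [2, 1, 1, 3, 0, 2, 2, 2, 3, 2, 0, 1, 2, 3, 0, 3, 3, 1, 3, 1, 2, 0, 1, 2, 0, 0, 1, 3, 3, 0, 1, 2, 2, 1, 0, 2], [2, 1, 1, 3, 0, 2, 2, 3, 1, 2, 3, 0, 2, 0, 1, 3, 1, 2, 3, 1, 2, 0, 1, 2, 0, 2, 2, 3, 2, 2, 1, 3, 0, 1, 3, 3], [3, 1, 2, 1, 0, 1, 3, 3, 2, 0, 3, 3, 3, 0, 2, 1, 1, 1, 0, 1, 0, 1, 1, 0, 2, 2, 3, 0, 2, 3, 2, 3, 2, 0, 3, 1], [3, 1, 2, 1, 0, 1, 0, 2, 1, 2, 3, 3, 0, 1, 1, 3, 1, 1, 1, 3, 1, 2, 1, 0, 2, 2, 3, 0, 2, 3, 0, 0, 0, 1, 3, 1], [3, 1, 2, 1, 0, 1, 1, 1, 1, 2, 0, 2, 1, 2, 1, 3, 2, 0, 3, 2, 1, 2, 0, 2, 3, 1, 3, 0, 1, 2, 0, 0, 0, 1, 3, 1], [3, 1, 2,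 1, 0, 1, 2, 2, 1, 0, 3, 2, 1, 2, 1, 3, 2, 0, 1, 0, 1, 3, 2, 2, 0, 2, 3, 2, 2, 2, 1, 1, 0, 2, 2, 1], [1, 2, 2, 1, 1, 0, 3, 0, 1, 0, 0, 1, 2, 3, 1, 3, 0, 2, 0, 2, 1, 3, 1, 1, 1, 0, 3, 2, 1, 1, 2, 0, 0, 2, 0, 3], [3, 0, 0, 0, 3, 3, 2, 1, 0, 3, 1, 3, 2, 3, 1, 3, 0, 2, 0, 2, 1, 3, 1, 1, 2, 3, 0, 0, 2, 0, 1, 3, 3, 0, 3, 2], [3, 0, 0, 0, 3, 3, 3, 0, 1, 1, 2, 1, 1, 0, 2, 2, 2, 3, 0, 2, 1, 3, 1, 1, 0, 1, 2, 3, 3, 3, 0, 2, 2, 2, 0, 0], [2, 3, 3, 3, 0, 2, 2, 3, 2, 2, 1, 0, 0, 3, 1, 1, 1, 2, 3, 0, 3, 1, 3, 2, 2, 0, 3, 2, 2, 1, 3, 0, 0, 0, 2, 3], [2, 3, 3, 3, 0, 2, 3, 3, 3, 2, 0, 2, 1, 3, 0, 1, 0, 0, 1, 0, 1, 1, 1, 1, 2, 0, 3, 2, 2, 1, 0, 0, 3, 0, 1, 2], [2, 3, 3, 3, 0, 2, 0, 3,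 0, 0, 1, 2, 2, 3, 3, 3, 1, 0, 0, 0, 0, 2, 3, 1, 1, 0, 0, 0, 3, 1, 0, 0, 3, 0, 1, 2], [2, 3, 3, 3, 0, 2, 1, 0, 2, 3, 1, 2, 2, 3, 3, 3, 1, 0, 3, 2, 1, 0, 3, 1, 0, 3, 2, 3, 3, 1, 2, 1, 0, 1, 1, 2], [3, 3, 0, 1, 2, 2, 2, 0, 0, 2, 0, 2, 0, 3, 2, 0, 2, 0, 0, 2, 3, 1, 2, 1, 3, 3, 0, 2, 2, 1, 0, 1, 1, 2, 2, 2], [1, 1, 3, 3, 0, 1, 3, 1, 2, 3, 1, 0, 0, 3, 2, 0, 2, 0, 0, 2, 3, 1, 2, 1, 0, 0, 1, 1, 1, 0, 3, 2, 0, 1, 1, 3], [1, 1, 3, 3, 0, 1, 3, 3, 0, 2, 1, 3, 0, 2, 3, 3, 2, 2, 0, 2, 3, 1, 2, 1, 0, 3, 2, 3, 1, 1, 3, 0, 2, 0, 1, 0], [2, 0, 0, 1, 1, 0, 0, 2, 3, 0, 0, 2, 3, 3, 0, 1, 3, 3, 2, 1, 1, 0, 1, 2, 1, 1, 3, 0, 3, 3, 1, 3, 0, 1, 2, 3], [2, 0, 0, 1, 1, 0, 0, 1, 3, 3, 3, 3, 3,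 0, 0, 2, 0, 2, 2, 0, 1, 1, 0, 0, 1, 1, 3, 0, 3, 3, 1, 1, 0, 3, 0, 0], [2, 0, 0, 1, 1, 0, 3, 1, 0, 1, 3, 1, 0, 0, 3, 0, 0, 0, 3, 0, 0, 2, 0, 3, 2, 1, 0, 2, 3, 1, 1, 1, 0, 3, 0, 0], [2, 0, 0, 1, 1, 0, 0, 2, 0, 3, 3, 0, 0, 0, 3, 0, 0, 0, 1, 2, 0, 3, 0, 0, 1, 2, 0, 0, 3, 0, 0, 0, 0, 0, 0, 2], [0, 3, 2, 0, 0, 1, 1, 0, 1, 0, 0, 3, 3, 1, 0, 2, 2, 2, 0, 0, 1, 0, 3, 3, 0, 0, 1, 3, 0, 3, 3, 1, 3, 2, 2, 0], [0, 3, 3, 3, 1, 3, 1, 0, 2, 2, 3, 2, 3, 1, 0, 2, 2, 2, 0, 0, 1, 0, 3, 3, 0, 0, 3, 2, 2, 0, 3, 1, 1, 3, 0, 3], [0, 3, 3, 3, 1, 3, 2, 3, 3, 1, 2, 0, 1, 3, 3, 0, 1, 3, 0, 0, 1, 0, 3, 3, 1, 1, 1, 3, 0, 3, 0, 2, 0, 0, 1, 1], [0, 0, 1, 3, 0, 2, 2, 0, 1, 1, 3, 1, 1, 0, 1, 0, 0, 2,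 0, 2, 0, 0, 0, 0, 1, 0, 2, 3, 2, 1, 0, 0, 1, 0, 2, 2], [0, 0, 1, 3, 0, 2, 1, 1, 3, 0, 3, 1, 2, 1, 3, 1, 0, 2, 1, 0, 3, 2, 0, 0, 1, 0, 2, 3, 2, 1, 2, 3, 0, 3, 2, 2], [0, 0, 1, 3, 0, 2, 0, 1, 3, 3, 2, 3, 3, 1, 3, 2, 1, 0, 3, 0, 3, 3, 2, 3, 0, 0, 2, 0, 3, 3, 2, 3, 0, 3, 2, 2], [0, 0, 1, 3, 0, 2, 0, 2, 3, 3, 1, 3, 3, 1, 3, 2, 1, 0, 3, 2, 3, 3, 0, 3, 0, 3, 2, 0, 0, 3, 2, 2, 0, 3, 3, 2], [2, 3, 1, 3, 3, 0, 1, 0, 3, 3, 3, 2, 0, 0, 3, 2, 0, 3, 2, 0, 3, 3, 2, 2, 1, 1, 2, 0, 2, 2, 1, 3, 0, 3, 2, 1], [2, 1, 0, 3, 1, 1, 1, 1, 0, 3, 2, 1, 0, 0, 3, 2, 0, 3, 2, 0, 3, 3, 2, 2, 1, 2, 0, 0, 1, 0, 1, 0, 2, 3, 1, 3], [2, 1, 0, 3, 1, 1, 2, 1, 3, 0, 2, 2, 2, 0, 1, 0, 0, 1, 2, 0, 3, 3, 2,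 2, 0, 2, 1, 1, 1, 1, 2, 0, 1, 0, 1, 0], [0, 0, 2, 2, 0, 3, 0, 0, 1, 1, 3, 0, 0, 1, 3, 1, 1, 3, 3, 3, 2, 0, 1, 3, 3, 0, 2, 3, 3, 2, 3, 3, 0, 3, 2, 1], [0, 0, 2, 2, 0, 3, 3, 2, 2, 0, 1, 3, 3, 3, 0, 0, 3, 0, 2, 0, 3, 2, 2, 2, 3, 0, 2, 3, 3, 2, 1, 2, 2, 0, 3, 3], [0, 0, 2, 2, 0, 3, 1, 3, 0, 2, 1, 3, 1, 2, 2, 2, 3, 0, 1, 2, 0, 1, 2, 2, 1, 1, 0, 1, 3, 2, 1, 2, 2, 0, 3, 3], [0, 0, 2, 2, 0, 3, 0, 3, 1, 3, 2, 3, 1, 2, 2, 2, 3, 0, 2, 2, 3, 2, 0, 2, 0, 1, 1, 0, 0, 2, 3, 2, 0, 2, 2, 3], [2, 0, 0, 2, 0, 3, 1, 3, 0, 3, 2, 3, 2, 2, 1, 2, 3, 0, 3, 2, 2, 2, 0, 2, 1, 1, 0, 0, 0, 2, 0, 2, 3, 2, 2, 3], [1, 3, 2, 0, 2, 2, 3, 1, 1, 2, 3, 0, 2, 2, 1, 2, 3, 0, 3, 2, 2, 2, 0, 2, 0, 0, 3, 3,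 3, 0, 1, 3, 0, 1, 1, 1], [1, 3, 2, 0, 2, 2, 2, 0, 0, 0, 2, 1, 1, 1, 2, 3, 0, 3, 3, 2, 2, 2, 0, 2, 2, 2, 1, 0, 1, 2, 0, 2, 1, 3, 0, 0], [3, 0, 0, 1, 1, 0, 0, 3, 2, 1, 1, 3, 3, 2, 0, 2, 3, 1, 2, 0, 3, 1, 2, 3, 1, 3, 2, 2, 0, 1, 1, 0, 0, 0, 2, 1], [3, 0, 0, 1, 1, 0, 0, 2, 2, 1, 1, 1, 3, 3, 0, 2, 3, 3, 2, 2, 3, 1, 2, 0, 1, 3, 2, 2, 0, 1, 1, 3, 0, 0, 2, 0], [3, 0, 0, 1, 1, 0, 3, 1, 0, 3, 2, 2, 0, 0, 2, 0, 0, 0, 3, 3, 0, 2, 3, 1, 2, 0, 0, 0, 3, 2, 1, 3, 0, 0, 2, 0], [3, 0, 0, 1, 1, 0, 0, 3, 0, 3, 3, 0, 0, 0, 2, 0, 0, 0, 1, 2, 0, 2, 0, 0, 1, 2, 0, 0, 2, 0, 0, 0, 0, 0, 0, 3], [0, 1, 1, 2, 2, 2, 2, 0, 3, 1, 1, 1, 1, 2, 0, 1, 1, 3, 3, 1, 3, 0, 2, 1, 3, 1, 3, 2, 0, 1, 1, 2, 2,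 1, 1, 0], [2, 2, 2, 0, 1, 1, 3, 2, 1, 0, 3, 3, 1, 2, 0, 1, 1, 3, 3, 1, 3, 0, 2, 1, 0, 0, 2, 1, 1, 0, 2, 3, 3, 2, 0, 1], [2, 2, 2, 0, 1, 1, 0, 0, 2, 3, 1, 0, 3, 3, 2, 3, 0, 1, 3, 1, 3, 0, 2, 1, 1, 3, 3, 0, 2, 1, 1, 1, 0, 1, 2, 2], [3, 1, 3, 2, 0, 3, 1, 3, 3, 1, 0, 2, 2, 0, 3, 1, 1, 3, 0, 3, 0, 1, 1, 0, 3, 2, 1, 3, 0, 2, 2, 3, 3, 0, 1, 3], [3, 1, 3, 2, 0, 3, 1, 3, 2, 2, 0, 2, 2, 0, 2, 2, 1, 3, 0, 3, 2, 0, 1, 0, 3, 2, 1, 3, 0, 2, 2, 3, 0, 2, 1, 3], [3, 1, 3, 2, 0, 3, 1, 0, 2, 1, 2, 1, 2, 3, 2, 1, 3, 0, 0, 2, 2, 1, 2, 1, 3, 1, 1, 0, 2, 1, 2, 3, 0, 2, 1, 3], [3, 1, 3, 2, 0, 3, 2, 0, 2, 3, 2, 1, 2, 3, 2, 1, 3, 0, 2, 2, 2, 0, 2, 1, 0, 1, 1, 2, 2, 1, 3, 3, 0, 1, 1, 3], [3,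 1, 3, 2, 2, 0, 2, 0, 2, 3, 3, 3, 2, 3, 2, 1, 0, 1, 2, 2, 2, 0, 3, 3, 0, 1, 1, 2, 3, 3, 3, 3, 0, 1, 2, 2], [1, 1, 0, 3, 2, 2, 3, 0, 0, 0, 3, 2, 2, 3, 2, 1, 0, 1, 2, 2, 2, 0, 3, 3, 3, 1, 0, 0, 3, 0, 0, 3, 1, 3, 2, 1], [1, 1, 0, 3, 2, 2, 1, 1, 2, 1, 0, 3, 3, 0, 3, 2, 2, 2, 2, 2, 2, 0, 3, 3, 0, 3, 3, 2, 2, 2, 2, 2, 3, 2, 1, 0], [2, 3, 1, 1, 0, 1, 2, 3, 3, 3, 2, 0, 0, 2, 2, 0, 0, 1, 0, 3, 1, 1, 2, 1, 1, 0, 1, 1, 1, 3, 0, 3, 0, 3, 0, 2], [2, 3, 1, 1, 0, 1, 0, 1, 1, 2, 1, 1, 2, 0, 0, 1, 3, 0, 3, 0, 2, 3, 3, 3, 1, 0, 1, 1, 1, 3, 1, 2, 1, 0, 2, 1], [2, 3, 1, 1, 0, 1, 1, 0, 0, 2, 0, 1, 3, 1, 1, 1, 2, 0, 1, 2, 0, 3, 1, 3, 0, 1, 0, 1, 0, 3, 1, 2, 1, 0, 2, 1], [2, 3, 1, 1, 0, 1,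 1, 3, 3, 0, 3, 1, 3, 1, 1, 1, 2, 0, 1, 0, 2, 2, 3, 3, 0, 2, 3, 3, 3, 3, 1, 3, 0, 3, 3, 1], [1, 3, 0, 3, 2, 1, 3, 3, 0, 1, 2, 1, 2, 1, 3, 2, 1, 0, 3, 0, 1, 3, 2, 3, 2, 2, 0, 2, 2, 3, 0, 3, 2, 0, 0, 1], [0, 2, 1, 3, 2, 3, 0, 0, 3, 1, 2, 0, 2, 1, 3, 2, 1, 0, 3, 0, 1, 3, 2, 3, 0, 0, 2, 2, 2, 0, 2, 1, 0, 0, 0, 2], [0, 2, 1, 3, 2, 3, 1, 3, 0, 2, 3, 2, 1, 3, 1, 0, 2, 1, 3, 0, 1, 3, 2, 3, 2, 1, 3, 3, 0, 3, 3, 2, 3, 3, 1, 0], [1, 0, 0, 0, 0, 0, 0, 1, 1, 1, 1, 1, 0, 1, 0, 3, 0, 2, 0, 1, 2, 1, 3, 1, 0, 2, 1, 2, 3, 2, 0, 3, 0, 1, 0, 2], [1, 0, 0, 0, 0, 0, 0, 3, 1, 2, 2, 2, 0, 3, 0, 0, 3, 1, 0, 2, 2, 0, 2, 0, 0, 2, 1, 2, 3, 2, 0, 2, 0, 3, 2, 0], [1, 0, 0, 0, 0, 0, 0, 0, 0, 2, 1,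 3, 0, 0, 1, 0, 0, 0, 0, 3, 0, 0, 3, 2, 0, 1, 0, 2, 0, 3, 0, 2, 0, 3, 2, 0], [1, 0, 0, 0, 0, 0, 0, 1, 0, 0, 0, 0, 0, 0, 1, 0, 0, 0, 0, 0, 0, 1, 0, 0, 0, 0, 0, 0, 1, 0, 0, 0, 0, 0, 0, 1]],
  [[0, 2, 0, 0, 3, 3, 3, 0, 0, 0, 2, 2, 0, 0, 1, 0, 0, 0, 0, 0, 0, 1, 0, 0, 2, 3, 0, 0, 0, 1, 2, 3, 0, 0, 1, 0], [3, 3, 3, 2, 0, 1, 1, 3, 2, 1, 0, 3, 1, 2, 0, 3, 1, 3, 2, 3, 2, 0, 2, 1, 0, 0, 2, 1, 2, 0, 3, 1, 1, 3, 0, 3], [0, 1, 3, 0, 0, 3, 2, 1, 2, 3, 0, 1, 3, 3, 0, 2, 1, 2, 3, 0, 2, 3, 2, 2, 2, 1, 2, 0, 2, 1, 2, 2, 1, 0, 0, 0], [2, 2, 2, 0, 3, 3, 0, 2, 3, 3, 3, 1, 1, 0, 1, 2, 2, 2, 2, 2, 1, 3, 0, 2, 1, 0, 0, 0, 3, 1, 3, 0, 2, 0, 2, 0], [2, 2, 2, 0, 3, 3, 1, 1, 1, 0, 1, 3, 0, 3,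 3, 1, 0, 0, 0, 3, 2, 2, 3, 1, 1, 0, 0, 0, 3, 1, 0, 2, 3, 2, 3, 1], [2, 2, 2, 0, 3, 3, 1, 1, 2, 0, 1, 2, 0, 3, 0, 1, 0, 1, 0, 3, 3, 2, 3, 3, 1, 0, 3, 0, 3, 0, 0, 2, 3, 2, 3, 1], [1, 3, 3, 1, 2, 0, 3, 2, 1, 3, 2, 0, 0, 3, 0, 1, 0, 1, 0, 3, 3, 2, 3, 3, 0, 2, 1, 2, 1, 1, 1, 0, 1, 0, 1, 0], [2, 3, 2, 2, 3, 0, 1, 2, 2, 1, 1, 0, 1, 3, 2, 0, 2, 1, 2, 3, 0, 0, 0, 3, 2, 2, 2, 0, 2, 1, 0, 0, 3, 1, 3, 0], [1, 2, 0, 2, 3, 2, 2, 3, 0, 1, 1, 2, 3, 0, 3, 0, 2, 0, 3, 1, 3, 0, 0, 0, 0, 1, 3, 0, 2, 0, 1, 2, 0, 1, 3, 3], [2, 1, 0, 3, 3, 3, 1, 0, 0, 0, 1, 3, 0, 3, 3, 1, 2, 1, 1, 3, 3, 3, 0, 3, 1, 0, 3, 2, 2, 2, 3, 0, 0, 2, 3, 0], [2, 1, 0, 3, 3, 3, 2, 1, 1, 0, 3, 3, 3, 2, 2, 1, 0, 1, 0,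 1, 1, 3, 3, 3, 1, 0, 3, 2, 2, 2, 1, 3, 3, 2, 2, 0], [2, 1, 0, 3, 3, 3, 2, 1, 2, 1, 0, 1, 3, 2, 1, 0, 3, 3, 0, 1, 0, 1, 2, 0, 1, 0, 0, 3, 1, 0, 1, 3, 3, 2, 2, 0], [3, 0, 1, 1, 2, 2, 1, 2, 1, 0, 3, 2, 3, 2, 1, 0, 3, 3, 0, 1, 0, 1, 2, 0, 3, 2, 2, 0, 3, 2, 3, 1, 1, 1, 0, 2], [3, 0, 1, 1, 1, 3, 1, 2, 1, 0, 1, 1, 3, 2, 1, 0, 2, 1, 0, 1, 0, 1, 0, 3, 3, 2, 2, 0, 1, 1, 3, 1, 1, 1, 1, 0], [3, 2, 3, 0, 3, 3, 1, 0, 3, 1, 3, 1, 3, 3, 0, 3, 3, 1, 0, 2, 3, 3, 3, 3, 3, 3, 3, 3, 0, 1, 3, 2, 2, 3, 2, 0], [1, 1, 3, 0, 2, 2, 3, 3, 3, 1, 2, 0, 1, 0, 0, 3, 2, 0, 1, 0, 3, 3, 0, 0, 0, 2, 3, 3, 2, 3, 2, 0, 2, 3, 1, 3], [1, 1, 3, 0, 2, 2, 1, 0, 1, 0, 0, 1, 3, 3, 2, 2, 0, 1, 2, 1, 0, 1, 3, 2,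 0, 2, 3, 3, 2, 3, 3, 2, 3, 0, 0, 0], [1, 1, 3, 0, 2, 2, 2, 2, 1, 2, 0, 3, 0, 1, 2, 0, 0, 3, 3, 2, 0, 2, 3, 1, 3, 0, 3, 1, 2, 1, 3, 2, 3, 0, 0, 0], [3, 2, 2, 0, 1, 2, 3, 0, 2, 2, 2, 3, 0, 1, 2, 0, 0, 3, 3, 2, 0, 2, 3, 1, 0, 1, 1, 1, 3, 1, 0, 3, 1, 0, 1, 0], [0, 0, 3, 2, 0, 3, 1, 1, 1, 3, 1, 0, 1, 2, 0, 3, 2, 1, 1, 3, 3, 3, 0, 2, 2, 0, 2, 0, 0, 2, 1, 0, 3, 3, 3, 2], [0, 0, 2, 2, 0, 1, 1, 1, 0, 3, 1, 2, 1, 2, 3, 3, 2, 0, 1, 3, 1, 3, 0, 1, 2, 0, 1, 0, 0, 3, 1, 0, 1, 3, 3, 1], [1, 2, 0, 0, 2, 0, 0, 3, 2, 1, 3, 3, 0, 0, 1, 1, 0, 1, 2, 2, 0, 2, 1, 2, 0, 3, 2, 3, 3, 1, 2, 1, 0, 2, 2, 2], [1, 2, 0, 0, 2, 0, 2, 3, 1, 3, 0, 3, 2, 0, 2, 3, 3, 1, 1, 2, 1, 1, 0, 2, 0, 3, 2, 3, 3,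 1, 3, 1, 2, 3, 0, 2], [1, 2, 0, 0, 2, 0, 1, 2, 3, 3, 0, 1, 1, 1, 0, 3, 3, 3, 0, 0, 2, 1, 0, 1, 3, 2, 0, 3, 3, 3, 3, 1, 2, 3, 0, 2], [2, 1, 0, 1, 2, 1, 3, 0, 3, 0, 0, 2, 1, 1, 0, 3, 3, 3, 0, 0, 2, 1, 0, 1, 2, 3, 0, 1, 3, 1, 2, 0, 2, 1, 0, 0], [0, 2, 3, 1, 3, 1, 2, 2, 1, 0, 3, 2, 2, 0, 1, 3, 1, 3, 1, 2, 0, 1, 3, 1, 3, 1, 2, 1, 0, 1, 1, 1, 3, 1, 2, 0], [0, 2, 2, 3, 2, 2, 2, 2, 0, 2, 2, 1, 2, 0, 2, 2, 2, 1, 1, 2, 2, 2, 1, 0, 3, 1, 1, 0, 3, 3, 1, 1, 1, 2, 0, 1], [2, 0, 0, 0, 0, 0, 0, 0, 2, 1, 0, 3, 0, 2, 0, 1, 0, 3, 0, 3, 3, 0, 0, 1, 0, 2, 2, 1, 0, 0, 0, 0, 0, 0, 1, 0], [2, 0, 0, 0, 0, 0, 0, 0, 2, 1, 2, 0, 0, 2, 0, 1, 2, 0, 0, 3, 3, 0, 3, 0, 0, 2, 2, 1, 0, 0, 0, 0, 0, 0,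 0, 2], [2, 0, 0, 0, 0, 0, 0, 2, 0, 0, 0, 0, 0, 0, 2, 0, 0, 0, 0, 0, 0, 2, 0, 0, 0, 0, 0, 0, 2, 0, 0, 0, 0, 0, 0, 2]],
  [[0, 1, 2, 3, 2, 3, 1, 0, 2, 3, 2, 3, 3, 3, 0, 2, 1, 2, 2, 2, 3, 0, 3, 1, 3, 3, 1, 2, 0, 2, 2, 2, 3, 1, 3, 0], [3, 1, 2, 0, 3, 1, 3, 0, 2, 1, 1, 2, 2, 3, 0, 3, 3, 1, 0, 2, 3, 2, 0, 0, 1, 3, 1, 0, 3, 3, 3, 2, 3, 0, 1, 3], [0, 3, 2, 2, 3, 3, 1, 1, 2, 0, 1, 3, 2, 3, 0, 3, 3, 1, 0, 2, 3, 2, 0, 0, 0, 0, 1, 3, 3, 0, 2, 1, 3, 3, 1, 0], [0, 3, 2, 2, 3, 3, 1, 0, 3, 3, 1, 1, 2, 2, 1, 0, 3, 3, 0, 0, 1, 3, 0, 3, 0, 0, 1, 3, 3, 0, 2, 2, 0, 1, 1, 1], [0, 3, 2, 2, 3, 3, 2, 2, 3, 1, 0, 1, 1, 0, 1, 2, 2, 3, 1, 3, 1, 0, 2, 3, 3, 2, 1, 1, 2, 0, 2, 2, 0, 1, 1, 1], [0,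 3, 2, 2, 3, 3, 0, 2, 3, 2, 2, 2, 1, 0, 1, 2, 2, 3, 0, 3, 1, 2, 3, 1, 1, 2, 1, 2, 0, 3, 1, 2, 0, 0, 2, 0], [3, 2, 0, 3, 2, 1, 3, 3, 1, 3, 3, 0, 3, 3, 0, 1, 1, 2, 1, 1, 2, 0, 1, 2, 3, 1, 0, 1, 3, 2, 0, 0, 3, 2, 0, 3], [0, 3, 3, 1, 1, 3, 1, 0, 3, 2, 1, 1, 2, 1, 1, 2, 0, 1, 3, 2, 0, 1, 3, 3, 1, 2, 2, 0, 1, 3, 1, 2, 2, 1, 1, 0], [2, 0, 1, 0, 2, 0, 0, 2, 2, 1, 3, 3, 2, 1, 1, 2, 0, 1, 3, 2, 0, 1, 3, 3, 2, 3, 1, 2, 0, 2, 2, 3, 1, 3, 0, 1], [2, 0, 1, 0, 2, 0, 3, 1, 3, 0, 2, 1, 1, 2, 0, 3, 1, 3, 2, 3, 2, 3, 1, 0, 2, 3, 1, 2, 0, 2, 0, 1, 2, 0, 3, 0], [2, 0, 1, 0, 2, 0, 2, 3, 0, 3, 2, 1, 0, 0, 3, 0, 1, 3, 0, 0, 3, 2, 1, 0, 3, 1, 2, 1, 0, 2, 0, 1, 2, 0, 3, 0], [2, 0, 1, 0, 2, 0,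 3, 2, 2, 2, 0, 2, 0, 0, 3, 0, 1, 3, 3, 3, 2, 1, 0, 2, 2, 0, 0, 0, 2, 1, 2, 3, 1, 2, 0, 1], [3, 2, 1, 0, 1, 3, 2, 0, 2, 2, 3, 1, 3, 1, 3, 0, 3, 1, 1, 0, 2, 1, 1, 3, 1, 1, 0, 0, 0, 3, 0, 0, 1, 2, 1, 0], [1, 1, 1, 0, 2, 1, 3, 2, 2, 2, 1, 0, 0, 0, 3, 0, 2, 2, 0, 2, 2, 1, 3, 2, 0, 3, 0, 0, 2, 2, 3, 1, 1, 2, 0, 3], [3, 2, 0, 2, 3, 3, 2, 0, 1, 3, 2, 1, 0, 0, 3, 0, 2, 2, 0, 2, 2, 1, 3, 2, 3, 2, 2, 3, 0, 1, 0, 0, 3, 1, 2, 0], [3, 2, 0, 2, 3, 3, 0, 1, 3, 1, 3, 3, 2, 1, 1, 2, 3, 0, 3, 0, 1, 2, 1, 1, 3, 2, 2, 3, 0, 1, 1, 3, 2, 0, 1, 1], [3, 2, 0, 2, 3, 3, 3, 3, 0, 0, 0, 2, 1, 3, 2, 3, 0, 1, 2, 3, 0, 0, 0, 3, 0, 0, 1, 2, 3, 0, 1, 3, 2, 0, 1, 1], [3, 2, 0, 2, 3, 3, 0, 3, 0, 2, 0,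 2, 1, 3, 2, 3, 0, 1, 0, 3, 0, 1, 0, 3, 3, 0, 1, 0, 3, 0, 0, 3, 2, 3, 1, 1], [3, 2, 0, 2, 2, 1, 0, 3, 0, 2, 1, 0, 1, 3, 2, 3, 3, 0, 0, 3, 0, 1, 2, 0, 3, 0, 1, 0, 0, 1, 0, 3, 2, 3, 3, 2], [2, 0, 2, 1, 1, 3, 3, 2, 1, 0, 3, 1, 3, 0, 1, 2, 2, 3, 3, 2, 1, 3, 0, 1, 0, 1, 0, 2, 2, 0, 2, 0, 1, 2, 2, 1], [0, 0, 1, 0, 1, 1, 2, 2, 3, 3, 3, 0, 3, 0, 1, 2, 2, 3, 3, 2, 1, 3, 0, 1, 3, 1, 1, 0, 2, 3, 1, 0, 0, 0, 2, 2], [0, 0, 1, 0, 1, 1, 3, 1, 2, 0, 1, 3, 2, 3, 0, 1, 0, 0, 1, 3, 3, 2, 3, 0, 3, 1, 1, 0, 2, 3, 2, 2, 3, 2, 3, 0], [0, 0, 1, 0, 1, 1, 2, 0, 3, 0, 0, 3, 3, 2, 1, 1, 1, 0, 3, 1, 1, 2, 1, 0, 2, 0, 0, 0, 3, 3, 2, 2, 3, 2, 3, 0], [0, 0, 1, 0, 1, 1, 2, 3, 0, 2, 3, 3, 3, 2, 1, 1,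 1, 0, 3, 3, 3, 3, 3, 0, 2, 3, 3, 2, 0, 3, 2, 3, 2, 1, 2, 0], [3, 1, 0, 2, 2, 2, 1, 2, 1, 0, 0, 0, 1, 1, 2, 0, 3, 2, 2, 1, 1, 0, 2, 1, 0, 0, 0, 3, 2, 1, 3, 1, 0, 2, 3, 1], [0, 1, 1, 0, 0, 2, 3, 2, 2, 1, 1, 0, 0, 1, 0, 3, 0, 2, 0, 1, 2, 1, 3, 1, 2, 0, 3, 2, 3, 1, 2, 1, 2, 1, 0, 1], [1, 0, 0, 0, 0, 0, 0, 1, 1, 1, 1, 1, 0, 1, 0, 3, 0, 2, 0, 1, 2, 1, 3, 1, 0, 2, 1, 2, 3, 2, 0, 3, 0, 1, 0, 2], [1, 0, 0, 0, 0, 0, 0, 3, 1, 2, 2, 2, 0, 3, 0, 0, 3, 1, 0, 2, 2, 0, 2, 0, 0, 2, 1, 2, 3, 2, 0, 2, 0, 3, 2, 0], [1, 0, 0, 0, 0, 0, 0, 0, 0, 2, 1, 3, 0, 0, 1, 0, 0, 0, 0, 3, 0, 0, 3, 2, 0, 1, 0, 2, 0, 3, 0, 2, 0, 3, 2, 0], [1, 0, 0, 0, 0, 0, 0, 1, 0, 0, 0, 0, 0, 0, 1, 0, 0, 0, 0, 0, 0,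 1, 0, 0, 0, 0, 0, 0, 1, 0, 0, 0, 0, 0, 0, 1]],
  [[0, 2, 0, 0, 3, 3, 3, 0, 0, 0, 2, 2, 0, 0, 1, 0, 0, 0, 0, 0, 0, 1, 0, 0, 2, 3, 0, 0, 0, 1, 2, 3, 0, 0, 1, 0], [3, 3, 3, 2, 0, 1, 1, 3, 2, 1, 0, 3, 1, 2, 0, 3, 1, 3, 2, 3, 2, 0, 2, 1, 0, 0, 2, 1, 2, 0, 3, 1, 1, 3, 0, 3], [0, 1, 3, 0, 0, 3, 2, 1, 2, 3, 0, 1, 3, 3, 0, 2, 1, 2, 3, 0, 2, 3, 2, 2, 2, 1, 2, 0, 2, 1, 2, 2, 1, 0, 0, 0], [0, 1, 3, 0, 0, 3, 2, 0, 0, 3, 3, 0, 3, 0, 1, 2, 3, 1, 3, 0, 2, 3, 2, 2, 2, 3, 1, 0, 3, 3, 2, 3, 3, 0, 3, 1], [2, 3, 0, 0, 0, 2, 0, 2, 3, 3, 3, 1, 1, 2, 2, 2, 3, 0, 2, 1, 0, 3, 2, 1, 1, 0, 0, 0, 3, 1, 3, 2, 1, 0, 3, 2], [2, 3, 0, 0, 0, 2, 1, 2, 0, 0, 3, 0, 0, 2, 1, 1, 3, 1, 0, 1, 1, 2, 2, 3,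 1, 0, 0, 0, 3, 1, 0, 2, 3, 2, 3, 1], [1, 2, 2, 1, 1, 0, 3, 1, 1, 3, 0, 1, 0, 2, 1, 1, 3, 1, 0, 1, 1, 2, 2, 3, 0, 2, 3, 2, 1, 2, 1, 0, 0, 0, 1, 2], [2, 2, 2, 2, 0, 2, 1, 1, 1, 1, 3, 0, 1, 2, 1, 0, 1, 2, 2, 1, 1, 0, 1, 2, 2, 2, 3, 0, 2, 3, 0, 0, 0, 1, 3, 1], [1, 2, 1, 2, 3, 0, 2, 1, 2, 1, 0, 2, 3, 2, 3, 0, 3, 3, 3, 1, 0, 0, 0, 1, 0, 2, 1, 0, 0, 2, 1, 0, 1, 1, 2, 2], [1, 2, 1, 2, 3, 0, 0, 2, 3, 1, 3, 2, 2, 0, 0, 0, 1, 3, 3, 1, 0, 0, 0, 1, 3, 3, 3, 0, 1, 2, 3, 3, 0, 1, 1, 2], [0, 3, 1, 3, 3, 1, 1, 3, 3, 0, 3, 3, 3, 1, 0, 1, 1, 2, 0, 2, 0, 3, 0, 2, 1, 1, 3, 2, 1, 0, 0, 0, 0, 2, 1, 1], [0, 3, 1, 3, 3, 1, 3, 0, 0, 0, 3, 1, 1, 2, 3, 1, 1, 0, 3, 3, 1, 3, 0, 1, 1, 1, 3, 2, 1,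 0, 1, 2, 2, 2, 1, 0], [1, 2, 3, 0, 1, 2, 0, 3, 1, 2, 2, 3, 1, 2, 3, 1, 1, 0, 3, 3, 1, 3, 0, 1, 3, 3, 0, 3, 2, 1, 3, 0, 1, 3, 2, 1], [1, 0, 1, 2, 2, 2, 0, 2, 0, 3, 0, 3, 1, 1, 0, 2, 0, 0, 3, 2, 0, 2, 2, 1, 3, 2, 1, 2, 0, 1, 3, 3, 2, 0, 3, 1], [3, 0, 3, 2, 3, 1, 2, 2, 2, 3, 1, 0, 0, 1, 1, 2, 3, 2, 0, 2, 3, 2, 0, 0, 2, 2, 0, 2, 3, 3, 0, 3, 1, 0, 1, 0], [3, 0, 3, 2, 3, 1, 1, 0, 3, 2, 2, 1, 2, 0, 2, 1, 1, 1, 0, 2, 3, 2, 0, 0, 3, 1, 2, 0, 2, 1, 3, 1, 0, 1, 2, 1], [0, 2, 1, 2, 1, 1, 2, 2, 1, 2, 0, 1, 1, 2, 0, 1, 3, 1, 2, 3, 2, 2, 1, 0, 2, 2, 1, 0, 1, 1, 1, 0, 1, 1, 3, 1], [0, 2, 1, 2, 1, 1, 2, 0, 3, 2, 1, 3, 1, 0, 2, 1, 2, 3, 2, 0, 1, 2, 3, 3, 2, 2, 1, 0, 1, 1, 1, 1, 0, 1,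 0, 0], [1, 2, 2, 0, 1, 2, 1, 0, 1, 3, 1, 1, 1, 0, 2, 1, 2, 3, 2, 0, 1, 2, 3, 3, 0, 2, 0, 3, 1, 0, 3, 1, 1, 2, 0, 1], [0, 0, 2, 1, 0, 2, 2, 1, 1, 0, 2, 1, 3, 3, 2, 3, 0, 3, 1, 1, 1, 1, 0, 3, 3, 3, 0, 0, 2, 0, 1, 2, 1, 0, 2, 1], [2, 3, 2, 2, 0, 1, 0, 2, 1, 3, 2, 2, 2, 1, 2, 1, 0, 1, 2, 0, 1, 0, 0, 2, 2, 1, 0, 2, 2, 2, 2, 3, 1, 1, 2, 0], [2, 3, 2, 2, 0, 1, 0, 2, 2, 2, 3, 3, 2, 1, 0, 2, 3, 2, 2, 0, 1, 0, 0, 2, 2, 1, 1, 0, 0, 0, 2, 3, 2, 0, 3, 1], [3, 1, 0, 0, 1, 0, 1, 0, 0, 0, 2, 2, 3, 3, 2, 0, 2, 3, 1, 1, 0, 1, 3, 1, 0, 2, 2, 3, 2, 2, 1, 2, 3, 1, 0, 2], [3, 1, 0, 0, 1, 0, 2, 3, 3, 1, 0, 3, 0, 0, 1, 1, 0, 2, 0, 0, 1, 3, 0, 3, 0, 2, 2, 3, 2, 2, 3, 0, 1, 2, 1, 1], [1, 0,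 3, 1, 2, 3, 3, 0, 1, 2, 2, 1, 0, 0, 1, 1, 0, 2, 0, 0, 1, 3, 0, 3, 3, 0, 3, 1, 3, 3, 0, 2, 0, 0, 0, 0], [0, 1, 2, 3, 2, 3, 0, 3, 2, 3, 2, 1, 2, 2, 3, 2, 0, 2, 3, 3, 2, 2, 0, 3, 0, 3, 0, 0, 3, 3, 2, 0, 2, 3, 0, 0], [0, 3, 3, 3, 3, 1, 0, 1, 3, 3, 3, 3, 2, 3, 0, 2, 3, 3, 3, 0, 0, 2, 2, 0, 0, 2, 3, 0, 0, 2, 2, 3, 0, 3, 2, 3], [0, 3, 3, 3, 3, 1, 1, 3, 2, 0, 3, 3, 1, 2, 3, 0, 3, 3, 3, 0, 0, 2, 2, 0, 2, 1, 1, 1, 0, 2, 3, 1, 1, 0, 2, 3], [1, 0, 0, 0, 0, 0, 0, 0, 1, 3, 0, 2, 0, 1, 0, 3, 0, 2, 0, 2, 2, 0, 0, 3, 0, 0, 0, 0, 1, 0, 0, 3, 3, 2, 0, 0], [1, 0, 0, 0, 0, 0, 0, 1, 0, 0, 0, 0, 0, 0, 1, 0, 0, 0, 0, 0, 0, 1, 0, 0, 0, 0, 0, 0, 1, 0, 0, 0, 0, 0, 0, 1]]]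

/-- the scalars of the relator words -/
def scals : List Nat := [1, 1, 1, 1, 1, 1, 1, 1, 1, 1, 1, 1, 1, 1, 1, 1, 1, 1, 1, 1, 1, 1, 1, 1, 1, 1, 1, 1, 1, 1, 1, 1, 1, 1, 1, 1, 1, 2, 1, 1]

theorem ck_certs : ckAll U6Q_6336.relWords certs scals = true := by decide +kernel

theorem fS_rel : ∀ w ∈ coxWords 8 U6Q_6336.L ++ U6Q_6336.extraW, evr fS w ∈ Subgroup.center SU6 := by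
  rw [U6Q_6336.relWords_eq]
  exact ckAll_sound _ _ _ ck_certs

/-- the projective special unitary group -/
abbrev PSU6 := Cfsg.PSU 6 K4 2

/-- the image of a generator in the projective group -/
def fP (x : Nat) : PSU6 := QuotientGroup.mk (fS x)

theorem evr_fP (w : List Nat) : evr fP w = QuotientGroup.mk (evr fS w) := by
  induction w with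
  | nil => simp [evr]
  | cons x w ih => simp only [evr, ih, fP, QuotientGroup.mk_mul]

theorem fP_sq (x : Nat) : fP x * fP x = 1 := by
  unfold fP
  rw [← QuotientGroup.mk_mul, fS_sq, QuotientGroup.mk_one]

theorem fP_rel : ∀ w ∈ coxWords 8 U6Q_6336.L ++ U6Q_6336.extraW, evr fP w = 1 := by
  intro w hw
  rw [evr_fP, QuotientGroup.eq_one_iff]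
  exact fS_rel w hw

theorem gm_ncomm : gm 0 * gm 1 ≠ gm 1 * gm 0 := by decide +kernel

theorem fP_ne_one : fP 0 ≠ 1 := by
  unfold fP
  rw [Ne, QuotientGroup.eq_one_iff, Subgroup.mem_center_iff]
  intro h
  apply gm_ncomm
  have h1 := h (fS 1)
  have h2 := congrArg (fun g : SU6 => ((g : SL6).val)) h1
  simp only [Subgroup.coe_mul, Matrix.SpecialLinearGroup.coe_mul, fS_val] at h2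
  exact h2.symm

/-- a non-trivial homomorphism from the presented group `U₆(2)` to the projective special unitary group -/
theorem exists_psi : ∃ ψ : CoxPresented U6Q.Gen U6Q.edges U6Q.extra →* PSU6,
    ∃ x : CoxPresented U6Q.Gen U6Q.edges U6Q.extra, ψ x ≠ 1 := by
  obtain ⟨ψ, hψ⟩ := exists_hom_of_words U6Q_6336.setup fP fP_sq fP_rel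
  refine ⟨ψ, cgen U6Q.edges U6Q.extra 8 U6Q_6336.ofIdx 0, ?_⟩
  rw [hψ 0 (by decide)]
  exact fP_ne_one

end Cfsg.Agent.Lib.Helper25.TC.U6Mat
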