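import Cfsg.Agent.Lib.Helper25.TCU6QX

set_option autoImplicit false
set_option maxRecDepth 1000000
set_option linter.unusedVariables false
set_option Elab.async false

namespace Cfsg.Agent.Lib.Helper25.TC.U6QX

open Cfsg.Agent.Lib.Helper25.TC Cfsg.Agent.Lib.Helper25.TC.U6Q_6336

theorem k_xp_24 : allR ckX 7 3072 = true := by decide +kernel
theorem k_xp_25 : allR ckX 7 3200 = true := by decide +kernel
theorem k_xp_26 : allR ckX 7 3328 = true := by decide +kernel
theorem k_xp_27 : allR ckX 7 3456 = true := by decide +kernel
theorem k_xp_28 : allR ckX 7 3584 = true := by decide +kernel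
theorem k_xp_29 : allR ckX 7 3712 = true := by decide +kernel
theorem k_xp_30 : allR ckX 7 3840 = true := by decide +kernel
theorem k_xp_31 : allR ckX 7 3968 = true := by decide +kernel
theorem k_xp_32 : allR ckX 7 4096 = true := by decide +kernel
theorem k_xp_33 : allR ckX 7 4224 = true := by decide +kernel
theorem k_xp_34 : allR ckX 7 4352 = true := by decide +kernel
theorem k_xp_35 : allR ckX 7 4480 = true := by decide +kernel
theorem k_xp_36 : allR ckX 7 4608 = true := by decide +kernel
theorem k_xp_37 : allR ckX 7 4736 = true := by decide +kernel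
theorem k_xp_38 : allR ckX 7 4864 = true := by decide +kernel
theorem k_xp_39 : allR ckX 7 4992 = true := by decide +kernel
theorem k_xp_40 : allR ckX 7 5120 = true := by decide +kernel
theorem k_xp_41 : allR ckX 7 5248 = true := by decide +kernel
theorem k_xp_42 : allR ckX 7 5376 = true := by decide +kernel
theorem k_xp_43 : allR ckX 7 5504 = true := by decide +kernel
theorem k_xp_44 : allR ckX 7 5632 = true := by decide +kernel
theorem k_xp_45 : allR ckX 7 5760 = true := by decide +kernel
theorem k_xp_46 : allR ckX 7 5888 = true := by decide +kernel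
theorem k_xp_47 : allR ckX 7 6016 = true := by decide +kernel

end Cfsg.Agent.Lib.Helper25.TC.U6QX
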