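import Cfsg.Agent.Lib.Helper25.TCU6QX

set_option autoImplicit false
set_option maxRecDepth 1000000
set_option linter.unusedVariables false
set_option Elab.async false

namespace Cfsg.Agent.Lib.Helper25.TC.U6QX

open Cfsg.Agent.Lib.Helper25.TC Cfsg.Agent.Lib.Helper25.TC.U6Q_6336

theorem k_xp_48 : allR ckX 7 6144 = true := by decide +kernel
theorem k_xp_49 : allR ckX 7 6272 = true := by decide +kernel
theorem k_xp_50 : allR ckX 7 6400 = true := by decide +kernel
theorem k_xp_51 : allR ckX 7 6528 = true := by decide +kernel
theorem k_xp_52 : allR ckX 7 6656 = true := by decide +kernel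
theorem k_xp_53 : allR ckX 7 6784 = true := by decide +kernel
theorem k_xp_54 : allR ckX 7 6912 = true := by decide +kernel
theorem k_xp_55 : allR ckX 7 7040 = true := by decide +kernel
theorem k_xp_56 : allR ckX 7 7168 = true := by decide +kernel
theorem k_xp_57 : allR ckX 7 7296 = true := by decide +kernel
theorem k_xp_58 : allR ckX 7 7424 = true := by decide +kernel
theorem k_xp_59 : allR ckX 7 7552 = true := by decide +kernel
theorem k_xp_60 : allR ckX 7 7680 = true := by decide +kernel
theorem k_xp_61 : allR ckX 7 7808 = true := by decide +kernel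
theorem k_xp_62 : allR ckX 7 7936 = true := by decide +kernel
theorem k_xp_63 : allR ckX 7 8064 = true := by decide +kernel

end Cfsg.Agent.Lib.Helper25.TC.U6QX
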