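import Cfsg.Agent.Lib.Helper25.TCFi22XMain
import Cfsg.Agent.Lib.Helper25.TCFi22YMain
import Cfsg.Agent.Lib.Helper25.TCU6QXMain
import Cfsg.Agent.Lib.Helper25.TCU6Mat
import Cfsg.Agent.Lib.Helper25.TCExistF
import Cfsg.Agent.Lib.Helper25.TCExistJ
import Cfsg.Agent.S0280

set_option autoImplicit false
set_option maxRecDepth 1000000
set_option linter.unusedVariables false
set_option linter.unusedSimpArgs false
set_option linter.constructorNameAsVariable false

/-! The centralizer `⟨a, c, …, i, (abcdeh)⁵⟩` of the generator `a` of the presented Fischer group `Fi₂₂` is a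
non-split double cover of the projective special unitary group `PSU(6, 2)`. -/

namespace Cfsg.Agent.Lib.Helper25.TC.U6Cover

open Cfsg.Spor Cfsg.Agent.Lib.Helper25.TC Cfsg.Agent.Lib.Helper25.Pres

/-- the presented group `Fi₂₂` -/
abbrev KG := Fi22X.KG

/-- the presented group `U₆(2)` -/
abbrev QQ := U6QX.KG

/-- the generators, indexed by numbers -/
noncomputable abbrev gn : Nat → KG := cgen Fi22.edges Fi22.extra 9 Fi22_3510.ofIdx

/-- the subgroup `⟨a, c, …, i, (abcdeh)⁵⟩` -/
abbrev HH : Subgroup KG := subH Fi22.edges Fi22.extra 9 Fi22_3510.ofIdx Fi22_3510.sw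

/-- the transposition `a` -/
noncomputable abbrev t0 : KG := gn 0

theorem hinj : Function.Injective (Fi22_3510.checks.phi Fi22_3510.setup) := Fi22X.simple_card.1

theorem hsimple : IsSimpleGroup KG := Fi22X.simple_card.2.1

theorem hcard : Nat.card KG = 64561751654400 := Fi22X.simple_card.2.2.1

theorem hfin : Finite KG := Nat.finite_of_card_ne_zero (by rw [hcard]; decide)

theorem card_HH : Nat.card HH = 18393661440 := by
  have h1 := (HH).index_mul_card
  have h2 : (HH).index = 3510 := Fi22_3510.checks.index_eq Fi22_3510.setup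
  rw [h2, hcard] at h1
  have : 3510 * Nat.card HH = 3510 * 18393661440 := by rw [h1]
  exact Nat.eq_of_mul_eq_mul_left (by decide) this

theorem sw_mem (w : List Nat) (hw : w ∈ Fi22_3510.sw) : evr gn w ∈ HH :=
  Subgroup.subset_closure ⟨w, hw, rfl⟩

theorem t0_mem : t0 ∈ HH := by
  have := sw_mem [0] (by decide)
  rwa [evr_singleton] at this

theorem gen_mem (j : Nat) (hj : j < 7) : gn (2 + j) ∈ HH := by
  have := sw_mem [2 + j] (by interval_cases j <;> decide)
  rwa [evr_singleton] at this

theorem tw_mem : evr gn Fi22Y.tw ∈ HH := sw_mem _ (by decide)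

theorem xw_mem : evr gn Fi22Y.xw ∈ HH := by
  have hh := Fi22_3510.checks.tableHyp Fi22_3510.setup
  have hp := Fi22_3510.checks.permHyp Fi22_3510.setup
  rw [← stab_iff hh hp]
  apply Fin.ext
  rw [phi_word hp Fi22Y.xw Fi22Y.xw_pt.2 ⟨0, Fi22_3510.checks.hn⟩]
  exact Fi22Y.xw_pt.1

theorem gen_comm (j : Nat) (hj : j < 7) : gn (2 + j) * t0 = t0 * gn (2 + j) := by
  have h := Fi22Y.evr_id hinj (44 + j) (by omega)
  obtain ⟨hl, hr⟩ := Fi22Y.id_comm_gen j hj
  rw [hl, hr] at h
  simpa [evr] using h

theorem tw_comm : evr gn Fi22Y.tw * t0 = t0 * evr gn Fi22Y.tw := by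
  have h := Fi22Y.evr_id hinj 0 (by decide)
  rw [Fi22Y.id_comm.1, Fi22Y.id_comm.2, evr_append, evr_append, evr_singleton] at h
  exact h

theorem t0_comm : ∀ g ∈ HH, g * t0 = t0 * g := by
  intro g hg
  have hle : HH ≤ Subgroup.centralizer ({t0} : Set KG) := by
    unfold HH subH
    rw [Subgroup.closure_le]
    rintro g ⟨w, hw, rfl⟩
    rw [SetLike.mem_coe, Subgroup.mem_centralizer_iff]
    intro y hy
    rw [Set.mem_singleton_iff] at hy
    subst hy
    simp only [Fi22_3510.sw, List.mem_cons, List.not_mem_nil, or_false] at hw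
    rcases hw with rfl | rfl | rfl | rfl | rfl | rfl | rfl | rfl | rfl
    · rw [evr_singleton]
    · rw [evr_singleton]; exact (gen_comm 0 (by decide)).symm
    · rw [evr_singleton]; exact (gen_comm 1 (by decide)).symm
    · rw [evr_singleton]; exact (gen_comm 2 (by decide)).symm
    · rw [evr_singleton]; exact (gen_comm 3 (by decide)).symm
    · rw [evr_singleton]; exact (gen_comm 4 (by decide)).symm
    · rw [evr_singleton]; exact (gen_comm 5 (by decide)).symm
    · rw [evr_singleton]; exact (gen_comm 6 (by decide)).symm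
    · exact tw_comm.symm
  exact (Subgroup.mem_centralizer_iff.mp (hle hg) t0 rfl).symm

theorem t0_ne_one : t0 ≠ 1 := by
  intro h
  have hp := Fi22_3510.checks.permHyp Fi22_3510.setup
  have h1 := phi_word hp [0] (by decide) ⟨1, by decide⟩
  rw [evr_singleton] at h1
  have h2 : cgen Fi22.edges Fi22.extra 9 Fi22_3510.ofIdx 0 = (1 : KG) := h
  rw [h2, map_one] at h1
  exact Fi22Y.a_moves h1.symm

theorem t0_mul_self : t0 * t0 = 1 := cgen_mul_self Fi22_3510.setup 0

theorem qw_mem (y : Nat) : evr gn (Fi22Y.qw y) ∈ HH := by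
  by_cases hy : y < 8
  · interval_cases y
    · simpa [Fi22Y.qw, evr] using gen_mem 0 (by decide)
    · simpa [Fi22Y.qw, evr] using gen_mem 1 (by decide)
    · simpa [Fi22Y.qw, evr] using gen_mem 2 (by decide)
    · simpa [Fi22Y.qw, evr] using gen_mem 3 (by decide)
    · simpa [Fi22Y.qw, evr] using gen_mem 4 (by decide)
    · simpa [Fi22Y.qw, evr] using gen_mem 5 (by decide)
    · simpa [Fi22Y.qw, evr] using gen_mem 6 (by decide)
    · exact xw_mem
  · have : Fi22Y.qw y = [] := by
      match y, hy with
      | (n + 8), _ => rfl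
    rw [this]
    exact HH.one_mem

/-- the images of the generators of the presented group `U₆(2)` in the subgroup -/
noncomputable def fH (y : Nat) : HH := ⟨evr gn (Fi22Y.qw y), qw_mem y⟩

theorem evr_fH (w : List Nat) : ((evr fH w : HH) : KG) = evr gn (Fi22Y.subst w) := by
  induction w with
  | nil => simp [evr, Fi22Y.subst]
  | cons y w ih =>
    have e : Fi22Y.subst (y :: w) = Fi22Y.qw y ++ Fi22Y.subst w := by
      simp [Fi22Y.subst]
    rw [e, evr_append, ← ih]
    rfl

theorem t0_center : (⟨t0, t0_mem⟩ : HH) ∈ Subgroup.center HH := by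
  rw [Subgroup.mem_center_iff]
  rintro ⟨g, hg⟩
  apply Subtype.ext
  exact t0_comm g hg

/-- the relator words of the presented group `U₆(2)` evaluate to `1` or `a` -/
theorem evr_fH_rel : ∀ w ∈ coxWords 8 U6Q_6336.L ++ U6Q_6336.extraW, evr fH w ∈ Subgroup.center HH := by
  rw [U6Q_6336.relWords_eq]
  intro w hw
  obtain ⟨j, hj, hwj⟩ := List.getElem_of_mem hw
  have hj' : j < 40 := hj
  have hget : U6Q_6336.relWords.getD j [] = w := by
    rw [List.getD_eq_getElem?_getD, List.getElem?_eq_getElem hj, ← hwj]; rfl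
  have h := Fi22Y.evr_id hinj (2 + j) (by omega)
  obtain ⟨hl, hr⟩ := Fi22Y.id_rel j hj'
  rw [hl, hr, hget, ← evr_fH] at h
  rcases Fi22Y.rhs_cases j hj' with h0 | h0
  · rw [h0] at h
    have : evr fH w = 1 := Subtype.ext h
    rw [this]
    exact Subgroup.one_mem _
  · rw [h0, evr_singleton] at h
    have : evr fH w = ⟨t0, t0_mem⟩ := Subtype.ext h
    rw [this]
    exact t0_center

/-- the images of the generators in the central quotient -/
noncomputable def fq (y : Nat) : HH ⧸ Subgroup.center HH := QuotientGroup.mk (fH y)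

theorem evr_fq (w : List Nat) : evr fq w = QuotientGroup.mk (evr fH w) := by
  induction w with
  | nil => simp [evr]
  | cons x w ih => simp only [evr, ih, fq, QuotientGroup.mk_mul]

theorem fq_rel : ∀ w ∈ coxWords 8 U6Q_6336.L ++ U6Q_6336.extraW, evr fq w = 1 := by
  intro w hw
  rw [evr_fq, QuotientGroup.eq_one_iff]
  exact evr_fH_rel w hw

theorem fq_sq (y : Nat) : fq y * fq y = 1 := by
  by_cases hy : y < 8
  · have h := fq_rel [y, y] (by
      rw [U6Q_6336.relWords_eq]
      interval_cases y <;> decide)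
    simpa [evr] using h
  · have : Fi22Y.qw y = [] := by
      match y, hy with
      | (n + 8), _ => rfl
    have h1 : fH y = 1 := by
      apply Subtype.ext
      show evr gn (Fi22Y.qw y) = 1
      rw [this]; rfl
    unfold fq
    rw [h1]
    simp

/-- the homomorphism from the presented group `U₆(2)` to the central quotient of the subgroup -/
theorem exists_phi : ∃ φ : QQ →* HH ⧸ Subgroup.center HH,
    ∀ y < 8, φ (cgen U6Q.edges U6Q.extra 8 U6Q_6336.ofIdx y) = fq y :=
  exists_hom_of_words U6Q_6336.setup fq fq_sq fq_rel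

/-- the value of the relator with a given number -/
theorem evr_fH_idx (j : Nat) (hj : j < 40) :
    ((evr fH (U6Q_6336.relWords.getD j []) : HH) : KG) = evr gn (Fi22Y.rhsL.getD j []) := by
  have h := Fi22Y.evr_id hinj (2 + j) (by omega)
  obtain ⟨hl, hr⟩ := Fi22Y.id_rel j hj
  rw [hl, hr, ← evr_fH] at h
  exact h

theorem evr_fH_one (j : Nat) (hj : j < 40) (h0 : Fi22Y.rhsL.getD j [] = []) :
    evr fH (U6Q_6336.relWords.getD j []) = 1 := by
  apply Subtype.ext
  rw [evr_fH_idx j hj, h0]
  rfl

theorem eq_of_braid {A : Type*} [Group A] (hA : ∀ x y : A, x * y = y * x) (a b : A) (ha : a * a = 1)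
    (hb : b * b = 1) (h3 : (a * b) ^ 3 = 1) : a = b := by
  have h2 : (a * b) * (a * b) = 1 := by
    calc (a * b) * (a * b) = a * (b * a) * b := by group
      _ = a * (a * b) * b := by rw [hA b a]
      _ = (a * a) * (b * b) := by group
      _ = 1 := by rw [ha, hb, one_mul]
  have h1 : a * b = 1 := by
    have : (a * b) ^ 3 = (a * b) * (a * b) * (a * b) := by rw [pow_succ, pow_succ, pow_one]
    rw [this, h2, one_mul] at h3
    exact h3
  calc a = a * (b * b) := by rw [hb, mul_one]
    _ = (a * b) * b := by group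
    _ = b := by rw [h1, one_mul]

theorem evr_map_hom {G A : Type*} [Group G] [Group A] (q : G →* A) (f : Nat → G) (w : List Nat) :
    evr (fun y => q (f y)) w = q (evr f w) := by
  induction w with
  | nil => simp [evr]
  | cons x w ih => simp only [evr, ih, map_mul]

theorem evr_const {A : Type*} [Group A] (g : Nat → A) (s : A) (w : List Nat) (h : ∀ y ∈ w, g y = s) :
    evr g w = s ^ w.length := by
  induction w with
  | nil => simp [evr]
  | cons x w ih =>
    rw [evr, ih (fun y hy => h y (List.mem_cons_of_mem _ hy)), h x List.mem_cons_self, List.length_cons, pow_succ]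

theorem evr_mem_of {G : Type*} [Group G] (L : Subgroup G) (f : Nat → G) (w : List Nat) (h : ∀ y ∈ w, f y ∈ L) :
    evr f w ∈ L := by
  induction w with
  | nil => simp [evr]
  | cons x w ih =>
    rw [evr]
    exact L.mul_mem (ih (fun y hy => h y (List.mem_cons_of_mem _ hy))) (h x List.mem_cons_self)

/-- the word `a x c c' e h` in terms of the generators of the presented group `U₆(2)` -/
def wq : List Nat := [7, 0, 1, 2, 5, 1, 0, 1, 5, 2, 1, 2, 5]

theorem wq_eq : [0] ++ Fi22Y.xw ++ [2] ++ Fi22Y.cp ++ [4] ++ [7] = [0] ++ Fi22Y.subst wq := by decide +kernel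

theorem tw_eq : (⟨evr gn Fi22Y.tw, tw_mem⟩ : HH) = evr fH wq * ⟨t0, t0_mem⟩ := by
  apply Subtype.ext
  have h := Fi22Y.evr_id hinj 1 (by decide)
  rw [Fi22Y.id_tw.1, Fi22Y.id_tw.2, wq_eq, evr_append, evr_singleton, ← evr_fH] at h
  exact h

theorem t0_eq : (⟨t0, t0_mem⟩ : HH) = evr fH (U6Q_6336.relWords.getD 38 []) := by
  apply Subtype.ext
  rw [evr_fH_idx 38 (by decide)]
  show t0 = evr gn [0]
  rw [evr_singleton]

/-- the subgroup has no subgroup of index two -/
theorem hperf : ∀ L : Subgroup HH, L.index ≠ 2 := by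
  intro L hL
  have hN : L.Normal := Subgroup.normal_of_index_eq_two hL
  have hcardq : Nat.card (HH ⧸ L) = 2 := by rw [← Subgroup.index_eq_card]; exact hL
  have hA : ∀ u v : HH ⧸ L, u * v = v * u := by
    have : Fact (Nat.Prime 2) := ⟨Nat.prime_two⟩
    have := isCyclic_of_prime_card hcardq
    intro u v
    exact (IsCyclic.commGroup (α := HH ⧸ L)).mul_comm u v
  let q : HH →* HH ⧸ L := QuotientGroup.mk' L
  have hsq : ∀ y < 8, q (fH y) * q (fH y) = 1 := by
    intro y hy
    have key : ∀ j < 40, U6Q_6336.relWords.getD j [] = [y, y] → Fi22Y.rhsL.getD j [] = [] →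
        q (fH y) * q (fH y) = 1 := by
      intro j hj hw h0
      have h := evr_fH_one j hj h0
      rw [hw] at h
      have h2 : evr fH [y, y] = fH y * fH y := by simp [evr]
      rw [h2] at h
      rw [← map_mul, h, map_one]
    interval_cases y
    · exact key 0 (by decide) (by decide) (by decide)
    · exact key 8 (by decide) (by decide) (by decide)
    · exact key 15 (by decide) (by decide) (by decide)
    · exact key 21 (by decide) (by decide) (by decide)
    · exact key 26 (by decide) (by decide) (by decide)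
    · exact key 30 (by decide) (by decide) (by decide)
    · exact key 33 (by decide) (by decide) (by decide)
    · exact key 35 (by decide) (by decide) (by decide)
  have hbr : ∀ x < 8, ∀ y < 8, ∀ j < 40, U6Q_6336.relWords.getD j [] = [y, x, y, x, y, x] →
      Fi22Y.rhsL.getD j [] = [] → q (fH x) = q (fH y) := by
    intro x hx y hy j hj hw h0
    apply eq_of_braid hA _ _ (hsq x hx) (hsq y hy)
    have h := evr_fH_one j hj h0
    rw [hw] at h
    have h2 : evr fH [y, x, y, x, y, x] = (fH x * fH y) ^ 3 := by
      simp only [evr, one_mul, pow_succ, pow_zero, mul_assoc]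
    rw [h2] at h
    rw [← map_mul, ← map_pow, h, map_one]
  have e01 := hbr 0 (by decide) 1 (by decide) 1 (by decide) (by decide) (by decide)
  have e12 := hbr 1 (by decide) 2 (by decide) 9 (by decide) (by decide) (by decide)
  have e15 := hbr 1 (by decide) 5 (by decide) 12 (by decide) (by decide) (by decide)
  have e23 := hbr 2 (by decide) 3 (by decide) 16 (by decide) (by decide) (by decide)
  have e34 := hbr 3 (by decide) 4 (by decide) 22 (by decide) (by decide) (by decide)
  have e56 := hbr 5 (by decide) 6 (by decide) 31 (by decide) (by decide) (by decide)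
  have e37 := hbr 3 (by decide) 7 (by decide) 25 (by decide) (by decide) (by decide)
  have hall : ∀ y < 8, q (fH y) = q (fH 0) := by
    intro y hy
    interval_cases y
    · rfl
    · exact e01.symm
    · exact (e01.trans e12).symm
    · exact (e01.trans (e12.trans e23)).symm
    · exact (e01.trans (e12.trans (e23.trans e34))).symm
    · exact (e01.trans e15).symm
    · exact (e01.trans (e15.trans e56)).symm
    · exact (e01.trans (e12.trans (e23.trans e37))).symm
  -- the relator of odd length
  have hs1 : q (fH 0) = 1 := by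
    have h := evr_fH_one 36 (by decide) (by decide)
    have h2 := evr_map_hom q fH (U6Q_6336.relWords.getD 36 [])
    rw [h, map_one] at h2
    have h3 := evr_const (fun y => q (fH y)) (q (fH 0)) (U6Q_6336.relWords.getD 36 [])
      (by
        intro y hy
        have hy8 : y < 8 := by
          have : ∀ y ∈ U6Q_6336.relWords.getD 36 [], y < 8 := by decide +kernel
          exact this y hy
        exact hall y hy8)
    rw [h2] at h3
    have hlen : (U6Q_6336.relWords.getD 36 []).length = 2 * 31 + 1 := by decide +kernel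
    rw [hlen, pow_succ, pow_mul, pow_two, hsq 0 (by decide), one_pow, one_mul] at h3
    exact h3.symm
  have hmemL : ∀ y, fH y ∈ L := by
    intro y
    by_cases hy : y < 8
    · have := hall y hy
      rw [hs1] at this
      exact (QuotientGroup.eq_one_iff _).mp this
    · have : Fi22Y.qw y = [] := by
        match y, hy with
        | (n + 8), _ => rfl
      have h1 : fH y = 1 := by
        apply Subtype.ext
        show evr gn (Fi22Y.qw y) = 1
        rw [this]; rfl
      rw [h1]
      exact L.one_mem
  have hwL : ∀ w, evr fH w ∈ L := fun w => evr_mem_of L fH w (fun y _ => hmemL y)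
  have ht0L : (⟨t0, t0_mem⟩ : HH) ∈ L := by rw [t0_eq]; exact hwL _
  have htwL : (⟨evr gn Fi22Y.tw, tw_mem⟩ : HH) ∈ L := by rw [tw_eq]; exact L.mul_mem (hwL _) ht0L
  -- all generators lie in `L`
  have hallL : ∀ (g : KG) (hg : g ∈ HH), (⟨g, hg⟩ : HH) ∈ L := by
    intro g hg
    unfold HH subH at hg
    induction hg using Subgroup.closure_induction with
    | mem g hg =>
      obtain ⟨w, hw, rfl⟩ := hg
      simp only [Fi22_3510.sw, List.mem_cons, List.not_mem_nil, or_false] at hw
      rcases hw with rfl | rfl | rfl | rfl | rfl | rfl | rfl | rfl | rfl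
      · have : (⟨evr gn [0], sw_mem [0] (by decide)⟩ : HH) = ⟨t0, t0_mem⟩ := Subtype.ext (evr_singleton _ _)
        exact this ▸ ht0L
      · exact hmemL 0
      · exact hmemL 1
      · exact hmemL 2
      · exact hmemL 3
      · exact hmemL 4
      · exact hmemL 5
      · exact hmemL 6
      · exact htwL
    | one => exact L.one_mem
    | mul a b ha hb iha ihb => exact L.mul_mem iha ihb
    | inv a ha iha => exact L.inv_mem iha
  have htop : L = ⊤ := by
    rw [eq_top_iff]
    rintro ⟨g, hg⟩ _
    exact hallL g hg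
  rw [htop, Subgroup.index_top] at hL
  exact absurd hL (by decide)

theorem card_QQ : Nat.card QQ = 9196830720 := U6QX.simple_card.2.2.1

theorem simple_QQ : IsSimpleGroup QQ := U6QX.simple_card.2.1

theorem finite_QQ : Finite QQ := Nat.finite_of_card_ne_zero (by rw [card_QQ]; decide)

theorem finite_HH : Finite HH := Nat.finite_of_card_ne_zero (by rw [card_HH]; decide)

theorem cd_moves : tr Fi22_3510.T [2, 3] 1 ≠ tr Fi22_3510.T [3, 2] 1 := by decide +kernel

theorem fH0_not_center : fH 0 ∉ Subgroup.center HH := by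
  intro h
  rw [Subgroup.mem_center_iff] at h
  have h1 := congrArg (fun g : HH => (g : KG)) (h (fH 1))
  have h2 : evr gn [3, 2] = evr gn [2, 3] := by
    simpa [evr, fH, Fi22Y.qw] using h1.symm
  have hp := Fi22_3510.checks.permHyp Fi22_3510.setup
  have e1 := phi_word hp [3, 2] (by decide) ⟨1, by decide⟩
  have e2 := phi_word hp [2, 3] (by decide) ⟨1, by decide⟩
  rw [h2, e2] at e1
  exact cd_moves e1

/-- an injective homomorphism from a simple group -/
theorem injective_of_simple {P A : Type*} [Group P] [Group A] (hs : IsSimpleGroup P) (f : P →* A) (x : P)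
    (hx : f x ≠ 1) : Function.Injective f := by
  rw [← MonoidHom.ker_eq_bot_iff]
  rcases (inferInstance : f.ker.Normal).eq_bot_or_eq_top with h | h
  · exact h
  · exfalso
    apply hx
    have : x ∈ f.ker := by rw [h]; trivial
    exact this

theorem card_PSU6 : Nat.card U6Mat.PSU6 = 9196830720 := by
  have h := Cfsg.Agent.S0280.result (F := U6Mat.K4) (q := 2) U6Mat.K4.card_eq 6 (by norm_num)
  have h2 : (2 : ℕ) ^ (6 * (6 - 1) / 2) * ∏ i ∈ Finset.range 6, (if Even i then 2 ^ (i + 1) + 1 else 2 ^ (i + 1) - 1) =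
      82771476480 := by
    decide
  rw [h2] at h
  have h3 : Nat.gcd 6 (2 + 1) = 3 := by decide
  rw [h3] at h
  have h' : 3 * ((2 + 1) * Nat.card U6Mat.PSU6) = 82771476480 := h
  omega

/-- the data of the double cover -/
theorem cover_data : Nat.card (Subgroup.center HH) = 2 ∧ Nonempty (HH ⧸ Subgroup.center HH ≃* U6Mat.PSU6) := by
  have := finite_QQ
  have := finite_HH
  have hsQ := simple_QQ
  obtain ⟨φ, hφ⟩ := exists_phi
  have hφinj : Function.Injective φ := by
    apply injective_of_simple hsQ φ (cgen U6Q.edges U6Q.extra 8 U6Q_6336.ofIdx 0)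
    rw [hφ 0 (by decide)]
    unfold fq
    rw [Ne, QuotientGroup.eq_one_iff]
    exact fH0_not_center
  have h1 := Subgroup.card_eq_card_quotient_mul_card_subgroup (Subgroup.center HH)
  rw [card_HH] at h1
  have h2 : 9196830720 ≤ Nat.card (HH ⧸ Subgroup.center HH) := by
    rw [← card_QQ]
    exact Nat.card_le_card_of_injective φ hφinj
  have h3 : 2 ≤ Nat.card (Subgroup.center HH) := by
    have hne : (⟨⟨t0, t0_mem⟩, t0_center⟩ : Subgroup.center HH) ≠ 1 := by
      intro h
      apply t0_ne_one
      exact congrArg (fun g : Subgroup.center HH => ((g : HH) : KG)) h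
    exact (Nat.two_le_iff _).mpr ⟨Nat.card_pos.ne', fun h1 => hne (by
      have := (Nat.card_eq_one_iff_unique.mp h1).1
      exact Subsingleton.elim _ _)⟩
  have h4 : Nat.card (HH ⧸ Subgroup.center HH) = 9196830720 ∧ Nat.card (Subgroup.center HH) = 2 := by
    set a := Nat.card (HH ⧸ Subgroup.center HH)
    set b := Nat.card (Subgroup.center HH)
    have hb : b = 2 := by nlinarith
    have ha : a = 9196830720 := by
      rw [hb] at h1
      omega
    exact ⟨ha, hb⟩
  have hφbij : Function.Bijective φ := by
    rw [Nat.bijective_iff_injective_and_card]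
    exact ⟨hφinj, by rw [card_QQ, h4.1]⟩
  let e1 : QQ ≃* HH ⧸ Subgroup.center HH := MulEquiv.ofBijective φ hφbij
  obtain ⟨ψ, x, hx⟩ := U6Mat.exists_psi
  have hψinj : Function.Injective ψ := injective_of_simple hsQ ψ x hx
  have hPfin : Finite U6Mat.PSU6 := Nat.finite_of_card_ne_zero (by rw [card_PSU6]; decide)
  have hψbij : Function.Bijective ψ := by
    rw [Nat.bijective_iff_injective_and_card]
    exact ⟨hψinj, by rw [card_QQ, card_PSU6]⟩
  let e2 : QQ ≃* U6Mat.PSU6 := MulEquiv.ofBijective ψ hψbij
  exact ⟨h4.2, ⟨e1.symm.trans e2⟩⟩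

/-- the subgroup `⟨a, c, …, i, (abcdeh)⁵⟩` of the presented `Fi₂₂` is a non-split double cover of `PSU(6, 2)` -/
theorem cover : Cfsg.IsNonsplitDoubleCover HH U6Mat.PSU6 := by
  obtain ⟨h2, he⟩ := cover_data
  refine ⟨h2, he, ?_⟩
  intro L hL
  have := hL.index_eq_card
  rw [h2] at this
  exact hperf L this

end Cfsg.Agent.Lib.Helper25.TC.U6Cover
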