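import Cfsg.Agent.Lib.Helper25.TCU6E7_28D0
import Cfsg.Agent.Lib.Helper25.TCMain

set_option autoImplicit false
set_option maxRecDepth 1000000
set_option linter.unusedVariables false

namespace Cfsg.Agent.Lib.Helper25.TC.U6E7_28

def sFP (c : Nat) : Nat := cFP_0
def gFP (i : Nat) : Nat := Nat.land (Nat.shiftRight (sFP (Nat.shiftRight i 10)) (Nat.mul 15 (Nat.land i 1023))) 32767
def sFJ (c : Nat) : Nat := cFJ_0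
def gFJ (i : Nat) : Nat := Nat.land (Nat.shiftRight (sFJ (Nat.shiftRight i 9)) (Nat.mul 32 (Nat.land i 511))) 4294967295
def sST (c : Nat) : Nat := cST_0
def gST (i : Nat) : Nat := Nat.land (Nat.shiftRight (sST (Nat.shiftRight i 10)) (Nat.mul 9 (Nat.land i 1023))) 511
def sND (c : Nat) : Nat := cND_0
def gND (i : Nat) : Nat := Nat.land (Nat.shiftRight (sND (Nat.shiftRight i 10)) (Nat.mul 9 (Nat.land i 1023))) 511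
def sFIN (c : Nat) : Nat := cFIN_0
def gFIN (i : Nat) : Nat := Nat.land (Nat.shiftRight (sFIN (Nat.shiftRight i 10)) (Nat.mul 9 (Nat.land i 1023))) 511
def sCAN (c : Nat) : Nat := cCAN_0
def gCAN (i : Nat) : Nat := Nat.land (Nat.shiftRight (sCAN (Nat.shiftRight i 11)) (Nat.mul 5 (Nat.land i 2047))) 31
def sBPG (c : Nat) : Nat := cBPG_0
def gBPG (i : Nat) : Nat := Nat.land (Nat.shiftRight (sBPG (Nat.shiftRight i 10)) (Nat.mul 9 (Nat.land i 1023))) 511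
def sORB (c : Nat) : Nat := cORB_0
def gORB (i : Nat) : Nat := Nat.land (Nat.shiftRight (sORB (Nat.shiftRight i 10)) (Nat.mul 15 (Nat.land i 1023))) 32767
def sTT0 (c : Nat) : Nat := cTT0_0
def T0 (i : Nat) : Nat := Nat.land (Nat.shiftRight (sTT0 (Nat.shiftRight i 12)) (Nat.mul 5 (Nat.land i 4095))) 31
def sTT1 (c : Nat) : Nat := cTT1_0
def T1 (i : Nat) : Nat := Nat.land (Nat.shiftRight (sTT1 (Nat.shiftRight i 12)) (Nat.mul 5 (Nat.land i 4095))) 31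
def sTT2 (c : Nat) : Nat := cTT2_0
def T2 (i : Nat) : Nat := Nat.land (Nat.shiftRight (sTT2 (Nat.shiftRight i 12)) (Nat.mul 5 (Nat.land i 4095))) 31
def sTT3 (c : Nat) : Nat := cTT3_0
def T3 (i : Nat) : Nat := Nat.land (Nat.shiftRight (sTT3 (Nat.shiftRight i 12)) (Nat.mul 5 (Nat.land i 4095))) 31
def sTT4 (c : Nat) : Nat := cTT4_0
def T4 (i : Nat) : Nat := Nat.land (Nat.shiftRight (sTT4 (Nat.shiftRight i 12)) (Nat.mul 5 (Nat.land i 4095))) 31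
def sTT5 (c : Nat) : Nat := cTT5_0
def T5 (i : Nat) : Nat := Nat.land (Nat.shiftRight (sTT5 (Nat.shiftRight i 12)) (Nat.mul 5 (Nat.land i 4095))) 31
def sTT6 (c : Nat) : Nat := cTT6_0
def T6 (i : Nat) : Nat := Nat.land (Nat.shiftRight (sTT6 (Nat.shiftRight i 12)) (Nat.mul 5 (Nat.land i 4095))) 31

def nn : Nat := 28
def kk : Nat := 7
def nF : Nat := 154
def cycW : List (List Nat) := [[0], [1], [2], [3], [5], [6], [0, 0], [1, 1], [2, 2], [3, 3], [4, 4], [5, 5], [6, 6], [1, 0, 1, 0, 1, 0], [2, 0, 2, 0], [3, 0, 3, 0], [4, 0, 4, 0], [5, 0, 5, 0], [6, 0, 6, 0], [2, 1, 2, 1, 2, 1], [3, 1, 3, 1], [4, 1, 4, 1], [5, 1, 5, 1, 5, 1], [6, 1, 6, 1], [3, 2, 3, 2, 3, 2], [4, 2, 4, 2], [5, 2, 5, 2], [6, 2, 6, 2], [4, 3, 4, 3, 4, 3], [5, 3, 5, 3], [6, 3, 6, 3], [5, 4, 5, 4], [6, 4, 6, 4], [6, 5, 6, 5, 6, 5], [6, 5, 4, 3,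 2, 1, 0, 6, 5, 4, 3, 2, 1, 0, 6, 5, 4, 3, 2, 1, 0, 6, 5, 4, 3, 2, 1, 0, 6, 5, 4, 3, 2, 1, 0, 6, 5, 4, 3, 2, 1, 0, 6, 5, 4, 3, 2, 1, 0, 6, 5, 4, 3, 2, 1, 0, 6, 5, 4, 3, 2, 1, 0]]
def T (x i : Nat) : Nat :=
  match x with
  | 0 => T0 i
  | 1 => T1 i
  | 2 => T2 i
  | 3 => T3 i
  | 4 => T4 i
  | 5 => T5 i
  | 6 => T6 i
  | _ => 0
def fin (x i : Nat) : Nat := gFIN (Nat.add (Nat.shiftLeft i 3) x)
def can (i : Nat) : Nat := gCAN i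
def bp (i : Nat) : Nat := fld (gBPG i) 0 31
def bg (i : Nat) : Nat := fld (gBPG i) 5 15
def ol (i : Nat) : Nat := fld (gORB i) 0 3
def op (i : Nat) : Nat := fld (gORB i) 2 31
def ow (i : Nat) : Nat := fld (gORB i) 7 7
def od (i : Nat) : Nat := fld (gORB i) 10 31
def C : Cert where
  cyc := cycW
  ns := 6
  nd := gND
  fp := gFP
  fj := gFJ
  st := gST
  wN := 5
  wR := 6
  wL := 6
  wO := 9


def LL : List (List Nat) := [[1, 3, 2, 2, 2, 2, 2], [3, 1, 3, 2, 2, 3, 2], [2, 3, 1, 3, 2, 2, 2], [2, 2, 3, 1, 3, 2, 2], [2, 2, 2, 3, 1, 2, 2], [2, 3, 2, 2, 2, 1, 3], [2, 2, 2, 2, 2, 3, 1]]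
def L (x y : Nat) : Nat := (LL.getD x []).getD y 0
def extraW : List (List Nat) := [[6, 5, 4, 3, 2, 1, 0, 6, 5, 4, 3, 2, 1, 0, 6, 5, 4, 3, 2, 1, 0, 6, 5, 4, 3, 2, 1, 0, 6, 5, 4, 3, 2, 1, 0, 6, 5, 4, 3, 2, 1, 0, 6, 5, 4, 3, 2, 1, 0, 6, 5, 4, 3, 2, 1, 0, 6, 5, 4, 3, 2, 1, 0]]
def sw : List (List Nat) := [[0], [1], [2], [3], [5], [6]]
def roots : List Nat := [0, 1]
def relWords : List (List Nat) := [[0, 0], [1, 0, 1, 0, 1, 0], [2, 0, 2, 0], [3, 0, 3, 0], [4, 0, 4, 0], [5, 0, 5, 0], [6, 0, 6, 0], [1, 1], [2, 1, 2, 1, 2, 1], [3, 1, 3, 1], [4, 1, 4, 1], [5, 1, 5, 1, 5, 1], [6, 1, 6, 1], [2, 2], [3, 2, 3, 2, 3, 2], [4, 2, 4, 2], [5, 2, 5, 2], [6, 2, 6, 2], [3, 3], [4, 3, 4, 3, 4, 3], [5, 3, 5, 3], [6, 3, 6, 3], [4, 4], [5, 4, 5, 4], [6, 4, 6, 4], [5, 5], [6, 5, 6, 5, 6, 5], [6, 6], [6, 5, 4, 3, 2, 1, 0, 6, 5, 4,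 3, 2, 1, 0, 6, 5, 4, 3, 2, 1, 0, 6, 5, 4, 3, 2, 1, 0, 6, 5, 4, 3, 2, 1, 0, 6, 5, 4, 3, 2, 1, 0, 6, 5, 4, 3, 2, 1, 0, 6, 5, 4, 3, 2, 1, 0, 6, 5, 4, 3, 2, 1, 0]]
def fr_0 (i : Nat) : Nat := T0 (T0 i)
def fr_1 (i : Nat) : Nat := T0 (T1 (T0 (T1 (T0 (T1 i)))))
def fr_2 (i : Nat) : Nat := T0 (T2 (T0 (T2 i)))
def fr_3 (i : Nat) : Nat := T0 (T3 (T0 (T3 i)))
def fr_4 (i : Nat) : Nat := T0 (T4 (T0 (T4 i)))
def fr_5 (i : Nat) : Nat := T0 (T5 (T0 (T5 i)))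
def fr_6 (i : Nat) : Nat := T0 (T6 (T0 (T6 i)))
def fr_7 (i : Nat) : Nat := T1 (T1 i)
def fr_8 (i : Nat) : Nat := T1 (T2 (T1 (T2 (T1 (T2 i)))))
def fr_9 (i : Nat) : Nat := T1 (T3 (T1 (T3 i)))
def fr_10 (i : Nat) : Nat := T1 (T4 (T1 (T4 i)))
def fr_11 (i : Nat) : Nat := T1 (T5 (T1 (T5 (T1 (T5 i)))))
def fr_12 (i : Nat) : Nat := T1 (T6 (T1 (T6 i)))
def fr_13 (i : Nat) : Nat := T2 (T2 i)
def fr_14 (i : Nat) : Nat := T2 (T3 (T2 (T3 (T2 (T3 i)))))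
def fr_15 (i : Nat) : Nat := T2 (T4 (T2 (T4 i)))
def fr_16 (i : Nat) : Nat := T2 (T5 (T2 (T5 i)))
def fr_17 (i : Nat) : Nat := T2 (T6 (T2 (T6 i)))
def fr_18 (i : Nat) : Nat := T3 (T3 i)
def fr_19 (i : Nat) : Nat := T3 (T4 (T3 (T4 (T3 (T4 i)))))
def fr_20 (i : Nat) : Nat := T3 (T5 (T3 (T5 i)))
def fr_21 (i : Nat) : Nat := T3 (T6 (T3 (T6 i)))
def fr_22 (i : Nat) : Nat := T4 (T4 i)
def fr_23 (i : Nat) : Nat := T4 (T5 (T4 (T5 i)))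
def fr_24 (i : Nat) : Nat := T4 (T6 (T4 (T6 i)))
def fr_25 (i : Nat) : Nat := T5 (T5 i)
def fr_26 (i : Nat) : Nat := T5 (T6 (T5 (T6 (T5 (T6 i)))))
def fr_27 (i : Nat) : Nat := T6 (T6 i)
def fr_28 (i : Nat) : Nat := T0 (T1 (T2 (T3 (T4 (T5 (T6 (T0 (T1 (T2 (T3 (T4 (T5 (T6 (T0 (T1 (T2 (T3 (T4 (T5 (T6 (T0 (T1 (T2 (T3 (T4 (T5 (T6 (T0 (T1 (T2 (T3 (T4 (T5 (T6 (T0 (T1 (T2 (T3 (T4 (T5 (T6 (T0 (T1 (T2 (T3 (T4 (T5 (T6 (T0 (T1 (T2 (T3 (T4 (T5 (T6 (T0 (T1 (T2 (T3 (T4 (T5 (T6 i))))))))))))))))))))))))))))))))))))))))))))))))))))))))))))))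
def fastRel (i : Nat) : Bool := Nat.ble nn i || (Nat.beq (fr_0 i) i && (Nat.beq (fr_1 i) i && (Nat.beq (fr_2 i) i && (Nat.beq (fr_3 i) i && (Nat.beq (fr_4 i) i && (Nat.beq (fr_5 i) i && (Nat.beq (fr_6 i) i && (Nat.beq (fr_7 i) i && (Nat.beq (fr_8 i) i && (Nat.beq (fr_9 i) i && (Nat.beq (fr_10 i) i && (Nat.beq (fr_11 i) i && (Nat.beq (fr_12 i) i && (Nat.beq (fr_13 i) i && (Nat.beq (fr_14 i) i && (Nat.beq (fr_15 i) i && (Nat.beq (fr_16 i) i && (Nat.beq (fr_17 i) i && (Nat.beq (fr_18 i) i && (Nat.beq (fr_19 i) i && (Nat.beq (fr_20 i) i && (Nat.beq (fr_21 i) i && (Nat.beq (fr_22 i) i && (Nat.beq (fr_23 i) i && (Nat.beq (fr_24 i) i && (Nat.beq (fr_25 i) i && (Nat.beq (fr_26 i) i && (Nat.beq (fr_27 i) i && (Nat.beq (fr_28 i) i && true)))))))))))))))))))))))))))))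

end Cfsg.Agent.Lib.Helper25.TC.U6E7_28
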